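import Mathlib
import Cfsg.Statements.S0117
import Cfsg.Agent.PLocal.ComplementReduction
import Cfsg.Agent.PLocal.ZJElem
import Cfsg.Agent.Lib.Cores
import Cfsg.Agent.PLocal.ThompsonJ
import Cfsg.Agent.PLocal.AbelianStable
import Cfsg.Agent.Transfer.NormalPComplement

set_option autoImplicit false
open Cfsg

universe u v

namespace Cfsg.Agent.S0117

open Subgroup Cfsg.Agent.PLocal.ThompsonJ

/-- `Z(J(U^f)) = Z(J(U))^f` for a homomorphism `f` injective on `U`. -/
theorem map_centerThompsonOf {G : Type u} {H : Type v} [Group G] [Group H] (p : ℕ) (f : G →* H)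
    (U : Subgroup G) (hf : Set.InjOn f U) :
    (centerThompsonOf p U).map f = centerThompsonOf p (U.map f) := by
  -- the restriction of `f` to `U`
  have hg : Function.Injective (f.comp U.subtype) := by
    intro a b hab
    exact Subtype.ext (hf a.2 b.2 hab)
  have hJ : thompsonSubgroupOf p (U.map f) = (thompsonSubgroupOf p U).map f := by
    have h1 := thompsonSubgroupOf_map p hg ⊤
    have h2 := thompsonSubgroupOf_map p U.subtype_injective ⊤
    rw [← Subgroup.map_map, ← Subgroup.map_map, ← h2] at h1
    rw [← MonoidHom.range_eq_map, U.range_subtype] at h1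
    exact h1
  have hle : thompsonSubgroupOf p U ≤ U := thompsonSubgroupOf_le_self p U
  ext y
  constructor
  · rintro ⟨x, ⟨hx1, hx2⟩, rfl⟩
    refine ⟨?_, ?_⟩
    · rw [hJ]
      exact Subgroup.mem_map_of_mem f hx1
    · change f x ∈ centralizer _
      rw [mem_centralizer_iff, hJ]
      rintro _ ⟨z, hz, rfl⟩
      have := mem_centralizer_iff.mp hx2 z hz
      rw [← map_mul, this, map_mul]
  · rintro ⟨hy1, hy2⟩
    rw [hJ] at hy1
    obtain ⟨x, hx, rfl⟩ := hy1
    refine ⟨x, ⟨hx, ?_⟩, rfl⟩
    change x ∈ centralizer _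
    rw [mem_centralizer_iff]
    intro z hz
    have h1 : f z * f x = f x * f z := by
      refine mem_centralizer_iff.mp hy2 (f z) ?_
      rw [hJ]
      exact Subgroup.mem_map_of_mem f hz
    rw [← map_mul, ← map_mul] at h1
    exact hf (U.mul_mem (hle hz) (hle hx)) (U.mul_mem (hle hx) (hle hz)) h1

theorem centerThompsonOf_le {G : Type u} [Group G] (p : ℕ) (U : Subgroup G) :
    centerThompsonOf p U ≤ U :=
  inf_le_left.trans (thompsonSubgroupOf_le_self p U)

theorem centerThompsonOf_ne_bot {G : Type u} [Group G] [Finite G] {p : ℕ} [Fact p.Prime]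
    {U : Subgroup G} (hU : IsPGroup p U) (hU1 : U ≠ ⊥) : centerThompsonOf p U ≠ ⊥ := by
  -- `J(U)` is a nontrivial `p`-group
  have hdvd : p ∣ Nat.card U := by
    obtain ⟨n, hn⟩ := IsPGroup.iff_card.mp hU
    rw [hn]
    refine dvd_pow_self p ?_
    rintro rfl
    rw [pow_zero] at hn
    exact hU1 (Subgroup.eq_bot_of_card_eq U hn)
  have hJ : thompsonSubgroupOf p U ≠ ⊥ := by
    intro h
    have h1 := thompsonSubgroup_ne_bot (G := U) hdvd
    apply h1
    rw [thompsonSubgroupOf_def, Subgroup.map_eq_bot_iff_of_injective _ U.subtype_injective] at h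
    exact h
  set J : Subgroup G := thompsonSubgroupOf p U with hJdef
  have hJp : IsPGroup p J := hU.to_le (thompsonSubgroupOf_le_self p U)
  have : Nontrivial J := (Subgroup.nontrivial_iff_ne_bot J).mpr hJ
  have hc := hJp.center_nontrivial
  obtain ⟨z, hz⟩ := (Subgroup.nontrivial_iff_exists_ne_one _).mp hc
  intro hbot
  have hzmem : (z : G) ∈ centerThompsonOf p U := by
    refine ⟨z.2, ?_⟩
    change (z : G) ∈ centralizer _
    rw [mem_centralizer_iff]
    intro y hy
    have := (Subgroup.mem_center_iff.mp hz.1) ⟨y, hy⟩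
    exact congrArg Subtype.val this
  rw [hbot, Subgroup.mem_bot] at hzmem
  exact hz.2 (Subtype.ext hzmem)

/-- The Glauberman–Thompson Theorem states that for odd p, a single p-local subgroup, the normalizer of the centre of the Thompson subgroup of a Sylow p-subgroup, decides whether G has a normal p-complement. -/
theorem result {G : Type*} [Group G] [Finite G] {p : ℕ} [Fact p.Prime] (hp : p ≠ 2) (P : Sylow p G) : Cfsg.HasNormalPComplement p G ↔ Cfsg.HasNormalPComplement p (Subgroup.normalizer (Cfsg.centerThompsonOf p (P : Subgroup G) : Set G)) := by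
  refine ⟨fun h => Transfer.NormalPComplement.subgroup h _, fun h => ?_⟩
  refine PLocal.ComplementReduction.hasNormalPComplement_of_functor
    (fun G _ U => centerThompsonOf p U) ?_ ?_ ?_ ?_ G P h
  · intro G G' _ _ _ _ f U hf _
    exact map_centerThompsonOf p f U hf
  · intro G _ _ U _
    exact centerThompsonOf_le p U
  · intro G _ _ U hU hU1
    exact centerThompsonOf_ne_bot hU hU1
  · intro G _ _ P A hA hlt hab hcop htop hcent _ hN
    have hnorm : (centerThompsonOf p (P : Subgroup G)).Normal := by
      refine PLocal.ZJElem.centerThompsonOf_normal hp P ?_ hcent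
      intro V _ hV a _ ha
      have := Lib.Cores.pCore_normal (G := G) p
      exact PLocal.AbelianStable.isPStableOn_of_abelian hp P (pCore p G) A
        (Lib.Cores.pCore_isPGroup p) hlt.le hab hcop htop V
        (Lib.Cores.le_pCore inferInstance hV) a ha
    have htopN : normalizer (centerThompsonOf p (P : Subgroup G) : Set G) = ⊤ :=
      Subgroup.normalizer_eq_top_iff.mpr hnorm
    change HasNormalPComplement p
      (normalizer (centerThompsonOf p (P : Subgroup G) : Set G)) at hN
    rw [htopN] at hN
    exact (Transfer.NormalPComplement.congr Subgroup.topEquiv).mp hN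

end Cfsg.Agent.S0117
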