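import Cfsg.Statements.S0279
import Cfsg.Agent.LieClassical.SUBasic

set_option autoImplicit false
open Cfsg

namespace Cfsg.Agent.S0279

open Cfsg.Agent.LieClassical.SUBasic

/-- The centre of SU_n(q), n at least 3, has order gcd(n, q+1). -/
theorem result {F : Type*} [Field F] [Fintype F] {q : ℕ} (hF : Fintype.card F = q ^ 2) (n : ℕ) (hn : 3 ≤ n) : Nat.card (Subgroup.center (Cfsg.SU n F q)) = Nat.gcd n (q + 1) := by
  classical
  set d := Nat.gcd n (q + 1) with hd
  have hcard : Nat.card Fˣ = q ^ 2 - 1 := by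
    rw [Nat.card_eq_fintype_card, Fintype.card_units, hF]
  have hfac : q ^ 2 - 1 = (q + 1) * (q - 1) := by
    have := Nat.sq_sub_sq q 1
    simpa using this
  have hker : Nat.card (powMonoidHom d : Fˣ →* Fˣ).ker = d := by
    rw [IsCyclic.card_powMonoidHom_ker, hcard, hfac]
    exact Nat.gcd_eq_right ((Nat.gcd_dvd_right n (q + 1)).trans (Dvd.intro _ rfl))
  have hpow : ∀ x : Fˣ, x ∈ (powMonoidHom d : Fˣ →* Fˣ).ker ↔ x ^ n = 1 ∧ x ^ (q + 1) = 1 := by
    intro x
    rw [MonoidHom.mem_ker, powMonoidHom_apply]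
    exact pow_gcd_eq_one
  have hval : ∀ (x : Fˣ) (k : ℕ), x ^ k = 1 → (x : F) ^ k = 1 := by
    intro x k hx
    rw [← Units.val_pow_eq_pow_val, hx, Units.val_one]
  let f : (powMonoidHom d : Fˣ →* Fˣ).ker → Subgroup.center (Cfsg.SU n F q) := fun x =>
    ⟨suScalar q ((x : Fˣ) : F) (hval x n ((hpow x).1 x.2).1) (hval x (q + 1) ((hpow x).1 x.2).2),
      suScalar_mem_center q _ _ _⟩
  have hf : Function.Bijective f := by
    have i0 : Fin n := ⟨0, by omega⟩
    constructor
    · intro x y hxy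
      apply Subtype.ext
      apply Units.ext
      have h := congrArg (fun X : Subgroup.center (Cfsg.SU n F q) =>
        (((X : Cfsg.SU n F q) : Matrix.SpecialLinearGroup (Fin n) F) :
          Matrix (Fin n) (Fin n) F) i0 i0) hxy
      simpa [f] using h
    · rintro ⟨A, hA⟩
      obtain ⟨c, hcn, hcq, rfl⟩ := (mem_center_SU_iff hF hn A).1 hA
      have hc0 : c ≠ 0 := by
        rintro rfl
        rw [zero_pow (Nat.succ_ne_zero q)] at hcq
        exact zero_ne_one hcq
      refine ⟨⟨Units.mk0 c hc0, (hpow _).2 ⟨?_, ?_⟩⟩, ?_⟩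
      · apply Units.ext
        simpa using hcn
      · apply Units.ext
        simpa using hcq
      · rfl
  rw [← Nat.card_congr (Equiv.ofBijective f hf), hker]

end Cfsg.Agent.S0279
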