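-- Statement S0281: `SU_2(q) ≃* SL_2(q)`.
import Cfsg.Statements.S0281
import Cfsg.Agent.LieClassical.HermBasic

set_option autoImplicit false
open Cfsg

namespace Cfsg.Agent.S0281

open Matrix Cfsg.Agent.LieClassical.HermBasic

section

variable {F : Type*} [Field F] [Fintype F] {q : ℕ}

/-- Membership in `SU_2`, by entries. -/
theorem mem_SU_two_iff (hF : Fintype.card F = q ^ 2) (A : SpecialLinearGroup (Fin 2) F) :
    A ∈ SU 2 F q ↔ (A.1 0 0) ^ q = A.1 1 1 ∧ (A.1 0 1) ^ q = -A.1 1 0 := by
  have hdet : A.1 0 0 * A.1 1 1 - A.1 0 1 * A.1 1 0 = 1 := by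
    have := A.2
    rwa [Matrix.det_fin_two] at this
  have hzero : (0 : F) ^ q = 0 := zero_pow_q hF
  constructor
  · intro h
    have h' := (mem_SU_iff A).1 h
    have h00 := h' (Pi.single 0 1) (Pi.single 0 1)
    have h01 := h' (Pi.single 0 1) (Pi.single 1 1)
    have h10 := h' (Pi.single 1 1) (Pi.single 0 1)
    have h11 := h' (Pi.single 1 1) (Pi.single 1 1)
    simp only [herm_def, Fin.sum_univ_two, Matrix.mulVec_single_one, Matrix.col_apply] at h00 h01 h10 h11
    simp [hzero] at h00 h01 h10 h11
    refine ⟨?_, ?_⟩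
    · linear_combination (-(A.1 0 0) ^ q) * hdet + A.1 1 1 * h00 - A.1 1 0 * h10
    · linear_combination (-(A.1 0 1) ^ q) * hdet + A.1 1 1 * h01 - A.1 1 0 * h11
  · rintro ⟨h1, h2⟩
    have h3 : (A.1 1 1) ^ q = A.1 0 0 := by rw [← h1, pow_q_pow_q hF]
    have h4 : (A.1 1 0) ^ q = -A.1 0 1 := by
      have : A.1 1 0 = -(A.1 0 1) ^ q := by rw [h2, neg_neg]
      rw [this, neg_pow_q hF, pow_q_pow_q hF]
    refine (mem_SU_iff A).2 fun u v => ?_
    simp only [herm_def, Fin.sum_univ_two, Matrix.mulVec, dotProduct]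
    simp only [add_pow_q hF, mul_pow, h1, h2, h3, h4]
    linear_combination (u 0 * v 0 ^ q + u 1 * v 1 ^ q) * hdet

/-- Conjugation of `SL_2` by an invertible matrix. -/
def conjSL (P Q : Matrix (Fin 2) (Fin 2) F) (hPQ : P * Q = 1) (hQP : Q * P = 1) :
    SpecialLinearGroup (Fin 2) F →* SpecialLinearGroup (Fin 2) F where
  toFun A := ⟨Q * A.1 * P, by
    rw [Matrix.det_mul, Matrix.det_mul, A.2, mul_one, ← Matrix.det_mul, hQP, Matrix.det_one]⟩
  map_one' := Subtype.ext (by simp [hQP])
  map_mul' A B := Subtype.ext (by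
    change Q * (A.1 * B.1) * P = (Q * A.1 * P) * (Q * B.1 * P)
    calc Q * (A.1 * B.1) * P = Q * A.1 * 1 * B.1 * P := by simp only [Matrix.mul_one, Matrix.mul_assoc]
      _ = (Q * A.1 * P) * (Q * B.1 * P) := by rw [← hPQ]; simp only [Matrix.mul_assoc])

end

/-- SU_2(q) is isomorphic to SL_2(q). -/
theorem result {F K : Type*} [Field F] [Fintype F] [Field K] [Fintype K] {q : ℕ} (hF : Fintype.card F = q ^ 2) (hK : Fintype.card K = q) : Nonempty (Cfsg.SU 2 F q ≃* Matrix.SpecialLinearGroup (Fin 2) K) := by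
  classical
  -- the fixed field
  let K₀ : Subfield F :=
    { carrier := {x | x ^ q = x}
      mul_mem' := fun {a b} ha hb => by
        simp only [Set.mem_setOf_eq] at *; rw [mul_pow, ha, hb]
      one_mem' := one_pow q
      add_mem' := fun {a b} ha hb => by
        simp only [Set.mem_setOf_eq] at *; rw [add_pow_q hF, ha, hb]
      zero_mem' := zero_pow_q hF
      neg_mem' := fun {a} ha => by
        simp only [Set.mem_setOf_eq] at *; rw [neg_pow_q hF, ha]
      inv_mem' := fun a ha => by
        simp only [Set.mem_setOf_eq] at *; rw [inv_pow, ha] }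
  have hmem : ∀ x : F, x ∈ K₀ ↔ x ^ q = x := fun x => Iff.rfl
  have hcard : Fintype.card K = Fintype.card K₀ := by
    rw [hK, ← Nat.card_eq_fintype_card]
    exact (card_fixed hF).symm
  let e : K ≃+* K₀ := FiniteField.ringEquivOfCardEq hcard
  let f : K →+* F := K₀.subtype.comp e.toRingHom
  have hf : ∀ x : F, x ^ q = x → ∃ y : K, f y = x := by
    intro x hx
    refine ⟨e.symm ⟨x, hx⟩, ?_⟩
    simp [f]
  have hf' : ∀ y : K, f y ^ q = f y := fun y => (e y).2
  have hfinj : Function.Injective f := f.injective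
  -- the conjugating matrix
  obtain ⟨s, hs⟩ := exists_not_fixed hF
  obtain ⟨t, ht0, ht⟩ := exists_norm_eq_ne hF (c := -1) (by rw [neg_pow_q hF, one_pow])
    (neg_ne_zero.2 one_ne_zero)
  have hD : s - s ^ q ≠ 0 := sub_ne_zero.2 (Ne.symm hs)
  let P : Matrix (Fin 2) (Fin 2) F := !![s, t * s ^ q; 1, t]
  let J : Matrix (Fin 2) (Fin 2) F := !![0, -1; 1, 0]
  have hPdet : P.det = t * (s - s ^ q) := by
    simp only [P, Matrix.det_fin_two_of]; ring
  have hPunit : IsUnit P.det := by
    rw [hPdet]; exact (mul_ne_zero ht0 hD).isUnit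
  have hJdet : J.det = 1 := by simp [J, Matrix.det_fin_two_of]
  have hJunit : IsUnit J.det := by rw [hJdet]; exact isUnit_one
  set Q := P⁻¹ with hQ
  have hPQ : P * Q = 1 := Matrix.mul_nonsing_inv P hPunit
  have hQP : Q * P = 1 := Matrix.nonsing_inv_mul P hPunit
  set c : F →+* F := (conj hF).toRingHom with hc
  have hcapp : ∀ x, c x = x ^ q := fun x => rfl
  have htq : t ^ q = -t⁻¹ := by
    field_simp
    linear_combination ht
  have hPc : P.map c = t⁻¹ • (P * J) := by
    ext i j
    fin_cases i <;> fin_cases j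
    · simp [P, J, hcapp]
      field_simp
    · simp [P, J, hcapp, mul_pow, pow_q_pow_q hF, htq]
    · simp [P, J, hcapp, ht0]
    · simp [P, J, hcapp, htq]
  -- the homomorphism
  let g : SpecialLinearGroup (Fin 2) K →* SpecialLinearGroup (Fin 2) F :=
    (conjSL P Q hPQ hQP).comp (SpecialLinearGroup.map f)
  have hg : ∀ M, (g M).1 = Q * M.1.map f * P := fun M => rfl
  have hginj : Function.Injective g := by
    intro M N h
    have h1 : Q * M.1.map f * P = Q * N.1.map f * P := by rw [← hg, ← hg, h]
    have h2 : P * (Q * M.1.map f * P) * Q = P * (Q * N.1.map f * P) * Q := by rw [h1]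
    have h3 : ∀ X : Matrix (Fin 2) (Fin 2) F, P * (Q * X * P) * Q = X := by
      intro X
      calc P * (Q * X * P) * Q = (P * Q) * X * (P * Q) := by simp only [Matrix.mul_assoc]
        _ = X := by rw [hPQ, Matrix.one_mul, Matrix.mul_one]
    rw [h3, h3] at h2
    apply Subtype.ext
    ext i j
    exact hfinj (by simpa using congrFun (congrFun h2 i) j)
  -- membership in SU, by matrices
  have hSU : ∀ A : SpecialLinearGroup (Fin 2) F, A ∈ SU 2 F q ↔ J * A.1.map c = A.1 * J := by
    intro A
    rw [mem_SU_two_iff hF]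
    constructor
    · rintro ⟨h1, h2⟩
      have h3 : (A.1 1 1) ^ q = A.1 0 0 := by rw [← h1, pow_q_pow_q hF]
      have h4 : (A.1 1 0) ^ q = -A.1 0 1 := by
        have : A.1 1 0 = -(A.1 0 1) ^ q := by rw [h2, neg_neg]
        rw [this, neg_pow_q hF, pow_q_pow_q hF]
      ext i j
      fin_cases i <;> fin_cases j <;>
        simp [J, hcapp, Matrix.mul_apply, Fin.sum_univ_two, h1, h2, h3, h4]
    · intro h
      have h1 := congrFun (congrFun h 1) 0
      have h2 := congrFun (congrFun h 1) 1
      simp [J, hcapp, Matrix.mul_apply, Fin.sum_univ_two] at h1 h2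
      exact ⟨h1, h2⟩
  have hPJ : IsUnit (P * J).det := by rw [Matrix.det_mul]; exact hPunit.mul hJunit
  -- key equivalence
  have hkey : ∀ A B : Matrix (Fin 2) (Fin 2) F, B * P = P * A →
      (B.map c = B ↔ J * A.map c = A * J) := by
    intro A B hBA
    have h1 : B.map c * P.map c = P.map c * A.map c := by
      rw [← Matrix.map_mul, ← Matrix.map_mul, hBA]
    rw [hPc, Matrix.mul_smul, Matrix.smul_mul] at h1
    have h2 : B.map c * (P * J) = P * J * A.map c := by
      have := congrArg (fun X => t • X) h1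
      simpa [smul_smul, mul_inv_cancel₀ ht0] using this
    constructor
    · intro hB
      rw [hB] at h2
      have h3 : P * (J * A.map c) = P * (A * J) := by
        rw [← Matrix.mul_assoc, ← h2, ← Matrix.mul_assoc, hBA, Matrix.mul_assoc]
      have h4 := congrArg (fun X => Q * X) h3
      simpa only [← Matrix.mul_assoc, hQP, Matrix.one_mul] using h4
    · intro hA
      rw [Matrix.mul_assoc P, hA, ← Matrix.mul_assoc P, ← hBA, Matrix.mul_assoc B] at h2
      have h4 := congrArg (fun X => X * (P * J)⁻¹) h2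
      simpa only [Matrix.mul_assoc, Matrix.mul_nonsing_inv _ hPJ, Matrix.mul_one] using h4
  have hrange : g.range = SU 2 F q := by
    ext A
    constructor
    · rintro ⟨M, rfl⟩
      rw [hSU]
      refine (hkey _ (M.1.map f) ?_).1 ?_
      · rw [hg]
        calc M.1.map f * P = (P * Q) * (M.1.map f * P) := by rw [hPQ, Matrix.one_mul]
          _ = _ := by simp only [Matrix.mul_assoc]
      · ext i j
        simp [hcapp, hf']
    · intro hA
      rw [hSU] at hA
      set B := P * A.1 * Q with hB
      have hBP : B * P = P * A.1 := by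
        rw [hB, Matrix.mul_assoc, hQP, Matrix.mul_one]
      have hBc := (hkey A.1 B hBP).2 hA
      have hBe : ∀ i j, ∃ y : K, f y = B i j := by
        intro i j
        refine hf _ ?_
        have := congrFun (congrFun hBc i) j
        simpa [hcapp] using this
      choose N hN using hBe
      have hNB : (Matrix.of N).map f = B := by
        ext i j; exact hN i j
      have hdetN : (Matrix.of N).det = 1 := by
        apply hfinj
        rw [RingHom.map_det, map_one]
        change ((Matrix.of N).map f).det = 1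
        rw [hNB, hB, Matrix.det_mul, Matrix.det_mul, A.2, mul_one, ← Matrix.det_mul, hPQ,
          Matrix.det_one]
      refine ⟨⟨Matrix.of N, hdetN⟩, ?_⟩
      apply Subtype.ext
      refine (hg ⟨Matrix.of N, hdetN⟩).trans ?_
      change Q * (Matrix.of N).map f * P = A.1
      rw [hNB, Matrix.mul_assoc, hBP, ← Matrix.mul_assoc, hQP, Matrix.one_mul]
  exact ⟨((MonoidHom.ofInjective hginj).trans (MulEquiv.subgroupCongr hrange)).symm⟩

end Cfsg.Agent.S0281
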