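-- Statement S0280: the order of `PSU_n(q)`.
import Cfsg.Statements.S0280
import Cfsg.Agent.S0278
import Cfsg.Agent.S0279
import Cfsg.Agent.S0281

set_option autoImplicit false
open Cfsg

namespace Cfsg.Agent.S0280

open Cfsg.Agent.LieClassical.HermBasic

/-- The centre of `SL_n` over a finite field. -/
theorem card_center_SL {K : Type*} [Field K] [Fintype K] {n : ℕ} (hn : 1 ≤ n) :
    Nat.card (Subgroup.center (Matrix.SpecialLinearGroup (Fin n) K)) =
      Nat.gcd n (Fintype.card K - 1) := by
  have : Nonempty (Fin n) := ⟨⟨0, by omega⟩⟩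
  rw [Nat.card_congr (Matrix.SpecialLinearGroup.center_equiv_rootsOfUnity'
      (n := Fin n) (R := K) ⟨0, by omega⟩).toEquiv, rootsOfUnity_eq_ker,
      IsCyclic.card_powMonoidHom_ker, Nat.card_units, Nat.card_eq_fintype_card, Fintype.card_fin,
      Nat.gcd_comm]

/-- There is a field with `q` elements if there is one with `q ^ 2` elements. -/
theorem exists_field {F : Type*} [Field F] [Fintype F] {q : ℕ} (hF : Fintype.card F = q ^ 2) :
    ∃ (K : Type) (_ : Field K) (_ : Fintype K), Fintype.card K = q := by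
  obtain ⟨p, k, hp, -, hk, hk0⟩ := exists_prime_pow hF
  have := Fact.mk hp
  have : Finite (GaloisField p k) := inferInstance
  have h1 : Nat.card (GaloisField p k) = q := by rw [GaloisField.card p k hk0.ne', hk]
  let _ : Fintype (GaloisField p k) := Fintype.ofFinite _
  exact ⟨GaloisField p k, inferInstance, inferInstance, by rw [← Nat.card_eq_fintype_card, h1]⟩

/-- The centre of `SU_n(q)` has order `gcd(n, q + 1)`, for `n ≥ 2`. -/
theorem card_center {F : Type*} [Field F] [Fintype F] {q : ℕ} (hF : Fintype.card F = q ^ 2)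
    (n : ℕ) (hn : 2 ≤ n) : Nat.card (Subgroup.center (Cfsg.SU n F q)) = Nat.gcd n (q + 1) := by
  rcases Nat.lt_or_ge 2 n with h | h
  · exact Cfsg.Agent.S0279.result hF n h
  · obtain rfl : n = 2 := le_antisymm h hn
    obtain ⟨K, _, _, hK⟩ := exists_field hF
    obtain ⟨e⟩ := Cfsg.Agent.S0281.result hF hK
    rw [Nat.card_congr (Subgroup.centerCongr e).toEquiv, card_center_SL (by norm_num), hK]
    have h2 := two_le hF
    have h3 : q + 1 = (q - 1) + 2 := by omega
    rw [h3, Nat.gcd_add_self_right]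

/-- Order of PSU_n(q): gcd(n, q+1) (q+1) |PSU_n(q)| = q^(n(n-1)/2) * prod_{i=1}^{n} (q^i - (-1)^i), n at least 2. -/
theorem result {F : Type*} [Field F] [Fintype F] {q : ℕ} (hF : Fintype.card F = q ^ 2) (n : ℕ) (hn : 2 ≤ n) : Nat.gcd n (q + 1) * ((q + 1) * Nat.card (Cfsg.PSU n F q)) = q ^ (n * (n - 1) / 2) * ∏ i ∈ Finset.range n, (if Even i then q ^ (i + 1) + 1 else q ^ (i + 1) - 1) := by
  rw [← Cfsg.Agent.S0278.result hF n (by omega),
    ← Subgroup.card_mul_index (Subgroup.center (Cfsg.SU n F q)), card_center hF n hn]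
  have h3 : Nat.card (Cfsg.PSU n F q) = (Subgroup.center (Cfsg.SU n F q)).index := rfl
  rw [h3]
  ring

end Cfsg.Agent.S0280
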