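import Cfsg.Statements.S1126
-- import your own Cfsg.Agent.* helpers here

set_option autoImplicit false
open Cfsg

namespace Cfsg.Agent.S1126

section Aux

variable {G Ω : Type*} [Group G] [MulAction G Ω] {a : Ω} {t : G} {Q : Subgroup G}

theorem t_smul_t_smul (hS : Cfsg.IsRankOneSetup G Ω a t Q) (c : Ω) : t • (t • c) = c := by
  rw [smul_smul, hS.mul_self, one_smul]

theorem ta_ne_a (hS : Cfsg.IsRankOneSetup G Ω a t Q) : t • a ≠ a := by
  intro h
  exact hS.not_mem (MulAction.mem_stabilizer_iff.2 h)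

/-- `Q` is transitive on the points different from `a`: from `t • a`. -/
theorem exists_Q_from_ta (hS : Cfsg.IsRankOneSetup G Ω a t Q) {c : Ω} (hc : c ≠ a) :
    ∃ q ∈ Q, q • (t • a) = c := by
  have h2 := hS.two_transitive
  rw [MulAction.is_two_pretransitive_iff] at h2
  obtain ⟨g, hg1, hg2⟩ := h2 (a := a) (b := t • a) (c := a) (d := c) (ta_ne_a hS).symm hc.symm
  have hg : g ∈ Q ⊔ (MulAction.stabilizer G a ⊓ MulAction.stabilizer G (t • a)) := by
    rw [hS.sup_eq]; exact MulAction.mem_stabilizer_iff.2 hg1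
  -- g = q * d
  have key : ∀ g ∈ Q ⊔ (MulAction.stabilizer G a ⊓ MulAction.stabilizer G (t • a)),
      ∃ q ∈ Q, ∃ d ∈ (MulAction.stabilizer G a ⊓ MulAction.stabilizer G (t • a)), g = q * d := by
    intro g hg
    refine Subgroup.closure_induction (k := (Q : Set G) ∪ ((MulAction.stabilizer G a ⊓ MulAction.stabilizer G (t • a) : Subgroup G) : Set G))
      (p := fun g _ => ∃ q ∈ Q, ∃ d ∈ (MulAction.stabilizer G a ⊓ MulAction.stabilizer G (t • a)), g = q * d)
      ?_ ?_ ?_ ?_ (by rwa [Subgroup.closure_union, Subgroup.closure_eq, Subgroup.closure_eq])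
    · rintro x (hx | hx)
      · exact ⟨x, hx, 1, Subgroup.one_mem _, (mul_one x).symm⟩
      · exact ⟨1, Q.one_mem, x, hx, (one_mul x).symm⟩
    · exact ⟨1, Q.one_mem, 1, Subgroup.one_mem _, (mul_one 1).symm⟩
    · rintro x y _ _ ⟨q, hq, d, hd, rfl⟩ ⟨q', hq', d', hd', rfl⟩
      refine ⟨q * (d * q' * d⁻¹), Q.mul_mem hq (hS.conj_mem d hd.1 q' hq'), d * d',
        Subgroup.mul_mem _ hd hd', by group⟩
    · rintro x _ ⟨q, hq, d, hd, rfl⟩
      refine ⟨d⁻¹ * q⁻¹ * (d⁻¹)⁻¹, hS.conj_mem _ (Subgroup.inv_mem _ hd.1) _ (Q.inv_mem hq), d⁻¹,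
        Subgroup.inv_mem _ hd, by group⟩
  obtain ⟨q, hq, d, hd, rfl⟩ := key g hg
  refine ⟨q, hq, ?_⟩
  rw [← hg2, mul_smul, MulAction.mem_stabilizer_iff.1 hd.2]

/-- `Q` acts freely on the points different from `a`. -/
theorem Q_free (hS : Cfsg.IsRankOneSetup G Ω a t Q) {c : Ω} (hc : c ≠ a) {q : G} (hq : q ∈ Q)
    (h : q • c = c) : q = 1 := by
  obtain ⟨r, hr, rfl⟩ := exists_Q_from_ta hS hc
  have h1 : r⁻¹ * q * r ∈ Q ⊓ MulAction.stabilizer G (t • a) := by
    refine ⟨Q.mul_mem (Q.mul_mem (Q.inv_mem hr) hq) hr, ?_⟩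
    refine MulAction.mem_stabilizer_iff.2 ?_
    rw [mul_smul, mul_smul, h, smul_smul, inv_mul_cancel, one_smul]
  rw [hS.inf_eq_bot, Subgroup.mem_bot] at h1
  have h2 : q = r * (r⁻¹ * q * r) * r⁻¹ := by group
  rw [h2, h1, mul_one, mul_inv_cancel]

theorem exists_Q (hS : Cfsg.IsRankOneSetup G Ω a t Q) {b c : Ω} (hb : b ≠ a) (hc : c ≠ a) :
    ∃ q ∈ Q, q • b = c := by
  obtain ⟨r, hr, rfl⟩ := exists_Q_from_ta hS hb
  obtain ⟨s, hs, rfl⟩ := exists_Q_from_ta hS hc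
  exact ⟨s * r⁻¹, Q.mul_mem hs (Q.inv_mem hr), by rw [smul_smul, inv_mul_cancel_right]⟩

theorem Q_unique (hS : Cfsg.IsRankOneSetup G Ω a t Q) {b c : Ω} (hb : b ≠ a) {q r : G} (hq : q ∈ Q)
    (hr : r ∈ Q) (h1 : q • b = c) (h2 : r • b = c) : q = r := by
  have : r⁻¹ * q = 1 := by
    refine Q_free hS hb (Q.mul_mem (Q.inv_mem hr) hq) ?_
    rw [mul_smul, h1, ← h2, smul_smul, inv_mul_cancel, one_smul]
  exact (inv_mul_eq_one.1 this).symm

/-- Moving fixed points of `X` by elements of `C_Q(X)`. -/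
theorem exists_centralizing (hS : Cfsg.IsRankOneSetup G Ω a t Q) {X : Set G}
    (hX : ∀ x ∈ X, x • a = a) {b c : Ω} (hb : b ≠ a) (hc : c ≠ a) (hbX : ∀ x ∈ X, x • b = b)
    (hcX : ∀ x ∈ X, x • c = c) :
    ∃ q : G, (∀ x ∈ X, q * x = x * q) ∧ q • a = a ∧ q • b = c := by
  obtain ⟨q, hq, h⟩ := exists_Q hS hb hc
  refine ⟨q, ?_, MulAction.mem_stabilizer_iff.1 (hS.le hq), h⟩
  intro x hx
  have hmem : x * q * x⁻¹ ∈ Q := hS.conj_mem x (MulAction.mem_stabilizer_iff.2 (hX x hx)) q hq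
  have h3 : (x * q * x⁻¹) • b = c := by
    have hxb : x⁻¹ • b = b := by
      conv_lhs => rw [← hbX x hx]
      rw [smul_smul, inv_mul_cancel, one_smul]
    rw [mul_smul, mul_smul, hxb, h, hcX x hx]
  have := Q_unique hS hb hmem hq h3 h
  exact (mul_inv_eq_iff_eq_mul.1 this).symm

/-- Same, with base point `t • a`. -/
theorem exists_centralizing' (hS : Cfsg.IsRankOneSetup G Ω a t Q) {X : Set G}
    (hX : ∀ x ∈ X, x • (t • a) = t • a) {b c : Ω} (hb : b ≠ t • a) (hc : c ≠ t • a)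
    (hbX : ∀ x ∈ X, x • b = b) (hcX : ∀ x ∈ X, x • c = c) :
    ∃ q : G, (∀ x ∈ X, q * x = x * q) ∧ q • (t • a) = t • a ∧ q • b = c := by
  have htt : t⁻¹ = t := inv_eq_of_mul_eq_one_right hS.mul_self
  have hkey : ∀ e : Ω, (∀ x ∈ X, x • e = e) → ∀ y ∈ (fun x => t * x * t) '' X, y • (t • e) = t • e := by
    rintro e he _ ⟨x, hx, rfl⟩
    show (t * x * t) • (t • e) = t • e
    rw [mul_smul, mul_smul, t_smul_t_smul hS, he x hx]
  have hne : ∀ e : Ω, e ≠ t • a → t • e ≠ a := by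
    intro e he h
    apply he
    rw [← h, t_smul_t_smul hS]
  obtain ⟨q, h1, h2, h3⟩ := exists_centralizing hS (X := (fun x => t * x * t) '' X) (b := t • b) (c := t • c)
    (by intro y hy
        have := hkey (t • a) hX y hy
        rwa [t_smul_t_smul hS] at this) (hne b hb) (hne c hc) (hkey b hbX) (hkey c hcX)
  refine ⟨t * q * t, ?_, ?_, ?_⟩
  · intro x hx
    have h := h1 (t * x * t) ⟨x, hx, rfl⟩
    have e1 : t * q * t * x = t * (q * (t * x * t)) * t := by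
      have : t * (q * (t * x * t)) * t = t * q * t * x * (t * t) := by group
      rw [this, hS.mul_self, mul_one]
    have e2 : x * (t * q * t) = t * ((t * x * t) * q) * t := by
      have : t * ((t * x * t) * q) * t = (t * t) * x * (t * q * t) := by group
      rw [this, hS.mul_self, one_mul]
    rw [e1, e2, h]
  · rw [mul_smul, mul_smul, t_smul_t_smul hS, h2]
  · rw [mul_smul, mul_smul, h3, t_smul_t_smul hS]

end Aux

/-- In the rank-one set-up (`G` finite and doubly transitive on `Ω`, `t` an involution moving `a`, `Q` normal in `G_a` with `G_a = Q D`, `Q ⊓ D = 1` for the two-point stabiliser `D = G_a ⊓ G_{t • a}`, `|Q|` even, `|D|` odd), a subset `X ⊆ D` fixing at least three points of `Ω` is conjugate by an element of `D` into `V = C_D(t)`. -/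
theorem result {G Ω : Type*} [Group G] [Finite G] [MulAction G Ω] {a : Ω} {t : G} {Q : Subgroup G}
    (hS : Cfsg.IsRankOneSetup G Ω a t Q)
    (X : Set G) (hX : X ⊆ ((MulAction.stabilizer G a ⊓ MulAction.stabilizer G (t • a)) : Set G))
    (h3 : ∃ b c d : Ω, b ≠ c ∧ b ≠ d ∧ c ≠ d ∧ ∀ x ∈ X, x • b = b ∧ x • c = c ∧ x • d = d) :
    ∃ k ∈ (MulAction.stabilizer G a ⊓ MulAction.stabilizer G (t • a)), ∀ x ∈ X, (k * x * k⁻¹) * t = t * (k * x * k⁻¹) := by
  classical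
  have hne := ta_ne_a hS
  have hXa : ∀ x ∈ X, x • a = a := fun x hx => MulAction.mem_stabilizer_iff.1 (hX hx).1
  have hXb : ∀ x ∈ X, x • (t • a) = t • a := fun x hx => MulAction.mem_stabilizer_iff.1 (hX hx).2
  -- a third fixed point
  obtain ⟨c, hca, hcb, hcX⟩ : ∃ c : Ω, c ≠ a ∧ c ≠ t • a ∧ ∀ x ∈ X, x • c = c := by
    obtain ⟨p, q, r, hpq, hpr, hqr, hfix⟩ := h3
    by_cases h1 : p ≠ a ∧ p ≠ t • a
    · exact ⟨p, h1.1, h1.2, fun x hx => (hfix x hx).1⟩
    by_cases h2 : q ≠ a ∧ q ≠ t • a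
    · exact ⟨q, h2.1, h2.2, fun x hx => (hfix x hx).2.1⟩
    refine ⟨r, ?_, ?_, fun x hx => (hfix x hx).2.2⟩
    · rintro rfl
      have hp : p = t • r := by by_contra h; exact h1 ⟨hpr, h⟩
      have hq : q = t • r := by by_contra h; exact h2 ⟨hqr, h⟩
      exact hpq (hp.trans hq.symm)
    · intro hr
      have hp : p = a := by by_contra h; exact h1 ⟨h, fun h' => hpr (h'.trans hr.symm)⟩
      have hq : q = a := by by_contra h; exact h2 ⟨h, fun h' => hqr (h'.trans hr.symm)⟩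
      exact hpq (hp.trans hq.symm)
  -- an element of `C(X)` swapping `a` and `t • a`
  obtain ⟨q1, hq1X, hq1b, hq1a⟩ := exists_centralizing' hS hXb (b := a) (c := c) hne.symm hcb hXa hcX
  obtain ⟨q2, hq2X, hq2a, hq2c⟩ := exists_centralizing hS hXa (b := c) (c := t • a) hca hne hcX hXb
  have heX : ∀ x ∈ X, x • (q2 • (t • a)) = q2 • (t • a) := by
    intro x hx
    rw [smul_smul, ← hq2X x hx, mul_smul, hXb x hx]
  have heb : q2 • (t • a) ≠ t • a := by
    intro h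
    apply hcb
    have : q2 • (t • a) = q2 • c := by rw [h, hq2c]
    exact (smul_left_cancel q2 this).symm
  obtain ⟨q3, hq3X, hq3b, hq3e⟩ := exists_centralizing' hS hXb (b := q2 • (t • a)) (c := a) heb hne.symm heX hXa
  obtain ⟨g, hgX, hga, hgb⟩ : ∃ g : G, (∀ x ∈ X, g * x = x * g) ∧ g • a = t • a ∧ g • (t • a) = a := by
    refine ⟨q3 * q2 * q1, ?_, ?_, ?_⟩
    · intro x hx
      rw [mul_assoc, hq1X x hx, ← mul_assoc, mul_assoc q3 q2 x, hq2X x hx, ← mul_assoc, hq3X x hx]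
      group
    · rw [mul_smul, mul_smul, hq1a, hq2c, hq3b]
    · rw [mul_smul, mul_smul, hq1b, hq3e]
  -- D
  set D : Subgroup G := MulAction.stabilizer G a ⊓ MulAction.stabilizer G (t • a) with hD
  have hoddD : ∀ x ∈ D, Odd (orderOf x) := by
    intro x hx
    have h1 : orderOf x ∣ Nat.card D := by
      have := orderOf_dvd_natCard (⟨x, hx⟩ : D)
      rwa [Subgroup.orderOf_mk] at this
    exact Odd.of_dvd_nat hS.odd_card h1
  have hg2 : g ^ 2 ∈ D := by
    refine ⟨?_, ?_⟩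
    · refine MulAction.mem_stabilizer_iff.2 ?_
      rw [pow_two, mul_smul, hga, hgb]
    · refine MulAction.mem_stabilizer_iff.2 ?_
      rw [pow_two, mul_smul, hgb, hga]
  obtain ⟨m, hm⟩ := hoddD _ hg2
  -- the involution w
  have hww : g ^ (orderOf (g ^ 2)) * g ^ (orderOf (g ^ 2)) = 1 := by
    rw [← pow_add, ← two_mul, pow_mul, pow_orderOf_eq_one]
  obtain ⟨w, hw2, hwX, hwa, hwb⟩ : ∃ w : G, w * w = 1 ∧ (∀ x ∈ X, w * x = x * w) ∧ w • a = t • a ∧
      w • (t • a) = a := by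
    refine ⟨g ^ (orderOf (g ^ 2)), hww, ?_, ?_, ?_⟩
    · intro x hx
      exact (Commute.pow_left (show Commute g x from hgX x hx) _).eq
    · have hmem := D.pow_mem hg2 m
      rw [hm, pow_succ', pow_mul, mul_smul, MulAction.mem_stabilizer_iff.1 hmem.1, hga]
    · have hmem := D.pow_mem hg2 m
      rw [hm, pow_succ', pow_mul, mul_smul, MulAction.mem_stabilizer_iff.1 hmem.2, hgb]
  -- d = w * t in D
  have hd : w * t ∈ D := by
    refine ⟨?_, ?_⟩
    · refine MulAction.mem_stabilizer_iff.2 ?_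
      rw [mul_smul, hwb]
    · refine MulAction.mem_stabilizer_iff.2 ?_
      rw [mul_smul, t_smul_t_smul hS, hwa]
  obtain ⟨n, hn⟩ := hoddD _ hd
  have htinv : t⁻¹ = t := inv_eq_of_mul_eq_one_right hS.mul_self
  have hwinv : w⁻¹ = w := inv_eq_of_mul_eq_one_right hw2
  set k : G := (w * t) ^ (n + 1) with hk
  have hkD : k ∈ D := D.pow_mem hd _
  have hk2 : k * k = w * t := by
    rw [hk, ← pow_add, show n + 1 + (n + 1) = (2 * n + 1) + 1 by ring, pow_succ, ← hn,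
      pow_orderOf_eq_one, one_mul]
  have htk : t * k * t = k⁻¹ := by
    have h1 : t * (w * t) * t⁻¹ = (w * t)⁻¹ := by
      rw [mul_inv_rev, htinv, hwinv, mul_assoc, mul_assoc, hS.mul_self, mul_one]
    have h2 : t * k * t⁻¹ = k⁻¹ := by
      rw [hk, ← conj_pow, h1, inv_pow]
    rwa [htinv] at h2
  -- k t k⁻¹ = w
  have hkt : k * t * k⁻¹ = w := by
    rw [← htk]
    have : k * t * (t * k * t) = k * (t * t) * k * t := by group
    rw [this, hS.mul_self, mul_one, hk2, mul_assoc, hS.mul_self, mul_one]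
  refine ⟨k⁻¹, D.inv_mem hkD, ?_⟩
  intro x hx
  have h1 := hwX x hx
  rw [← hkt] at h1
  have e1 : k⁻¹ * x * k⁻¹⁻¹ * t = k⁻¹ * (x * (k * t * k⁻¹)) * k := by group
  have e2 : t * (k⁻¹ * x * k⁻¹⁻¹) = k⁻¹ * ((k * t * k⁻¹) * x) * k := by group
  rw [e1, e2, h1]

end Cfsg.Agent.S1126
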