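import Cfsg.Statements.S0291
import Cfsg.Agent.LieClassical.QuadCount

set_option autoImplicit false
open Cfsg

namespace Cfsg.Agent.S0291

/-- For q odd, the form x_0^2 + sum_{i<m} x_i y_i on F^(2m+1) has exactly q^(2m) zeros. -/
theorem result {F : Type*} [Field F] [Fintype F] {q : ℕ} (hF : Fintype.card F = q) (hodd : Odd q) (m : ℕ) : Nat.card {v : Unit ⊕ (Fin m ⊕ Fin m) → F // Cfsg.quadFormOdd m F v = 0} = q ^ (2 * m) := by
  classical
  have hq : 0 < q := hF ▸ Fintype.card_pos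
  have h := Cfsg.Agent.LieClassical.QuadCount.card_sum (F := F) (W := Unit → F) m
    (fun w => w () ^ 2)
  have hone : Nat.card {w : Unit → F // w () ^ 2 = 0} = 1 := by
    rw [Nat.card_eq_one_iff_exists]
    refine ⟨⟨0, by simp⟩, ?_⟩
    rintro ⟨w, hw⟩
    apply Subtype.ext
    funext i
    exact pow_eq_zero_iff (two_ne_zero) |>.1 hw
  have hcard : Nat.card {v : Unit ⊕ (Fin m ⊕ Fin m) → F // Cfsg.quadFormOdd m F v = 0}
      = Nat.card {p : (Fin m ⊕ Fin m → F) × (Unit → F) //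
          quadFormPlus m F p.1 + p.2 () ^ 2 = 0} := by
    refine Nat.card_congr (((Equiv.sumArrowEquivProdArrow Unit (Fin m ⊕ Fin m) F).trans
      (Equiv.prodComm _ _)).subtypeEquiv ?_)
    intro v
    show v (.inl ()) ^ 2 + (∑ i : Fin m, v (.inr (.inl i)) * v (.inr (.inr i))) = 0
      ↔ (∑ i : Fin m, v (.inr (.inl i)) * v (.inr (.inr i))) + v (.inl ()) ^ 2 = 0
    rw [add_comm]
  rw [hone, hF, one_mul, Fintype.card_fun, hF, Fintype.card_unit, pow_one] at h
  rw [hcard]
  refine Nat.eq_of_mul_eq_mul_left hq ?_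
  have h2 : q * q ^ m = q ^ (m + 1) := by ring
  rw [h2] at h
  exact Nat.add_right_cancel h

end Cfsg.Agent.S0291
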