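import Cfsg.Statements.S0286
import Cfsg.Agent.S0291
import Cfsg.Agent.LieClassical.OrthCount
import Cfsg.Agent.LieClassical.QuadForms

set_option autoImplicit false
open Cfsg

namespace Cfsg.Agent.S0286

open Cfsg.Agent.LieClassical.OrthCount Cfsg.Agent.LieClassical.QuadForms

/-- The isometry group in dimension one is `{1, -1}`. -/
theorem card_zero {F : Type*} [Field F] (h2 : (2 : F) ≠ 0) :
    Nat.card (Cfsg.isometryGroup F (Cfsg.quadFormOdd 0 F)) = 2 := by
  have hneg : (-1 : Matrix.GeneralLinearGroup (Unit ⊕ (Fin 0 ⊕ Fin 0)) F)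
      ∈ Cfsg.isometryGroup F (Cfsg.quadFormOdd 0 F) := by
    rw [mem_isometryGroup_iff]
    intro x
    have h : Matrix.mulVec ((-1 : Matrix.GeneralLinearGroup (Unit ⊕ (Fin 0 ⊕ Fin 0)) F) :
        Matrix (Unit ⊕ (Fin 0 ⊕ Fin 0)) (Unit ⊕ (Fin 0 ⊕ Fin 0)) F) x = -x := by
      rw [Units.val_neg, Units.val_one, Matrix.neg_mulVec, Matrix.one_mulVec]
    rw [h]
    simp [Cfsg.quadFormOdd]
  rw [Nat.card_eq_two_iff]
  refine ⟨1, ⟨-1, hneg⟩, ?_, ?_⟩
  · intro h
    have h1 : (1 : Matrix.GeneralLinearGroup (Unit ⊕ (Fin 0 ⊕ Fin 0)) F) = -1 :=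
      congrArg Subtype.val h
    have h2' : ((1 : Matrix.GeneralLinearGroup (Unit ⊕ (Fin 0 ⊕ Fin 0)) F) :
        Matrix (Unit ⊕ (Fin 0 ⊕ Fin 0)) (Unit ⊕ (Fin 0 ⊕ Fin 0)) F) (.inl ()) (.inl ())
        = ((-1 : Matrix.GeneralLinearGroup (Unit ⊕ (Fin 0 ⊕ Fin 0)) F) :
        Matrix (Unit ⊕ (Fin 0 ⊕ Fin 0)) (Unit ⊕ (Fin 0 ⊕ Fin 0)) F) (.inl ()) (.inl ()) := by
      rw [← h1]
    rw [Units.val_neg, Units.val_one, Matrix.neg_apply, Matrix.one_apply_eq] at h2'
    apply h2
    linear_combination h2'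
  · ext g
    simp only [Set.mem_insert_iff, Set.mem_singleton_iff, Set.mem_univ, iff_true]
    have hg := (mem_isometryGroup_iff _ _).1 g.2 (fun _ => 1)
    set c := ((g : Matrix.GeneralLinearGroup (Unit ⊕ (Fin 0 ⊕ Fin 0)) F) :
        Matrix (Unit ⊕ (Fin 0 ⊕ Fin 0)) (Unit ⊕ (Fin 0 ⊕ Fin 0)) F) (.inl ()) (.inl ()) with hc
    have h1 : c ^ 2 = 1 := by
      simpa [Cfsg.quadFormOdd, Matrix.mulVec, dotProduct, Fintype.sum_sum_type, ← hc] using hg
    have h3 : (c - 1) * (c + 1) = 0 := by linear_combination h1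
    rcases mul_eq_zero.1 h3 with h | h
    · left
      apply Subtype.ext
      apply Units.ext
      ext i j
      rcases i with i | i | i
      · rcases j with j | j | j
        · have : c = 1 := by linear_combination h
          rw [← hc, this]
          rfl
        · exact j.elim0
        · exact j.elim0
      · exact i.elim0
      · exact i.elim0
    · right
      apply Subtype.ext
      apply Units.ext
      ext i j
      rcases i with i | i | i
      · rcases j with j | j | j
        · have : c = -1 := by linear_combination h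
          rw [← hc, this]
          simp
        · exact j.elim0
        · exact j.elim0
      · exact i.elim0
      · exact i.elim0

/-- |GO_{2m+1}(q)| = 2 q^(m^2) prod_{i=1}^{m} (q^(2i) - 1) for q odd. -/
theorem result {F : Type*} [Field F] [Fintype F] {q : ℕ} (hF : Fintype.card F = q) (hodd : Odd q) (m : ℕ) : Nat.card (Cfsg.isometryGroup F (Cfsg.quadFormOdd m F)) = 2 * q ^ (m ^ 2) * ∏ i ∈ Finset.range m, (q ^ (2 * (i + 1)) - 1) := by
  have h2 : (2 : F) ≠ 0 := by
    intro h
    have h' : (ringChar F) = 2 := by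
      have hd : ringChar F ∣ 2 := (ringChar.spec F 2).1 (by exact_mod_cast h)
      rcases (Nat.dvd_prime Nat.prime_two).1 hd with h1 | h1
      · exact absurd h1 (CharP.ringChar_ne_one)
      · exact h1
    have heven := FiniteField.even_card_of_char_two h'
    rw [hF] at heven
    have := Nat.odd_iff.1 hodd
    omega
  induction m with
  | zero => simpa using card_zero h2
  | succ m ih =>
    have hstep := card_isometryGroup_step (oddForm m F) (oddForm (m + 1) F) (oddStep m F)
      (oddForm_oddStep m) (fun u hu hu0 => by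
        by_contra hcon
        push Not at hcon
        exact hu0 (oddForm_nondeg (m + 1) u hu hcon))
    rw [coe_oddForm, coe_oddForm, Cfsg.Agent.S0291.result hF hodd,
      Nat.card_eq_fintype_card (α := F), hF, ih] at hstep
    rw [hstep, Finset.prod_range_succ]
    have hcard : Fintype.card (Unit ⊕ (Fin m ⊕ Fin m)) = 2 * m + 1 := by
      simp
      ring
    rw [hcard]
    have hexp : (m + 1) ^ 2 = m ^ 2 + (2 * m + 1) := by ring
    rw [hexp, pow_add q (m ^ 2)]
    ring

end Cfsg.Agent.S0286
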