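import Cfsg.Statements.S0289
import Cfsg.Agent.LieClassical.QuadCount

set_option autoImplicit false
open Cfsg

namespace Cfsg.Agent.S0289

/-- The hyperbolic quadratic form on F^(2m), m at least 1, has q^(2m-1) + q^m - q^(m-1) zeros (that is, (q^m - 1)(q^(m-1) + 1) non-zero isotropic vectors). -/
theorem result {F : Type*} [Field F] [Fintype F] {q : ℕ} (hF : Fintype.card F = q) (m : ℕ) (hm : 1 ≤ m) : Nat.card {v : Fin m ⊕ Fin m → F // Cfsg.quadFormPlus m F v = 0} = q ^ (2 * m - 1) + q ^ m - q ^ (m - 1) := by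
  classical
  have h := Cfsg.Agent.LieClassical.QuadCount.card_plus (F := F) m 0
  rw [if_pos rfl, hF] at h
  have hq : 0 < q := hF ▸ Fintype.card_pos
  obtain ⟨k, rfl⟩ : ∃ k, m = k + 1 := ⟨m - 1, (Nat.sub_add_cancel hm).symm⟩
  have e1 : 2 * (k + 1) - 1 = 2 * k + 1 := by omega
  have e2 : k + 1 - 1 = k := by omega
  rw [e1, e2]
  have h2 : Nat.card {v : Fin (k + 1) ⊕ Fin (k + 1) → F // Cfsg.quadFormPlus (k + 1) F v = 0} + q ^ k
      = q ^ (2 * k + 1) + q ^ (k + 1) := by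
    refine Nat.eq_of_mul_eq_mul_left hq ?_
    calc q * (Nat.card {v : Fin (k + 1) ⊕ Fin (k + 1) → F // Cfsg.quadFormPlus (k + 1) F v = 0} + q ^ k)
        = q * Nat.card {v : Fin (k + 1) ⊕ Fin (k + 1) → F // Cfsg.quadFormPlus (k + 1) F v = 0}
          + q ^ (k + 1) := by ring
      _ = q ^ (2 * (k + 1)) + q ^ (k + 1 + 1) := h
      _ = q * (q ^ (2 * k + 1) + q ^ (k + 1)) := by ring
  exact Nat.eq_sub_of_add_eq h2

end Cfsg.Agent.S0289
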