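import Cfsg.Statements.S0287
import Cfsg.Agent.S0289
import Cfsg.Agent.LieClassical.QuadForms
import Cfsg.Agent.LieClassical.OrthCount

set_option autoImplicit false
open Cfsg

namespace Cfsg.Agent.S0287

open Cfsg.Agent.LieClassical.QuadForms

theorem card_zero {F : Type*} [Field F] : Nat.card (Cfsg.isometryGroup F (Cfsg.quadFormPlus 0 F)) = 1 := by
  have : Subsingleton (Matrix.GeneralLinearGroup (Fin 0 ⊕ Fin 0) F) := by
    refine ⟨fun A B => Units.ext ?_⟩
    ext i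
    rcases i with i | i <;> exact i.elim0
  exact Nat.card_unique

theorem step {F : Type*} [Field F] [Fintype F] (m : ℕ) :
    Nat.card (Cfsg.isometryGroup F (Cfsg.quadFormPlus (m + 1) F))
      = (Nat.card {v : Fin (m + 1) ⊕ Fin (m + 1) → F // Cfsg.quadFormPlus (m + 1) F v = 0} - 1)
        * Nat.card F ^ (2 * m) * Nat.card (Cfsg.isometryGroup F (Cfsg.quadFormPlus m F)) := by
  have h := Cfsg.Agent.LieClassical.OrthCount.card_isometryGroup_step (plusForm m F) (plusForm (m + 1) F)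
    (plusStep m F) (plusForm_plusStep m) (fun u _ hu0 => by
      by_contra hcon
      push Not at hcon
      exact hu0 (polar_plusForm_nondeg _ u hcon))
  rw [coe_plusForm, coe_plusForm] at h
  rw [h]
  simp only [Fintype.card_sum, Fintype.card_fin, two_mul]

theorem aux (q m : ℕ) (hq : 1 ≤ q) :
    q ^ (2 * (m + 1) - 1) + q ^ (m + 1) - q ^ m - 1 = (q ^ (m + 1) - 1) * (q ^ m + 1) := by
  have e : 2 * (m + 1) - 1 = (m + 1) + m := by omega
  obtain ⟨x, hx⟩ : ∃ x, q ^ (m + 1) = x + 1 := ⟨q ^ (m + 1) - 1, (Nat.sub_add_cancel (Nat.one_le_pow _ _ hq)).symm⟩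
  rw [e, pow_add, hx, Nat.add_sub_cancel, add_mul, one_mul, mul_add, mul_one]
  omega

/-- |GO^+_{2m}(q)| = 2 q^(m(m-1)) (q^m - 1) prod_{i=1}^{m-1} (q^(2i) - 1), m at least 1, all q. -/
theorem result {F : Type*} [Field F] [Fintype F] {q : ℕ} (hF : Fintype.card F = q) (m : ℕ) (hm : 1 ≤ m) : Nat.card (Cfsg.isometryGroup F (Cfsg.quadFormPlus m F)) = 2 * q ^ (m * (m - 1)) * (q ^ m - 1) * ∏ i ∈ Finset.range (m - 1), (q ^ (2 * (i + 1)) - 1) := by
  have hq : 1 ≤ q := hF ▸ Fintype.card_pos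
  have hFq : Nat.card F = q := by rw [Nat.card_eq_fintype_card, hF]
  obtain ⟨k, rfl⟩ : ∃ k, m = k + 1 := ⟨m - 1, (Nat.sub_add_cancel hm).symm⟩
  clear hm
  have hstep : ∀ n, Nat.card (Cfsg.isometryGroup F (Cfsg.quadFormPlus (n + 1) F))
      = (q ^ (n + 1) - 1) * (q ^ n + 1) * q ^ (2 * n) * Nat.card (Cfsg.isometryGroup F (Cfsg.quadFormPlus n F)) := by
    intro n
    rw [step, Cfsg.Agent.S0289.result hF (n + 1) (Nat.le_add_left 1 n), hFq, Nat.add_sub_cancel, aux q n hq]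
  induction k with
  | zero =>
    rw [hstep, card_zero]
    simp [mul_comm]
  | succ n ih =>
    rw [hstep, ih]
    simp only [Nat.add_sub_cancel]
    rw [Finset.prod_range_succ]
    obtain ⟨x, hx⟩ : ∃ x, q ^ (n + 1) = x + 1 := ⟨q ^ (n + 1) - 1, (Nat.sub_add_cancel (Nat.one_le_pow _ _ hq)).symm⟩
    have h2 : q ^ (2 * (n + 1)) - 1 = x * (x + 2) := by
      have : q ^ (2 * (n + 1)) = (q ^ (n + 1)) ^ 2 := by ring
      rw [this, hx]
      have : (x + 1) ^ 2 = x * (x + 2) + 1 := by ring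
      rw [this, Nat.add_sub_cancel]
    have h3 : q ^ ((n + 1 + 1) * (n + 1)) = q ^ (2 * (n + 1)) * q ^ ((n + 1) * n) := by
      rw [← pow_add]; ring_nf
    rw [h2, h3, hx, Nat.add_sub_cancel]
    ring

end Cfsg.Agent.S0287
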