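import Cfsg.Statements.S0290
import Cfsg.Agent.LieClassical.QuadCount

set_option autoImplicit false
open Cfsg

namespace Cfsg.Agent.S0290

/-- The minus-type quadratic form on F^(2m), m at least 1, has q^(2m-1) + q^(m-1) - q^m zeros (that is, (q^m + 1)(q^(m-1) - 1) non-zero isotropic vectors). -/
theorem result {F : Type*} [Field F] [Fintype F] {q : ℕ} (hF : Fintype.card F = q) (m : ℕ) (hm : 1 ≤ m) (a b : F) (hab : ∀ z₁ z₂ : F, z₁ ^ 2 + a * z₁ * z₂ + b * z₂ ^ 2 = 0 → z₁ = 0 ∧ z₂ = 0) : Nat.card {v : (Fin (m - 1) ⊕ Fin (m - 1)) ⊕ Fin 2 → F // Cfsg.quadFormMinus (m - 1) F a b v = 0} = q ^ (2 * m - 1) + q ^ (m - 1) - q ^ m := by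
  classical
  obtain ⟨k, rfl⟩ : ∃ k, m = k + 1 := ⟨m - 1, (Nat.sub_add_cancel hm).symm⟩
  have e1 : 2 * (k + 1) - 1 = 2 * k + 1 := by omega
  have e2 : k + 1 - 1 = k := by omega
  rw [e1, e2]
  have hq : 0 < q := hF ▸ Fintype.card_pos
  have h := Cfsg.Agent.LieClassical.QuadCount.card_sum (F := F) (W := Fin 2 → F) k
    (fun w => w 0 ^ 2 + a * w 0 * w 1 + b * w 1 ^ 2)
  have hone : Nat.card {w : Fin 2 → F // w 0 ^ 2 + a * w 0 * w 1 + b * w 1 ^ 2 = 0} = 1 := by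
    rw [Nat.card_eq_one_iff_exists]
    refine ⟨⟨0, by simp⟩, ?_⟩
    rintro ⟨w, hw⟩
    apply Subtype.ext
    funext i
    obtain ⟨h0, h1⟩ := hab (w 0) (w 1) hw
    fin_cases i
    · exact h0
    · exact h1
  have hcard : Nat.card {v : (Fin k ⊕ Fin k) ⊕ Fin 2 → F // Cfsg.quadFormMinus k F a b v = 0}
      = Nat.card {p : (Fin k ⊕ Fin k → F) × (Fin 2 → F) //
          quadFormPlus k F p.1 + (p.2 0 ^ 2 + a * p.2 0 * p.2 1 + b * p.2 1 ^ 2) = 0} := by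
    refine Nat.card_congr ((Equiv.sumArrowEquivProdArrow (Fin k ⊕ Fin k) (Fin 2) F).subtypeEquiv ?_)
    intro v
    exact Iff.rfl
  rw [hone, hF, one_mul, Fintype.card_fun, Fintype.card_fin, hF] at h
  rw [hcard]
  have h2 : Nat.card {p : (Fin k ⊕ Fin k → F) × (Fin 2 → F) //
          quadFormPlus k F p.1 + (p.2 0 ^ 2 + a * p.2 0 * p.2 1 + b * p.2 1 ^ 2) = 0} + q ^ (k + 1)
      = q ^ (2 * k + 1) + q ^ k := by
    refine Nat.eq_of_mul_eq_mul_left hq ?_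
    rw [mul_add, mul_add]
    calc _ = q * Nat.card {p : (Fin k ⊕ Fin k → F) × (Fin 2 → F) //
          quadFormPlus k F p.1 + (p.2 0 ^ 2 + a * p.2 0 * p.2 1 + b * p.2 1 ^ 2) = 0}
            + q ^ 2 * q ^ k := by ring
      _ = q ^ 2 * q ^ (2 * k) + q ^ (k + 1) := h
      _ = _ := by ring
  exact Nat.eq_sub_of_add_eq h2

end Cfsg.Agent.S0290
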