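import Cfsg.Statements.S0306
import Mathlib

set_option autoImplicit false
open Cfsg

namespace Cfsg.Agent.S0306

open QuadraticAlgebra
open scoped Matrix

variable {F : Type*} [Field F]

/-- The index type of `quadFormMinus 0`. -/
abbrev I : Type := (Fin 0 ⊕ Fin 0) ⊕ Fin 2

/-- The basis `1, ω` of the quadratic algebra, indexed by `I`. -/
noncomputable def bas (a b : F) : Module.Basis I F (QuadraticAlgebra F (-b) a) :=
  (QuadraticAlgebra.basis (-b) a).reindex (Equiv.emptySum (Fin 0 ⊕ Fin 0) (Fin 2)).symm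

theorem bas_repr_zero (a b : F) (x : QuadraticAlgebra F (-b) a) :
    (bas a b).repr x (.inr 0) = x.re := by
  simp [bas]

theorem bas_repr_one (a b : F) (x : QuadraticAlgebra F (-b) a) :
    (bas a b).repr x (.inr 1) = x.im := by
  simp [bas]

theorem quad_repr (a b : F) (x : QuadraticAlgebra F (-b) a) :
    Cfsg.quadFormMinus 0 F a b ((bas a b).repr x) = norm x := by
  simp only [Cfsg.quadFormMinus, bas_repr_zero, bas_repr_one, norm_def]
  simp
  ring

theorem mem_iff (a b : F) (T : QuadraticAlgebra F (-b) a →ₗ[F] QuadraticAlgebra F (-b) a)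
    (g : Matrix.GeneralLinearGroup I F)
    (hg : (g : Matrix I I F) = LinearMap.toMatrixAlgEquiv (bas a b) T) :
    g ∈ Cfsg.isometryGroup F (Cfsg.quadFormMinus 0 F a b) ↔ ∀ x, norm (T x) = norm x := by
  have key : ∀ x, Cfsg.quadFormMinus 0 F a b ((g : Matrix I I F) *ᵥ ((bas a b).repr x)) =
      norm (T x) := by
    intro x
    have h1 : (g : Matrix I I F) *ᵥ ((bas a b).repr x) = (bas a b).repr (T x) := by
      rw [hg]
      exact LinearMap.toMatrix_mulVec_repr (bas a b) (bas a b) T x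
    rw [h1, quad_repr]
  constructor
  · intro h x
    rw [← key, ← quad_repr]
    exact h _ 0
  · intro h u v
    have h1 := h ((bas a b).equivFun.symm u)
    rw [← key, ← quad_repr] at h1
    have h2 : ((bas a b).repr ((bas a b).equivFun.symm u) : I → F) = u := by
      rw [← Module.Basis.equivFun_apply, LinearEquiv.apply_symm_apply]
    rw [h2] at h1
    exact h1

/-- star as a linear map -/
def starL (a b : F) : QuadraticAlgebra F (-b) a →ₗ[F] QuadraticAlgebra F (-b) a where
  toFun := star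
  map_add' x y := by simp
  map_smul' c x := by
    ext <;> simp
    ring

/-- The map from the dihedral group. -/
noncomputable def toEnd {n : ℕ} {a b : F}
    (φ : Multiplicative (ZMod n) →* (QuadraticAlgebra F (-b) a)) :
    DihedralGroup n → (QuadraticAlgebra F (-b) a →ₗ[F] QuadraticAlgebra F (-b) a)
  | .r i => LinearMap.mulLeft F (φ (Multiplicative.ofAdd i))
  | .sr i => starL a b ∘ₗ LinearMap.mulLeft F (φ (Multiplicative.ofAdd i))

theorem toEnd_r {n : ℕ} {a b : F}
    (φ : Multiplicative (ZMod n) →* (QuadraticAlgebra F (-b) a)) (i : ZMod n) (x) :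
    toEnd φ (.r i) x = φ (Multiplicative.ofAdd i) * x := rfl

theorem toEnd_sr {n : ℕ} {a b : F}
    (φ : Multiplicative (ZMod n) →* (QuadraticAlgebra F (-b) a)) (i : ZMod n) (x) :
    toEnd φ (.sr i) x = star (φ (Multiplicative.ofAdd i) * x) := rfl

theorem toEnd_mul {n : ℕ} {a b : F}
    (φ : Multiplicative (ZMod n) →* (QuadraticAlgebra F (-b) a))
    (hφ : ∀ i, star (φ i) = φ i⁻¹) (x y : DihedralGroup n) :
    toEnd φ (x * y) = toEnd φ x * toEnd φ y := by
  refine LinearMap.ext fun z => ?_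
  rw [Module.End.mul_apply]
  rcases x with i | i <;> rcases y with j | j
  · rw [DihedralGroup.r_mul_r, toEnd_r, toEnd_r, toEnd_r, ofAdd_add, map_mul, mul_assoc]
  · rw [DihedralGroup.r_mul_sr, toEnd_sr, toEnd_sr, toEnd_r, ofAdd_sub, div_eq_mul_inv, map_mul,
      ← hφ]
    simp only [star_mul', star_star]
    ring
  · rw [DihedralGroup.sr_mul_r, toEnd_sr, toEnd_sr, toEnd_r, ofAdd_add, map_mul, mul_assoc]
  · rw [DihedralGroup.sr_mul_sr, toEnd_r, toEnd_sr, toEnd_sr, ofAdd_sub, div_eq_mul_inv, map_mul,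
      ← hφ]
    simp only [star_mul', star_star]
    ring

theorem toEnd_one {n : ℕ} {a b : F}
    (φ : Multiplicative (ZMod n) →* (QuadraticAlgebra F (-b) a)) : toEnd φ 1 = 1 := by
  refine LinearMap.ext fun z => ?_
  change toEnd φ (.r 0) z = z
  rw [toEnd_r, ofAdd_zero, map_one, one_mul]

/-- the hom -/
noncomputable def toGL {n : ℕ} {a b : F}
    (φ : Multiplicative (ZMod n) →* (QuadraticAlgebra F (-b) a))
    (hφ : ∀ i, star (φ i) = φ i⁻¹) :
    DihedralGroup n →* Matrix.GeneralLinearGroup I F :=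
  MonoidHom.toHomUnits
    { toFun := fun x => LinearMap.toMatrixAlgEquiv (bas a b) (toEnd φ x)
      map_one' := by rw [toEnd_one, map_one]
      map_mul' := fun x y => by rw [toEnd_mul φ hφ, map_mul] }

theorem toGL_coe {n : ℕ} {a b : F}
    (φ : Multiplicative (ZMod n) →* (QuadraticAlgebra F (-b) a))
    (hφ : ∀ i, star (φ i) = φ i⁻¹) (x : DihedralGroup n) :
    ((toGL φ hφ x : Matrix.GeneralLinearGroup I F) : Matrix I I F) =
      LinearMap.toMatrixAlgEquiv (bas a b) (toEnd φ x) := rfl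

/-- the condition for existence of a field -/
theorem fact_of_aniso {a b : F}
    (hab : ∀ z₁ z₂ : F, z₁ ^ 2 + a * z₁ * z₂ + b * z₂ ^ 2 = 0 → z₁ = 0 ∧ z₂ = 0) :
    Fact (∀ r : F, r ^ 2 ≠ -b + a * r) := by
  refine ⟨fun r hr => ?_⟩
  have := hab (-r) 1 (by linear_combination hr)
  exact one_ne_zero this.2

theorem star_omega_ne [Finite F] {a b : F}
    (hab : ∀ z₁ z₂ : F, z₁ ^ 2 + a * z₁ * z₂ + b * z₂ ^ 2 = 0 → z₁ = 0 ∧ z₂ = 0) :
    star (ω : QuadraticAlgebra F (-b) a) ≠ ω := by
  intro h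
  have h1 := congrArg re h
  have h2 := congrArg im h
  simp at h1 h2
  have h3 : (2 : F) = 0 := by linear_combination -h2
  have : CharP F 2 := CharTwo.of_one_ne_zero_of_two_eq_zero one_ne_zero h3
  obtain ⟨r, hr⟩ := FiniteField.isSquare_of_char_two (ringChar.eq F 2) b
  have := hab r 1 (by rw [h1, hr]; linear_combination r * r * h3)
  exact one_ne_zero this.2

theorem toEnd_injective [Finite F] {n : ℕ} {a b : F}
    (hab : ∀ z₁ z₂ : F, z₁ ^ 2 + a * z₁ * z₂ + b * z₂ ^ 2 = 0 → z₁ = 0 ∧ z₂ = 0)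
    (φ : Multiplicative (ZMod n) →* (QuadraticAlgebra F (-b) a))
    (hφi : Function.Injective φ)
    (x : DihedralGroup n) (hx : toEnd φ x = 1) : x = 1 := by
  rcases x with i | i
  · have h1 := LinearMap.congr_fun hx 1
    rw [toEnd_r, mul_one, Module.End.one_apply, ← map_one φ] at h1
    have h2 := hφi h1
    rw [ofAdd_eq_one] at h2
    rw [h2]
    rfl
  · exfalso
    have h1 := LinearMap.congr_fun hx 1
    have h2 := LinearMap.congr_fun hx ω
    rw [toEnd_sr, Module.End.one_apply] at h1 h2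
    rw [mul_one] at h1
    rw [star_mul', h1, one_mul] at h2
    exact star_omega_ne hab h2

theorem toGL_injective [Finite F] {n : ℕ} {a b : F}
    (hab : ∀ z₁ z₂ : F, z₁ ^ 2 + a * z₁ * z₂ + b * z₂ ^ 2 = 0 → z₁ = 0 ∧ z₂ = 0)
    (φ : Multiplicative (ZMod n) →* (QuadraticAlgebra F (-b) a))
    (hφ : ∀ i, star (φ i) = φ i⁻¹)
    (hφi : Function.Injective φ) :
    Function.Injective (toGL φ hφ) := by
  rw [injective_iff_map_eq_one]
  intro x hx
  apply toEnd_injective hab φ hφi
  have h1 : ((toGL φ hφ x : Matrix.GeneralLinearGroup I F) : Matrix I I F) = 1 := by rw [hx]; rfl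
  rw [toGL_coe] at h1
  apply (LinearMap.toMatrixAlgEquiv (bas a b)).injective
  rw [h1, map_one]

/-- linear maps preserving the norm fixing one -/
theorem eq_of_fix_one {a b : F}
    (hab : ∀ z₁ z₂ : F, z₁ ^ 2 + a * z₁ * z₂ + b * z₂ ^ 2 = 0 → z₁ = 0 ∧ z₂ = 0)
    (T : QuadraticAlgebra F (-b) a →ₗ[F] QuadraticAlgebra F (-b) a)
    (hT : ∀ x, norm (T x) = norm x) (h1 : T 1 = 1) :
    (∀ x, T x = x) ∨ (∀ x, T x = star x) := by
  have := fact_of_aniso hab
  have key : ∀ x : QuadraticAlgebra F (-b) a, norm (x + 1) = norm x + trace x + 1 := by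
    intro x
    simp only [norm_def, trace_def, re_add, im_add, re_one, im_one]
    ring
  have htr : ∀ x, trace (T x) = trace x := by
    intro x
    have h2 := hT (x + 1)
    rw [map_add, h1, key, key, hT x] at h2
    linear_combination h2
  have hroot : (T ω - ω) * (T ω - star ω) = 0 := by
    have h3 := sq_sub_trace_smul_add_norm_eq_zero (T ω)
    rw [htr, hT, Algebra.smul_def, algebraMap_trace_eq_add_star, algebraMap_norm_eq_mul_star] at h3
    linear_combination h3
  have hx : ∀ x : QuadraticAlgebra F (-b) a, T x = x.re • 1 + x.im • T ω := by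
    intro x
    conv_lhs => rw [← mk_eta x, mk_eq_add_smul_omega]
    rw [map_add, map_smul, Algebra.algebraMap_eq_smul_one, map_smul, h1]
  rcases mul_eq_zero.1 hroot with h | h
  · left
    intro x
    rw [hx, sub_eq_zero.1 h]
    ext <;> simp
  · right
    intro x
    rw [hx, sub_eq_zero.1 h]
    ext <;> simp
    ring

theorem range_eq {n : ℕ} {a b : F}
    (hab : ∀ z₁ z₂ : F, z₁ ^ 2 + a * z₁ * z₂ + b * z₂ ^ 2 = 0 → z₁ = 0 ∧ z₂ = 0)
    (φ : Multiplicative (ZMod n) →* (QuadraticAlgebra F (-b) a))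
    (hφ : ∀ i, star (φ i) = φ i⁻¹)
    (hφs : ∀ x : QuadraticAlgebra F (-b) a, norm x = 1 → ∃ i, φ i = x) :
    (toGL φ hφ).range = Cfsg.isometryGroup F (Cfsg.quadFormMinus 0 F a b) := by
  have := fact_of_aniso hab
  have hnorm : ∀ i, norm (φ i) = 1 := by
    intro i
    have h1 := algebraMap_norm_eq_mul_star (φ i)
    rw [hφ, ← map_mul, mul_inv_cancel, map_one] at h1
    apply (algebraMap F (QuadraticAlgebra F (-b) a)).injective
    rw [h1, map_one]
  ext g
  constructor
  · rintro ⟨x, rfl⟩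
    rw [mem_iff a b (toEnd φ x) _ (toGL_coe φ hφ x)]
    intro z
    rcases x with i | i
    · rw [toEnd_r, map_mul, hnorm, one_mul]
    · rw [toEnd_sr, QuadraticAlgebra.norm_star, map_mul, hnorm, one_mul]
  · intro hg
    set T := (LinearMap.toMatrixAlgEquiv (bas a b)).symm (g : Matrix I I F) with hTdef
    have hgT : (g : Matrix I I F) = LinearMap.toMatrixAlgEquiv (bas a b) T := by
      rw [hTdef, AlgEquiv.apply_symm_apply]
    rw [mem_iff a b T g hgT] at hg
    have hc : norm (T 1) = 1 := by rw [hg, QuadraticAlgebra.norm_one]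
    have hc0 : T 1 ≠ 0 := by
      intro h
      rw [h, QuadraticAlgebra.norm_zero] at hc
      exact zero_ne_one hc
    obtain ⟨i, hi⟩ := hφs (T 1) hc
    -- the normalised map
    let S : QuadraticAlgebra F (-b) a →ₗ[F] QuadraticAlgebra F (-b) a :=
      LinearMap.mulLeft F (φ i⁻¹) ∘ₗ T
    have hS : ∀ x, S x = φ i⁻¹ * T x := fun x => rfl
    have hS1 : S 1 = 1 := by rw [hS, ← hi, ← map_mul, inv_mul_cancel, map_one]
    have hSn : ∀ x, norm (S x) = norm x := by
      intro x
      rw [hS, map_mul, hnorm, one_mul, hg]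
    have hTS : ∀ x, T x = φ i * S x := by
      intro x
      rw [hS, ← mul_assoc, ← map_mul, mul_inv_cancel, map_one, one_mul]
    have hend : ∃ x, toEnd φ x = T := by
      rcases eq_of_fix_one hab S hSn hS1 with h | h
      · refine ⟨.r (Multiplicative.toAdd i), LinearMap.ext fun x => ?_⟩
        rw [toEnd_r, ofAdd_toAdd, hTS, h]
      · refine ⟨.sr (Multiplicative.toAdd i⁻¹), LinearMap.ext fun x => ?_⟩
        rw [toEnd_sr, ofAdd_toAdd, star_mul', hφ, inv_inv, hTS, h]
    obtain ⟨x, hx⟩ := hend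
    refine ⟨x, Units.ext ?_⟩
    rw [toGL_coe, hx, hgT]

theorem card_ker {a b : F} [Fintype F] [Fact (∀ r : F, r ^ 2 ≠ -b + a * r)] :
    Nat.card (Units.map (QuadraticAlgebra.norm : QuadraticAlgebra F (-b) a →* F)).ker =
      Fintype.card F + 1 := by
  have hfin : Finite (QuadraticAlgebra F (-b) a) := Module.finite_of_finite F
  have hnorm : ∀ x : QuadraticAlgebra F (-b) a, Algebra.norm F x = QuadraticAlgebra.norm x := by
    intro x
    rw [Algebra.norm_apply, ← QuadraticAlgebra.det_toLinearMap_eq_norm]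
    rfl
  have hsurj : Function.Surjective
      (Units.map (QuadraticAlgebra.norm : QuadraticAlgebra F (-b) a →* F)) := by
    intro y
    obtain ⟨x, hx⟩ := FiniteField.unitsMap_norm_surjective F (QuadraticAlgebra F (-b) a) y
    refine ⟨x, ?_⟩
    rw [← hx]
    ext
    simp [hnorm]
  have h1 : Nat.card (QuadraticAlgebra F (-b) a)ˣ = Fintype.card F ^ 2 - 1 := by
    rw [Nat.card_units, Module.natCard_eq_pow_finrank (K := F), QuadraticAlgebra.finrank_eq_two,
      Nat.card_eq_fintype_card]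
  have h2 := Subgroup.card_mul_index
    (Units.map (QuadraticAlgebra.norm : QuadraticAlgebra F (-b) a →* F)).ker
  rw [Subgroup.index_ker, MonoidHom.range_eq_top.2 hsurj, Subgroup.card_top, h1, Nat.card_units,
    Nat.card_eq_fintype_card (α := F)] at h2
  have h3 : 1 < Fintype.card F := Fintype.one_lt_card
  have h4 : Fintype.card F ^ 2 - 1 = (Fintype.card F + 1) * (Fintype.card F - 1) := by
    rw [← Nat.sq_sub_sq, one_pow]
  rw [h4] at h2
  exact Nat.eq_of_mul_eq_mul_right (by omega) h2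

/-- GO^-_2(q) is dihedral of order 2(q+1). -/
theorem result {F : Type*} [Field F] [Fintype F] {q : ℕ} (hF : Fintype.card F = q) (a b : F) (hab : ∀ z₁ z₂ : F, z₁ ^ 2 + a * z₁ * z₂ + b * z₂ ^ 2 = 0 → z₁ = 0 ∧ z₂ = 0) : Nonempty (Cfsg.isometryGroup F (Cfsg.quadFormMinus 0 F a b) ≃* DihedralGroup (q + 1)) := by
  have := fact_of_aniso hab
  have hfin : Finite (QuadraticAlgebra F (-b) a) := Module.finite_of_finite F
  let N := (Units.map (QuadraticAlgebra.norm : QuadraticAlgebra F (-b) a →* F)).ker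
  have hcard : Nat.card N = q + 1 := by rw [← hF]; exact card_ker
  let e : Multiplicative (ZMod (Nat.card N)) ≃* N := zmodCyclicMulEquiv (inferInstance : IsCyclic N)
  rw [← hcard]
  let φ : Multiplicative (ZMod (Nat.card N)) →* QuadraticAlgebra F (-b) a :=
    (Units.coeHom _).comp (N.subtype.comp e.toMonoidHom)
  have hφ' : ∀ i, φ i = ((e i : (QuadraticAlgebra F (-b) a)ˣ) : QuadraticAlgebra F (-b) a) :=
    fun i => rfl
  have hn : ∀ i, QuadraticAlgebra.norm (φ i) = 1 := by
    intro i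
    have := (e i).2
    rw [MonoidHom.mem_ker] at this
    exact congrArg Units.val this
  have hφ : ∀ i, star (φ i) = φ i⁻¹ := by
    intro i
    have h1 := algebraMap_norm_eq_mul_star (φ i)
    rw [hn, map_one] at h1
    have h2 : φ i⁻¹ * φ i = 1 := by rw [← map_mul, inv_mul_cancel, map_one]
    calc star (φ i) = (φ i⁻¹ * φ i) * star (φ i) := by rw [h2, one_mul]
      _ = φ i⁻¹ := by rw [mul_assoc, ← h1, mul_one]
  have hφi : Function.Injective φ := by
    intro i j hij
    rw [hφ', hφ'] at hij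
    exact e.injective (Subtype.ext (Units.ext hij))
  have hφs : ∀ x : QuadraticAlgebra F (-b) a, QuadraticAlgebra.norm x = 1 → ∃ i, φ i = x := by
    intro x hx
    have hx0 : x ≠ 0 := by
      intro h
      rw [h, QuadraticAlgebra.norm_zero] at hx
      exact zero_ne_one hx
    have hmem : Units.mk0 x hx0 ∈ N := by
      rw [MonoidHom.mem_ker]
      ext
      exact hx
    obtain ⟨i, hi⟩ := e.surjective ⟨_, hmem⟩
    refine ⟨i, ?_⟩
    rw [hφ', hi]
    rfl
  let f := MonoidHom.ofInjective (toGL_injective hab φ hφ hφi)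
  have h := range_eq hab φ hφ hφs
  exact ⟨(f.trans (MulEquiv.subgroupCongr h)).symm⟩

end Cfsg.Agent.S0306
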