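import Cfsg.Statements.S0288
import Cfsg.Agent.S0290
import Cfsg.Agent.S0306
import Cfsg.Agent.LieClassical.QuadForms
import Cfsg.Agent.LieClassical.OrthCount

set_option autoImplicit false
open Cfsg

namespace Cfsg.Agent.S0288

open Cfsg.Agent.LieClassical.QuadForms

theorem card_zero {F : Type*} [Field F] [Fintype F] {q : ℕ} (hF : Fintype.card F = q) (a b : F)
    (hab : ∀ z₁ z₂ : F, z₁ ^ 2 + a * z₁ * z₂ + b * z₂ ^ 2 = 0 → z₁ = 0 ∧ z₂ = 0) :
    Nat.card (Cfsg.isometryGroup F (Cfsg.quadFormMinus 0 F a b)) = 2 * (q + 1) := by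
  obtain ⟨e⟩ := Cfsg.Agent.S0306.result hF a b hab
  rw [Nat.card_congr e.toEquiv, DihedralGroup.nat_card]

theorem step {F : Type*} [Field F] [Fintype F] (m : ℕ) (a b : F)
    (hab : ∀ z₁ z₂ : F, z₁ ^ 2 + a * z₁ * z₂ + b * z₂ ^ 2 = 0 → z₁ = 0 ∧ z₂ = 0) :
    Nat.card (Cfsg.isometryGroup F (Cfsg.quadFormMinus (m + 1) F a b))
      = (Nat.card {v : (Fin (m + 1) ⊕ Fin (m + 1)) ⊕ Fin 2 → F // Cfsg.quadFormMinus (m + 1) F a b v = 0} - 1)
        * Nat.card F ^ (2 * m + 2) * Nat.card (Cfsg.isometryGroup F (Cfsg.quadFormMinus m F a b)) := by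
  have h := Cfsg.Agent.LieClassical.OrthCount.card_isometryGroup_step (minusForm m F a b)
    (minusForm (m + 1) F a b) (minusStep m F) (minusForm_minusStep m a b) (fun u hu hu0 => by
      by_contra hcon
      push Not at hcon
      exact hu0 (minusForm_nondeg _ a b hab u hu hcon))
  rw [coe_minusForm, coe_minusForm] at h
  rw [h]
  simp only [Fintype.card_sum, Fintype.card_fin, two_mul]

theorem aux (q m : ℕ) (hq : 1 ≤ q) :
    q ^ (2 * (m + 1 + 1) - 1) + q ^ (m + 1) - q ^ (m + 1 + 1) - 1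
      = (q ^ (m + 1 + 1) + 1) * (q ^ (m + 1) - 1) := by
  have e : 2 * (m + 1 + 1) - 1 = (m + 1 + 1) + (m + 1) := by omega
  obtain ⟨x, hx⟩ : ∃ x, q ^ (m + 1) = x + 1 :=
    ⟨q ^ (m + 1) - 1, (Nat.sub_add_cancel (Nat.one_le_pow _ _ hq)).symm⟩
  rw [e, pow_add, hx, Nat.add_sub_cancel, add_mul, one_mul, mul_add, mul_one]
  omega

/-- |GO^-_{2m}(q)| = 2 q^(m(m-1)) (q^m + 1) prod_{i=1}^{m-1} (q^(2i) - 1), m at least 1, all q; the form is quadFormMinus (m-1) with an anisotropic binary part. -/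
theorem result {F : Type*} [Field F] [Fintype F] {q : ℕ} (hF : Fintype.card F = q) (m : ℕ) (hm : 1 ≤ m) (a b : F) (hab : ∀ z₁ z₂ : F, z₁ ^ 2 + a * z₁ * z₂ + b * z₂ ^ 2 = 0 → z₁ = 0 ∧ z₂ = 0) : Nat.card (Cfsg.isometryGroup F (Cfsg.quadFormMinus (m - 1) F a b)) = 2 * q ^ (m * (m - 1)) * (q ^ m + 1) * ∏ i ∈ Finset.range (m - 1), (q ^ (2 * (i + 1)) - 1) := by
  have hq : 1 ≤ q := hF ▸ Fintype.card_pos
  have hFq : Nat.card F = q := by rw [Nat.card_eq_fintype_card, hF]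
  obtain ⟨k, rfl⟩ : ∃ k, m = k + 1 := ⟨m - 1, (Nat.sub_add_cancel hm).symm⟩
  clear hm
  have hstep : ∀ n, Nat.card (Cfsg.isometryGroup F (Cfsg.quadFormMinus (n + 1) F a b))
      = (q ^ (n + 1 + 1) + 1) * (q ^ (n + 1) - 1) * q ^ (2 * n + 2)
        * Nat.card (Cfsg.isometryGroup F (Cfsg.quadFormMinus n F a b)) := by
    intro n
    have hz : Nat.card {v : (Fin (n + 1) ⊕ Fin (n + 1)) ⊕ Fin 2 → F // Cfsg.quadFormMinus (n + 1) F a b v = 0}
        = q ^ (2 * (n + 1 + 1) - 1) + q ^ (n + 1) - q ^ (n + 1 + 1) :=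
      Cfsg.Agent.S0290.result hF (n + 1 + 1) (Nat.le_add_left 1 (n + 1)) a b hab
    rw [step n a b hab, hz, hFq, aux q n hq]
  rw [Nat.add_sub_cancel]
  induction k with
  | zero =>
    rw [card_zero hF a b hab]
    simp
  | succ n ih =>
    rw [hstep, ih]
    rw [Finset.prod_range_succ]
    obtain ⟨x, hx⟩ : ∃ x, q ^ (n + 1) = x + 1 := ⟨q ^ (n + 1) - 1, (Nat.sub_add_cancel (Nat.one_le_pow _ _ hq)).symm⟩
    have h2 : q ^ (2 * (n + 1)) - 1 = x * (x + 2) := by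
      have : q ^ (2 * (n + 1)) = (q ^ (n + 1)) ^ 2 := by ring
      rw [this, hx]
      have : (x + 1) ^ 2 = x * (x + 2) + 1 := by ring
      rw [this, Nat.add_sub_cancel]
    have h3 : q ^ ((n + 1 + 1) * (n + 1)) = q ^ (2 * n + 2) * q ^ ((n + 1) * n) := by
      rw [← pow_add]; ring_nf
    rw [h2, h3, hx, Nat.add_sub_cancel]
    ring

end Cfsg.Agent.S0288
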