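import Cfsg.Statements.S0292
import Cfsg.Agent.S0286
import Cfsg.Agent.LieClassical.QuadForms
import Cfsg.Agent.LieClassical.OrthCenter
import Cfsg.Agent.ClassicalGeometry.OmegaIndex

set_option autoImplicit false
open Cfsg

namespace Cfsg.Agent.S0292

open QuadraticMap Cfsg.Agent.LieClassical.QuadForms

/-- The polar form of `oddForm` is nondegenerate when `2 ≠ 0`. -/
theorem oddForm_nondegenerate {F : Type*} [Field F] (h2 : (2 : F) ≠ 0) (m : ℕ) :
    (polarBilin (oddForm m F)).Nondegenerate := by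
  have hleft : ∀ u : Unit ⊕ (Fin m ⊕ Fin m) → F, (∀ v, polar (oddForm m F) u v = 0) → u = 0 := by
    intro u hu
    apply oddForm_nondeg m u _ hu
    have h := hu u
    rw [QuadraticMap.polar_self, two_nsmul, ← two_mul] at h
    exact (mul_eq_zero.1 h).resolve_left h2
  refine ⟨fun u hu => hleft u fun v => hu v, fun u hu => hleft u fun v => ?_⟩
  have h := hu v
  rw [polarBilin_apply_apply, polar_comm] at h
  exact h

/-- `oddForm` has a nonzero singular vector when `m ≥ 1`. -/
theorem exists_singular {F : Type*} [Field F] {m : ℕ} (hm : 1 ≤ m) :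
    ∃ u : Unit ⊕ (Fin m ⊕ Fin m) → F, u ≠ 0 ∧ oddForm m F u = 0 := by
  refine ⟨Pi.single (.inr (.inl ⟨0, hm⟩)) 1, ?_, ?_⟩
  · intro h
    have := congrFun h (.inr (.inl ⟨0, hm⟩))
    simp at this
  · rw [oddForm_apply, plusForm_apply]
    simp

/-- 2 |PΩ_{2m+1}(q)| = q^(m^2) prod_{i=1}^{m} (q^(2i) - 1), for q odd and m at least 3 (type B_m). -/
theorem result {F : Type*} [Field F] [Fintype F] {q : ℕ} (hF : Fintype.card F = q) (hodd : Odd q) (m : ℕ) (hm : 3 ≤ m) : 2 * Nat.card (Cfsg.POmega F (Cfsg.quadFormOdd m F)) = q ^ (m ^ 2) * ∏ i ∈ Finset.range m, (q ^ (2 * (i + 1)) - 1) := by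
  have h2 : (2 : F) ≠ 0 := by
    intro h
    have h' : (ringChar F) = 2 := by
      have hd : ringChar F ∣ 2 := (ringChar.spec F 2).1 (by exact_mod_cast h)
      rcases (Nat.dvd_prime Nat.prime_two).1 hd with h1 | h1
      · exact absurd h1 (CharP.ringChar_ne_one)
      · exact h1
    have heven := FiniteField.even_card_of_char_two h'
    rw [hF] at heven
    have := Nat.odd_iff.1 hodd
    omega
  have hQ := oddForm_nondegenerate (F := F) h2 m
  have hcard : Fintype.card (Unit ⊕ (Fin m ⊕ Fin m)) = 2 * m + 1 := by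
    simp
    ring
  have hc := Cfsg.Agent.LieClassical.OrthCenter.card_center_omega_of_odd h2 hQ (by omega)
    (by rw [hcard]; exact ⟨m, rfl⟩) (exists_singular (by omega))
  have hi := Cfsg.Agent.ClassicalGeometry.OmegaIndex.index_Omega h2 (by omega) (oddForm m F) hQ
  have h := Cfsg.Agent.LieClassical.OrthCenter.card_POmega_mul (⇑(oddForm m F))
  rw [hc, hi, coe_oddForm, Cfsg.Agent.S0286.result hF hodd] at h
  have h3 : 2 * (2 * Nat.card (Cfsg.POmega F (Cfsg.quadFormOdd m F)))
      = 2 * (q ^ (m ^ 2) * ∏ i ∈ Finset.range m, (q ^ (2 * (i + 1)) - 1)) := by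
    rw [← mul_assoc 2 (q ^ (m ^ 2)), ← h]
    ring
  exact Nat.eq_of_mul_eq_mul_left (by norm_num) h3

end Cfsg.Agent.S0292
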