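import Cfsg.Statements.S0790
-- import your own Cfsg.Agent.* helpers here
import Cfsg.Agent.ClassicalGeometry.NegOneOmega

set_option autoImplicit false
open Cfsg

namespace Cfsg.Agent.S0790

open Cfsg.Agent.ClassicalGeometry.NegOneOmega

/-- If `i² = -1` in `F` then `-1 ∈ Ω⁺_{2m}`. -/
theorem exists_of_sq {F : Type*} [Field F] (m : ℕ) (i : F) (hi : i * i = -1) :
    ∃ g : ↥(Cfsg.isometryGroup F (Cfsg.quadFormPlus m F)),
      g ∈ Cfsg.Omega F (Cfsg.quadFormPlus m F) ∧
      ((g : Matrix.GeneralLinearGroup (Fin m ⊕ Fin m) F) :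
        Matrix (Fin m ⊕ Fin m) (Fin m ⊕ Fin m) F) = -1 := by
  let L : (Fin m ⊕ Fin m → F) →ₗ[F] (Fin m ⊕ Fin m → F) :=
    { toFun := fun v => Sum.elim (fun j => i * v (.inl j)) (fun j => -(i * v (.inr j)))
      map_add' := fun v w => by
        funext j
        rcases j with j | j
        · simp [mul_add]
        · simp [mul_add, add_comm]
      map_smul' := fun c v => by
        funext j
        rcases j with j | j
        · simp; ring
        · simp; ring }
  let M : (Fin m ⊕ Fin m → F) →ₗ[F] (Fin m ⊕ Fin m → F) :=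
    { toFun := fun v => Sum.elim (fun j => v (.inr j)) (fun j => v (.inl j))
      map_add' := fun v w => by
        funext j
        rcases j with j | j <;> simp
      map_smul' := fun c v => by
        funext j
        rcases j with j | j <;> simp }
  refine exists_of_anticomm _ L M (fun v => ?_) (fun v => ?_) (fun v => ?_) (fun v => ?_)
    (fun v => ?_)
  · funext j
    rcases j with j | j
    · change i * (i * v (.inl j)) = -v (.inl j)
      linear_combination v (.inl j) * hi
    · change -(i * -(i * v (.inr j))) = -v (.inr j)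
      linear_combination v (.inr j) * hi
  · funext j
    rcases j with j | j <;> rfl
  · funext j
    rcases j with j | j
    · change i * v (.inr j) = -(-(i * v (.inr j)))
      ring
    · rfl
  · change ∑ j : Fin m, (i * v (.inl j)) * (-(i * v (.inr j))) = ∑ j : Fin m, v (.inl j) * v (.inr j)
    refine Finset.sum_congr rfl fun j _ => ?_
    linear_combination (-(v (.inl j) * v (.inr j))) * hi
  · change ∑ j : Fin m, v (.inr j) * v (.inl j) = ∑ j : Fin m, v (.inl j) * v (.inr j)
    exact Finset.sum_congr rfl fun j _ => mul_comm _ _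

/-- If `m` is even then `-1 ∈ Ω⁺_{2m}`. -/
theorem exists_of_even {F : Type*} [Field F] (m : ℕ) (hm : Even m) :
    ∃ g : ↥(Cfsg.isometryGroup F (Cfsg.quadFormPlus m F)),
      g ∈ Cfsg.Omega F (Cfsg.quadFormPlus m F) ∧
      ((g : Matrix.GeneralLinearGroup (Fin m ⊕ Fin m) F) :
        Matrix (Fin m ⊕ Fin m) (Fin m ⊕ Fin m) F) = -1 := by
  obtain ⟨σ, ε, hσ, hε, hεσ⟩ := exists_sign_involution F hm
  let L : (Fin m ⊕ Fin m → F) →ₗ[F] (Fin m ⊕ Fin m → F) :=
    { toFun := fun v => Sum.elim (fun j => ε j * v (.inl (σ j))) (fun j => ε j * v (.inr (σ j)))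
      map_add' := fun v w => by
        funext j
        rcases j with j | j <;> simp [mul_add]
      map_smul' := fun c v => by
        funext j
        rcases j with j | j <;> simp <;> ring }
  let M : (Fin m ⊕ Fin m → F) →ₗ[F] (Fin m ⊕ Fin m → F) :=
    { toFun := fun v => Sum.elim (fun j => ε j * v (.inl j)) (fun j => ε j * v (.inr j))
      map_add' := fun v w => by
        funext j
        rcases j with j | j <;> simp [mul_add]
      map_smul' := fun c v => by
        funext j
        rcases j with j | j <;> simp <;> ring }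
  refine exists_of_anticomm _ L M (fun v => ?_) (fun v => ?_) (fun v => ?_) (fun v => ?_)
    (fun v => ?_)
  · funext j
    rcases j with j | j
    · change ε j * (ε (σ j) * v (.inl (σ (σ j)))) = -v (.inl j)
      rw [hσ, hεσ]
      linear_combination (-v (.inl j)) * hε j
    · change ε j * (ε (σ j) * v (.inr (σ (σ j)))) = -v (.inr j)
      rw [hσ, hεσ]
      linear_combination (-v (.inr j)) * hε j
  · funext j
    rcases j with j | j
    · change ε j * (ε j * v (.inl j)) = v (.inl j)
      linear_combination (v (.inl j)) * hε j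
    · change ε j * (ε j * v (.inr j)) = v (.inr j)
      linear_combination (v (.inr j)) * hε j
  · funext j
    rcases j with j | j
    · change ε j * (ε (σ j) * v (.inl (σ j))) = -(ε j * (ε j * v (.inl (σ j))))
      rw [hεσ]; ring
    · change ε j * (ε (σ j) * v (.inr (σ j))) = -(ε j * (ε j * v (.inr (σ j))))
      rw [hεσ]; ring
  · change ∑ j : Fin m, (ε j * v (.inl (σ j))) * (ε j * v (.inr (σ j))) =
      ∑ j : Fin m, v (.inl j) * v (.inr j)
    rw [← Equiv.sum_comp σ (fun j => v (.inl j) * v (.inr j))]
    refine Finset.sum_congr rfl fun j _ => ?_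
    linear_combination (v (.inl (σ j)) * v (.inr (σ j))) * hε j
  · change ∑ j : Fin m, (ε j * v (.inl j)) * (ε j * v (.inr j)) =
      ∑ j : Fin m, v (.inl j) * v (.inr j)
    refine Finset.sum_congr rfl fun j _ => ?_
    linear_combination (v (.inl j) * v (.inr j)) * hε j

/-- −1 ∈ Ω⁺_2m(q) iff q^m ≡ 1 (mod 4), for q odd and m ≥ 1 (so that in the other case SO⁺_2m(q) = 2 × Ω⁺_2m(q)). -/
theorem result {F : Type*} [Field F] [Fintype F] {q : ℕ} (hF : Fintype.card F = q) (hodd : Odd q) (m : ℕ) (hm : 1 ≤ m) : (∃ g : ↥(Cfsg.isometryGroup F (Cfsg.quadFormPlus m F)), g ∈ Cfsg.Omega F (Cfsg.quadFormPlus m F) ∧ ((g : Matrix.GeneralLinearGroup (Fin m ⊕ Fin m) F) : Matrix (Fin m ⊕ Fin m) (Fin m ⊕ Fin m) F) = -1) ↔ q ^ m % 4 = 1 := by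
  classical
  have h2 : (2 : F) ≠ 0 := by
    have hchar : ringChar F ≠ 2 := by
      intro h
      have := FiniteField.even_card_of_char_two h
      rw [hF] at this
      rw [Nat.odd_iff] at hodd
      omega
    exact Ring.two_ne_zero hchar
  constructor
  · intro h
    have h4 := four_dvd_card_of_mem_Omega h2 (Cfsg.quadFormPlus m F) 1 (by
      simp [Cfsg.quadFormPlus]) h
    have hcount := card_hyperbolic (fun _ : Unit => (0 : F)) m 1
    have he : Fintype.card {v : Fin m ⊕ Fin m → F // Cfsg.quadFormPlus m F v = 1} =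
        Fintype.card {p : (Fin m → F) × ((Fin m → F) × Unit) //
          ∑ i, p.1 i * p.2.1 i + (0 : F) = 1} := by
      refine Fintype.card_congr ⟨fun v => ⟨(fun i => v.1 (.inl i), fun i => v.1 (.inr i), ()), ?_⟩,
        fun p => ⟨Sum.elim p.1.1 p.1.2.1, ?_⟩, fun v => ?_, fun p => ?_⟩
      · rw [add_zero]; exact v.2
      · have := p.2
        rw [add_zero] at this
        exact this
      · apply Subtype.ext
        funext j
        rcases j with j | j <;> rfl
      · rfl
    rw [he] at h4
    have h0 : Fintype.card {s : Unit // (0 : F) = 1} = 0 := by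
      rw [Fintype.card_eq_zero_iff]
      exact ⟨fun s => zero_ne_one s.2⟩
    rw [h0, mul_zero, add_zero, Fintype.card_unit, mul_one, mul_one, hF] at hcount
    obtain ⟨t, ht⟩ := h4
    rw [ht] at hcount
    have hqm : q ^ m % 2 = 1 := Nat.odd_iff.mp (hodd.pow)
    have h3 : q ^ (2 * m) = q ^ m * q ^ m := by rw [two_mul, pow_add]
    rw [h3] at hcount
    generalize q ^ m = x at hcount hqm ⊢
    have h5 : x % 4 = 1 ∨ x % 4 = 3 := by omega
    rcases h5 with h5 | h5
    · exact h5
    · exfalso
      have h6 : x * x % 4 = 1 := by rw [Nat.mul_mod, h5]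
      have h7 : (q * (4 * t)) % 4 = 0 := by
        rw [show q * (4 * t) = 4 * (q * t) by ring]; simp
      omega
  · intro h
    rcases Nat.even_or_odd m with hme | hmo
    · exact exists_of_even m hme
    · have hq : q % 4 = 1 := by
        have hq2 : q % 2 = 1 := Nat.odd_iff.mp hodd
        have h5 : q % 4 = 1 ∨ q % 4 = 3 := by omega
        rcases h5 with h5 | h5
        · exact h5
        · exfalso
          obtain ⟨k, rfl⟩ := hmo
          have h6 : q * q % 4 = 1 := by rw [Nat.mul_mod, h5]
          have h7 : q ^ (2 * k + 1) % 4 = 3 := by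
            rw [pow_succ, pow_mul, pow_two, Nat.mul_mod, Nat.pow_mod, h6, h5]
            simp
          omega
      have hsq : IsSquare (-1 : F) := by
        rw [FiniteField.isSquare_neg_one_iff, hF, hq]
        norm_num
      obtain ⟨i, hi⟩ := hsq
      exact exists_of_sq m i hi.symm

end Cfsg.Agent.S0790
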