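import Cfsg.Statements.S0293
import Cfsg.Agent.LieClassical.OmegaReindex
import Cfsg.Agent.LieClassical.PomegaCard
import Cfsg.Agent.S0287
import Cfsg.Agent.S0788
import Cfsg.Agent.S0789
import Cfsg.Agent.S0790

set_option autoImplicit false
open Cfsg

namespace Cfsg.Agent.S0293

open Cfsg.Agent.LieClassical.OmegaReindex Cfsg.Agent.LieClassical.PomegaCard

/-- gcd(4, q^m - 1) |PΩ^+_{2m}(q)| = q^(m(m-1)) (q^m - 1) prod_{i=1}^{m-1} (q^(2i) - 1), m at least 4 (type D_m). -/
theorem result {F : Type*} [Field F] [Fintype F] {q : ℕ} (hF : Fintype.card F = q) (m : ℕ) (hm : 4 ≤ m) : Nat.gcd 4 (q ^ m - 1) * Nat.card (Cfsg.POmega F (Cfsg.quadFormPlus m F)) = q ^ (m * (m - 1)) * (q ^ m - 1) * ∏ i ∈ Finset.range (m - 1), (q ^ (2 * (i + 1)) - 1) := by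
  have hcard := Cfsg.Agent.S0287.result hF m (by omega)
  rw [mul_assoc, mul_assoc] at hcard
  rw [← mul_assoc (q ^ (m * (m - 1)))] at hcard
  have hn : Fintype.card (Fin m ⊕ Fin m) = 2 * m := by simp; ring
  have hQ : (QuadraticMap.polarBilin (quadPlus m F)).Nondegenerate := quadPlus_nondegenerate
  have hs := quadPlus_isotropic (m := m) (F := F) (by omega)
  have hq1 : 1 ≤ q ^ m := Nat.one_le_pow _ _ (hF ▸ Fintype.card_pos)
  rw [← coe_quadPlus] at hcard ⊢
  by_cases h2 : (2 : F) = 0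
  · have hch : CharP F 2 := CharTwo.of_one_ne_zero_of_two_eq_zero one_ne_zero h2
    have hi := index_omega_of_fin hn (fun Q' hQ' => Cfsg.Agent.S0789.result (by omega) Q' hQ'
      (Or.inr (by omega))) (quadPlus m F) hQ
    have hcp := card_pomega_two h2 (quadPlus m F) hQ (by omega) hs hi hcard
    have hev : q % 2 = 0 := by
      rw [← Nat.even_iff, ← Nat.not_odd_iff_even, ← hF, odd_card_iff]
      exact not_not.2 h2
    have hqm : q ^ m % 2 = 0 := by
      rw [Nat.pow_mod, hev, Nat.zero_pow (by omega)]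
    rw [gcd_four_of_odd (by omega), one_mul, hcp]
  · have hi := index_omega_of_fin hn (fun Q' hQ' => Cfsg.Agent.S0788.result h2 (by omega) Q' hQ')
      (quadPlus m F) hQ
    have hodd : Odd q := by rw [← hF, odd_card_iff]; exact h2
    have h790 := Cfsg.Agent.S0790.result hF hodd m (by omega)
    rw [← coe_quadPlus] at h790
    have hoddm : q ^ m % 2 = 1 := Nat.odd_iff.1 hodd.pow
    by_cases h1 : q ^ m % 4 = 1
    · rw [gcd_four_of_dvd (by omega)]
      exact card_pomega_of_mem h2 (quadPlus m F) hQ (by omega) hs hi (h790.2 h1) hcard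
    · rw [gcd_four_of_two (by omega)]
      exact card_pomega_of_not_mem (quadPlus m F) hQ (by omega) hs hi
        (fun h => h1 (h790.1 h)) hcard

end Cfsg.Agent.S0293
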