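import Cfsg.Statements.S0791
-- import your own Cfsg.Agent.* helpers here
import Cfsg.Agent.ClassicalGeometry.NegOneOmega

set_option autoImplicit false
open Cfsg

namespace Cfsg.Agent.S0791

open Cfsg.Agent.ClassicalGeometry.NegOneOmega

/-- If `k` is even and `4 b - a²` is a non-zero square then `-1 ∈ Ω(quadFormMinus k a b)`. -/
theorem exists_of_even {F : Type*} [Field F] (k : ℕ) (hk : Even k) (h2 : (2 : F) ≠ 0) (a b s : F)
    (hs : s * s = 4 * b - a ^ 2) (hs0 : s ≠ 0) :
    ∃ g : ↥(Cfsg.isometryGroup F (Cfsg.quadFormMinus k F a b)),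
      g ∈ Cfsg.Omega F (Cfsg.quadFormMinus k F a b) ∧
      ((g : Matrix.GeneralLinearGroup ((Fin k ⊕ Fin k) ⊕ Fin 2) F) :
        Matrix ((Fin k ⊕ Fin k) ⊕ Fin 2) ((Fin k ⊕ Fin k) ⊕ Fin 2) F) = -1 := by
  obtain ⟨σ, ε, hσ, hε, hεσ⟩ := exists_sign_involution F hk
  let L : ((Fin k ⊕ Fin k) ⊕ Fin 2 → F) →ₗ[F] ((Fin k ⊕ Fin k) ⊕ Fin 2 → F) :=
    { toFun := fun v => Sum.elim (Sum.elim (fun j => ε j * v (.inl (.inl (σ j))))
          (fun j => ε j * v (.inl (.inr (σ j)))))
          ![(-a * v (.inr 0) - 2 * b * v (.inr 1)) / s, (2 * v (.inr 0) + a * v (.inr 1)) / s]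
      map_add' := fun v w => by
        funext j
        rcases j with (j | j) | j
        · simp [mul_add]
        · simp [mul_add]
        · fin_cases j
          · simp; ring
          · simp; ring
      map_smul' := fun c v => by
        funext j
        rcases j with (j | j) | j
        · simp; ring
        · simp; ring
        · fin_cases j
          · simp; ring
          · simp; ring }
  let M : ((Fin k ⊕ Fin k) ⊕ Fin 2 → F) →ₗ[F] ((Fin k ⊕ Fin k) ⊕ Fin 2 → F) :=
    { toFun := fun v => Sum.elim (Sum.elim (fun j => ε j * v (.inl (.inl j)))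
          (fun j => ε j * v (.inl (.inr j))))
          ![v (.inr 0) + a * v (.inr 1), -v (.inr 1)]
      map_add' := fun v w => by
        funext j
        rcases j with (j | j) | j
        · simp [mul_add]
        · simp [mul_add]
        · fin_cases j
          · simp; ring
          · simp; ring
      map_smul' := fun c v => by
        funext j
        rcases j with (j | j) | j
        · simp; ring
        · simp; ring
        · fin_cases j
          · simp; ring
          · simp }
  refine exists_of_anticomm _ L M (fun v => ?_) (fun v => ?_) (fun v => ?_) (fun v => ?_)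
    (fun v => ?_)
  · funext j
    rcases j with (j | j) | j
    · change ε j * (ε (σ j) * v (.inl (.inl (σ (σ j))))) = -v (.inl (.inl j))
      rw [hσ, hεσ]
      linear_combination (-v (.inl (.inl j))) * hε j
    · change ε j * (ε (σ j) * v (.inl (.inr (σ (σ j))))) = -v (.inl (.inr j))
      rw [hσ, hεσ]
      linear_combination (-v (.inl (.inr j))) * hε j
    · fin_cases j
      · change (-a * ((-a * v (.inr 0) - 2 * b * v (.inr 1)) / s) -
          2 * b * ((2 * v (.inr 0) + a * v (.inr 1)) / s)) / s = -v (.inr 0)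
        field_simp
        linear_combination (v (.inr 0)) * hs
      · change (2 * ((-a * v (.inr 0) - 2 * b * v (.inr 1)) / s) +
          a * ((2 * v (.inr 0) + a * v (.inr 1)) / s)) / s = -v (.inr 1)
        field_simp
        linear_combination (v (.inr 1)) * hs
  · funext j
    rcases j with (j | j) | j
    · change ε j * (ε j * v (.inl (.inl j))) = v (.inl (.inl j))
      linear_combination (v (.inl (.inl j))) * hε j
    · change ε j * (ε j * v (.inl (.inr j))) = v (.inl (.inr j))
      linear_combination (v (.inl (.inr j))) * hε j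
    · fin_cases j
      · change v (.inr 0) + a * v (.inr 1) + a * -v (.inr 1) = v (.inr 0)
        ring
      · change -(-v (.inr 1)) = v (.inr 1)
        ring
  · funext j
    rcases j with (j | j) | j
    · change ε j * (ε (σ j) * v (.inl (.inl (σ j)))) = -(ε j * (ε j * v (.inl (.inl (σ j)))))
      rw [hεσ]; ring
    · change ε j * (ε (σ j) * v (.inl (.inr (σ j)))) = -(ε j * (ε j * v (.inl (.inr (σ j)))))
      rw [hεσ]; ring
    · fin_cases j
      · change (-a * (v (.inr 0) + a * v (.inr 1)) - 2 * b * -v (.inr 1)) / s =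
          -((-a * v (.inr 0) - 2 * b * v (.inr 1)) / s + a * ((2 * v (.inr 0) + a * v (.inr 1)) / s))
        ring
      · change (2 * (v (.inr 0) + a * v (.inr 1)) + a * -v (.inr 1)) / s =
          -(-((2 * v (.inr 0) + a * v (.inr 1)) / s))
        ring
  · change (∑ j : Fin k, (ε j * v (.inl (.inl (σ j)))) * (ε j * v (.inl (.inr (σ j))))) +
      (((-a * v (.inr 0) - 2 * b * v (.inr 1)) / s) ^ 2 +
        a * ((-a * v (.inr 0) - 2 * b * v (.inr 1)) / s) * ((2 * v (.inr 0) + a * v (.inr 1)) / s) +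
        b * ((2 * v (.inr 0) + a * v (.inr 1)) / s) ^ 2) =
      (∑ j : Fin k, v (.inl (.inl j)) * v (.inl (.inr j))) +
        (v (.inr 0) ^ 2 + a * v (.inr 0) * v (.inr 1) + b * v (.inr 1) ^ 2)
    congr 1
    · rw [← Equiv.sum_comp σ (fun j => v (.inl (.inl j)) * v (.inl (.inr j)))]
      refine Finset.sum_congr rfl fun j _ => ?_
      linear_combination (v (.inl (.inl (σ j))) * v (.inl (.inr (σ j)))) * hε j
    · field_simp
      linear_combination (-(v (.inr 0) ^ 2 + a * v (.inr 0) * v (.inr 1) + b * v (.inr 1) ^ 2)) * hs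
  · change (∑ j : Fin k, (ε j * v (.inl (.inl j))) * (ε j * v (.inl (.inr j)))) +
      ((v (.inr 0) + a * v (.inr 1)) ^ 2 +
        a * (v (.inr 0) + a * v (.inr 1)) * (-v (.inr 1)) + b * (-v (.inr 1)) ^ 2) =
      (∑ j : Fin k, v (.inl (.inl j)) * v (.inl (.inr j))) +
        (v (.inr 0) ^ 2 + a * v (.inr 0) * v (.inr 1) + b * v (.inr 1) ^ 2)
    congr 1
    · refine Finset.sum_congr rfl fun j _ => ?_
      linear_combination (v (.inl (.inl j)) * v (.inl (.inr j))) * hε j
    · ring

/-- −1 ∈ Ω⁻_2m(q) iff q^m ≡ −1 (mod 4), for q odd and m ≥ 1; for the minus-type form quadFormMinus (m−1) with anisotropic binary part. -/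
theorem result {F : Type*} [Field F] [Fintype F] {q : ℕ} (hF : Fintype.card F = q) (hodd : Odd q) (m : ℕ) (hm : 1 ≤ m) (a b : F) (hab : ∀ z₁ z₂ : F, z₁ ^ 2 + a * z₁ * z₂ + b * z₂ ^ 2 = 0 → z₁ = 0 ∧ z₂ = 0) : (∃ g : ↥(Cfsg.isometryGroup F (Cfsg.quadFormMinus (m - 1) F a b)), g ∈ Cfsg.Omega F (Cfsg.quadFormMinus (m - 1) F a b) ∧ ((g : Matrix.GeneralLinearGroup ((Fin (m - 1) ⊕ Fin (m - 1)) ⊕ Fin 2) F) : Matrix ((Fin (m - 1) ⊕ Fin (m - 1)) ⊕ Fin 2) ((Fin (m - 1) ⊕ Fin (m - 1)) ⊕ Fin 2) F) = -1) ↔ q ^ m % 4 = 3 := by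
  classical
  obtain ⟨k, rfl⟩ : ∃ k, m = k + 1 := ⟨m - 1, by omega⟩
  rw [Nat.add_sub_cancel]
  have hq2 : q % 2 = 1 := Nat.odd_iff.mp hodd
  have h2 : (2 : F) ≠ 0 := by
    have hchar : ringChar F ≠ 2 := by
      intro h
      have := FiniteField.even_card_of_char_two h
      rw [hF] at this
      omega
    exact Ring.two_ne_zero hchar
  constructor
  · intro h
    have h4 := four_dvd_card_of_mem_Omega h2 (Cfsg.quadFormMinus k F a b) 1 (by
      simp [Cfsg.quadFormMinus]) h
    have hcount := card_hyperbolic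
      (fun z : Fin 2 → F => z 0 ^ 2 + a * z 0 * z 1 + b * z 1 ^ 2) k 1
    have he : Fintype.card {v : (Fin k ⊕ Fin k) ⊕ Fin 2 → F // Cfsg.quadFormMinus k F a b v = 1} =
        Fintype.card {p : (Fin k → F) × ((Fin k → F) × (Fin 2 → F)) //
          ∑ i, p.1 i * p.2.1 i + (p.2.2 0 ^ 2 + a * p.2.2 0 * p.2.2 1 + b * p.2.2 1 ^ 2) = 1} := by
      refine Fintype.card_congr ⟨fun v => ⟨(fun i => v.1 (.inl (.inl i)),
        fun i => v.1 (.inl (.inr i)), fun i => v.1 (.inr i)), v.2⟩,
        fun p => ⟨Sum.elim (Sum.elim p.1.1 p.1.2.1) p.1.2.2, p.2⟩, fun v => ?_, fun p => rfl⟩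
      apply Subtype.ext
      funext j
      rcases j with (j | j) | j <;> rfl
    rw [he] at h4
    have hbin := card_binary h2 a b hab
    rw [hbin, Fintype.card_fun, Fintype.card_fin, hF] at hcount
    obtain ⟨t, ht⟩ := h4
    rw [ht] at hcount
    have h5 : q ^ k * q ^ 2 = q ^ (k + 1) * q := by ring
    have h6 : q ^ (2 * k) * q ^ 2 = q ^ (k + 1) * q ^ (k + 1) := by ring
    have h7 : q * (4 * t) = 4 * (q * t) := by ring
    rw [h5, h6, h7] at hcount
    have hqm : q ^ (k + 1) % 2 = 1 := Nat.odd_iff.mp (hodd.pow)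
    generalize q ^ (k + 1) = x at hcount hqm ⊢
    have h8 : x * (q + 1) = x * q + x := by ring
    rw [h8] at hcount
    have h9 : 4 * (q * t) = x * x + x := by omega
    have h10 : x % 4 = 1 ∨ x % 4 = 3 := by omega
    rcases h10 with h10 | h10
    · exfalso
      have h11 : x * x % 4 = 1 := by rw [Nat.mul_mod, h10]
      omega
    · exact h10
  · intro h
    have h5 : q % 4 = 3 := by
      have h5 : q % 4 = 1 ∨ q % 4 = 3 := by omega
      rcases h5 with h5 | h5
      · exfalso
        rw [Nat.pow_mod, h5, one_pow] at h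
        omega
      · exact h5
    have hk : Even k := by
      by_contra hk
      rw [Nat.not_even_iff_odd] at hk
      obtain ⟨l, rfl⟩ := hk
      have h6 : q * q % 4 = 1 := by rw [Nat.mul_mod, h5]
      have h7 : q ^ (2 * l + 1 + 1) % 4 = 1 := by
        rw [show 2 * l + 1 + 1 = 2 * (l + 1) by ring, pow_mul, pow_two, Nat.pow_mod, h6]
        simp
      omega
    -- `a² - 4 b` is a non-square, `-1` is a non-square, so `4 b - a²` is a square
    have hns : ¬ IsSquare (a ^ 2 - 4 * b) := by
      rintro ⟨s, hs⟩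
      have := hab (s - a) 2 (by linear_combination (-1 : F) * hs)
      exact h2 this.2
    have hns1 : ¬ IsSquare (-1 : F) := by
      rw [FiniteField.isSquare_neg_one_iff, hF, h5]
      simp
    have hd0 : a ^ 2 - 4 * b ≠ 0 := fun h0 => hns (by rw [h0]; exact ⟨0, by simp⟩)
    have hsq : IsSquare (4 * b - a ^ 2) := by
      rw [← quadraticChar_neg_one_iff_not_isSquare] at hns hns1
      have h0 : (4 * b - a ^ 2 : F) ≠ 0 := fun h => hd0 (by linear_combination (-1 : F) * h)
      rw [← quadraticChar_one_iff_isSquare h0,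
        show (4 * b - a ^ 2 : F) = (-1) * (a ^ 2 - 4 * b) by ring, map_mul, hns, hns1]
      norm_num
    obtain ⟨s, hs⟩ := hsq
    refine exists_of_even k hk h2 a b s hs.symm ?_
    rintro rfl
    exact hd0 (by linear_combination (-1 : F) * hs)

end Cfsg.Agent.S0791
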