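import Cfsg.Statements.S0294
import Cfsg.Agent.LieClassical.OmegaReindex
import Cfsg.Agent.LieClassical.PomegaCard
import Cfsg.Agent.S0288
import Cfsg.Agent.S0788
import Cfsg.Agent.S0789
import Cfsg.Agent.S0791

set_option autoImplicit false
open Cfsg

namespace Cfsg.Agent.S0294

open Cfsg.Agent.LieClassical.OmegaReindex Cfsg.Agent.LieClassical.PomegaCard

/-- gcd(4, q^m + 1) |PΩ^-_{2m}(q)| = q^(m(m-1)) (q^m + 1) prod_{i=1}^{m-1} (q^(2i) - 1), m at least 4 (type ²D_m). -/
theorem result {F : Type*} [Field F] [Fintype F] {q : ℕ} (hF : Fintype.card F = q) (m : ℕ) (hm : 4 ≤ m) (a b : F) (hab : ∀ z₁ z₂ : F, z₁ ^ 2 + a * z₁ * z₂ + b * z₂ ^ 2 = 0 → z₁ = 0 ∧ z₂ = 0) : Nat.gcd 4 (q ^ m + 1) * Nat.card (Cfsg.POmega F (Cfsg.quadFormMinus (m - 1) F a b)) = q ^ (m * (m - 1)) * (q ^ m + 1) * ∏ i ∈ Finset.range (m - 1), (q ^ (2 * (i + 1)) - 1) := by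
  have hcard := Cfsg.Agent.S0288.result hF m (by omega) a b hab
  rw [mul_assoc, mul_assoc] at hcard
  rw [← mul_assoc (q ^ (m * (m - 1)))] at hcard
  have hn : Fintype.card ((Fin (m - 1) ⊕ Fin (m - 1)) ⊕ Fin 2) = 2 * m := by
    simp only [Fintype.card_sum, Fintype.card_fin]; omega
  have hQ : (QuadraticMap.polarBilin (quadMinus (m - 1) F a b)).Nondegenerate :=
    quadMinus_nondegenerate hab
  have hs := quadMinus_isotropic (m := m - 1) (F := F) (by omega) a b
  rw [← coe_quadMinus] at hcard ⊢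
  by_cases h2 : (2 : F) = 0
  · have hch : CharP F 2 := CharTwo.of_one_ne_zero_of_two_eq_zero one_ne_zero h2
    have hi := index_omega_of_fin hn (fun Q' hQ' => Cfsg.Agent.S0789.result (by omega) Q' hQ'
      (Or.inr (by omega))) (quadMinus (m - 1) F a b) hQ
    have hcp := card_pomega_two h2 (quadMinus (m - 1) F a b) hQ (by omega) hs hi hcard
    have hev : q % 2 = 0 := by
      rw [← Nat.even_iff, ← Nat.not_odd_iff_even, ← hF, odd_card_iff]
      exact not_not.2 h2
    have hqm : q ^ m % 2 = 0 := by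
      rw [Nat.pow_mod, hev, Nat.zero_pow (by omega)]
    rw [gcd_four_of_odd (by omega), one_mul, hcp]
  · have hi := index_omega_of_fin hn (fun Q' hQ' => Cfsg.Agent.S0788.result h2 (by omega) Q' hQ')
      (quadMinus (m - 1) F a b) hQ
    have hodd : Odd q := by rw [← hF, odd_card_iff]; exact h2
    have h791 := Cfsg.Agent.S0791.result hF hodd m (by omega) a b hab
    rw [← coe_quadMinus] at h791
    have hoddm : q ^ m % 2 = 1 := Nat.odd_iff.1 hodd.pow
    by_cases h1 : q ^ m % 4 = 3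
    · rw [gcd_four_of_dvd (by omega)]
      exact card_pomega_of_mem h2 (quadMinus (m - 1) F a b) hQ (by omega) hs hi (h791.2 h1) hcard
    · rw [gcd_four_of_two (by omega)]
      exact card_pomega_of_not_mem (quadMinus (m - 1) F a b) hQ (by omega) hs hi
        (fun h => h1 (h791.1 h)) hcard

end Cfsg.Agent.S0294
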