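import Cfsg.Statements.S1697
import Cfsg.Agent.Fischer.Fi23H
import Cfsg.Agent.SporRec.Fi23Index

set_option autoImplicit false
open Cfsg

namespace Cfsg.Agent.S1697

theorem H_eq' : Cfsg.Agent.Fischer.Fi23Orb.H = Cfsg.Agent.SporRec.Fi23Index.H := by
  rw [Cfsg.Agent.Fischer.Fi23H.H_eq]
  unfold Cfsg.Agent.SporRec.Fi23Index.H
  congr 1
  ext x
  constructor
  · rintro ⟨k, rfl⟩
    refine ⟨Cfsg.Agent.Fischer.Fi23H.node k, ?_, rfl⟩
    revert k
    simp only [Cfsg.Agent.SporRec.Fi23Index.S, Set.mem_ofPred_eq]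
    decide
  · rintro ⟨y, hy, rfl⟩
    revert hy
    cases y <;> intro hy
    all_goals first
      | exact ⟨0, rfl⟩
      | exact ⟨1, rfl⟩
      | exact ⟨2, rfl⟩
      | exact ⟨3, rfl⟩
      | exact ⟨4, rfl⟩
      | exact ⟨5, rfl⟩
      | exact ⟨6, rfl⟩
      | exact ⟨7, rfl⟩
      | exact ⟨8, rfl⟩
      | exact absurd rfl hy

/-- The presented Fischer group Fi23 is simple of the expected order (that is, it is a simple group of the order of the Fischer group Fi₂₃). -/
theorem result : Cfsg.IsFi23 Cfsg.Spor.Fi23 := by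
  have h : Cfsg.Agent.Fischer.Fi23Orb.H.index = 31671 := by
    rw [H_eq']; exact Cfsg.Agent.SporRec.Fi23Index.index_H
  exact Cfsg.Agent.Fischer.Fi23H.isFi23_of_index (by rw [h]) (by rw [h]; decide)

end Cfsg.Agent.S1697
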