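import Cfsg.Statements.S0308

set_option autoImplicit false
open Cfsg

namespace Cfsg.Agent.S0308

section aux

variable {G : Type*} [Group G] (P : Cfsg.BNPair G)

theorem inter_le_N : P.B ⊓ P.N ≤ P.N := inf_le_right

/-- closure rule for double cosets of elements of `N` under left multiplication by `b ∈ B` -/
theorem mul_left_B {b g : G} (hb : b ∈ P.B) (hg : ∃ n ∈ P.N, g ∈ DoubleCoset.doubleCoset n (P.B : Set G) P.B) :
    ∃ n ∈ P.N, b * g ∈ DoubleCoset.doubleCoset n (P.B : Set G) P.B := by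
  obtain ⟨n, hn, hg⟩ := hg
  refine ⟨n, hn, ?_⟩
  rw [DoubleCoset.mem_doubleCoset] at hg ⊢
  obtain ⟨x, hx, y, hy, rfl⟩ := hg
  exact ⟨b * x, P.B.mul_mem hb hx, y, hy, by group⟩

theorem mul_left_S {s g : G} (hs : s ∈ P.S) (hg : ∃ n ∈ P.N, g ∈ DoubleCoset.doubleCoset n (P.B : Set G) P.B) :
    ∃ n ∈ P.N, s * g ∈ DoubleCoset.doubleCoset n (P.B : Set G) P.B := by
  obtain ⟨n, hn, hg⟩ := hg
  rw [DoubleCoset.mem_doubleCoset] at hg
  obtain ⟨x, hx, y, hy, rfl⟩ := hg
  rcases P.mul_mem_union s hs n hn x hx with h | h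
  · refine ⟨s * n, P.N.mul_mem (P.subset hs) hn, ?_⟩
    rw [DoubleCoset.mem_doubleCoset] at h ⊢
    obtain ⟨u, hu, v, hv, e⟩ := h
    refine ⟨u, hu, v * y, P.B.mul_mem hv hy, ?_⟩
    calc s * (x * n * y) = (s * x * n) * y := by group
      _ = _ := by rw [e]; group
  · refine ⟨n, hn, ?_⟩
    rw [DoubleCoset.mem_doubleCoset] at h ⊢
    obtain ⟨u, hu, v, hv, e⟩ := h
    refine ⟨u, hu, v * y, P.B.mul_mem hv hy, ?_⟩
    calc s * (x * n * y) = (s * x * n) * y := by group
      _ = _ := by rw [e]; group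

theorem inv_eq_mul {s : G} : s⁻¹ = (s * s)⁻¹ * s := by group

theorem mul_left_S_inv {s g : G} (hs : s ∈ P.S) (hg : ∃ n ∈ P.N, g ∈ DoubleCoset.doubleCoset n (P.B : Set G) P.B) :
    ∃ n ∈ P.N, s⁻¹ * g ∈ DoubleCoset.doubleCoset n (P.B : Set G) P.B := by
  have h1 := mul_left_S P hs hg
  have h2 := mul_left_B P (P.B.inv_mem (P.sq_mem s hs)) h1
  have e : (s * s)⁻¹ * (s * g) = s⁻¹ * g := by group
  rwa [e] at h2

/-- `B` and `S` generate `G` -/
theorem closure_union_eq_top : Subgroup.closure ((P.B : Set G) ∪ P.S) = ⊤ := by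
  rw [eq_top_iff, ← P.sup_eq_top]
  refine sup_le ?_ ?_
  · intro x hx
    exact Subgroup.subset_closure (Or.inl hx)
  · rw [← P.closure_sup]
    refine sup_le ?_ ?_
    · exact Subgroup.closure_mono Set.subset_union_right
    · intro x hx
      exact Subgroup.subset_closure (Or.inl hx.1)

end aux

/-- Bruhat decomposition, existence part: every element of a group with a (B,N)-pair lies in some double
coset `B n B` with `n ∈ N`. -/
theorem result {G : Type*} [Group G] (P : Cfsg.BNPair G) (g : G) :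
    ∃ n ∈ P.N, g ∈ DoubleCoset.doubleCoset n (P.B : Set G) P.B := by
  have hg : g ∈ Subgroup.closure ((P.B : Set G) ∪ P.S) := by
    rw [closure_union_eq_top P]; exact Subgroup.mem_top g
  induction hg using Subgroup.closure_induction_left with
  | one => exact ⟨1, P.N.one_mem, DoubleCoset.mem_doubleCoset_self P.B P.B 1⟩
  | mul_left x hx y _ ih =>
    rcases hx with hx | hx
    · exact mul_left_B P hx ih
    · exact mul_left_S P hx ih
  | inv_mul_cancel x hx y _ ih =>
    rcases hx with hx | hx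
    · exact mul_left_B P (P.B.inv_mem hx) ih
    · exact mul_left_S_inv P hx ih

end Cfsg.Agent.S0308
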