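import Cfsg.Statements.S0313
import Cfsg.Agent.S0308
import Cfsg.Agent.S0318

set_option autoImplicit false
open Cfsg

namespace Cfsg.Agent.S0313

/-- An element normalising into a subgroup containing `B` lies in it: if `B ≤ M` and
`g⁻¹ B g ≤ M`, then `g ∈ M`. -/
theorem mem_of_conj_borel_le {G : Type*} [Group G] (P : Cfsg.BNPair G) (M : Subgroup G)
    (hM : P.B ≤ M) (g : G) (hg : ∀ b ∈ P.B, g⁻¹ * b * g ∈ M) : g ∈ M := by
  obtain ⟨n, hn, hgn⟩ := Cfsg.Agent.S0308.result P g
  rw [DoubleCoset.mem_doubleCoset] at hgn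
  obtain ⟨b, hb, b', hb', rfl⟩ := hgn
  have hb1 : b ∈ P.B := hb
  have hb1' : b' ∈ P.B := hb'
  have h1 : P.B.map (MulAut.conj n⁻¹).toMonoidHom ≤ M := by
    rintro x ⟨c, hc, rfl⟩
    have h2 := hg (b * c * b⁻¹) (P.B.mul_mem (P.B.mul_mem hb1 hc) (P.B.inv_mem hb1))
    have h3 := M.mul_mem (M.mul_mem (hM hb1') h2) (M.inv_mem (hM hb1'))
    have h4 : b' * ((b * n * b')⁻¹ * (b * c * b⁻¹) * (b * n * b')) * b'⁻¹
        = n⁻¹ * c * n⁻¹⁻¹ := by group
    rw [h4] at h3
    simpa using h3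
  have h5 : n⁻¹ ∈ M := by
    have h6 : P.B ⊔ Subgroup.closure {n⁻¹} ≤ M := by
      rw [Cfsg.Agent.S0318.result P (P.N.inv_mem hn)]
      exact sup_le hM h1
    exact h6 (Subgroup.mem_sup_right (Subgroup.subset_closure rfl))
  exact M.mul_mem (M.mul_mem (hM hb1) (by simpa using M.inv_mem h5)) (hM hb1')

/-- Two standard parabolic subgroups of a group with a (B,N)-pair which are conjugate in `G` coincide. -/
theorem result {G : Type*} [Group G] (P : Cfsg.BNPair G) {J K : Set G}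
    (hJ : J ⊆ P.S) (hK : K ⊆ P.S) (g : G)
    (h : (P.parabolic J).map (MulAut.conj g).toMonoidHom = P.parabolic K) :
    P.parabolic J = P.parabolic K := by
  have hg : g ∈ P.parabolic J := by
    refine mem_of_conj_borel_le P _ le_sup_left g (fun b hb => ?_)
    have hb' : b ∈ P.parabolic K := (le_sup_left : P.B ≤ P.parabolic K) hb
    rw [← h] at hb'
    obtain ⟨x, hx, rfl⟩ := hb'
    have : g⁻¹ * ((MulAut.conj g).toMonoidHom x) * g = x := by
      simp [MulAut.conj_apply, mul_assoc]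
    rw [this]
    exact hx
  rw [← h]
  ext x
  constructor
  · intro hx
    refine ⟨g⁻¹ * x * g, (P.parabolic J).mul_mem ((P.parabolic J).mul_mem
      ((P.parabolic J).inv_mem hg) hx) hg, ?_⟩
    simp [MulAut.conj_apply, mul_assoc]
  · rintro ⟨y, hy, rfl⟩
    have := (P.parabolic J).mul_mem ((P.parabolic J).mul_mem hg hy) ((P.parabolic J).inv_mem hg)
    simpa [MulAut.conj_apply] using this

end Cfsg.Agent.S0313
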