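import Cfsg.Statements.S1033
import Cfsg.Agent.ChevalleyStructure.SimpleChains
import Cfsg.Agent.ChevalleyStructure.Elts

set_option autoImplicit false
open Cfsg

namespace Cfsg.Agent.S1033

open Cfsg.Lie Cfsg.Agent.ChevalleyStructure.Elts in
theorem nMat_mul_nMat_neg {F : Type*} [Field F] {D : ChevalleyDatum} (hD : InList D) (p : ℕ) :
    D.nMat F p 1 * D.nMat F p (-1) = 1 := by
  have h : nG (F := F) hD p 1 * nG hD p (-1) = 1 := by
    rw [nG_def, nG_def]
    have e1 : xG (F := F) hD p 1 * xG hD p (-1) = 1 := by rw [xG_add, add_neg_cancel, xG_zero]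
    have e2 : xG (F := F) hD (D.neg p) (-1⁻¹) * xG hD (D.neg p) (-(-1)⁻¹) = 1 := by
      rw [xG_add, ← xG_zero hD (D.neg p)]
      congr 1
      simp
    calc _ = xG (F := F) hD p 1 * (xG hD (D.neg p) (-1⁻¹) * ((xG hD p 1 * xG hD p (-1)) *
          xG hD (D.neg p) (-(-1)⁻¹))) * xG hD p (-1) := by simp only [mul_assoc]
      _ = 1 := by rw [e1, one_mul, e2, mul_one, e1]
  have h' := congrArg (fun g : GL D.Idx F => (g : Matrix D.Idx D.Idx F)) h
  simpa only [Units.val_mul, coe_nG, Units.val_one] using h'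

/-- `h_p(c)` (for a fundamental root `p = p_{i+1}` and `c ≠ 0`) is diagonal: it fixes each `h_{p_j}` and scales `e_s` by `c^{A_{p,s}}`. -/
theorem result {F : Type*} [Field F] (D : Cfsg.Lie.ChevalleyDatum) (hD : D ∈ [Cfsg.Lie.chevG2, Cfsg.Lie.chevB2, Cfsg.Lie.chevD4, Cfsg.Lie.chevF4, Cfsg.Lie.chevE6, Cfsg.Lie.chevE7, Cfsg.Lie.chevE8]) (i : ℕ) (hi : i < D.rank) (c : F) (hc : c ≠ 0) :
    D.hMat F (D.simple i) c = Matrix.diagonal (Sum.elim (fun _ => (1 : F)) (fun s : Fin D.nroots => c ^ (D.cartan i s))) := by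
  exact Cfsg.Agent.ChevalleyStructure.DiagConj.hMat_eq (Cfsg.Agent.ChevalleyStructure.SimpleChains.hData hD hi)
    (nMat_mul_nMat_neg hD _) hc

end Cfsg.Agent.S1033
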