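import Cfsg.Statements.S1036
import Cfsg.Agent.ChevalleyStructure.Unitriangular
import Cfsg.Agent.S1032
import Cfsg.Agent.S1033
import Cfsg.Agent.S1034

set_option autoImplicit false
open Cfsg

namespace Cfsg.Agent.S1036

open Cfsg.Lie Cfsg.Agent.ChevalleyStructure.Unitriangular

/-- A matrix that normalises every root subgroup (as a family of matrices). -/
def Norm {F : Type*} [Field F] (D : ChevalleyDatum) (M : Matrix D.Idx D.Idx F) : Prop :=
  ∀ s < D.nroots, ∀ t : F, ∃ t' : F, M * D.x F s t = D.x F s t' * M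

theorem norm_one {F : Type*} [Field F] (D : ChevalleyDatum) : Norm D (1 : Matrix D.Idx D.Idx F) :=
  fun _ _ t => ⟨t, by rw [one_mul, mul_one]⟩

theorem norm_mul {F : Type*} [Field F] {D : ChevalleyDatum} {M N : Matrix D.Idx D.Idx F}
    (hM : Norm D M) (hN : Norm D N) : Norm D (M * N) := by
  intro s hs t
  obtain ⟨t1, h1⟩ := hN s hs t
  obtain ⟨t2, h2⟩ := hM s hs t1
  exact ⟨t2, by rw [mul_assoc, h1, ← mul_assoc, h2, mul_assoc]⟩

theorem wordMat_append' {F : Type*} [Field F] (D : ChevalleyDatum) (w1 w2 : List (ℕ × F)) :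
    D.wordMat F (w1 ++ w2) = D.wordMat F w1 * D.wordMat F w2 := by
  show ((w1 ++ w2).map _).prod = (w1.map _).prod * (w2.map _).prod
  rw [List.map_append, List.prod_append]

theorem wordMat_flatMap_induction {F : Type*} [Field F] (D : ChevalleyDatum)
    (P : Matrix D.Idx D.Idx F → Prop) (h1 : P 1) (hmul : ∀ M N, P M → P N → P (M * N))
    (f : ℕ → List (ℕ × F)) (l : List ℕ) (hf : ∀ i ∈ l, P (D.wordMat F (f i))) :
    P (D.wordMat F (l.flatMap f)) := by
  induction l with
  | nil => exact h1
  | cons a l ih =>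
    rw [List.flatMap_cons, wordMat_append']
    exact hmul _ _ (hf a List.mem_cons_self) (ih fun i hi => hf i (List.mem_cons_of_mem _ hi))

/-- `H` normalises `U` and `U ∩ H = 1`; thus `B = UH` is the semidirect product of `U` by `H`. -/
theorem result {F : Type*} [Field F] (D : Cfsg.Lie.ChevalleyDatum) (hD : D ∈ [Cfsg.Lie.chevG2, Cfsg.Lie.chevB2, Cfsg.Lie.chevD4, Cfsg.Lie.chevF4, Cfsg.Lie.chevE6, Cfsg.Lie.chevE7, Cfsg.Lie.chevE8]) :
    D.diagonalSubgroup F ≤ Subgroup.normalizer (D.posUnipotent F : Set (GL D.Idx F)) ∧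
      D.posUnipotent F ⊓ D.diagonalSubgroup F = ⊥ := by
  have hnorm : ∀ g ∈ D.diagonalSubgroup F, Norm D (g : Matrix D.Idx D.Idx F) := by
    intro g hg
    obtain ⟨c, hc, hgc⟩ := S1034.result D hD g hg
    rw [hgc]
    refine wordMat_flatMap_induction D (Norm D) (norm_one D) (fun _ _ => norm_mul) _ _ ?_
    intro i hi s hs t
    have hi' := List.mem_range.mp hi
    exact ⟨_, S1032.result D hD i s hi' hs (c i) (hc i hi') t⟩
  have hdiag : D.diagonalSubgroup F ≤ diagGroup D F := by
    intro g hg
    obtain ⟨c, hc, hgc⟩ := S1034.result D hD g hg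
    show ∀ row col, row ≠ col → (g : Matrix D.Idx D.Idx F) row col = 0
    rw [hgc]
    refine wordMat_flatMap_induction D (fun M => ∀ row col, row ≠ col → M row col = 0)
      (fun row col hrc => Matrix.one_apply_ne hrc) ?_ _ _ ?_
    · intro M N hM hN row col hrc
      rw [Matrix.mul_apply]
      refine Finset.sum_eq_zero fun k _ => ?_
      by_cases hk : row = k
      · subst hk
        rw [hN row col hrc, mul_zero]
      · rw [hM row k hk, zero_mul]
    · intro i hi row col hrc
      have hi' := List.mem_range.mp hi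
      show D.hMat F (D.simple i) (c i) row col = 0
      rw [S1033.result D hD i hi' (c i) (hc i hi')]
      exact Matrix.diagonal_apply_ne _ hrc
  have hconj : ∀ g ∈ D.diagonalSubgroup F, ∀ u ∈ D.posUnipotent F, g * u * g⁻¹ ∈ D.posUnipotent F := by
    intro g hg u hu
    have hle : D.posUnipotent F ≤ (D.posUnipotent F).comap (MulAut.conj g).toMonoidHom := by
      conv_lhs => unfold ChevalleyDatum.posUnipotent
      rw [Subgroup.closure_le]
      rintro v ⟨s, t, hs, hv⟩
      obtain ⟨t', ht'⟩ := hnorm g hg s hs.1 t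
      refine Subgroup.subset_closure ⟨s, t', hs, ?_⟩
      show ((g * v * g⁻¹ : GL D.Idx F) : Matrix D.Idx D.Idx F) = D.x F s t'
      rw [Units.val_mul, Units.val_mul, hv, ht', mul_assoc, Units.mul_inv, mul_one]
    exact hle hu
  constructor
  · intro g hg
    rw [Subgroup.mem_normalizer_iff]
    intro u
    constructor
    · intro hu
      exact hconj g hg u hu
    · intro hu
      have h2 := hconj g⁻¹ (inv_mem hg) _ hu
      have h3 : g⁻¹ * (g * u * g⁻¹) * g⁻¹⁻¹ = u := by group
      rwa [h3] at h2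
  · rw [eq_bot_iff, ← lowerGroup_inf_diagGroup]
    exact inf_le_inf (posUnipotent_le_lowerGroup hD) hdiag

end Cfsg.Agent.S1036
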