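import Cfsg.Statements.S1040
import Cfsg.Agent.S1036
import Cfsg.Agent.ChevalleyStructure.NBlock
import Cfsg.Agent.ChevalleyStructure.UnipMonomial

set_option autoImplicit false
open Cfsg

namespace Cfsg.Agent.S1040

/-- `U ∩ N = 1` and `B ∩ N = UH ∩ N = H`. -/
theorem result {F : Type*} [Field F] (D : Cfsg.Lie.ChevalleyDatum) (hD : D ∈ [Cfsg.Lie.chevG2, Cfsg.Lie.chevB2, Cfsg.Lie.chevD4, Cfsg.Lie.chevF4, Cfsg.Lie.chevE6, Cfsg.Lie.chevE7, Cfsg.Lie.chevE8]) :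
    D.posUnipotent F ⊓ D.monomialSubgroup F = ⊥ ∧ D.borelSubgroup F ⊓ D.monomialSubgroup F = D.diagonalSubgroup F := by
  have hc := Cfsg.Agent.ChevStructure.PosUnip.checkPos_of_mem D hD
  have hN := Cfsg.Agent.ChevalleyStructure.NBlock.isBM_nMat hD F
  have hH := Cfsg.Agent.ChevalleyStructure.NBlock.isBM_diagonal (F := F) hD
  exact ⟨Cfsg.Agent.ChevalleyStructure.UnipMonomial.unipotent_inf_monomial hc hN hH,
    Cfsg.Agent.ChevalleyStructure.UnipMonomial.borel_inf_monomial hc hN hH (Cfsg.Agent.S1036.result D hD).1⟩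

end Cfsg.Agent.S1040
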