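import Cfsg.Statements.S1037
import Cfsg.Agent.ChevalleyStructure.Triangular
import Cfsg.Agent.S1033
import Cfsg.Agent.S1034

set_option autoImplicit false
open Cfsg

namespace Cfsg.Agent.S1037

open Cfsg.Agent.ChevalleyStructure.TriAbstract Cfsg.Agent.ChevalleyStructure.Triangular in
theorem diagonal_le {F : Type*} [Field F] (D : Cfsg.Lie.ChevalleyDatum) (hD : D ∈ [Cfsg.Lie.chevG2, Cfsg.Lie.chevB2, Cfsg.Lie.chevD4, Cfsg.Lie.chevF4, Cfsg.Lie.chevE6, Cfsg.Lie.chevE7, Cfsg.Lie.chevE8]) :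
    D.diagonalSubgroup F ≤ diagSub D.Idx F := by
  intro g hg
  obtain ⟨c, hc, hgc⟩ := Cfsg.Agent.S1034.result D hD g hg
  rw [mem_diagSub']
  rw [hgc]
  have key : ∀ l : List ℕ, (∀ i ∈ l, i < D.rank) → ∃ d : D.Idx → F,
      D.wordMat F (l.flatMap fun i => D.hWord (D.simple i) (c i)) = Matrix.diagonal d := by
    intro l
    induction l with
    | nil =>
      intro _
      refine ⟨fun _ => 1, ?_⟩
      rw [List.flatMap_nil, Matrix.diagonal_one]
      rfl
    | cons i l ih =>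
      intro hl
      obtain ⟨d, hd⟩ := ih fun j hj => hl j (List.mem_cons_of_mem _ hj)
      have hi : i < D.rank := hl i List.mem_cons_self
      have h1 := Cfsg.Agent.S1033.result (F := F) D hD i hi (c i) (hc i hi)
      refine ⟨fun x => (Sum.elim (fun _ => (1 : F)) (fun s : Fin D.nroots => (c i) ^ (D.cartan i s))) x * d x, ?_⟩
      rw [List.flatMap_cons]
      have h2 : D.wordMat F (D.hWord (D.simple i) (c i) ++ l.flatMap fun i => D.hWord (D.simple i) (c i)) =
          D.hMat F (D.simple i) (c i) * D.wordMat F (l.flatMap fun i => D.hWord (D.simple i) (c i)) := by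
        unfold Cfsg.Lie.ChevalleyDatum.hMat Cfsg.Lie.ChevalleyDatum.wordMat
        rw [List.map_append, List.prod_append]
      rw [h2, h1, hd, Matrix.diagonal_mul_diagonal]
  exact key _ fun i hi => List.mem_range.1 hi

/-- `UH ∩ V = 1` and `UH ∩ VH = H`. -/
theorem result {F : Type*} [Field F] (D : Cfsg.Lie.ChevalleyDatum) (hD : D ∈ [Cfsg.Lie.chevG2, Cfsg.Lie.chevB2, Cfsg.Lie.chevD4, Cfsg.Lie.chevF4, Cfsg.Lie.chevE6, Cfsg.Lie.chevE7, Cfsg.Lie.chevE8]) :
    D.borelSubgroup F ⊓ D.negUnipotent F = ⊥ ∧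
      D.borelSubgroup F ⊓ (D.negUnipotent F ⊔ D.diagonalSubgroup F) = D.diagonalSubgroup F :=
  ⟨Cfsg.Agent.ChevalleyStructure.Triangular.borel_inf_neg hD (diagonal_le D hD),
    Cfsg.Agent.ChevalleyStructure.Triangular.borel_inf_neg_sup hD (diagonal_le D hD)⟩

end Cfsg.Agent.S1037
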