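import Cfsg.Statements.S1042
import Cfsg.Agent.ChevalleyStructure.AbstractBN
import Cfsg.Agent.ChevalleyStructure.BNChev
import Cfsg.Agent.S1036
import Cfsg.Agent.S1037
import Cfsg.Agent.S1040
import Cfsg.Agent.S1043
import Cfsg.Agent.S1045

set_option autoImplicit false
open Cfsg

namespace Cfsg.Agent.S1042

open Cfsg.Lie Cfsg.Agent.ChevalleyStructure Cfsg.Agent.ChevalleyStructure.Elts
  Cfsg.Agent.ChevalleyStructure.NConj Cfsg.Agent.ChevalleyStructure.BNChev
open scoped Pointwise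

universe u

section

variable {D : ChevalleyDatum} (hD : InList D) (F : Type u) [Field F]

/-- The complement `U_p` of `X_p` in `U`. -/
def comp (D : ChevalleyDatum) (F : Type u) [Field F] (i : ℕ) : Subgroup (GL D.Idx F) :=
  Subgroup.closure {g : GL D.Idx F | ∃ (s : ℕ) (t : F), D.IsPosRoot s ∧ s ≠ D.simple i ∧
    (g : Matrix D.Idx D.Idx F) = D.x F s t}

theorem simple_lt (hD : InList D) {i : ℕ} (hi : i < D.rank) : D.simple i < D.nroots :=
  (RootComb.good_of_mem hD).simple_lt hi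

theorem simple_pos (hD : InList D) {i : ℕ} (hi : i < D.rank) : D.IsPosRoot (D.simple i) :=
  (RootComb.good_of_mem hD).simple_pos hi

variable {F}

/-- every `u ∈ U` is `v x` with `v ∈ U_p`, `x ∈ X_p` -/
theorem decomp {i : ℕ} (hi : i < D.rank) {g : GL D.Idx F} (hg : g ∈ D.posUnipotent F) :
    ∃ v ∈ comp D F i, ∃ t : F, g = v * xG hD (D.simple i) t := by
  obtain ⟨h1, h2⟩ := S1045.result (F := F) D hD i hi
  have h3 : D.rootSubgroup F (D.simple i) ≤ Subgroup.normalizer (comp D F i : Set (GL D.Idx F)) :=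
    le_sup_left.trans h1
  have h4 : comp D F i ⊔ D.rootSubgroup F (D.simple i) = D.posUnipotent F := h2
  rw [← h4] at hg
  have h5 : ((comp D F i ⊔ D.rootSubgroup F (D.simple i) : Subgroup (GL D.Idx F)) : Set (GL D.Idx F)) =
      (comp D F i : Set (GL D.Idx F)) * (D.rootSubgroup F (D.simple i) : Set (GL D.Idx F)) :=
    Subgroup.coe_mul_of_right_le_normalizer_left _ _ h3
  have h6 : g ∈ ((comp D F i ⊔ D.rootSubgroup F (D.simple i) : Subgroup (GL D.Idx F)) : Set (GL D.Idx F)) := hg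
  rw [h5] at h6
  obtain ⟨v, hv, x, hx, rfl⟩ := h6
  obtain ⟨t, rfl⟩ := (mem_rootSubgroup_iff hD _ _).1 hx
  exact ⟨v, hv, t, rfl⟩

theorem comp_le (hD : InList D) (i : ℕ) : comp D F i ≤ D.group F := by
  refine (Subgroup.closure_le _).2 ?_
  rintro g ⟨s, t, hs, -, hg⟩
  rw [(eq_xG_iff hD g s t).2 hg]
  exact xG_mem_group hD s t

/-- `n_p U_p n_p⁻¹ ≤ U` -/
theorem conj_comp {i : ℕ} (hi : i < D.rank) {v : GL D.Idx F} (hv : v ∈ comp D F i) :
    nS hD F i * v * (nS hD F i)⁻¹ ∈ D.posUnipotent F := by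
  have hle : comp D F i ≤ (D.posUnipotent F).comap (MulAut.conj (nS hD F i)).toMonoidHom := by
    refine (Subgroup.closure_le _).2 ?_
    rintro g ⟨s, t, hs, hne, hg⟩
    rw [(eq_xG_iff hD g s t).2 hg]
    exact conj_nS_mem_pos hD hi hs hne t
  exact hle hv

/-- `n_p x_p(t) n_p⁻¹ ∈ X_{-p}` -/
theorem conj_simple {i : ℕ} (hi : i < D.rank) (t : F) :
    ∃ η : F, (η = 1 ∨ η = -1) ∧ nS hD F i * xG hD (D.simple i) t * (nS hD F i)⁻¹ =
      xG hD (D.neg (D.simple i)) (η * t) := by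
  obtain ⟨η, hη, h1, -⟩ := conj_x (F := F) hD hi (simple_lt hD hi)
  refine ⟨η, hη, ?_⟩
  rw [h1 t]
  have : D.reflectRoot i (D.simple i) = D.neg (D.simple i) := if_pos rfl
  rw [this]

/-- `n_p⁻¹ x_p(t) n_p ∈ X_{-p}` -/
theorem conj_inv_simple {i : ℕ} (hi : i < D.rank) (t : F) :
    ∃ u : F, (nS hD F i)⁻¹ * xG hD (D.simple i) t * nS hD F i = xG hD (D.neg (D.simple i)) u := by
  obtain ⟨η, hη, -, h1⟩ := conj_x (F := F) hD hi (simple_lt hD hi)
  have h2 : D.reflectRoot i (D.simple i) = D.neg (D.simple i) := if_pos rfl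
  rw [h2, Reach.neg_neg hD (simple_lt hD hi)] at h1
  refine ⟨η * t, ?_⟩
  have h3 := h1 (η * t)
  rw [← mul_assoc, sign_mul_self hη, one_mul] at h3
  rw [← h3]
  group

theorem isNegRoot_neg_simple (hD : InList D) {i : ℕ} (hi : i < D.rank) :
    D.IsNegRoot (D.neg (D.simple i)) := by
  have hG := RootComb.good_of_mem hD
  have h1 := simple_pos hD hi
  rw [hG.isPosRoot_iff] at h1
  rw [hG.isNegRoot_iff, Reach.neg_eq hD h1.2]
  have := hG.nroots_eq
  omega

theorem one_of_mem_borel_of_mem_neg {g : GL D.Idx F} (h1 : g ∈ D.borelSubgroup F)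
    (h2 : g ∈ D.negUnipotent F) (hD : InList D) : g = 1 := by
  have := (S1037.result (F := F) D hD).1
  have h3 : g ∈ D.borelSubgroup F ⊓ D.negUnipotent F := ⟨h1, h2⟩
  rw [this] at h3
  exact Subgroup.mem_bot.1 h3

theorem one_of_mem_pos_of_mem_monomial {g : GL D.Idx F} (h1 : g ∈ D.posUnipotent F)
    (h2 : g ∈ D.monomialSubgroup F) (hD : InList D) : g = 1 := by
  have := (S1040.result (F := F) D hD).1
  have h3 : g ∈ D.posUnipotent F ⊓ D.monomialSubgroup F := ⟨h1, h2⟩
  rw [this] at h3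
  exact Subgroup.mem_bot.1 h3

/-- `x_{-p}(u)`, `u ≠ 0`, is not in `B`. -/
theorem neg_not_mem_borel {i : ℕ} (hi : i < D.rank) {u : F} (hu : u ≠ 0) :
    xG hD (D.neg (D.simple i)) u ∉ D.borelSubgroup F := by
  intro h
  have h1 := one_of_mem_borel_of_mem_neg h (xG_mem_negUnipotent hD (isNegRoot_neg_simple hD hi) u) hD
  exact hu ((xG_eq_one_iff hD (Reach.neg_lt hD (simple_lt hD hi)) u).1 h1)

/-- `n_p` as an element of `G` -/
def nn (F : Type u) [Field F] (i : Fin D.rank) : ↥(D.group F) := ⟨nS hD F i, nG_mem_group hD _ _⟩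

theorem coe_nn (i : Fin D.rank) : ((nn hD F i : ↥(D.group F)) : GL D.Idx F) = nS hD F i := rfl

/-- distinct `n_p` are distinct modulo `H` -/
theorem eq_of_inv_mul_mem {i j : ℕ} (hi : i < D.rank) (hj : j < D.rank)
    (h : (nS hD F i)⁻¹ * nS hD F j ∈ D.diagonalSubgroup F) : i = j := by
  by_contra hne
  have hG := RootComb.good_of_mem hD
  -- `n_j = n_i h`
  set d := (nS hD F i)⁻¹ * nS hD F j with hd
  have hnj : nS hD F j = nS hD F i * d := by rw [hd]; group
  obtain ⟨c, hc, hcc⟩ := diagonal_conj hD h (simple_lt hD hi)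
  obtain ⟨η, hη, h1⟩ := conj_simple (F := F) hD hi (c * 1)
  have e1 : nS hD F j * xG hD (D.simple i) 1 * (nS hD F j)⁻¹ =
      xG hD (D.neg (D.simple i)) (η * (c * 1)) := by
    rw [hnj, ← h1, ← hcc 1]
    group
  have hs : D.simple i ≠ D.simple j := by
    intro h0
    have h1 := hG.co_simple hi hi
    have h2 := hG.co_simple hj hi
    rw [h0, h2, if_neg (fun e => hne e.symm), if_pos rfl] at h1
    exact zero_ne_one h1
  have h2 := conj_nS_mem_pos hD hj (simple_pos hD hi) hs (1 : F)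
  rw [e1] at h2
  refine neg_not_mem_borel hD hi ?_ ((le_sup_left : D.posUnipotent F ≤ D.borelSubgroup F) h2)
  rw [mul_one]
  exact mul_ne_zero (sign_ne_zero hη) hc

/-- The data for the (B,N)-pair of `G`. -/
def rootData (F : Type u) [Field F] : AbstractBN.RootData ↥(D.group F) (Fin D.rank) where
  U := (D.posUnipotent F).subgroupOf (D.group F)
  H := (D.diagonalSubgroup F).subgroupOf (D.group F)
  N := (D.monomialSubgroup F).subgroupOf (D.group F)
  n := nn hD F
  X i := {g | ∃ t : F, (g : GL D.Idx F) = xG hD (D.simple i) t}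
  Y i := {g | ∃ t : F, (g : GL D.Idx F) = xG hD (D.neg (D.simple i)) t}
  U' i := {g | (g : GL D.Idx F) ∈ comp D F i}
  conj_H_U := by
    rintro ⟨h, hG⟩ hh ⟨u, huG⟩ hu
    exact (Subgroup.mem_normalizer_iff.1 ((S1036.result (F := F) D hD).1 hh) u).1 hu
  conj_N_H := by
    rintro ⟨m, hm⟩ hmN ⟨h, hG⟩ hh
    exact conj_mem_diagonal hD hmN hh
  N_eq := by
    apply le_antisymm
    · refine sup_le ?_ ?_
      · rw [Subgroup.closure_le]
        rintro _ ⟨i, rfl⟩
        exact nG_one_mem_monomial hD (simple_lt hD i.2)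
      · intro g hg
        exact diagonal_le_monomial D F hg
    · -- transfer to the general linear group
      have key : D.monomialSubgroup F ≤ (Subgroup.closure (Set.range (nn hD F)) ⊔
          (D.diagonalSubgroup F).subgroupOf (D.group F)).map (D.group F).subtype := by
        refine monomial_le_of hD ?_ ?_
        · intro h hh
          exact ⟨⟨h, diagonal_le_group hD F hh⟩, Subgroup.mem_sup_right hh, rfl⟩
        · intro i hi
          exact ⟨nn hD F ⟨i, hi⟩, Subgroup.mem_sup_left (Subgroup.subset_closure ⟨⟨i, hi⟩, rfl⟩), rfl⟩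
      rintro ⟨g, hgG⟩ hg
      obtain ⟨g', hg', he⟩ := key hg
      have : g' = ⟨g, hgG⟩ := Subtype.ext he
      rwa [this] at hg'
  sup_top := by
    rw [eq_top_iff]
    have h1 := (S1043.result (F := F) D hD).2.2
    have key : D.group F ≤ ((D.posUnipotent F).subgroupOf (D.group F) ⊔
        (D.monomialSubgroup F).subgroupOf (D.group F)).map (D.group F).subtype := by
      conv_lhs => rw [← h1]
      refine sup_le (sup_le ?_ ?_) ?_
      · intro g hg
        exact ⟨⟨g, posUnipotent_le_group hD F hg⟩, Subgroup.mem_sup_left hg, rfl⟩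
      · intro g hg
        exact ⟨⟨g, diagonal_le_group hD F hg⟩, Subgroup.mem_sup_right (diagonal_le_monomial D F hg), rfl⟩
      · intro g hg
        exact ⟨⟨g, monomial_le_group hD F hg⟩, Subgroup.mem_sup_right hg, rfl⟩
    rintro ⟨g, hgG⟩ -
    obtain ⟨g', hg', he⟩ := key hgG
    have : g' = ⟨g, hgG⟩ := Subtype.ext he
    rwa [this] at hg'
  sq_mem i := nG_one_sq_mem hD (simple_lt hD i.2)
  decomp := by
    rintro i ⟨u, huG⟩ hu
    obtain ⟨v, hv, t, he⟩ := decomp hD i.2 hu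
    exact ⟨⟨v, comp_le hD i hv⟩, hv, ⟨xG hD (D.simple i) t, xG_mem_group hD _ t⟩, ⟨t, rfl⟩, Subtype.ext he⟩
  conj_n_U' := by
    rintro i ⟨v, hvG⟩ hv
    exact conj_comp hD i.2 hv
  conj_n_X := by
    rintro i ⟨x, hxG⟩ ⟨t, ht⟩
    obtain ⟨η, -, h1⟩ := conj_simple (F := F) hD i.2 t
    refine ⟨η * t, ?_⟩
    have ht' : x = xG hD (D.simple i) t := ht
    subst ht'
    exact h1
  conj_n_inv_X := by
    rintro i ⟨x, hxG⟩ ⟨t, ht⟩
    obtain ⟨u, h1⟩ := conj_inv_simple (F := F) hD i.2 t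
    refine ⟨u, ?_⟩
    have ht' : x = xG hD (D.simple i) t := ht
    subst ht'
    exact h1
  rank_one := by
    rintro i ⟨y, hyG⟩ ⟨s, hs⟩ hy1
    have hs' : y = xG hD (D.neg (D.simple i)) s := hs
    have hs0 : s ≠ 0 := by
      rintro rfl
      apply hy1
      refine Subtype.ext ?_
      show y = 1
      rw [hs', xG_zero]
    have ht : -s⁻¹ ≠ 0 := neg_ne_zero.2 (inv_ne_zero hs0)
    have h1 := xG_neg_eq (F := F) hD (D.simple i) (-s⁻¹)
    rw [inv_neg, inv_inv, neg_neg, neg_neg] at h1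
    refine ⟨⟨xG hD (D.simple i) s⁻¹, xG_mem_group hD _ _⟩, xG_mem_posUnipotent hD (simple_pos hD i.2) _,
      ⟨hG hD (D.simple i) (-s⁻¹), hG_mem_group hD _ _⟩, hG_mem_diagonal hD (simple_lt hD i.2) ht,
      ⟨xG hD (D.simple i) s⁻¹, xG_mem_group hD _ _⟩, ⟨_, rfl⟩, ?_⟩
    refine Subtype.ext ?_
    show y = xG hD (D.simple i) s⁻¹ * hG hD (D.simple i) (-s⁻¹) * nS hD F i * xG hD (D.simple i) s⁻¹
    rw [hs', h1, nG_eq, ← mul_assoc]
  root_cases := by
    rintro ⟨m, hmG⟩ hm i
    rcases root_cases hD hm (simple_lt hD i.2) with h | h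
    · left
      rintro ⟨x, hxG⟩ ⟨t, ht⟩
      have ht' : x = xG hD (D.simple i) t := ht
      subst ht'
      exact h t
    · right
      rintro ⟨x, hxG⟩ ⟨t, ht⟩
      have ht' : x = xG hD (D.neg (D.simple i)) t := ht
      subst ht'
      exact h t
  inf_le := by
    rintro ⟨u, huG⟩ hu ⟨h, hhG⟩ hh huh
    have h1 : u ∈ D.monomialSubgroup F := by
      have h2 : u * h ∈ D.monomialSubgroup F := huh
      have h3 : u = (u * h) * h⁻¹ := by group
      rw [h3]
      exact mul_mem h2 (inv_mem (diagonal_le_monomial D F hh))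
    have h2 := one_of_mem_pos_of_mem_monomial hu h1 hD
    subst h2
    exact one_mem _
  n_ne := by
    intro i j hij h
    apply hij
    have : (i : ℕ) = j := eq_of_inv_mul_mem hD i.2 j.2 h
    rw [Fin.ext this]
  not_le := by
    intro i
    refine ⟨⟨xG hD (D.simple i) 1, xG_mem_group hD _ _⟩, xG_mem_posUnipotent hD (simple_pos hD i.2) 1, ?_⟩
    intro hmem
    obtain ⟨η, hη, h1⟩ := conj_simple (F := F) hD i.2 1
    have h2 : nS hD F i * xG hD (D.simple i) 1 * (nS hD F i)⁻¹ ∈ D.borelSubgroup F := by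
      have h3 : ((D.posUnipotent F).subgroupOf (D.group F) ⊔ (D.diagonalSubgroup F).subgroupOf (D.group F)) ≤
          (D.borelSubgroup F).subgroupOf (D.group F) :=
        sup_le (fun g hg => Subgroup.mem_sup_left hg) (fun g hg => Subgroup.mem_sup_right hg)
      exact h3 hmem
    rw [h1, mul_one] at h2
    exact neg_not_mem_borel hD i.2 (sign_ne_zero hη) h2

theorem sup_subgroupOf (hD : InList D) (F : Type u) [Field F] :
    (D.posUnipotent F).subgroupOf (D.group F) ⊔ (D.diagonalSubgroup F).subgroupOf (D.group F) =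
      (D.borelSubgroup F).subgroupOf (D.group F) :=
  Subgroup.subgroupOf_sup (posUnipotent_le_group hD F) (diagonal_le_group hD F) |>.symm

end

/-- The Chevalley group has a (B,N)-pair with `B = UH`, `N` the monomial subgroup and the `n_p`, `p` fundamental, as representatives of the distinguished involutions of `W = N/H`. -/
theorem result {F : Type*} [Field F] (D : Cfsg.Lie.ChevalleyDatum) (hD : D ∈ [Cfsg.Lie.chevG2, Cfsg.Lie.chevB2, Cfsg.Lie.chevD4, Cfsg.Lie.chevF4, Cfsg.Lie.chevE6, Cfsg.Lie.chevE7, Cfsg.Lie.chevE8]) :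
    ∃ P : Cfsg.BNPair ↥(D.group F),
      P.B = (D.borelSubgroup F).subgroupOf (D.group F) ∧ P.N = (D.monomialSubgroup F).subgroupOf (D.group F) ∧
      P.S = {n : ↥(D.group F) | ∃ i < D.rank, ((n : GL D.Idx F) : Matrix D.Idx D.Idx F) = D.nMat F (D.simple i) 1} := by
  refine ⟨(rootData hD F).bnPair, ?_, rfl, ?_⟩
  · exact sup_subgroupOf hD F
  · show Set.range (nn hD F) = _
    ext g
    constructor
    · rintro ⟨i, rfl⟩
      exact ⟨i, i.2, coe_nG hD _ _⟩
    · rintro ⟨i, hi, hg⟩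
      exact ⟨⟨i, hi⟩, Subtype.ext ((eq_nG_iff hD _ _ _).2 hg).symm⟩

end Cfsg.Agent.S1042
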