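import Cfsg.Statements.S1086
-- import your own Cfsg.Agent.* helpers here
import Cfsg.Agent.ChevalleyStructure.TwistedE6Rel
import Cfsg.Agent.LieClassical.HermBasic

set_option autoImplicit false
open Cfsg

namespace Cfsg.Agent.S1086

open Cfsg.Lie
open Cfsg.Agent.ChevalleyStructure
open Cfsg.Agent.ChevalleyStructure.GraphSymm
open Cfsg.Agent.ChevalleyStructure.TwistedU
open Cfsg.Agent.ChevalleyStructure.TwistedFix
open Cfsg.Agent.ChevalleyStructure.TwistedE6Sigma
open Cfsg.Agent.ChevalleyStructure.TwistedE6U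
open Cfsg.Agent.ChevalleyStructure.TwistedE6G
open Cfsg.Agent.ChevalleyStructure.TwistedE6Rel
open Cfsg.Agent.LieClassical

/-- The positive roots fixed by `ρ`. -/
def Fx : List ℕ := [46, 39, 47, 44, 51, 53, 60, 63, 65, 69, 70, 71]

/-- Representatives of the two-element `ρ`-orbits of positive roots. -/
def Sx : List ℕ := [56, 42, 38, 40, 41, 48, 45, 49, 52, 54, 55, 66]

theorem Fx_check : ∀ r ∈ Fx, r ∈ L.flatten ∧ rho r = r ∧ eps r = 1 := by decide +kernel

theorem Sx_check : ∀ r ∈ Sx, r ∈ L.flatten ∧ r ∉ Fx ∧ rho r ∉ Fx ∧ rho r ∉ Sx ∧ rho (rho r) = r := by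
  decide +kernel

theorem rhoSx_check : ∀ r < 72, rho r ∈ Sx → r ∈ L.flatten := by decide +kernel

theorem rho_ge {r : ℕ} (hr : 72 ≤ r) : rho r = 0 := by
  have h : tablesE6.rho.length ≤ r := hr
  exact List.getD_eq_default _ _ h

theorem rhoSx {r : ℕ} (h : rho r ∈ Sx) : r ∈ L.flatten := by
  by_cases hr : r < 72
  · exact rhoSx_check r hr h
  · rw [rho_ge (not_lt.1 hr)] at h
    exact absurd h (by decide)

theorem cover_check : ∀ r ∈ L.flatten, r ∈ Fx ∨ r ∈ Sx ∨ (r ∉ Fx ∧ r ∉ Sx ∧ rho r ∈ Sx) := by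
  decide +kernel

section Count

variable {K : Type*} [Field K]

/-- The coordinate function with prescribed values on the representatives. -/
noncomputable def coords (φ : K →+* K) (a : {r // r ∈ Fx} → K) (b : {r // r ∈ Sx} → K) (r : ℕ) : K :=
  if h : r ∈ Fx then a ⟨r, h⟩ else if h : r ∈ Sx then b ⟨r, h⟩ else
    if h : rho r ∈ Sx then ((eps r : ℤ) : K) * φ (b ⟨rho r, h⟩) else 0

theorem coords_Fx (φ : K →+* K) (a : {r // r ∈ Fx} → K) (b : {r // r ∈ Sx} → K) {r : ℕ} (h : r ∈ Fx) :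
    coords φ a b r = a ⟨r, h⟩ := dif_pos h

theorem coords_Sx (φ : K →+* K) (a : {r // r ∈ Fx} → K) (b : {r // r ∈ Sx} → K) {r : ℕ} (h : r ∈ Sx) :
    coords φ a b r = b ⟨r, h⟩ := by
  unfold coords
  rw [dif_neg (Sx_check r h).2.1, dif_pos h]

theorem coords_rho (φ : K →+* K) (a : {r // r ∈ Fx} → K) (b : {r // r ∈ Sx} → K) {r : ℕ} (h1 : r ∉ Fx)
    (h2 : r ∉ Sx) (h : rho r ∈ Sx) : coords φ a b r = ((eps r : ℤ) : K) * φ (b ⟨rho r, h⟩) := by
  unfold coords
  rw [dif_neg h1, dif_neg h2, dif_pos h]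

theorem eps_sq' {r : ℕ} (hr : r < 72) : ((eps r : ℤ) : K) * ((eps r : ℤ) : K) = 1 := by
  rw [← Int.cast_mul, eps_sq r hr, Int.cast_one]

/-- Compatible families are parametrised by their values on the representatives. -/
noncomputable def equiv (φ : K →+* K) (hφφ : ∀ t, φ (φ t) = t) :
    {t : ℕ → K // (∀ r, r ∉ L.flatten → t r = 0) ∧
      ∀ r ∈ L.flatten, t (rho r) = ((eps r : ℤ) : K) * φ (t r)} ≃
    ({r // r ∈ Fx} → {v : K // φ v = v}) × ({r // r ∈ Sx} → K) where
  toFun t := (fun r => ⟨t.1 r.1, by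
      obtain ⟨h1, h2, h3⟩ := Fx_check r.1 r.2
      have h4 := t.2.2 r.1 h1
      rw [h2, h3, Int.cast_one, one_mul] at h4
      exact h4.symm⟩, fun r => t.1 r.1)
  invFun ab := ⟨coords φ (fun r => (ab.1 r).1) ab.2, by
    constructor
    · intro r hr
      have h1 : r ∉ Fx := fun h => hr (Fx_check r h).1
      have h2 : r ∉ Sx := fun h => hr (Sx_check r h).1
      have h3 : rho r ∉ Sx := fun h => hr (rhoSx h)
      unfold coords
      rw [dif_neg h1, dif_neg h2, dif_neg h3]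
    · intro r hr
      rcases cover_check r hr with h | h | ⟨h1, h2, h⟩
      · obtain ⟨-, h2, h3⟩ := Fx_check r h
        rw [h2, h3, coords_Fx _ _ _ h, Int.cast_one, one_mul]
        exact ((ab.1 ⟨r, h⟩).2).symm
      · obtain ⟨-, -, h3, h4, h5⟩ := Sx_check r h
        have h6 : rho (rho r) ∈ Sx := by rw [h5]; exact h
        have h7 : (⟨rho (rho r), h6⟩ : {r // r ∈ Sx}) = ⟨r, h⟩ := Subtype.ext h5
        rw [coords_rho _ _ _ h3 h4 h6, coords_Sx _ _ _ h, eps_rho r (L_lt r hr), h7]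
      · rw [coords_rho _ _ _ h1 h2 h, coords_Sx _ _ _ h, map_mul, map_intCast, hφφ, ← mul_assoc,
          eps_sq' (L_lt r hr), one_mul]⟩
  left_inv := by
    rintro ⟨t, ht1, ht2⟩
    apply Subtype.ext
    funext r
    show coords φ (fun r => t r.1) (fun r => t r.1) r = t r
    by_cases hr : r ∈ L.flatten
    · rcases cover_check r hr with h | h | ⟨h1, h2, h⟩
      · rw [coords_Fx _ _ _ h]
      · rw [coords_Sx _ _ _ h]
      · rw [coords_rho _ _ _ h1 h2 h, ht2 r hr, map_mul, map_intCast, hφφ, ← mul_assoc,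
          eps_sq' (L_lt r hr), one_mul]
    · have h1 : r ∉ Fx := fun h => hr (Fx_check r h).1
      have h2 : r ∉ Sx := fun h => hr (Sx_check r h).1
      have h3 : rho r ∉ Sx := fun h => hr (rhoSx h)
      rw [ht1 r hr]
      unfold coords
      rw [dif_neg h1, dif_neg h2, dif_neg h3]
  right_inv := by
    rintro ⟨a, b⟩
    refine Prod.ext ?_ ?_
    · funext r
      apply Subtype.ext
      show coords φ (fun r => (a r).1) b r.1 = (a r).1
      rw [coords_Fx φ _ _ r.2]
    · funext r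
      show coords φ (fun r => (a r).1) b r.1 = b r
      rw [coords_Sx φ _ _ r.2]

end Count

/-- |U¹| = |G¹ ∩ U| = q ^ 36 for ²E₆(q). -/
theorem result {K : Type*} [Field K] [Fintype K] {q : ℕ} (hq : IsPrimePow q) (hK : Fintype.card K = q ^ 2) :
    Nat.card ↥(Cfsg.Lie.chevE6.posUnipotent K ⊓ Cfsg.Lie.twistedE6 K q) = q ^ 36 := by
  obtain ⟨φ, hφ⟩ := exists_frob hq two_ne_zero hK
  have hφφ : ∀ t, φ (φ t) = t := fun t => by
    rw [hφ, hφ]
    exact HermBasic.pow_q_pow_q hK t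
  rw [posUnipotent_inf_eq hφ hφφ, (setup φ).card_fix, Nat.card_congr (equiv φ hφφ), Nat.card_prod,
    Nat.card_fun, Nat.card_fun]
  have h1 : Nat.card {v : K // φ v = v} = q := by
    have h2 : Nat.card {v : K // φ v = v} = Nat.card {v : K // v ^ q = v} :=
      Nat.card_congr (Equiv.subtypeEquivRight fun v => by rw [hφ])
    rw [h2, HermBasic.card_fixed hK]
  have hF : Nat.card {r // r ∈ Fx} = 12 := by
    have e := (List.Nodup.getEquiv Fx (by decide)).symm
    rw [Nat.card_congr e, Nat.card_eq_fintype_card, Fintype.card_fin]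
    rfl
  have hS : Nat.card {r // r ∈ Sx} = 12 := by
    have e := (List.Nodup.getEquiv Sx (by decide)).symm
    rw [Nat.card_congr e, Nat.card_eq_fintype_card, Fintype.card_fin]
    rfl
  rw [h1, hF, hS, Nat.card_eq_fintype_card, hK, ← pow_mul, ← pow_add]

end Cfsg.Agent.S1086
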