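import Cfsg.Statements.S1102
import Cfsg.Agent.ChevalleyStructure.E6H1
import Cfsg.Agent.S1033
import Cfsg.Agent.S1034

set_option autoImplicit false
open Cfsg

namespace Cfsg.Agent.S1102

/-- `|H¹| = |G¹ ∩ H|`: `Nat.gcd 3 (q + 1) * |H¹| = (q - 1) ^ 4 * (q + 1) ^ 2` for ²E₆(q). -/
theorem result {K : Type*} [Field K] [Fintype K] {q : ℕ} (hq : IsPrimePow q) (hK : Fintype.card K = q ^ 2) :
    Nat.gcd 3 (q + 1) * Nat.card ↥(Cfsg.Lie.chevE6.diagonalSubgroup K ⊓ Cfsg.Lie.twistedE6 K q) = (q - 1) ^ 4 * (q + 1) ^ 2 := by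
  obtain ⟨φ, hφ⟩ := Cfsg.Agent.ChevalleyStructure.D4Fixed.exists_frob hq hK
  have hD : Cfsg.Lie.chevE6 ∈ [Cfsg.Lie.chevG2, Cfsg.Lie.chevB2, Cfsg.Lie.chevD4, Cfsg.Lie.chevF4,
      Cfsg.Lie.chevE6, Cfsg.Lie.chevE7, Cfsg.Lie.chevE8] := by simp
  have hA : Cfsg.Agent.ChevalleyStructure.TorusRange.SimpleDiag Cfsg.Lie.chevE6 K :=
    fun i hi c hc => Cfsg.Agent.S1033.result Cfsg.Lie.chevE6 hD i hi c hc
  have hH := Cfsg.Agent.ChevalleyStructure.TorusRange.diagonalSubgroup_eq_range hA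
    (fun i hi => Cfsg.Agent.ChevalleyStructure.TorusCert.certE6.simple_lt ⟨i, hi⟩)
    (fun g hg => Cfsg.Agent.S1034.result Cfsg.Lie.chevE6 hD g hg)
  rw [Cfsg.Agent.ChevalleyStructure.E6H1.card_H1 hq hK hφ hA hH]
  obtain ⟨m, rfl⟩ : ∃ m, q = m + 1 := ⟨q - 1, (Nat.sub_add_cancel hq.one_lt.le).symm⟩
  have h1 : (m + 1) ^ 2 - 1 = m * (m + 2) := by
    apply Nat.sub_eq_of_eq_add
    ring
  rw [h1, Nat.add_sub_cancel]
  ring

end Cfsg.Agent.S1102
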