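import Cfsg.Statements.S1066
-- import your own Cfsg.Agent.* helpers here
import Cfsg.Agent.ChevalleyStructure.TwE6Card
import Cfsg.Agent.ChevalleyStructure.TwistedWeylSums
import Cfsg.Agent.S1086
import Cfsg.Agent.S1102

set_option autoImplicit false
open Cfsg

namespace Cfsg.Agent.S1066

open Cfsg.Agent.ChevalleyStructure

/-- the simple reflections as permutations of the roots -/
theorem exists_reflections : ∃ s : ℕ → Equiv.Perm (Fin Cfsg.Lie.chevE6.nroots),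
    ∀ i < 6, ∀ r, ((s i r : Fin Cfsg.Lie.chevE6.nroots) : ℕ) = Cfsg.Lie.chevE6.reflectRoot i r := by
  have h1 : ∀ i : Fin 6, ∀ r : Fin 72, Cfsg.Lie.chevE6.reflectRoot i.val r.val < 72 :=
    TwE6Basic.reflect_lt
  have h2 : ∀ i : Fin 6, ∀ r : Fin 72, Cfsg.Lie.chevE6.reflectRoot i.val
      (Cfsg.Lie.chevE6.reflectRoot i.val r.val) = r.val := by decide +kernel
  let s : ℕ → Equiv.Perm (Fin Cfsg.Lie.chevE6.nroots) := fun i => if hi : i < 6 then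
    { toFun := fun r => ⟨Cfsg.Lie.chevE6.reflectRoot i r, h1 ⟨i, hi⟩ r⟩
      invFun := fun r => ⟨Cfsg.Lie.chevE6.reflectRoot i r, h1 ⟨i, hi⟩ r⟩
      left_inv := fun r => Fin.ext (h2 ⟨i, hi⟩ r)
      right_inv := fun r => Fin.ext (h2 ⟨i, hi⟩ r) } else 1
  refine ⟨s, fun i hi r => ?_⟩
  have h3 : s i = { toFun := fun r => ⟨Cfsg.Lie.chevE6.reflectRoot i r, h1 ⟨i, hi⟩ r⟩
                    invFun := fun r => ⟨Cfsg.Lie.chevE6.reflectRoot i r, h1 ⟨i, hi⟩ r⟩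
                    left_inv := fun r => Fin.ext (h2 ⟨i, hi⟩ r)
                    right_inv := fun r => Fin.ext (h2 ⟨i, hi⟩ r) } := dif_pos hi
  rw [h3]
  rfl

/-- `gcd(3, q+1) · |²E₆(q)| = q³⁶ (q² - 1)(q⁵ + 1)(q⁶ - 1)(q⁸ - 1)(q⁹ + 1)(q¹² - 1)`, the group being realised inside E₆ over the field with `q²` elements. -/
theorem result {K : Type*} [Field K] [Fintype K] {q : ℕ} (hq : IsPrimePow q) (hK : Fintype.card K = q ^ 2) :
    Nat.gcd 3 (q + 1) * Nat.card ↥(Cfsg.Lie.twistedE6 K q) =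
      q ^ 36 * (q ^ 2 - 1) * (q ^ 5 + 1) * (q ^ 6 - 1) * (q ^ 8 - 1) * (q ^ 9 + 1) * (q ^ 12 - 1) := by
  classical
  obtain ⟨φ, hφ, hqq⟩ := TwE6Basic.exists_frob hq hK
  obtain ⟨s, hs⟩ := exists_reflections
  have h := TwE6Card.card_G φ hφ hqq hq.one_lt hK s hs
  have hU := Cfsg.Agent.S1086.result hq hK
  have hH := Cfsg.Agent.S1102.result hq hK
  have hW := TwistedWeylSums.sum_twistedE6 q s hs
  rw [h, hU]
  generalize Nat.card ↥(Cfsg.Lie.chevE6.diagonalSubgroup K ⊓ Cfsg.Lie.twistedE6 K q) = c at hH ⊢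
  generalize (∑ w ∈ _, _ : ℕ) = S at hW ⊢
  calc Nat.gcd 3 (q + 1) * (S * (q ^ 36 * c)) = q ^ 36 * (S * (Nat.gcd 3 (q + 1) * c)) := by ring
    _ = q ^ 36 * (S * ((q - 1) ^ 4 * (q + 1) ^ 2)) := by rw [hH]
    _ = q ^ 36 * ((q ^ 2 - 1) * (q ^ 5 + 1) * (q ^ 6 - 1) * (q ^ 8 - 1) * (q ^ 9 + 1) * (q ^ 12 - 1)) := by
        rw [hW]
    _ = _ := by ring

end Cfsg.Agent.S1066
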