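import Cfsg.Statements.S0752
-- import your own Cfsg.Agent.* helpers here

set_option autoImplicit false
open Cfsg

namespace Cfsg.Agent.S0752

universe u v

/-- the family of vectors `e, f` in front of a family indexed by `(Fin m ⊕ Fin m) ⊕ Fin k` -/
def ext {V : Type v} {m k : ℕ} (e f : V) (b : (Fin m ⊕ Fin m) ⊕ Fin k → V) :
    (Fin (m + 1) ⊕ Fin (m + 1)) ⊕ Fin k → V :=
  Sum.elim (Sum.elim (Fin.cons e (fun i => b (Sum.inl (Sum.inl i))))
    (Fin.cons f (fun i => b (Sum.inl (Sum.inr i))))) (fun j => b (Sum.inr j))

theorem aux {F : Type u} [Field F] : ∀ (n : ℕ) (V : Type v) [AddCommGroup V] [Module F V]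
    [FiniteDimensional F V] (B : LinearMap.BilinForm F V) (_ : B.IsAlt),
    Module.finrank F V = n →
    ∃ (m k : ℕ) (b : Module.Basis ((Fin m ⊕ Fin m) ⊕ Fin k) F V),
      (∀ i j : Fin m, B (b (Sum.inl (Sum.inl i))) (b (Sum.inl (Sum.inr j))) =
        if i = j then 1 else 0) ∧
      (∀ i j : Fin m, B (b (Sum.inl (Sum.inl i))) (b (Sum.inl (Sum.inl j))) = 0) ∧
      (∀ i j : Fin m, B (b (Sum.inl (Sum.inr i))) (b (Sum.inl (Sum.inr j))) = 0) ∧
      (∀ (j : Fin k) (v : V), B (b (Sum.inr j)) v = 0) := by
  intro n
  induction n using Nat.strong_induction_on with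
  | _ n ih =>
  intro V _ _ _ B hA hn
  have hneg : ∀ x y : V, B x y = - B y x := fun x y => (hA.neg_eq y x).symm
  have hself : ∀ x : V, B x x = 0 := hA
  by_cases hB : B = 0
  · refine ⟨0, n, ((Module.finBasisOfFinrankEq F V hn).reindex
      (Equiv.emptySum (Fin 0 ⊕ Fin 0) (Fin n)).symm), ?_, ?_, ?_, ?_⟩
    · intro i; exact i.elim0
    · intro i; exact i.elim0
    · intro i; exact i.elim0
    · intro j v; simp [hB]
  · have hne : ∃ x y : V, B x y ≠ 0 := by
      by_contra h
      push Not at h
      apply hB
      ext x y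
      simpa using h x y
    obtain ⟨e, f₀, hef₀⟩ := hne
    obtain ⟨f, hef⟩ : ∃ f : V, B e f = 1 := ⟨(B e f₀)⁻¹ • f₀, by simp [hef₀]⟩
    have hfe : B f e = -1 := by rw [hneg, hef]
    have hli : LinearIndependent F ![e, f] := by
      rw [LinearIndependent.pair_iff]
      intro s t hst
      have h1 : B e (s • e + t • f) = 0 := by rw [hst]; simp
      have h2 : B f (s • e + t • f) = 0 := by rw [hst]; simp
      simp [hself, hef, hfe] at h1 h2
      exact ⟨h2, h1⟩
    let W : Submodule F V := Submodule.span F (Set.range ![e, f])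
    have heW : e ∈ W := Submodule.subset_span ⟨0, rfl⟩
    have hfW : f ∈ W := Submodule.subset_span ⟨1, rfl⟩
    have hW' : ∀ w : V, w ∈ B.orthogonal W ↔ B e w = 0 ∧ B f w = 0 := by
      intro w
      rw [LinearMap.BilinForm.mem_orthogonal_iff]
      constructor
      · intro h; exact ⟨h e heW, h f hfW⟩
      · rintro ⟨h1, h2⟩ x hx
        have hle : W ≤ LinearMap.ker (B.flip w) := by
          rw [Submodule.span_le]
          rintro _ ⟨i, rfl⟩
          fin_cases i
          · simpa using h1
          · simpa using h2
        simpa using hle hx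
    have hdec : ∀ v : V, v - B v f • e + B v e • f ∈ B.orthogonal W := by
      intro v
      rw [hW']
      refine ⟨?_, ?_⟩
      · simp [hself, hef, hneg v e]
      · simp [hself, hfe, hneg v f]
    have hcompl : IsCompl W (B.orthogonal W) := by
      constructor
      · rw [Submodule.disjoint_def]
        intro x hx hx'
        have : ∃ s t : F, s • e + t • f = x := by
          have hx2 : x ∈ Submodule.span F {e, f} := by
            simpa [W, Matrix.range_cons, Matrix.range_empty, Set.pair_comm] using hx
          exact Submodule.mem_span_pair.mp hx2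
        obtain ⟨s, t, rfl⟩ := this
        obtain ⟨h1, h2⟩ := (hW' _).mp hx'
        simp [hself, hef, hfe] at h1 h2
        simp [h1, h2]
      · rw [codisjoint_iff, eq_top_iff]
        intro v _
        have : v = (B v f • e - B v e • f) + (v - B v f • e + B v e • f) := by abel
        rw [this]
        exact Submodule.add_mem_sup (W.sub_mem (W.smul_mem _ heW) (W.smul_mem _ hfW)) (hdec v)
    have hWrank : Module.finrank F W = 2 := by
      have := finrank_span_eq_card hli
      simpa using this
    have hrank : 2 + Module.finrank F (B.orthogonal W) = n := by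
      rw [← hWrank, ← hn]
      exact Submodule.finrank_add_eq_of_isCompl hcompl
    obtain ⟨m, k, b, h1, h2, h3, h4⟩ := ih (Module.finrank F (B.orthogonal W)) (by omega)
      (B.orthogonal W) (B.restrict (B.orthogonal W)) (fun x => hA x) rfl
    have hbW : ∀ i, B e (b i : V) = 0 ∧ B f (b i : V) = 0 := fun i => (hW' _).mp (b i).2
    have hbW' : ∀ i, B (b i : V) e = 0 ∧ B (b i : V) f = 0 := fun i => by
      rw [hneg _ e, hneg _ f, (hbW i).1, (hbW i).2]; simp
    have hcard : Module.finrank F (B.orthogonal W) = m + m + k := by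
      rw [Module.finrank_eq_card_basis b]; simp
    have hspan : ⊤ ≤ Submodule.span F (Set.range (ext e f (fun i => (b i : V)))) := by
      intro v _
      have hsub : ∀ i, (b i : V) ∈ Submodule.span F (Set.range (ext e f (fun i => (b i : V)))) := by
        intro i
        apply Submodule.subset_span
        rcases i with (i | i) | i
        · exact ⟨Sum.inl (Sum.inl i.succ), by simp [ext]⟩
        · exact ⟨Sum.inl (Sum.inr i.succ), by simp [ext]⟩
        · exact ⟨Sum.inr i, by simp [ext]⟩
      have he' : e ∈ Submodule.span F (Set.range (ext e f (fun i => (b i : V)))) :=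
        Submodule.subset_span ⟨Sum.inl (Sum.inl 0), by simp [ext]⟩
      have hf' : f ∈ Submodule.span F (Set.range (ext e f (fun i => (b i : V)))) :=
        Submodule.subset_span ⟨Sum.inl (Sum.inr 0), by simp [ext]⟩
      have hw : ∀ w : B.orthogonal W,
          (w : V) ∈ Submodule.span F (Set.range (ext e f (fun i => (b i : V)))) := by
        intro w
        rw [← b.sum_repr w]
        rw [Submodule.coe_sum]
        apply Submodule.sum_mem
        intro i _
        rw [Submodule.coe_smul]
        exact Submodule.smul_mem _ _ (hsub i)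
      have : v = (B v f • e - B v e • f) + (v - B v f • e + B v e • f) := by abel
      rw [this]
      exact Submodule.add_mem _ (Submodule.sub_mem _ (Submodule.smul_mem _ _ he')
        (Submodule.smul_mem _ _ hf')) (hw ⟨_, hdec v⟩)
    have hcard' : Fintype.card ((Fin (m + 1) ⊕ Fin (m + 1)) ⊕ Fin k) = Module.finrank F V := by
      simp; omega
    refine ⟨m + 1, k, basisOfTopLeSpanOfCardEqFinrank _ hspan hcard', ?_, ?_, ?_, ?_⟩
    · intro i j
      rw [coe_basisOfTopLeSpanOfCardEqFinrank]
      refine Fin.cases ?_ (fun i => ?_) i <;> refine Fin.cases ?_ (fun j => ?_) j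
      · simpa [ext] using hef
      · simpa [ext, (Fin.succ_ne_zero _).symm] using (hbW _).1
      · simpa [ext, (Fin.succ_ne_zero _)] using (hbW' _).2
      · simpa [ext, Fin.succ_inj] using h1 i j
    · intro i j
      rw [coe_basisOfTopLeSpanOfCardEqFinrank]
      refine Fin.cases ?_ (fun i => ?_) i <;> refine Fin.cases ?_ (fun j => ?_) j
      · simpa [ext] using hself e
      · simpa [ext] using (hbW _).1
      · simpa [ext] using (hbW' _).1
      · simpa [ext] using h2 i j
    · intro i j
      rw [coe_basisOfTopLeSpanOfCardEqFinrank]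
      refine Fin.cases ?_ (fun i => ?_) i <;> refine Fin.cases ?_ (fun j => ?_) j
      · simpa [ext] using hself f
      · simpa [ext] using (hbW _).2
      · simpa [ext] using (hbW' _).2
      · simpa [ext] using h3 i j
    · intro j v
      rw [coe_basisOfTopLeSpanOfCardEqFinrank]
      have hr : ext e f (fun i => (b i : V)) (Sum.inr j) = b (Sum.inr j) := by simp [ext]
      rw [hr]
      have : v = (B v f • e - B v e • f) + (v - B v f • e + B v e • f) := by abel
      rw [this, map_add, map_sub, map_smul, map_smul, (hbW' _).1, (hbW' _).2]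
      have := h4 j ⟨_, hdec v⟩
      simpa using this

/-- Classification of alternating forms: for an alternating bilinear form B on a finite-dimensional space over any field there is a basis indexed by (Fin m ⊕ Fin m) ⊕ Fin k such that B (e_i, f_j) = δ_ij, the e's are pairwise orthogonal, the f's are pairwise orthogonal, and the last k basis vectors are orthogonal to everything (they span the radical). -/
theorem result {F V : Type*} [Field F] [AddCommGroup V] [Module F V] [FiniteDimensional F V] (B : LinearMap.BilinForm F V) (hA : B.IsAlt) : ∃ (m k : ℕ) (b : Module.Basis ((Fin m ⊕ Fin m) ⊕ Fin k) F V), (∀ i j : Fin m, B (b (Sum.inl (Sum.inl i))) (b (Sum.inl (Sum.inr j))) = if i = j then 1 else 0) ∧ (∀ i j : Fin m, B (b (Sum.inl (Sum.inl i))) (b (Sum.inl (Sum.inl j))) = 0) ∧ (∀ i j : Fin m, B (b (Sum.inl (Sum.inr i))) (b (Sum.inl (Sum.inr j))) = 0) ∧ (∀ (j : Fin k) (v : V), B (b (Sum.inr j)) v = 0) := by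
  exact aux _ V B hA rfl

end Cfsg.Agent.S0752
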