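import Cfsg.Statements.S0309

set_option autoImplicit false
open Cfsg

namespace Cfsg.Agent.S0309

section aux

variable {G : Type*} [Group G] (P : Cfsg.BNPair G)

/-- `n` is the product of `k` letters of `S` and an element of `B ⊓ N`. -/
def HasWord (P : Cfsg.BNPair G) : ℕ → G → Prop
  | 0, n => n ∈ P.B ⊓ P.N
  | k + 1, n => ∃ s ∈ P.S, ∃ m, HasWord P k m ∧ n = s * m

theorem hasWord_zero (n : G) : HasWord P 0 n ↔ n ∈ P.B ⊓ P.N := Iff.rfl

theorem hasWord_succ (k : ℕ) (n : G) :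
    HasWord P (k + 1) n ↔ ∃ s ∈ P.S, ∃ m, HasWord P k m ∧ n = s * m := Iff.rfl

theorem HasWord.mem : ∀ {k : ℕ} {n : G}, HasWord P k n → n ∈ P.N
  | 0, _, h => h.2
  | k + 1, _, h => by
    obtain ⟨s, hs, m, hm, rfl⟩ := h
    exact P.N.mul_mem (P.subset hs) (HasWord.mem hm)

theorem conj_mem_inter {n t : G} (hn : n ∈ P.N) (ht : t ∈ P.B ⊓ P.N) : n * t * n⁻¹ ∈ P.B ⊓ P.N :=
  ⟨P.conj_mem n hn t ht, P.N.mul_mem (P.N.mul_mem hn ht.2) (P.N.inv_mem hn)⟩

theorem conj_mem_inter' {n t : G} (hn : n ∈ P.N) (ht : t ∈ P.B ⊓ P.N) : n⁻¹ * t * n ∈ P.B ⊓ P.N := by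
  have := conj_mem_inter P (P.N.inv_mem hn) ht
  simpa using this

theorem HasWord.mul_left : ∀ {k : ℕ} {n t : G}, HasWord P k n → t ∈ P.B ⊓ P.N → HasWord P k (t * n)
  | 0, _, _, h, ht => (P.B ⊓ P.N).mul_mem ht h
  | k + 1, _, t, h, ht => by
    obtain ⟨s, hs, m, hm, rfl⟩ := h
    refine ⟨s, hs, (s⁻¹ * t * s) * m, HasWord.mul_left hm (conj_mem_inter' P (P.subset hs) ht), ?_⟩
    group

theorem HasWord.mul_right : ∀ {k : ℕ} {n t : G}, HasWord P k n → t ∈ P.B ⊓ P.N → HasWord P k (n * t)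
  | 0, _, _, h, ht => (P.B ⊓ P.N).mul_mem h ht
  | k + 1, _, t, h, ht => by
    obtain ⟨s, hs, m, hm, rfl⟩ := h
    exact ⟨s, hs, m * t, HasWord.mul_right hm ht, by group⟩

theorem sq_mem_inter {s : G} (hs : s ∈ P.S) : s * s ∈ P.B ⊓ P.N :=
  ⟨P.sq_mem s hs, P.N.mul_mem (P.subset hs) (P.subset hs)⟩

/-- stripping a letter -/
theorem hasWord_of_mul {k : ℕ} {s n : G} (hs : s ∈ P.S) (h : HasWord P k (s * n)) :
    HasWord P (k + 1) n := by
  have h1 : HasWord P (k + 1) (s * (s * n)) := ⟨s, hs, _, h, rfl⟩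
  have h2 := h1.mul_left P ((P.B ⊓ P.N).inv_mem (sq_mem_inter P hs))
  have e : (s * s)⁻¹ * (s * (s * n)) = n := by group
  rwa [e] at h2

theorem exists_hasWord {n : G} (hn : n ∈ P.N) : ∃ k, HasWord P k n := by
  have hn' : n ∈ Subgroup.closure (P.S ∪ ((P.B ⊓ P.N : Subgroup G) : Set G)) := by
    rw [Subgroup.closure_union, Subgroup.closure_eq, P.closure_sup]
    exact hn
  clear hn
  induction hn' using Subgroup.closure_induction_left with
  | one => exact ⟨0, (P.B ⊓ P.N).one_mem⟩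
  | mul_left x hx y _ ih =>
    obtain ⟨k, hk⟩ := ih
    rcases hx with hx | hx
    · exact ⟨k + 1, x, hx, y, hk, rfl⟩
    · exact ⟨k, hk.mul_left P hx⟩
  | inv_mul_cancel x hx y _ ih =>
    obtain ⟨k, hk⟩ := ih
    rcases hx with hx | hx
    · refine ⟨k + 1, hasWord_of_mul P hx (n := x⁻¹ * y) ?_⟩
      simpa using hk
    · exact ⟨k, hk.mul_left P ((P.B ⊓ P.N).inv_mem hx)⟩

theorem key : ∀ (k : ℕ) (n n' : G), HasWord P k n → n' ∈ P.N → (∀ j < k, ¬ HasWord P j n') →
    n' ∈ DoubleCoset.doubleCoset n (P.B : Set G) P.B → n⁻¹ * n' ∈ P.B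
  | 0, n, n', h, _, _, hc => by
    rw [DoubleCoset.mem_doubleCoset] at hc
    obtain ⟨x, hx, y, hy, rfl⟩ := hc
    exact P.B.mul_mem (P.B.inv_mem h.1) (P.B.mul_mem (P.B.mul_mem hx h.1) hy)
  | k + 1, n, n', h, hn', hj, hc => by
    rw [DoubleCoset.mem_doubleCoset] at hc
    obtain ⟨x, hx, y, hy, e⟩ := hc
    obtain ⟨s, hs, m, hm, rfl⟩ := h
    have hmN : m ∈ P.N := hm.mem P
    -- the element `s * x⁻¹ * n'`
    have e1 : s * x⁻¹ * n' = (s * s) * m * y := by rw [e]; group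
    have hmem : s * x⁻¹ * n' ∈ DoubleCoset.doubleCoset m (P.B : Set G) P.B := by
      rw [e1, DoubleCoset.mem_doubleCoset]
      exact ⟨s * s, P.sq_mem s hs, y, hy, rfl⟩
    rcases P.mul_mem_union s hs n' hn' x⁻¹ (P.B.inv_mem hx) with h1 | h1
    · have e2 : DoubleCoset.doubleCoset m (P.B : Set G) P.B =
          DoubleCoset.doubleCoset (s * n') (P.B : Set G) P.B :=
        (DoubleCoset.doubleCoset_eq_of_mem hmem).symm.trans (DoubleCoset.doubleCoset_eq_of_mem h1)
      have h2 : s * n' ∈ DoubleCoset.doubleCoset m (P.B : Set G) P.B := by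
        rw [e2]; exact DoubleCoset.mem_doubleCoset_self P.B P.B _
      have h3 := key k m (s * n') hm (P.N.mul_mem (P.subset hs) hn')
        (fun j hjk hw => hj (j + 1) (Nat.succ_lt_succ hjk) (hasWord_of_mul P hs hw)) h2
      have h4 : m⁻¹ * (s * s)⁻¹ * m ∈ P.B :=
        (conj_mem_inter' P hmN ((P.B ⊓ P.N).inv_mem (sq_mem_inter P hs))).1
      have e3 : (s * m)⁻¹ * n' = (m⁻¹ * (s * s)⁻¹ * m) * (m⁻¹ * (s * n')) := by group
      rw [e3]
      exact P.B.mul_mem h4 h3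
    · exfalso
      have e2 : DoubleCoset.doubleCoset m (P.B : Set G) P.B =
          DoubleCoset.doubleCoset n' (P.B : Set G) P.B :=
        (DoubleCoset.doubleCoset_eq_of_mem hmem).symm.trans (DoubleCoset.doubleCoset_eq_of_mem h1)
      have h2 : n' ∈ DoubleCoset.doubleCoset m (P.B : Set G) P.B := by
        rw [e2]; exact DoubleCoset.mem_doubleCoset_self P.B P.B _
      have h3 := key k m n' hm hn' (fun j hjk => hj j (Nat.lt_succ_of_lt hjk)) h2
      have h4 : m⁻¹ * n' ∈ P.B ⊓ P.N := ⟨h3, P.N.mul_mem (P.N.inv_mem hmN) hn'⟩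
      have h5 := hm.mul_right P h4
      have e3 : m * (m⁻¹ * n') = n' := by group
      rw [e3] at h5
      exact hj k (Nat.lt_succ_self k) h5

end aux

/-- Bruhat decomposition, uniqueness part: for `n, n' ∈ N` the double cosets `B n B` and `B n' B` coincide
exactly when `n` and `n'` have the same image in `W = N / (B ⊓ N)`. -/
theorem result {G : Type*} [Group G] (P : Cfsg.BNPair G) {n n' : G}
    (hn : n ∈ P.N) (hn' : n' ∈ P.N) :
    DoubleCoset.doubleCoset n (P.B : Set G) P.B = DoubleCoset.doubleCoset n' (P.B : Set G) P.B ↔ n⁻¹ * n' ∈ P.B := by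
  classical
  constructor
  · intro h
    have hk := exists_hasWord P hn
    have hk' := exists_hasWord P hn'
    rcases le_total (Nat.find hk) (Nat.find hk') with hle | hle
    · refine key P (Nat.find hk) n n' (Nat.find_spec hk) hn'
        (fun j hj => Nat.find_min hk' (lt_of_lt_of_le hj hle)) ?_
      rw [h]; exact DoubleCoset.mem_doubleCoset_self P.B P.B _
    · have h1 : n'⁻¹ * n ∈ P.B := by
        refine key P (Nat.find hk') n' n (Nat.find_spec hk') hn
          (fun j hj => Nat.find_min hk (lt_of_lt_of_le hj hle)) ?_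
        rw [← h]; exact DoubleCoset.mem_doubleCoset_self P.B P.B _
      have h2 := P.B.inv_mem h1
      simpa using h2
  · intro h
    have h1 : n' ∈ DoubleCoset.doubleCoset n (P.B : Set G) P.B := by
      rw [DoubleCoset.mem_doubleCoset]
      exact ⟨1, P.B.one_mem, n⁻¹ * n', h, by group⟩
    exact (DoubleCoset.doubleCoset_eq_of_mem h1).symm

end Cfsg.Agent.S0309
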