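import Cfsg.Statements.S1047
import Cfsg.Agent.S1031
import Cfsg.Agent.ChevalleyStructure.Elts
import Cfsg.Agent.ChevalleyStructure.RootVec

set_option autoImplicit false
open Cfsg

namespace Cfsg.Agent.S1047

open Cfsg.Lie Cfsg.Agent.ChevalleyStructure.RootVecTab Cfsg.Agent.ChevalleyStructure.RootVec
open Cfsg.Agent.ChevalleyStructure.Elts

section

variable {F : Type*} [Field F] {D : ChevalleyDatum}

theorem inRootSub_simple (h : Checked D) {J : Set ℕ} {j : ℕ} (hj : j < D.rank) (hJ : j ∈ J) :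
    D.InRootSub J (D.simple j) := by
  rw [inRootSub_iff h]
  refine ⟨simple_lt h hj, fun i _ hiJ => ?_⟩
  rw [rt_simple h hj, if_neg]
  rintro rfl
  exact hiJ hJ

theorem inRootSub_neg (h : Checked D) {J : Set ℕ} {r : ℕ} (hr : D.InRootSub J r) :
    D.InRootSub J (D.neg r) := by
  rw [inRootSub_iff h] at hr ⊢
  refine ⟨neg_lt h hr.1, fun i hi hiJ => ?_⟩
  rw [rt_neg h hr.1, hr.2 i hi hiJ, neg_zero]

/-- `n_p x_s(t) n_p⁻¹ = x_{w_p(s)}(± t)`. -/
theorem nG_conj (hD : InList D) {i s : ℕ} (hi : i < D.rank) (hs : s < D.nroots) (t : F) :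
    ∃ t' : F, nG hD (D.simple i) 1 * xG hD s t = xG hD (D.reflectRoot i s) t' * nG hD (D.simple i) 1 := by
  obtain ⟨η, _, h⟩ := Cfsg.Agent.S1031.result (F := F) D hD i s hi hs
  exact ⟨η * t, Units.ext (by simpa using h t)⟩

theorem nG_mem_parabolic (hD : InList D) {J : Set ℕ} {j : ℕ} (hj : j < D.rank) (hJ : j ∈ J) :
    nG hD (D.simple j) (1 : F) ∈ D.parabolicSubgroup F J :=
  (le_sup_right : _ ≤ D.parabolicSubgroup F J) (Subgroup.subset_closure ⟨j, hJ, hj, coe_nG hD _ _⟩)

theorem posUnipotent_le_parabolic (D : ChevalleyDatum) (F : Type*) [Field F] (J : Set ℕ) :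
    D.posUnipotent F ≤ D.parabolicSubgroup F J :=
  (le_sup_left : D.posUnipotent F ≤ D.borelSubgroup F).trans (le_sup_left : _ ≤ D.parabolicSubgroup F J)

theorem diagonal_le_parabolic (D : ChevalleyDatum) (F : Type*) [Field F] (J : Set ℕ) :
    D.diagonalSubgroup F ≤ D.parabolicSubgroup F J :=
  (le_sup_right : D.diagonalSubgroup F ≤ D.borelSubgroup F).trans (le_sup_left : _ ≤ D.parabolicSubgroup F J)

/-- Height of a root. -/
def ht (D : ChevalleyDatum) (r : ℕ) : ℤ := ∑ i ∈ Finset.range D.rank, rt D r i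

theorem ht_reflect (h : Checked D) {i r : ℕ} (hi : i < D.rank) (hr : r < D.nroots) :
    ht D (D.reflectRoot i r) = ht D r - D.cartan i r := by
  have h1 : ht D (D.reflectRoot i r) =
      ∑ j ∈ Finset.range D.rank, (rt D r j - if j = i then D.cartan i r else 0) :=
    Finset.sum_congr rfl fun j _ => by
      rw [(reflectRoot_rt h hi hr).2]
      split_ifs <;> ring
  rw [h1, Finset.sum_sub_distrib, Finset.sum_ite_eq' (Finset.range D.rank) i,
    if_pos (Finset.mem_range.mpr hi)]
  rfl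

theorem xG_mem_parabolic (hD : InList D) (h : Checked D) {J : Set ℕ} :
    ∀ (m r : ℕ), - ht D r < m → D.InRootSub J r → ∀ t : F, xG hD r t ∈ D.parabolicSubgroup F J := by
  intro m
  induction m with
  | zero =>
    intro r hm hr t
    rcases pos_or_neg h hr.1 with hp | hn
    · exact posUnipotent_le_parabolic D F J (xG_mem_posUnipotent hD hp t)
    · exfalso
      have h0 : ht D r ≤ 0 :=
        Finset.sum_nonpos fun i hi => ((isNegRoot_iff h r).mp hn).2 i (Finset.mem_range.mp hi)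
      have : ((0 : ℕ) : ℤ) = 0 := rfl
      omega
  | succ m ih =>
    intro r hm hr t
    have hr' := hr.1
    rcases pos_or_neg h hr' with hp | hn
    · exact posUnipotent_le_parabolic D F J (xG_mem_posUnipotent hD hp t)
    · obtain ⟨i, hi, h1, h2⟩ := exists_descent h hn
      have hiJ : i ∈ J := by
        by_contra hiJ
        have := ((inRootSub_iff h J r).mp hr).2 i hi hiJ
        omega
      obtain ⟨h3, h4⟩ := reflectRoot_rt h hi hr'
      have hsub : D.InRootSub J (D.reflectRoot i r) := by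
        rw [inRootSub_iff h]
        refine ⟨h3, fun k hk hkJ => ?_⟩
        rw [h4, ((inRootSub_iff h J r).mp hr).2 k hk hkJ, if_neg (by rintro rfl; exact hkJ hiJ)]
        ring
      have hht := ht_reflect h hi hr'
      obtain ⟨t', ht'⟩ := nG_conj hD hi hr' t
      have hx := ih (D.reflectRoot i r) (by push_cast at hm; omega) hsub t'
      have hn' := nG_mem_parabolic (F := F) hD hi hiJ
      have : xG hD r t = (nG hD (D.simple i) 1)⁻¹ * (xG hD (D.reflectRoot i r) t' * nG hD (D.simple i) 1) := by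
        rw [← ht', inv_mul_cancel_left]
      rw [this]
      exact mul_mem (inv_mem hn') (mul_mem hx hn')

end

/-- `P_J = ⟨H, X_r : r ∈ Φ⁺ ∪ Φ_J⟩`. -/
theorem result {F : Type*} [Field F] (D : Cfsg.Lie.ChevalleyDatum) (hD : D ∈ [Cfsg.Lie.chevG2, Cfsg.Lie.chevB2, Cfsg.Lie.chevD4, Cfsg.Lie.chevF4, Cfsg.Lie.chevE6, Cfsg.Lie.chevE7, Cfsg.Lie.chevE8]) (J : Set ℕ) :
    D.parabolicSubgroup F J = D.diagonalSubgroup F ⊔
      Subgroup.closure {g : GL D.Idx F | ∃ (r : ℕ) (t : F), (D.IsPosRoot r ∨ D.InRootSub J r) ∧ (g : Matrix D.Idx D.Idx F) = D.x F r t} := by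
  have h := checked_of_mem hD
  apply le_antisymm
  · refine sup_le (sup_le ?_ le_sup_left) ?_
    · refine (posUnipotent_le_iff hD _).2 fun r hr t => ?_
      exact (le_sup_right : _ ≤ D.diagonalSubgroup F ⊔ _) (Subgroup.subset_closure ⟨r, t, Or.inl hr, rfl⟩)
    · refine (Subgroup.closure_le _).2 ?_
      rintro g ⟨j, hJ, hj, hg⟩
      rw [(eq_nG_iff hD g _ 1).2 hg, nG_def]
      have h1 := inRootSub_simple h hj hJ
      have h2 := inRootSub_neg h h1
      have key : ∀ r, D.InRootSub J r → ∀ t : F, xG hD r t ∈ D.diagonalSubgroup F ⊔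
          Subgroup.closure {g : GL D.Idx F | ∃ (r : ℕ) (t : F), (D.IsPosRoot r ∨ D.InRootSub J r) ∧
            (g : Matrix D.Idx D.Idx F) = D.x F r t} := fun r hr t =>
        (le_sup_right : _ ≤ D.diagonalSubgroup F ⊔ _) (Subgroup.subset_closure ⟨r, t, Or.inr hr, rfl⟩)
      exact mul_mem (key _ h1 _) (mul_mem (key _ h2 _) (key _ h1 _))
  · refine sup_le (diagonal_le_parabolic D F J) ((Subgroup.closure_le _).2 ?_)
    rintro g ⟨r, t, hr, hg⟩
    rw [(eq_xG_iff hD g r t).2 hg]
    rcases hr with hr | hr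
    · exact posUnipotent_le_parabolic D F J (xG_mem_posUnipotent hD hr t)
    · exact xG_mem_parabolic hD h ((- ht D r).toNat + 1) r (by
        have := Int.self_le_toNat (- ht D r)
        push_cast
        omega) hr t

end Cfsg.Agent.S1047
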