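import Cfsg.Statements.S1048
import Cfsg.Agent.S1025
import Cfsg.Agent.S1032
import Cfsg.Agent.S1033
import Cfsg.Agent.S1034
import Cfsg.Agent.S1047
import Cfsg.Agent.ChevalleyStructure.RootSupport

set_option autoImplicit false
open Cfsg

namespace Cfsg.Agent.S1048

open Cfsg.Lie Cfsg.Agent.ChevalleyStructure.RootVecTab Cfsg.Agent.ChevalleyStructure.RootVec
open Cfsg.Agent.ChevalleyStructure.Elts Cfsg.Agent.ChevalleyStructure.RootSupport

section

theorem mem_norm {G : Type*} [Group G] {S : Set G} {g : G} (h1 : ∀ s ∈ S, g * s * g⁻¹ ∈ Subgroup.closure S)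
    (h2 : ∀ s ∈ S, g⁻¹ * s * g ∈ Subgroup.closure S) :
    g ∈ Subgroup.normalizer (Subgroup.closure S : Set G) := by
  have key : ∀ a : G, (∀ s ∈ S, a * s * a⁻¹ ∈ Subgroup.closure S) → ∀ x ∈ Subgroup.closure S,
      a * x * a⁻¹ ∈ Subgroup.closure S := by
    intro a ha x hx
    have : Subgroup.closure S ≤ (Subgroup.closure S).comap (MulAut.conj a).toMonoidHom :=
      (Subgroup.closure_le _).2 fun s hs => ha s hs
    exact this hx
  rw [Subgroup.mem_normalizer_iff]
  intro x
  refine ⟨fun hx => key g h1 x hx, fun hx => ?_⟩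
  have := key g⁻¹ (fun s hs => by rw [inv_inv]; exact h2 s hs) _ hx
  rw [inv_inv] at this
  convert this using 1
  group

variable {F : Type*} [Field F] {D : ChevalleyDatum}

/-- A root that is positive and outside Φ_J. -/
def Out (D : ChevalleyDatum) (J : Set ℕ) (r : ℕ) : Prop := D.IsPosRoot r ∧ ¬ D.InRootSub J r

theorem out_iff (h : Checked D) (J : Set ℕ) (r : ℕ) :
    Out D J r ↔ D.IsPosRoot r ∧ ∃ a < D.rank, a ∉ J ∧ 0 < rt D r a := by
  refine and_congr_right fun hr => ?_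
  have hr' := (isPosRoot_iff h r).mp hr
  rw [inRootSub_iff h]
  constructor
  · intro H
    push Not at H
    obtain ⟨a, ha, haJ, hne⟩ := H hr.1
    exact ⟨a, ha, haJ, lt_of_le_of_ne (hr'.2 a ha) (Ne.symm hne)⟩
  · rintro ⟨a, ha, haJ, hpos⟩ ⟨_, H⟩
    have := H a ha haJ
    omega

/-- `i r + j s` (i, j ≥ 1) is positive outside Φ_J when `r ∈ Φ_J` and `s` is positive outside Φ_J. -/
theorem out_of_comb (h : Checked D) {J : Set ℕ} {r s u i j : ℕ} (hu : u < D.nroots) (hr : D.InRootSub J r)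
    (hs : Out D J s) (hj : 1 ≤ j) (e : ∀ a, rt D u a = (i : ℤ) * rt D r a + (j : ℤ) * rt D s a) :
    Out D J u := by
  rw [out_iff h] at hs ⊢
  obtain ⟨hs1, a, ha, haJ, hpos⟩ := hs
  have h1 : 0 < rt D u a := by
    rw [e, ((inRootSub_iff h J r).mp hr).2 a ha haJ]
    have : (0 : ℤ) < j := by exact_mod_cast hj
    positivity
  refine ⟨?_, a, ha, haJ, h1⟩
  rcases pos_or_neg h hu with hp | hn
  · exact hp
  · have := ((isNegRoot_iff h u).mp hn).2 a ha
    omega

theorem xG_mem_radical (hD : InList D) {J : Set ℕ} {s : ℕ} (hs : Out D J s) (t : F) :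
    xG hD s t ∈ D.unipotentRadical F J :=
  Subgroup.subset_closure ⟨s, t, hs.1, hs.2, rfl⟩

/-- `x_r(t)⁻¹ x_s(u) x_r(t) ∈ U_J` for `r ∈ Φ_J`, `s` positive outside Φ_J. -/
theorem conj_mem (hD : InList D) (h : Checked D) {J : Set ℕ} {r s : ℕ} (hr : D.InRootSub J r)
    (hs : Out D J s) (t u : F) :
    (xG hD r t)⁻¹ * xG hD s u * xG hD r t ∈ D.unipotentRadical F J := by
  have hne : s ≠ r := by rintro rfl; exact hs.2 hr
  have hne' : s ≠ D.neg r := by rintro rfl; exact hs.2 (S1047.inRootSub_neg h hr)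
  have hc := Cfsg.Agent.S1025.result (F := F) D hD r s hr.1 hs.1.1 hne hne' t u
  have hc' : xG hD s u * xG hD r t = xG hD r t * xG hD s u * wordG hD (D.commWord F r s t u) :=
    Units.ext (by simpa using hc)
  have e : (xG hD r t)⁻¹ * xG hD s u * xG hD r t = xG hD s u * wordG hD (D.commWord F r s t u) := by
    rw [mul_assoc, hc']
    group
  rw [e]
  refine mul_mem (xG_mem_radical hD hs u) (mem_of_xG_mem hD ?_)
  intro p hp
  have hdef : D.commWord F r s t u = (D.commTerms r s).map fun c => (c.1, (c.2.1 : F) * (-t) ^ c.2.2.1 * u ^ c.2.2.2) :=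
    rfl
  rw [hdef, List.mem_map] at hp
  obtain ⟨⟨v, C, i, j⟩, hc, rfl⟩ := hp
  obtain ⟨hv, _, _, _, hj, e⟩ := commTerms_rt h hc
  exact xG_mem_radical hD (out_of_comb h hv hr hs hj e) _

theorem radical_eq (D : ChevalleyDatum) (F : Type*) [Field F] (J : Set ℕ) : D.unipotentRadical F J =
    Subgroup.closure {g : GL D.Idx F | ∃ (r : ℕ) (t : F), D.IsPosRoot r ∧ ¬ D.InRootSub J r ∧
      (g : Matrix D.Idx D.Idx F) = D.x F r t} := rfl

/-- `X_r` normalises `U_J` for `r ∈ Φ_J`. -/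
theorem xG_mem_normalizer (hD : InList D) (h : Checked D) {J : Set ℕ} {r : ℕ} (hr : D.InRootSub J r) (t : F) :
    xG hD r t ∈ Subgroup.normalizer (D.unipotentRadical F J : Set (GL D.Idx F)) := by
  rw [radical_eq]
  refine mem_norm (G := GL D.Idx F) ?_ ?_
  · rintro g ⟨s, u, hs1, hs2, hg⟩
    rw [(eq_xG_iff hD g s u).2 hg, ← radical_eq]
    have := conj_mem (F := F) hD h hr ⟨hs1, hs2⟩ (-t) u
    rw [← xG_inv, inv_inv] at this
    exact this
  · rintro g ⟨s, u, hs1, hs2, hg⟩
    rw [(eq_xG_iff hD g s u).2 hg, ← radical_eq]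
    exact conj_mem hD h hr ⟨hs1, hs2⟩ t u

/-- `h_p(c) x_s(t) h_p(c)⁻¹ ∈ X_s`. -/
theorem hG_conj (hD : InList D) {i s : ℕ} (hi : i < D.rank) (hs : s < D.nroots) {c : F} (hc : c ≠ 0) (t : F) :
    hG hD (D.simple i) c * xG hD s t * (hG hD (D.simple i) c)⁻¹ = xG hD s (c ^ (D.cartan i s) * t) := by
  have h1 := Cfsg.Agent.S1032.result (F := F) D hD i s hi hs c hc t
  have h2 : hG hD (D.simple i) c * xG hD s t = xG hD s (c ^ (D.cartan i s) * t) * hG hD (D.simple i) c :=
    Units.ext (by simpa using h1)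
  rw [h2, mul_inv_cancel_right]

theorem hG_conj' (hD : InList D) {i s : ℕ} (hi : i < D.rank) (hs : s < D.nroots) {c : F} (hc : c ≠ 0) (t : F) :
    (hG hD (D.simple i) c)⁻¹ * xG hD s t * hG hD (D.simple i) c = xG hD s ((c ^ (D.cartan i s))⁻¹ * t) := by
  have h1 := hG_conj hD hi hs hc ((c ^ (D.cartan i s))⁻¹ * t)
  rw [mul_inv_cancel_left₀ (zpow_ne_zero _ hc)] at h1
  rw [← h1]
  group

theorem hG_mem_normalizer (hD : InList D) {J : Set ℕ} {i : ℕ} (hi : i < D.rank) {c : F} (hc : c ≠ 0) :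
    hG hD (D.simple i) c ∈ Subgroup.normalizer (D.unipotentRadical F J : Set (GL D.Idx F)) := by
  rw [radical_eq]
  refine mem_norm (G := GL D.Idx F) ?_ ?_
  · rintro g ⟨s, u, hs1, hs2, hg⟩
    rw [(eq_xG_iff hD g s u).2 hg, ← radical_eq, hG_conj hD hi hs1.1 hc]
    exact xG_mem_radical hD ⟨hs1, hs2⟩ _
  · rintro g ⟨s, u, hs1, hs2, hg⟩
    rw [(eq_xG_iff hD g s u).2 hg, ← radical_eq, hG_conj' hD hi hs1.1 hc]
    exact xG_mem_radical hD ⟨hs1, hs2⟩ _

/-- A subgroup containing all `h_p(c)`, `p` fundamental, contains `H`. -/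
theorem diagonal_le_of (hD : InList D) (K : Subgroup (GL D.Idx F))
    (hK : ∀ i < D.rank, ∀ c : F, c ≠ 0 → hG hD (D.simple i) c ∈ K) : D.diagonalSubgroup F ≤ K := by
  intro g hg
  obtain ⟨c, hc, hgc⟩ := Cfsg.Agent.S1034.result (F := F) D hD g hg
  rw [(eq_wordG_iff hD g _).2 hgc]
  have key : ∀ L : List ℕ, (∀ i ∈ L, i < D.rank) →
      wordG hD (L.flatMap fun i => D.hWord (D.simple i) (c i)) ∈ K := by
    intro L
    induction L with
    | nil => intro _; exact K.one_mem
    | cons a L ih =>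
      intro hL
      rw [List.flatMap_cons, wordG_append]
      exact K.mul_mem (hK a (hL a List.mem_cons_self) (c a) (hc a (hL a List.mem_cons_self)))
        (ih fun i hi => hL i (List.mem_cons_of_mem _ hi))
  exact key _ fun i hi => List.mem_range.mp hi

/-! ### The grading -/

open Classical in
/-- Degree of a basis vector with respect to the grading given by the complement of `J`. -/
noncomputable def deg (D : ChevalleyDatum) (J : Set ℕ) (a : D.Idx) : ℤ :=
  ∑ i ∈ (Finset.range D.rank).filter (fun i => i ∉ J), wt D a i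

open Classical in
/-- Degree of a root. -/
noncomputable def rdeg (D : ChevalleyDatum) (J : Set ℕ) (r : ℕ) : ℤ :=
  ∑ i ∈ (Finset.range D.rank).filter (fun i => i ∉ J), rt D r i

theorem deg_of_wt (J : Set ℕ) {a b : D.Idx} {r k : ℕ} (e : ∀ i, wt D a i = wt D b i + (k : ℤ) * rt D r i) :
    deg D J a = deg D J b + k * rdeg D J r := by
  classical
  unfold deg rdeg
  rw [Finset.mul_sum, ← Finset.sum_add_distrib]
  exact Finset.sum_congr (by congr) fun i _ => e i

theorem rdeg_of_inRootSub (h : Checked D) {J : Set ℕ} {r : ℕ} (hr : D.InRootSub J r) : rdeg D J r = 0 := by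
  classical
  unfold rdeg
  refine Finset.sum_eq_zero fun i hi => ?_
  rw [Finset.mem_filter, Finset.mem_range] at hi
  exact ((inRootSub_iff h J r).mp hr).2 i hi.1 hi.2

theorem rdeg_of_out (h : Checked D) {J : Set ℕ} {r : ℕ} (hr : Out D J r) : 0 < rdeg D J r := by
  classical
  rw [out_iff h] at hr
  obtain ⟨hr, a, ha, haJ, hpos⟩ := hr
  unfold rdeg
  refine Finset.sum_pos' (fun i hi => ?_) ⟨a, ?_, hpos⟩
  · rw [Finset.mem_filter, Finset.mem_range] at hi
    exact ((isPosRoot_iff h r).mp hr).2 i hi.1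
  · rw [Finset.mem_filter, Finset.mem_range]; exact ⟨ha, haJ⟩

/-- Matrices preserving the grading. -/
def PL (J : Set ℕ) (A : Matrix D.Idx D.Idx F) : Prop := ∀ a b, A a b ≠ 0 → deg D J a = deg D J b

/-- Matrices strictly raising the degree up to the identity. -/
def PU (J : Set ℕ) (A : Matrix D.Idx D.Idx F) : Prop := ∀ a b, (A - 1) a b ≠ 0 → deg D J b < deg D J a

theorem PL_mul {J : Set ℕ} {A B : Matrix D.Idx D.Idx F} (hA : PL J A) (hB : PL J B) : PL J (A * B) := by
  intro a b hab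
  rw [Matrix.mul_apply] at hab
  obtain ⟨c, _, hc⟩ := Finset.exists_ne_zero_of_sum_ne_zero hab
  rw [hA a c (left_ne_zero_of_mul hc), hB c b (right_ne_zero_of_mul hc)]

theorem PL_one {J : Set ℕ} : PL J (1 : Matrix D.Idx D.Idx F) := by
  intro a b hab
  by_cases h : a = b
  · rw [h]
  · rw [Matrix.one_apply_ne h] at hab; exact (hab rfl).elim

theorem PU_mul {J : Set ℕ} {A B : Matrix D.Idx D.Idx F} (hA : PU J A) (hB : PU J B) : PU J (A * B) := by
  intro a b hab
  have e : A * B - 1 = (A - 1) * (B - 1) + ((A - 1) + (B - 1)) := by noncomm_ring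
  rw [e, Matrix.add_apply, Matrix.add_apply, Matrix.mul_apply] at hab
  by_cases h1 : (A - 1) a b = 0
  · by_cases h2 : (B - 1) a b = 0
    · rw [h1, h2, add_zero, add_zero] at hab
      obtain ⟨c, _, hc⟩ := Finset.exists_ne_zero_of_sum_ne_zero hab
      exact (hB c b (right_ne_zero_of_mul hc)).trans (hA a c (left_ne_zero_of_mul hc))
    · exact hB a b h2
  · exact hA a b h1

theorem PU_one {J : Set ℕ} : PU J (1 : Matrix D.Idx D.Idx F) := by
  intro a b hab
  rw [sub_self] at hab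
  exact (hab rfl).elim

/-- The subgroup of elements with `P g` and `P g⁻¹`. -/
def subOf (P : Matrix D.Idx D.Idx F → Prop) (h1 : P 1) (hm : ∀ {A B}, P A → P B → P (A * B)) :
    Subgroup (GL D.Idx F) where
  carrier := {g | P (g : Matrix D.Idx D.Idx F) ∧ P ((g⁻¹ : GL D.Idx F) : Matrix D.Idx D.Idx F)}
  one_mem' := ⟨h1, by rw [inv_one]; exact h1⟩
  mul_mem' := by
    rintro a b ⟨ha, ha'⟩ ⟨hb, hb'⟩
    refine ⟨?_, ?_⟩
    · rw [Units.val_mul]; exact hm ha hb
    · rw [mul_inv_rev, Units.val_mul]; exact hm hb' ha'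
  inv_mem' := by
    rintro a ⟨ha, ha'⟩
    exact ⟨ha', by rw [inv_inv]; exact ha⟩

theorem PU_x (h : Checked D) {J : Set ℕ} {r : ℕ} (hr : Out D J r) (t : F) : PU J (D.x F r t) := by
  intro a b hab
  obtain ⟨k, hk, e⟩ := x_sub_one_support h r t a b hab
  rw [deg_of_wt J e]
  have := rdeg_of_out h hr
  have : (0 : ℤ) < k := by exact_mod_cast hk
  have : 0 < (k : ℤ) * rdeg D J r := by positivity
  omega

theorem PL_x (h : Checked D) {J : Set ℕ} {r : ℕ} (hr : D.InRootSub J r) (t : F) : PL J (D.x F r t) := by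
  intro a b hab
  by_cases h1 : a = b
  · rw [h1]
  · have h2 : (D.x F r t - 1) a b ≠ 0 := by
      rw [Matrix.sub_apply, Matrix.one_apply_ne h1, sub_zero]; exact hab
    obtain ⟨k, hk, e⟩ := x_sub_one_support h r t a b h2
    rw [deg_of_wt J e, rdeg_of_inRootSub h hr]
    ring

theorem radical_le (hD : InList D) (h : Checked D) (J : Set ℕ) :
    D.unipotentRadical F J ≤ subOf (PU J) PU_one PU_mul := by
  refine (Subgroup.closure_le _).2 ?_
  rintro g ⟨s, u, hs1, hs2, hg⟩
  rw [(eq_xG_iff hD g s u).2 hg]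
  exact ⟨PU_x h ⟨hs1, hs2⟩ u, by rw [xG_inv]; exact PU_x h ⟨hs1, hs2⟩ _⟩

theorem levi_le (hD : InList D) (h : Checked D) (J : Set ℕ) :
    D.leviSubgroup F J ≤ subOf (PL J) PL_one PL_mul := by
  refine sup_le (diagonal_le_of hD _ ?_) ((Subgroup.closure_le _).2 ?_)
  · intro i hi c hc
    have hdiag := Cfsg.Agent.S1033.result (F := F) D hD i hi c hc
    have h1 : PL J (D.hMat F (D.simple i) c) := by
      intro a b hab
      rw [hdiag] at hab
      by_cases e : a = b
      · rw [e]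
      · rw [Matrix.diagonal_apply_ne _ e] at hab; exact (hab rfl).elim
    refine ⟨by rw [coe_hG]; exact h1, ?_⟩
    have hinv : (((hG hD (D.simple i) c)⁻¹ : GL D.Idx F) : Matrix D.Idx D.Idx F) =
        Matrix.diagonal (Sum.elim (fun _ => (1 : F)) (fun s : Fin D.nroots => (c ^ (D.cartan i s))⁻¹)) := by
      have : (hG hD (D.simple i) c : Matrix D.Idx D.Idx F) * Matrix.diagonal
          (Sum.elim (fun _ => (1 : F)) (fun s : Fin D.nroots => (c ^ (D.cartan i s))⁻¹)) = 1 := by
        rw [coe_hG, hdiag, Matrix.diagonal_mul_diagonal, ← Matrix.diagonal_one]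
        congr 1
        ext a
        rcases a with a | a
        · simp
        · simp only [Sum.elim_inr]
          exact mul_inv_cancel₀ (zpow_ne_zero _ hc)
      rw [Matrix.coe_units_inv, Matrix.inv_eq_right_inv this]
    rw [hinv]
    intro a b hab
    by_cases e : a = b
    · rw [e]
    · rw [Matrix.diagonal_apply_ne _ e] at hab; exact (hab rfl).elim
  · rintro g ⟨s, u, hs, hg⟩
    rw [(eq_xG_iff hD g s u).2 hg]
    exact ⟨PL_x h hs u, by rw [xG_inv]; exact PL_x h hs _⟩

end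

/-- `U_J ⊴ P_J`, `P_J = U_J L_J` and `U_J ∩ L_J = 1` (Levi decomposition of the standard parabolic subgroup). -/
theorem result {F : Type*} [Field F] (D : Cfsg.Lie.ChevalleyDatum) (hD : D ∈ [Cfsg.Lie.chevG2, Cfsg.Lie.chevB2, Cfsg.Lie.chevD4, Cfsg.Lie.chevF4, Cfsg.Lie.chevE6, Cfsg.Lie.chevE7, Cfsg.Lie.chevE8]) (J : Set ℕ) :
    D.parabolicSubgroup F J ≤ Subgroup.normalizer (D.unipotentRadical F J : Set (GL D.Idx F)) ∧
      D.unipotentRadical F J ⊔ D.leviSubgroup F J = D.parabolicSubgroup F J ∧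
      D.unipotentRadical F J ⊓ D.leviSubgroup F J = ⊥ := by
  have h := checked_of_mem hD
  have hP := Cfsg.Agent.S1047.result (F := F) D hD J
  refine ⟨?_, ?_, ?_⟩
  · rw [hP]
    refine sup_le (diagonal_le_of hD _ fun i hi c hc => hG_mem_normalizer hD hi hc)
      ((Subgroup.closure_le _).2 ?_)
    rintro g ⟨s, u, hs, hg⟩
    rw [(eq_xG_iff hD g s u).2 hg]
    by_cases hsJ : D.InRootSub J s
    · exact xG_mem_normalizer hD h hsJ u
    · rcases hs with hs | hs
      · exact Subgroup.le_normalizer (xG_mem_radical hD ⟨hs, hsJ⟩ u)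
      · exact absurd hs hsJ
  · apply le_antisymm
    · refine sup_le ?_ ?_
      · refine (Subgroup.closure_le _).2 ?_
        rintro g ⟨s, u, hs1, hs2, hg⟩
        rw [(eq_xG_iff hD g s u).2 hg]
        exact S1047.posUnipotent_le_parabolic D F J (xG_mem_posUnipotent hD hs1 u)
      · rw [hP]
        refine sup_le_sup_left (Subgroup.closure_mono ?_) _
        rintro g ⟨r, t, hr, hg⟩
        exact ⟨r, t, Or.inr hr, hg⟩
    · rw [hP]
      refine sup_le ((le_sup_left : _ ≤ D.leviSubgroup F J).trans le_sup_right) ((Subgroup.closure_le _).2 ?_)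
      rintro g ⟨s, u, hs, hg⟩
      by_cases hsJ : D.InRootSub J s
      · exact (le_sup_right : D.leviSubgroup F J ≤ _)
          ((le_sup_right : _ ≤ D.leviSubgroup F J) (Subgroup.subset_closure ⟨s, u, hsJ, hg⟩))
      · rcases hs with hs | hs
        · exact (le_sup_left : D.unipotentRadical F J ≤ _) (Subgroup.subset_closure ⟨s, u, hs, hsJ, hg⟩)
        · exact absurd hs hsJ
  · rw [eq_bot_iff]
    rintro g ⟨hU, hL⟩
    have h1 := (radical_le hD h J hU).1
    have h2 := (levi_le hD h J hL).1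
    rw [Subgroup.mem_bot]
    apply Units.ext
    rw [Units.val_one, ← sub_eq_zero]
    ext a b
    by_contra hne
    have h3 := h1 a b hne
    have hab : a ≠ b := by rintro rfl; exact lt_irrefl _ h3
    have h4 : (g : Matrix D.Idx D.Idx F) a b ≠ 0 := by
      have : ((g : Matrix D.Idx D.Idx F) - 1) a b ≠ 0 := hne
      rwa [Matrix.sub_apply, Matrix.one_apply_ne hab, sub_zero] at this
    have := h2 a b h4
    omega

end Cfsg.Agent.S1048
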