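import Cfsg.Statements.S0319
import Cfsg.Agent.LieExceptional.BNPairCore

set_option autoImplicit false
open Cfsg

namespace Cfsg.Agent.S0319

/-- A distinguished representative does not lie in `B`. -/
theorem not_mem_of_mem_S {G : Type*} [Group G] (P : Cfsg.BNPair G) {s : G} (hs : s ∈ P.S) :
    s ∉ P.B := by
  intro hsB
  apply P.conj_ne s hs
  ext x
  constructor
  · rintro ⟨b, hb, rfl⟩
    exact P.B.mul_mem (P.B.mul_mem hsB hb) hsB
  · intro hx
    refine ⟨s⁻¹ * x * s⁻¹, ?_, ?_⟩
    · exact P.B.mul_mem (P.B.mul_mem (P.B.inv_mem hsB) hx) (P.B.inv_mem hsB)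
    · simp [mul_assoc]

/-- The parabolic subgroup of one generator `s` is contained in `B ∪ B s B`. -/
theorem mem_parabolic_singleton {G : Type*} [Group G] (P : Cfsg.BNPair G) {s : G} (hs : s ∈ P.S)
    {g : G} (hg : g ∈ P.parabolic {s}) :
    g ∈ P.B ∨ ∃ a ∈ P.B, ∃ b ∈ P.B, g = a * s * b := by
  have hss : s * s ∈ P.B := P.sq_mem s hs
  obtain ⟨n, hn, hgn⟩ := (LieExceptional.BNPairCore.mem_parabolic_iff (J := {s}) (by simpa using hs) g).1 hg
  obtain ⟨a, ha, b, hb, hab⟩ := DoubleCoset.mem_doubleCoset.1 hgn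
  -- `n = s ^ k` lies in `B` or in `s B`
  have key : n ∈ P.B ∨ ∃ c ∈ P.B, n = s * c := by
    rw [← Subgroup.zpowers_eq_closure, Subgroup.mem_zpowers_iff] at hn
    obtain ⟨k, rfl⟩ := hn
    rcases Int.even_or_odd' k with ⟨m, rfl | rfl⟩
    · left
      rw [zpow_mul]
      apply P.B.zpow_mem
      have : s ^ (2 : ℤ) = s * s := by
        rw [zpow_two]
      rw [this]; exact hss
    · right
      refine ⟨(s * s) ^ m, P.B.zpow_mem hss m, ?_⟩
      have : s * s = s ^ (2 : ℤ) := by
        rw [zpow_two]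
      rw [this, ← zpow_mul, add_comm, zpow_add, zpow_one]
  rcases key with hnB | ⟨c, hc, rfl⟩
  · left
    rw [hab]
    exact P.B.mul_mem (P.B.mul_mem ha hnB) hb
  · right
    exact ⟨a, ha, c * b, P.B.mul_mem hc hb, by rw [hab]; group⟩

/-- If `H` is normal and `H B` is the parabolic of `J`, then elements of `J` and of `S \ J` commute
modulo `B`. -/
theorem commute_of_normal {G : Type*} [Group G] (P : Cfsg.BNPair G) (H : Subgroup G) [H.Normal]
    {J : Set G} (hJ : J ⊆ P.S) (hHJ : H ⊔ P.B = P.parabolic J) {s s' : G} (hs : s ∈ J)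
    (hs' : s' ∈ P.S \ J) : s * s' * s⁻¹ * s'⁻¹ ∈ P.B := by
  have hsS : s ∈ P.S := hJ hs
  have hsN : s ∈ P.N := P.subset hsS
  have hs'N : s' ∈ P.N := P.subset hs'.1
  have hsHB : s ∈ H ⊔ P.B := by
    rw [hHJ]
    exact (le_sup_right : Subgroup.closure J ≤ _) (Subgroup.subset_closure hs)
  obtain ⟨h, hh, b, hb, hhb⟩ := (Subgroup.mem_sup_of_normal_left).1 hsHB
  -- `s b⁻¹ = h ∈ H`
  have h1 : s * b⁻¹ ∈ H := by
    rw [← hhb]; simpa [mul_assoc] using hh
  have h2 : s' * (s * b⁻¹) * s'⁻¹ ∈ P.parabolic J := by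
    rw [← hHJ]
    exact (le_sup_left : H ≤ _) (Subgroup.Normal.conj_mem inferInstance _ h1 _)
  have hK : ({s, s'} : Set G) ⊆ P.S := by
    rintro x (rfl | rfl)
    · exact hsS
    · exact hs'.1
  have h3 : s' * (s * b⁻¹) * s'⁻¹ ∈ P.parabolic {s, s'} := by
    have hB : P.B ≤ P.parabolic {s, s'} := le_sup_left
    have hcl : ∀ x ∈ ({s, s'} : Set G), x ∈ P.parabolic {s, s'} := fun x hx =>
      (le_sup_right : Subgroup.closure ({s, s'} : Set G) ≤ _) (Subgroup.subset_closure hx)
    refine Subgroup.mul_mem _ (Subgroup.mul_mem _ (hcl s' (by simp)) (Subgroup.mul_mem _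
      (hcl s (by simp)) (Subgroup.inv_mem _ (hB hb)))) (Subgroup.inv_mem _ (hcl s' (by simp)))
  have hJK : J ∩ {s, s'} = {s} := by
    ext x
    constructor
    · rintro ⟨hxJ, rfl | rfl⟩
      · rfl
      · exact absurd hxJ hs'.2
    · rintro rfl
      exact ⟨hs, by simp⟩
  have h4 : s' * (s * b⁻¹) * s'⁻¹ ∈ P.parabolic {s} := by
    have hinf : s' * (s * b⁻¹) * s'⁻¹ ∈ P.parabolic J ⊓ P.parabolic {s, s'} := ⟨h2, h3⟩
    rw [LieExceptional.BNPairCore.eq_parabolic (P := P) (M := P.parabolic J ⊓ P.parabolic {s, s'})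
      (le_inf le_sup_left le_sup_left)] at hinf
    have hset : P.S ∩ ((P.parabolic J ⊓ P.parabolic {s, s'} : Subgroup G) : Set G) = {s} := by
      rw [← hJK]
      ext x
      constructor
      · rintro ⟨hxS, hx1, hx2⟩
        exact ⟨(LieExceptional.BNPairCore.mem_parabolic_gen_iff hJ hxS).1 hx1,
          (LieExceptional.BNPairCore.mem_parabolic_gen_iff hK hxS).1 hx2⟩
      · rintro ⟨hx1, hx2⟩
        have hxS := hJ hx1
        exact ⟨hxS, (LieExceptional.BNPairCore.mem_parabolic_gen_iff hJ hxS).2 hx1,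
          (LieExceptional.BNPairCore.mem_parabolic_gen_iff hK hxS).2 hx2⟩
    rwa [hset] at hinf
  -- `s' s` lies in `B s' B` or in `B s s' B`
  have h5 : s' * s ∈ DoubleCoset.doubleCoset s' (P.B : Set G) P.B ∨
      s' * s ∈ DoubleCoset.doubleCoset (s * s') (P.B : Set G) P.B := by
    rcases mem_parabolic_singleton P hsS h4 with h | ⟨a, ha, c, hc, hac⟩
    · left
      rw [DoubleCoset.mem_doubleCoset]
      refine ⟨_, h, b, hb, ?_⟩
      group
    · have h6 := P.mul_mem_union s hsS s' hs'N c hc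
      have h7 : s' * s = a * (s * c * s') * b := by
        have : s' * s = (s' * (s * b⁻¹) * s'⁻¹) * s' * b := by group
        rw [this, hac]; group
      rcases h6 with h6 | h6
      · right
        obtain ⟨x, hx, y, hy, hxy⟩ := DoubleCoset.mem_doubleCoset.1 h6
        rw [DoubleCoset.mem_doubleCoset]
        exact ⟨a * x, P.B.mul_mem ha hx, y * b, P.B.mul_mem hy hb, by rw [h7, hxy]; group⟩
      · left
        obtain ⟨x, hx, y, hy, hxy⟩ := DoubleCoset.mem_doubleCoset.1 h6
        rw [DoubleCoset.mem_doubleCoset]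
        exact ⟨a * x, P.B.mul_mem ha hx, y * b, P.B.mul_mem hy hb, by rw [h7, hxy]; group⟩
  have hs'sN : s' * s ∈ P.N := P.N.mul_mem hs'N hsN
  rcases h5 with h5 | h5
  · have h6 := DoubleCoset.doubleCoset_eq_of_mem h5
    have h7 := (LieExceptional.BNPairCore.C_eq_iff hs'sN hs'N).1 h6
    -- `s⁻¹ ∈ B`, impossible
    exfalso
    apply not_mem_of_mem_S P hsS
    have h8 : s⁻¹ ∈ P.B := by simpa [mul_assoc] using h7
    simpa using P.B.inv_mem h8
  · have h6 := DoubleCoset.doubleCoset_eq_of_mem h5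
    have h7 := (LieExceptional.BNPairCore.C_eq_iff hs'sN (P.N.mul_mem hsN hs'N)).1 h6
    have h8 : (s' * s)⁻¹ * (s * s') ∈ P.B ⊓ P.N :=
      ⟨h7, P.N.mul_mem (P.N.inv_mem hs'sN) (P.N.mul_mem hsN hs'N)⟩
    have h9 := P.conj_mem (s' * s) hs'sN _ h8
    have h10 : s' * s * ((s' * s)⁻¹ * (s * s')) * (s' * s)⁻¹ = s * s' * s⁻¹ * s'⁻¹ := by group
    rwa [h10] at h9

/-- Simplicity criterion for groups with a (B,N)-pair: if the distinguished generators admit no
splitting into two non-empty mutually commuting parts, `B` is solvable, `G` is perfect and the intersection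
of all conjugates of `B` is trivial, then `G` is simple. -/
theorem result {G : Type*} [Group G] [Nontrivial G]
    (P : Cfsg.BNPair G) (hirr : P.Irreducible) (hsolv : Group.IsSolvable P.B) (hperf : commutator G = ⊤)
    (hcore : P.B.normalCore = ⊥) : IsSimpleGroup G := by
  refine ⟨fun H hH => ?_⟩
  obtain ⟨J, hJ, hHJ⟩ : ∃ J ⊆ P.S, H ⊔ P.B = P.parabolic J :=
    ⟨_, Set.inter_subset_left, LieExceptional.BNPairCore.eq_parabolic le_sup_right⟩
  have hcomm : ∀ s ∈ J, ∀ s' ∈ P.S \ J, s * s' * s⁻¹ * s'⁻¹ ∈ P.B := fun s hs s' hs' =>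
    commute_of_normal P H hJ hHJ hs hs'
  rcases J.eq_empty_or_nonempty with rfl | hJne
  · -- `H ≤ B`
    left
    have h1 : H ≤ P.B := by
      have : P.parabolic ∅ = P.B := by
        show P.B ⊔ Subgroup.closure ∅ = P.B
        rw [Subgroup.closure_empty, sup_bot_eq]
      rw [← this, ← hHJ]
      exact le_sup_left
    rw [← le_bot_iff, ← hcore]
    exact (Subgroup.normal_le_normalCore).2 h1
  · right
    rcases (P.S \ J).eq_empty_or_nonempty with hemp | hne
    · -- `H B = G`
      have hJS : J = P.S := Set.Subset.antisymm hJ (Set.sdiff_eq_empty.1 hemp)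
      have htop : H ⊔ P.B = ⊤ := by
        rw [hHJ, hJS, eq_top_iff, ← P.sup_eq_top]
        refine sup_le le_sup_left ?_
        rw [← P.closure_sup]
        refine sup_le le_sup_right (le_trans inf_le_left le_sup_left)
      -- the quotient `G / H` is solvable
      have hsurj : Function.Surjective ((QuotientGroup.mk' H).comp P.B.subtype) := by
        intro q
        obtain ⟨g, rfl⟩ := QuotientGroup.mk'_surjective H q
        have hg : g ∈ H ⊔ P.B := by rw [htop]; trivial
        obtain ⟨h, hh, b, hb, hhb⟩ := (Subgroup.mem_sup_of_normal_left).1 hg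
        refine ⟨⟨b, hb⟩, ?_⟩
        have : (QuotientGroup.mk' H) g = (QuotientGroup.mk' H) h * (QuotientGroup.mk' H) b := by
          rw [← map_mul, hhb]
        rw [this]
        have h1 : (QuotientGroup.mk' H) h = 1 := (QuotientGroup.eq_one_iff h).2 hh
        rw [h1, one_mul]
        rfl
      have hsolvQ : Group.IsSolvable (G ⧸ H) := Group.isSolvable_of_surjective hsurj
      by_contra hne
      have hnt : Nontrivial (G ⧸ H) := by
        rw [← not_subsingleton_iff_nontrivial]
        intro hsub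
        exact hne (QuotientGroup.subgroup_eq_top_of_subsingleton H hsub)
      have hlt := Group.IsSolvable.commutator_lt_top_of_nontrivial (G := G ⧸ H)
      have hmap : commutator (G ⧸ H) = ⊤ := by
        have h1 : (commutator G).map (QuotientGroup.mk' H) = commutator (G ⧸ H) := by
          rw [commutator_def, Subgroup.map_commutator, commutator_def]
          rw [Subgroup.map_top_of_surjective _ (QuotientGroup.mk'_surjective H)]
        rw [← h1, hperf, Subgroup.map_top_of_surjective _ (QuotientGroup.mk'_surjective H)]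
      exact hlt.ne hmap
    · exfalso
      obtain ⟨s, hs, s', hs', h⟩ := hirr J hJ hJne hne
      exact h (hcomm s hs s' hs')

end Cfsg.Agent.S0319
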