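import Cfsg.Statements.S1050
-- import your own Cfsg.Agent.* helpers here
import Cfsg.Agent.S1029
import Cfsg.Agent.S1036
import Cfsg.Agent.ChevalleyStructure.HDiag

set_option autoImplicit false
open Cfsg

namespace Cfsg.Agent.S1050

/-- If `H` normalises the solvable subgroup `U` and is solvable, then `U ⊔ H` is solvable. -/
theorem isSolvable_sup_of_le_normalizer {G : Type*} [Group G] {U H : Subgroup G}
    (hUH : H ≤ Subgroup.normalizer (U : Set G)) (hU : Group.IsSolvable U) (hH : Group.IsSolvable H) :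
    Group.IsSolvable ↥(U ⊔ H) := by
  have hN : (U.subgroupOf (U ⊔ H)).Normal := by
    rw [Subgroup.normal_subgroupOf_iff_le_normalizer le_sup_left]
    exact sup_le Subgroup.le_normalizer hUH
  have hS1 : Group.IsSolvable (U.subgroupOf (U ⊔ H)) :=
    Group.isSolvable_of_isSolvable_injective
      (f := ((Subgroup.subgroupOfEquivOfLe (le_sup_left : U ≤ U ⊔ H)).toMonoidHom))
      (Subgroup.subgroupOfEquivOfLe (le_sup_left : U ≤ U ⊔ H)).injective
  rw [Group.isSolvable_iff_subgroup_quotient (U.subgroupOf (U ⊔ H))]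
  refine ⟨hS1, ?_⟩
  let f : H →* (↥(U ⊔ H) ⧸ U.subgroupOf (U ⊔ H)) :=
    (QuotientGroup.mk' (U.subgroupOf (U ⊔ H))).comp (Subgroup.inclusion (le_sup_right : H ≤ U ⊔ H))
  refine Group.isSolvable_of_surjective (f := f) ?_
  intro q
  obtain ⟨⟨b, hb⟩, rfl⟩ := QuotientGroup.mk'_surjective _ q
  have hb' : b ∈ H ⊔ U := by rwa [sup_comm] at hb
  have hmul : ∃ h ∈ H, ∃ u ∈ U, b = h * u := by
    have := Subgroup.mem_sup_of_normal_right (s := H.subgroupOf (U ⊔ H)) (t := U.subgroupOf (U ⊔ H))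
      (x := ⟨b, hb⟩)
    have htop : H.subgroupOf (U ⊔ H) ⊔ U.subgroupOf (U ⊔ H) = ⊤ := by
      rw [← Subgroup.subgroupOf_sup le_sup_right le_sup_left, sup_comm, Subgroup.subgroupOf_self]
    rw [htop] at this
    obtain ⟨y, hy, z, hz, e⟩ := this.1 (Subgroup.mem_top _)
    refine ⟨y, hy, z, hz, ?_⟩
    exact (congrArg Subtype.val e).symm
  obtain ⟨h, hh, u, hu, rfl⟩ := hmul
  refine ⟨⟨h, hh⟩, ?_⟩
  show QuotientGroup.mk' _ _ = QuotientGroup.mk' _ _
  rw [QuotientGroup.mk'_eq_mk']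
  refine ⟨⟨u, (le_sup_left : U ≤ U ⊔ H) hu⟩, hu, ?_⟩
  rfl

/-- `B = UH` is solvable (U nilpotent, H abelian, U ⊴ B). -/
theorem result {F : Type*} [Field F] (D : Cfsg.Lie.ChevalleyDatum) (hD : D ∈ [Cfsg.Lie.chevG2, Cfsg.Lie.chevB2, Cfsg.Lie.chevD4, Cfsg.Lie.chevF4, Cfsg.Lie.chevE6, Cfsg.Lie.chevE7, Cfsg.Lie.chevE8]) : Group.IsSolvable ↥(D.borelSubgroup F) := by
  have hU : Group.IsNilpotent (D.posUnipotent F) := Cfsg.Agent.S1029.result D hD
  have hH := (Cfsg.Agent.S1036.result (F := F) D hD).1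
  exact isSolvable_sup_of_le_normalizer hH inferInstance
    (Group.isSolvable_of_comm fun a b =>
      Subtype.ext (Cfsg.Agent.ChevalleyStructure.HDiag.mul_comm_of_mem D hD a.2 b.2))

end Cfsg.Agent.S1050
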