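import Cfsg.Statements.S1104
import Cfsg.Agent.ChevalleyStructure.TwE6Base

set_option autoImplicit false
open Cfsg

namespace Cfsg.Agent.S1104

open Cfsg.Lie Cfsg.Agent.ChevalleyStructure.SparseEng Cfsg.Agent.ChevalleyStructure.TwE6Base
open scoped commutatorElement

/-- root elements `x_r(t)`, `x_r(t) x_{r'}(t^q)` as words -/
def one (r : ℕ) (m : Mon) : List (ℕ × Mon) := [(r, m)]

/-- product of two -/
def two (r : ℕ × ℕ) (m m' : Mon) : List (ℕ × Mon) := [(r.1, m), (r.2, m')]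

/-- Data `(r, s, u, ε)` with `[x_r(t), x_s(1)] = x_u(ε t)` and `[x_u(ε t), x_{-s}(1)] = x_r(t)`. -/
def singles : List (ℕ × ℕ × ℕ × ℤ) := [(46, 39, 47, -1), (39, 46, 47, 1), (25, 32, 24, 1), (32, 25, 24, -1)]

/-- The same for the pairs. -/
def pairs : List ((ℕ × ℕ) × (ℕ × ℕ) × (ℕ × ℕ) × ℤ × ℤ) :=
  [((56, 36), (42, 37), (57, 38), -1, 1), ((42, 37), (56, 36), (57, 38), 1, -1),
   ((15, 35), (29, 34), (14, 33), 1, -1), ((29, 34), (15, 35), (14, 33), -1, 1)]

/-- the check for a self-conjugate root -/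
def chkS (d : ℕ × ℕ × ℕ × ℤ) : Bool :=
  checkComm (one d.1 ⟨1, 1, 0⟩) (one d.2.1 ⟨1, 0, 0⟩) (one d.2.2.1 ⟨d.2.2.2, 1, 0⟩) &&
    checkComm (one d.2.2.1 ⟨d.2.2.2, 1, 0⟩) (one (71 - d.2.1) ⟨1, 0, 0⟩) (one d.1 ⟨1, 1, 0⟩)

/-- the first check for a pair -/
def chkP (d : (ℕ × ℕ) × (ℕ × ℕ) × (ℕ × ℕ) × ℤ × ℤ) : Bool :=
  checkComm (two d.1 ⟨1, 1, 0⟩ ⟨1, 0, 1⟩) (two d.2.1 ⟨1, 0, 0⟩ ⟨1, 0, 0⟩)
    (two d.2.2.1 ⟨d.2.2.2.1, 1, 0⟩ ⟨d.2.2.2.2, 0, 1⟩)

/-- the second check for a pair -/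
def chkP' (d : (ℕ × ℕ) × (ℕ × ℕ) × (ℕ × ℕ) × ℤ × ℤ) : Bool :=
  checkComm (two d.2.2.1 ⟨d.2.2.2.1, 1, 0⟩ ⟨d.2.2.2.2, 0, 1⟩)
    (two (71 - d.2.1.1, 71 - d.2.1.2) ⟨1, 0, 0⟩ ⟨1, 0, 0⟩) (two d.1 ⟨1, 1, 0⟩ ⟨1, 0, 1⟩)

section Checks
set_option maxRecDepth 100000

theorem s0 : chkS (46, 39, 47, -1) = true := by decide +kernel
theorem s1 : chkS (39, 46, 47, 1) = true := by decide +kernel
theorem s2 : chkS (25, 32, 24, 1) = true := by decide +kernel
theorem s3 : chkS (32, 25, 24, -1) = true := by decide +kernel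
theorem p0 : chkP ((56, 36), (42, 37), (57, 38), -1, 1) = true := by decide +kernel
theorem p1 : chkP ((42, 37), (56, 36), (57, 38), 1, -1) = true := by decide +kernel
theorem p2 : chkP ((15, 35), (29, 34), (14, 33), 1, -1) = true := by decide +kernel
theorem p3 : chkP ((29, 34), (15, 35), (14, 33), -1, 1) = true := by decide +kernel
theorem q0 : chkP' ((56, 36), (42, 37), (57, 38), -1, 1) = true := by decide +kernel
theorem q1 : chkP' ((42, 37), (56, 36), (57, 38), 1, -1) = true := by decide +kernel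
theorem q2 : chkP' ((15, 35), (29, 34), (14, 33), 1, -1) = true := by decide +kernel
theorem q3 : chkP' ((29, 34), (15, 35), (14, 33), -1, 1) = true := by decide +kernel

end Checks

theorem singles_check : ∀ d ∈ singles, chkS d = true := by
  intro d hd
  simp only [singles, List.mem_cons, List.not_mem_nil, or_false] at hd
  rcases hd with rfl | rfl | rfl | rfl
  exacts [s0, s1, s2, s3]

theorem pairs_check : ∀ d ∈ pairs, chkP d = true ∧ chkP' d = true := by
  intro d hd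
  simp only [pairs, List.mem_cons, List.not_mem_nil, or_false] at hd
  rcases hd with rfl | rfl | rfl | rfl
  exacts [⟨p0, q0⟩, ⟨p1, q1⟩, ⟨p2, q2⟩, ⟨p3, q3⟩]

theorem mem_commutator_of_check {K : Type*} [Field K] {q : ℕ} {a b c b' : List (ℕ × Mon)} (t s : K)
    (ham : wordG (evW K a t s) ∈ twistedE6 K q) (hbm : wordG (evW K b t s) ∈ twistedE6 K q)
    (hbm' : wordG (evW K b' t s) ∈ twistedE6 K q)
    (hc : checkComm a b c = true) (hc' : checkComm c b' a = true) :
    wordG (evW K a t s) ∈ ⁅twistedE6 K q, twistedE6 K q⁆ := by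
  rw [wordG_eq_commutator hc' t s]
  refine Subgroup.commutator_mem_commutator ?_ hbm'
  rw [wordG_eq_commutator hc t s, commutatorElement_def]
  exact mul_mem (mul_mem (mul_mem ham hbm) (inv_mem ham)) (inv_mem hbm)

theorem eq_wordG {K : Type*} [Field K] {w : List (ℕ × K)} {g : GL chevE6.Idx K}
    (hg : (g : Matrix chevE6.Idx chevE6.Idx K) = chevE6.wordMat K w) (hw : ∀ p ∈ w, p.1 ∈ good) : g = wordG w :=
  Units.ext (by rw [hg, coe_wordG hw])

/-- ²E₆(q) equals its derived subgroup. -/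
theorem result {K : Type*} [Field K] [Fintype K] {q : ℕ} (hq : IsPrimePow q) (hK : Fintype.card K = q ^ 2) : commutator ↥(Cfsg.Lie.twistedE6 K q) = ⊤ := by
  have key : twistedE6 K q ≤ ⁅twistedE6 K q, twistedE6 K q⁆ := by
    unfold twistedE6 ChevalleyDatum.genSubgroup
    rw [Subgroup.closure_le]
    rintro g ⟨w, hw, hg⟩
    change g ∈ ⁅twistedE6 K q, twistedE6 K q⁆
    rcases hw with ⟨t, ht, r, hr, rfl⟩ | ⟨t, rs, hr, rfl⟩
    · have hgood : ∀ r : ℕ, r ∈ [46, 25, 39, 32] → r ∈ good := by decide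
      have h1 : g = wordG (evW K (one r ⟨1, 1, 0⟩) t (t ^ q)) := by
        apply eq_wordG
        · rw [hg]
          simp [evW, Mon.ev, one]
        · intro p hp
          obtain ⟨p', h3, h4⟩ := mem_evW hp
          rw [one, List.mem_singleton] at h3
          rw [← h4, h3]
          exact hgood r hr
      obtain ⟨d, hd, hdr⟩ : ∃ d ∈ singles, d.1 = r ∧ d.2.1 ∈ [46, 25, 39, 32] ∧ 71 - d.2.1 ∈ [46, 25, 39, 32] := by
        simp only [e6p2, e6m2, e6p4, e6m4, List.mem_cons, List.not_mem_nil, or_false] at hr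
        rcases hr with h | h | h | h <;> subst h <;> decide
      have hch := singles_check d hd
      rw [chkS, Bool.and_eq_true] at hch
      rw [h1, ← hdr.1]
      exact mem_commutator_of_check t (t ^ q) (single_mem ht (hdr.1 ▸ hr)) (single_one_mem _ _ hdr.2.1)
        (single_one_mem _ _ hdr.2.2) hch.1 hch.2
    · have hgood : ∀ r : ℕ × ℕ, r ∈ [(56, 36), (15, 35), (42, 37), (29, 34)] → r.1 ∈ good ∧ r.2 ∈ good := by
        decide
      have h1 : g = wordG (evW K (two rs ⟨1, 1, 0⟩ ⟨1, 0, 1⟩) t (t ^ q)) := by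
        apply eq_wordG
        · rw [hg]
          simp [evW, Mon.ev, two]
        · intro p hp
          obtain ⟨p', h3, h4⟩ := mem_evW hp
          rw [two, List.mem_cons, List.mem_singleton] at h3
          rcases h3 with h3 | h3 <;> rw [← h4, h3]
          · exact (hgood rs hr).1
          · exact (hgood rs hr).2
      obtain ⟨d, hd, hdr⟩ : ∃ d ∈ pairs, d.1 = rs ∧ d.2.1 ∈ [(56, 36), (15, 35), (42, 37), (29, 34)] ∧
          (71 - d.2.1.1, 71 - d.2.1.2) ∈ [(56, 36), (15, 35), (42, 37), (29, 34)] := by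
        simp only [e6p1, e6p6, e6m1, e6m6, e6p3, e6p5, e6m3, e6m5, List.mem_cons, List.not_mem_nil, or_false] at hr
        rcases hr with h | h | h | h <;> subst h <;> decide
      have hch := pairs_check d hd
      rw [h1, ← hdr.1]
      exact mem_commutator_of_check t (t ^ q) (pair_mem t (hdr.1 ▸ hr)) (pair_one_mem _ _ hdr.2.1)
        (pair_one_mem (rs := (71 - d.2.1.1, 71 - d.2.1.2)) _ _ hdr.2.2) hch.1 hch.2
  have h2 := Subgroup.map_subtype_commutator (twistedE6 K q)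
  have h3 : (commutator ↥(twistedE6 K q)).map (twistedE6 K q).subtype = (⊤ : Subgroup ↥(twistedE6 K q)).map (twistedE6 K q).subtype := by
    rw [h2, ← MonoidHom.range_eq_map, Subgroup.range_subtype]
    exact le_antisymm (Subgroup.commutator_le_self _) key
  exact Subgroup.map_injective (Subgroup.subtype_injective _) h3

end Cfsg.Agent.S1104
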