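import Cfsg.Statements.S1105
import Cfsg.Agent.ChevalleyStructure.TwE6Core
import Cfsg.Agent.ChevalleyStructure.HMatDiagAll
import Cfsg.Agent.ChevalleyStructure.CoreTrivial

set_option autoImplicit false
open Cfsg

namespace Cfsg.Agent.S1105

open Cfsg.Lie Cfsg.Agent.ChevalleyStructure.SparseEng Cfsg.Agent.ChevalleyStructure.TwE6Base
  Cfsg.Agent.ChevalleyStructure.TwE6Core Cfsg.Agent.ChevalleyStructure

/-- the conditions on elements of `B` used below -/
def Tri (F : Type*) [Field F] (D : ChevalleyDatum) : Subgroup (GL D.Idx F) :=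
  CoreTrivial.triSubgroup F (fun i => (Triangular.key D i : ℤ)) (Set.range Sum.inl)

theorem borel_le_tri {F : Type*} [Field F] {D : ChevalleyDatum}
    (hD : D ∈ [chevG2, chevB2, chevD4, chevF4, chevE6, chevE7, chevE8]) :
    D.borelSubgroup F ≤ Tri F D := by
  unfold ChevalleyDatum.borelSubgroup
  apply sup_le
  · refine (Triangular.posUnipotent_le_loUni hD).trans ?_
    intro g hg
    rw [Triangular.mem_loUni] at hg
    rw [Tri, CoreTrivial.mem_triSubgroup]
    refine ⟨?_, fun i _ => hg.2 i⟩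
    intro i j hij
    by_contra hcon
    push Not at hcon
    obtain ⟨h1, h2⟩ := hcon
    apply hij
    apply hg.1
    have h3 : Triangular.key D i ≠ Triangular.key D j := fun h => h1 (Triangular.key_injective D h)
    have h4 : Triangular.key D i ≤ Triangular.key D j := by exact_mod_cast h2
    omega
  · refine (HMatDiagAll.diagonalSubgroup_le_torus hD).trans ?_
    rintro g ⟨χ, hχ⟩
    rw [Tri, CoreTrivial.mem_triSubgroup]
    constructor
    · intro i j hij
      left
      by_contra h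
      rw [hχ, Matrix.diagonal_apply_ne _ h] at hij
      exact hij rfl
    · rintro _ ⟨i, rfl⟩
      rw [hχ, Matrix.diagonal_apply_eq]
      rfl

theorem mem_Tri {F : Type*} [Field F] {D : ChevalleyDatum} {g : GL D.Idx F} : g ∈ Tri F D ↔
    CoreTrivial.Tri (fun i => (Triangular.key D i : ℤ)) (g : Matrix D.Idx D.Idx F) ∧
      ∀ i ∈ Set.range Sum.inl, (g : Matrix D.Idx D.Idx F) i i = 1 := Iff.rfl

section
variable {K : Type*} [Field K]

theorem bvec_l (D : ChevalleyDatum) (k : ℕ) (i : Fin D.rank) :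
    bvec D K k (Sum.inl i) = if i.val = k then 1 else 0 := rfl

theorem bvec_r (D : ChevalleyDatum) (k : ℕ) (s : Fin D.nroots) :
    bvec D K k (Sum.inr s) = if D.rank + s.val = k then 1 else 0 := rfl

theorem mulVec_77 {g : GL chevE6.Idx K} (hg : g ∈ Tri K chevE6) :
    ∃ c : K, (g : Matrix chevE6.Idx chevE6.Idx K).mulVec (bvec chevE6 K 77) = c • bvec chevE6 K 77 := by
  rw [mulVec_bvec_inr _ 77 (by decide) (by decide)]
  refine ⟨(g : Matrix chevE6.Idx chevE6.Idx K) (Sum.inr ⟨77 - chevE6.rank, by decide⟩) (Sum.inr ⟨77 - chevE6.rank, by decide⟩), ?_⟩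
  ext row
  by_cases h : row = Sum.inr ⟨77 - chevE6.rank, by decide⟩
  · subst h
    have : bvec chevE6 K 77 (Sum.inr ⟨77 - chevE6.rank, by decide⟩) = 1 := by
      rw [bvec_r]; exact if_pos (by decide)
    rw [Pi.smul_apply, this, smul_eq_mul, mul_one]
  · have h1 : (g : Matrix chevE6.Idx chevE6.Idx K) row (Sum.inr ⟨77 - chevE6.rank, by decide⟩) = 0 := by
      by_contra h2
      rcases (mem_Tri.1 hg).1 _ _ h2 with h3 | h3
      · exact h h3
      · have h4 : ∀ i : chevE6.Idx, Triangular.key chevE6 i ≤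
            Triangular.key chevE6 (Sum.inr ⟨77 - chevE6.rank, by decide⟩) := by decide
        have h5 : Triangular.key chevE6 (Sum.inr ⟨77 - chevE6.rank, by decide⟩) < Triangular.key chevE6 row := by
          simp only at h3
          exact_mod_cast h3
        exact absurd (h4 row) (not_le.mpr h5)
    have h6 : bvec chevE6 K 77 row = 0 := by
      rcases row with i | s
      · rw [bvec_l]; exact if_neg (fun h7 => by have := i.2; change i.val < 6 at this; omega)
      · rw [bvec_r]; refine if_neg (fun h7 => h ?_)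
        congr 1
        apply Fin.ext
        show s.val = 77 - 6
        change 6 + s.val = 77 at h7
        omega
    rw [Pi.smul_apply, h6, smul_zero]
    exact h1

/-- all conjugates under the group lie in `Tri` -/
def P (q : ℕ) (g : GL chevE6.Idx K) : Prop := ∀ x ∈ twistedE6 K q, x⁻¹ * g * x ∈ Tri K chevE6

theorem P.conj {q : ℕ} {g : GL chevE6.Idx K} (hg : P q g) {y : GL chevE6.Idx K} (hy : y ∈ twistedE6 K q) :
    P q (y⁻¹ * g * y) := by
  intro x hx
  have := hg (y * x) (mul_mem hy hx)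
  rwa [mul_inv_rev, show x⁻¹ * y⁻¹ * g * (y * x) = x⁻¹ * (y⁻¹ * g * y) * x by group] at this

theorem P.eigen {q : ℕ} {g : GL chevE6.Idx K} (hg : P q g) {x : GL chevE6.Idx K} (hx : x ∈ twistedE6 K q)
    {v : chevE6.Idx → K} (hv : (x : Matrix chevE6.Idx chevE6.Idx K).mulVec (bvec chevE6 K 77) = v) :
    ∃ c : K, (g : Matrix chevE6.Idx chevE6.Idx K).mulVec v = c • v := by
  obtain ⟨c, hc⟩ := mulVec_77 (hg x hx)
  refine ⟨c, ?_⟩
  rw [← hv, Matrix.mulVec_mulVec, ← Units.val_mul, show g * x = x * (x⁻¹ * g * x) by group, Units.val_mul,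
    ← Matrix.mulVec_mulVec, hc, Matrix.mulVec_smul]

theorem P.fix {q : ℕ} {g : GL chevE6.Idx K} (hg : P q g) :
    (g : Matrix chevE6.Idx chevE6.Idx K).mulVec (bvec chevE6 K 31) = bvec chevE6 K 31 := by
  obtain ⟨x1, hx1, e1⟩ := exists_x1 (K := K) q
  obtain ⟨x2, hx2, e2⟩ := exists_x2 (K := K) q
  obtain ⟨x3, hx3, e3⟩ := exists_x3 (K := K) q
  obtain ⟨c1, h1⟩ := hg.eigen hx1 e1
  obtain ⟨c2, h2⟩ := hg.eigen hx2 e2
  obtain ⟨c3, h3⟩ := hg.eigen hx3 e3
  have hgT : g ∈ Tri K chevE6 := by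
    have := hg 1 (one_mem _)
    simpa using this
  rw [Matrix.mulVec_neg, smul_neg, neg_inj] at h1
  rw [Matrix.mulVec_sub, Matrix.mulVec_add, h1, h3] at h2
  have h4 : (g : Matrix chevE6.Idx chevE6.Idx K).mulVec (bvec chevE6 K 1) =
      c2 • (bvec chevE6 K 1 + bvec chevE6 K 31 - bvec chevE6 K 52) - c3 • bvec chevE6 K 31 + c1 • bvec chevE6 K 52 := by
    rw [← h2]; abel
  rw [mulVec_bvec_inl _ 1 (by decide)] at h4
  have h5 := congrFun h4 (Sum.inl ⟨1, by decide⟩)
  have h6 := congrFun h4 (Sum.inr ⟨25, by decide⟩)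
  have v1 : bvec chevE6 K 1 (Sum.inl ⟨1, by decide⟩) = 1 := by rw [bvec_l]; exact if_pos (by decide)
  have v2 : bvec chevE6 K 31 (Sum.inl ⟨1, by decide⟩) = 0 := by rw [bvec_l]; exact if_neg (by decide)
  have v3 : bvec chevE6 K 52 (Sum.inl ⟨1, by decide⟩) = 0 := by rw [bvec_l]; exact if_neg (by decide)
  have u1 : bvec chevE6 K 1 (Sum.inr ⟨25, by decide⟩) = 0 := by rw [bvec_r]; exact if_neg (by decide)
  have u2 : bvec chevE6 K 31 (Sum.inr ⟨25, by decide⟩) = 1 := by rw [bvec_r]; exact if_pos (by decide)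
  have u3 : bvec chevE6 K 52 (Sum.inr ⟨25, by decide⟩) = 0 := by rw [bvec_r]; exact if_neg (by decide)
  simp only [Pi.add_apply, Pi.sub_apply, Pi.smul_apply, v1, v2, v3, u1, u2, u3, smul_eq_mul] at h5 h6
  rw [(mem_Tri.1 hgT).2 _ ⟨_, rfl⟩] at h5
  have h7 : (g : Matrix chevE6.Idx chevE6.Idx K) (Sum.inr ⟨25, by decide⟩) (Sum.inl ⟨1, by decide⟩) = 0 := by
    by_contra h8
    rcases (mem_Tri.1 hgT).1 _ _ h8 with h9 | h9
    · exact absurd h9 (by decide)
    · exact absurd h9 (by decide)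
  rw [h7] at h6
  have hc3 : c3 = 1 := by linear_combination h6 - h5
  rw [h3, hc3, one_smul]

end

/-- The normal core of `B¹ = G¹ ∩ B` in ²E₆(q) is trivial. -/
theorem result {K : Type*} [Field K] [Fintype K] {q : ℕ} (hq : IsPrimePow q) (hK : Fintype.card K = q ^ 2) :
    ((Cfsg.Lie.chevE6.borelSubgroup K ⊓ Cfsg.Lie.twistedE6 K q).subgroupOf (Cfsg.Lie.twistedE6 K q)).normalCore = ⊥ := by
  rw [eq_bot_iff]
  intro n hn
  rw [Subgroup.mem_bot]
  have hD : chevE6 ∈ [chevG2, chevB2, chevD4, chevF4, chevE6, chevE7, chevE8] := by simp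
  have hP : P q (n : GL chevE6.Idx K) := by
    intro x hx
    have h := hn (⟨x, hx⟩ : twistedE6 K q)⁻¹
    rw [Subgroup.mem_subgroupOf] at h
    have h2 := borel_le_tri (F := K) hD h.1
    simpa using h2
  -- the submodule of vectors fixed by all such elements
  let M : Submodule K (chevE6.Idx → K) :=
    { carrier := {v | ∀ g : GL chevE6.Idx K, P q g → (g : Matrix chevE6.Idx chevE6.Idx K).mulVec v = v}
      add_mem' := by
        intro a b ha hb g hg
        rw [Matrix.mulVec_add, ha g hg, hb g hg]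
      zero_mem' := by
        intro g _
        rw [Matrix.mulVec_zero]
      smul_mem' := by
        intro c a ha g hg
        rw [Matrix.mulVec_smul, ha g hg] }
  have hM : ∀ g ∈ twistedE6 K q, ∀ v ∈ M, (g : Matrix chevE6.Idx chevE6.Idx K).mulVec v ∈ M := by
    intro y hy v hv g hg
    have h1 := hv _ (hg.conj hy)
    rw [Matrix.mulVec_mulVec, ← Units.val_mul, show g * y = y * (y⁻¹ * g * y) by group, Units.val_mul,
      ← Matrix.mulVec_mulVec, h1]
  have h0 : bvec chevE6 K 31 ∈ M := fun g hg => hg.fix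
  have htop := eq_top (K := K) hq.two_le hK M hM h0
  apply Subtype.ext
  apply Units.ext
  apply ext_of_bvec
  intro k hk
  rw [htop k hk _ hP]
  simp

end Cfsg.Agent.S1105
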