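import Cfsg.Statements.S1070
import Cfsg.Agent.ChevalleyStructure.TwE6BN
import Cfsg.Agent.ChevalleyStructure.TwSimple
import Cfsg.Agent.S1050
import Cfsg.Agent.S1104
import Cfsg.Agent.S1105

set_option autoImplicit false
open Cfsg

namespace Cfsg.Agent.S1070

/-- ²E₆(q) is simple for every `q`. -/
theorem result {K : Type*} [Field K] [Fintype K] {q : ℕ} (hq : IsPrimePow q) (hK : Fintype.card K = q ^ 2) :
    IsSimpleGroup ↥(Cfsg.Lie.twistedE6 K q) ∧ ¬ IsMulCommutative ↥(Cfsg.Lie.twistedE6 K q) := by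
  obtain ⟨P, hB, _, _, hirr⟩ := Cfsg.Agent.ChevalleyStructure.TwE6BN.exists_bnPair (K := K) hq hK
  obtain ⟨g, _, hgG, hg1⟩ := Cfsg.Agent.ChevalleyStructure.TwE6BN.exists_ne_one (K := K) q 0
  exact Cfsg.Agent.ChevalleyStructure.TwSimple.simple_of_bn (Cfsg.Lie.twistedE6 K q)
    (Cfsg.Lie.chevE6.borelSubgroup K) P hB hirr
    (Cfsg.Agent.S1050.result Cfsg.Lie.chevE6 Cfsg.Agent.ChevalleyStructure.TwE6Basic.hE6)
    (Cfsg.Agent.S1104.result hq hK) (Cfsg.Agent.S1105.result hq hK) ⟨g, hgG, hg1⟩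

end Cfsg.Agent.S1070
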