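import Cfsg.Statements.S1174
import Cfsg.Agent.S1175
import Cfsg.Agent.Lib.NormalAbelian

set_option autoImplicit false
open Cfsg

namespace Cfsg.Agent.S1174

/-- A `p`-subgroup of `M` is conjugate under `M` into a Sylow subgroup of the whole group lying in `M`. -/
theorem exists_conj_le {X : Type*} [Group X] [Finite X] {p : ℕ} [Fact p.Prime] (S : Sylow p X) (M : Subgroup X)
    (hSM : (S : Subgroup X) ≤ M) (Q : Subgroup X) (hQM : Q ≤ M) (hQ : IsPGroup p Q) :
    ∃ m ∈ M, ∀ x ∈ Q, m * x * m⁻¹ ∈ (S : Subgroup X) := by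
  have hQ' : IsPGroup p (Q.subgroupOf M) := hQ.comap_subtype
  obtain ⟨P, hP⟩ := hQ'.exists_le_sylow
  obtain ⟨m, hm⟩ := MulAction.exists_smul_eq M P (S.subtype hSM)
  refine ⟨m, m.2, fun x hx => ?_⟩
  have hxP : (⟨x, hQM hx⟩ : M) ∈ P := hP (by simpa [Subgroup.mem_subgroupOf] using hx)
  have h1 : m * ⟨x, hQM hx⟩ * m⁻¹ ∈ (m • P : Sylow p M) := by
    rw [← SetLike.mem_coe, Sylow.coe_smul]
    exact ⟨⟨x, hQM hx⟩, hxP, rfl⟩
  rw [hm] at h1
  have h2 : (m * ⟨x, hQM hx⟩ * m⁻¹ : M) ∈ (S : Subgroup X).subgroupOf M := h1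
  rw [Subgroup.mem_subgroupOf] at h2
  exact h2

theorem conj_centralizer_le {X : Type*} [Group X] (M : Subgroup X) (m t : X) (hm : m ∈ M)
    (h : Subgroup.centralizer ({m * t * m⁻¹} : Set X) ≤ M) :
    Subgroup.centralizer ({t} : Set X) ≤ M := by
  intro c hc
  rw [Subgroup.mem_centralizer_singleton_iff] at hc
  have : m * c * m⁻¹ ∈ M := by
    apply h
    rw [Subgroup.mem_centralizer_singleton_iff]
    calc m * c * m⁻¹ * (m * t * m⁻¹) = m * (c * t) * m⁻¹ := by group
      _ = m * (t * c) * m⁻¹ := by rw [hc]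
      _ = _ := by group
  have h3 := M.mul_mem (M.mul_mem (M.inv_mem hm) this) hm
  have h4 : m⁻¹ * (m * c * m⁻¹) * m = c := by group
  rwa [h4] at h3

/-- Let X be a finite simple group, S a Sylow 2-subgroup and T ≠ 1 a subgroup strongly closed in S. If the subgroup generated by the centralizers C_X(t) of the involutions t of T is proper in X, then X has a strongly embedded subgroup. -/
theorem result {X : Type*} [Group X] [Finite X] [IsSimpleGroup X] (S : Sylow 2 X) (T : Subgroup X) (hT1 : T ≠ ⊥) (hT : Cfsg.IsStronglyClosed T (S : Subgroup X)) (hprop : (⨆ t : {t : X // t ∈ T ∧ orderOf t = 2}, Subgroup.centralizer ({(t : X)} : Set X)) ≠ ⊤) : ∃ H : Subgroup X, Cfsg.IsStronglyEmbedded H := by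
  classical
  have : Fact (Nat.Prime 2) := ⟨Nat.prime_two⟩
  obtain ⟨hTS, hcl⟩ := hT
  set J : Subgroup X := ⨆ t : {t : X // t ∈ T ∧ orderOf t = 2}, Subgroup.centralizer ({(t : X)} : Set X) with hJ
  have hCJ : ∀ t ∈ T, orderOf t = 2 → Subgroup.centralizer ({t} : Set X) ≤ J := fun t ht h2 =>
    le_iSup (fun t : {t : X // t ∈ T ∧ orderOf t = 2} => Subgroup.centralizer ({(t : X)} : Set X)) ⟨t, ht, h2⟩
  -- `T` is normal in `S`, contains a central involution `z`
  have hn : (T.subgroupOf (S : Subgroup X)).Normal := by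
    refine ⟨fun x hx g => ?_⟩
    rw [Subgroup.mem_subgroupOf] at hx ⊢
    have := hcl x hx g (by
      have := (g * x * g⁻¹).2
      simpa using this)
    simpa using this
  have hTn : T.subgroupOf (S : Subgroup X) ≠ ⊥ := by
    intro h
    apply hT1
    rw [Subgroup.subgroupOf_eq_bot] at h
    rw [Subgroup.eq_bot_iff_forall]
    intro x hx
    exact (Subgroup.disjoint_def.1 h) hx (hTS hx)
  have hSp : IsPGroup 2 (S : Subgroup X) := S.isPGroup'
  have : Group.IsNilpotent (S : Subgroup X) := hSp.isNilpotent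
  have hmeet : (T.subgroupOf (S : Subgroup X)) ⊓ Subgroup.center (S : Subgroup X) ≠ ⊥ :=
    Cfsg.Agent.Lib.NormalAbelian.normal_inf_center_ne_bot _ hTn
  obtain ⟨z, hzT, hzo, hzS, hzc⟩ : ∃ z ∈ T, orderOf z = 2 ∧ z ∈ (S : Subgroup X) ∧
      ∀ s ∈ (S : Subgroup X), s * z = z * s := by
    set A := (T.subgroupOf (S : Subgroup X)) ⊓ Subgroup.center (S : Subgroup X) with hA
    have hAp : IsPGroup 2 A := hSp.to_subgroup A
    have : Nontrivial A := (Subgroup.nontrivial_iff_ne_bot _).2 hmeet
    obtain ⟨n, hn0, hcard⟩ := hAp.nontrivial_iff_card.1 inferInstance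
    obtain ⟨a, ha⟩ := exists_prime_orderOf_dvd_card' (G := A) 2 (by
      rw [hcard]; exact dvd_pow_self 2 (by omega))
    refine ⟨((a : (S : Subgroup X)) : X), ?_, ?_, (a : (S : Subgroup X)).2, ?_⟩
    · have := a.2.1
      simpa [Subgroup.mem_subgroupOf] using this
    · rw [Subgroup.orderOf_coe, Subgroup.orderOf_coe]; exact ha
    · intro s hs
      have hac : (a : (S : Subgroup X)) ∈ Subgroup.center (S : Subgroup X) := a.2.2
      rw [Subgroup.mem_center_iff] at hac
      have := hac ⟨s, hs⟩
      exact congrArg (fun u : (S : Subgroup X) => (u : X)) this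
  -- `M := N(J)`
  set M : Subgroup X := Subgroup.normalizer (J : Set X) with hM
  have hJM : J ≤ M := Subgroup.le_normalizer
  have hzC : z ∈ Subgroup.centralizer ({z} : Set X) := by
    rw [Subgroup.mem_centralizer_singleton_iff]
  have hzJ : z ∈ J := hCJ z hzT hzo hzC
  have hz1 : z ≠ 1 := by
    intro h; rw [h, orderOf_one] at hzo; omega
  have hMtop : M ≠ ⊤ := by
    intro h
    have hJn : J.Normal := Subgroup.normalizer_eq_top_iff.1 (by rw [← h])
    rcases hJn.eq_bot_or_eq_top with h1 | h1
    · rw [h1, Subgroup.mem_bot] at hzJ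
      exact hz1 hzJ
    · exact hprop h1
  have hSJ : (S : Subgroup X) ≤ J := by
    intro s hs
    apply hCJ z hzT hzo
    rw [Subgroup.mem_centralizer_singleton_iff]
    exact hzc s hs
  have hSM : (S : Subgroup X) ≤ M := hSJ.trans hJM
  -- conjugation permutes centralizers
  have hconjC : ∀ (g t c : X), c ∈ Subgroup.centralizer ({t} : Set X) →
      g * c * g⁻¹ ∈ Subgroup.centralizer ({g * t * g⁻¹} : Set X) := by
    intro g t c hc
    rw [Subgroup.mem_centralizer_singleton_iff] at hc ⊢
    calc g * c * g⁻¹ * (g * t * g⁻¹) = g * (c * t) * g⁻¹ := by group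
      _ = g * (t * c) * g⁻¹ := by rw [hc]
      _ = _ := by group
  have horder : ∀ g t : X, orderOf (g * t * g⁻¹) = orderOf t := by
    intro g t
    exact (MulAut.conj g).orderOf_eq t
  -- the normalizer of `S` lies in `M`
  have hNS : ∀ g : X, (∀ s ∈ (S : Subgroup X), g * s * g⁻¹ ∈ (S : Subgroup X)) → g ∈ M := by
    intro g hg
    have hmap : ∀ g : X, (∀ s ∈ (S : Subgroup X), g * s * g⁻¹ ∈ (S : Subgroup X)) → ∀ j ∈ J, g * j * g⁻¹ ∈ J := by
      intro g hg j hj
      have : J ≤ J.comap (MulAut.conj g).toMonoidHom := by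
        rw [hJ]
        refine iSup_le ?_
        rintro ⟨t, htT, hto⟩ c hc
        have htT' : g * t * g⁻¹ ∈ T := hcl t htT g (hg t (hTS htT))
        have := hCJ _ htT' ((horder g t).trans hto) (hconjC g t c hc)
        exact this
      exact this hj
    have hginv : ∀ s ∈ (S : Subgroup X), g⁻¹ * s * g⁻¹⁻¹ ∈ (S : Subgroup X) := by
      have hle : (S : Subgroup X).map (MulAut.conj g).toMonoidHom ≤ (S : Subgroup X) := by
        rintro _ ⟨s, hs, rfl⟩
        exact hg s hs
      have heq : (S : Subgroup X).map (MulAut.conj g).toMonoidHom = (S : Subgroup X) := by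
        apply Subgroup.eq_of_le_of_card_ge hle
        rw [Subgroup.card_map_of_injective (MulAut.conj g).injective]
      intro s hs
      rw [← heq] at hs
      obtain ⟨s', hs', rfl⟩ := hs
      have : g⁻¹ * ((MulAut.conj g).toMonoidHom s') * g⁻¹⁻¹ = s' := by
        simp [MulAut.conj_apply]; group
      rw [this]; exact hs'
    rw [hM, Subgroup.mem_normalizer_iff]
    intro h
    constructor
    · exact hmap g hg h
    · intro hh
      have := hmap g⁻¹ hginv _ hh
      have e : g⁻¹ * (g * h * g⁻¹) * g⁻¹⁻¹ = h := by group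
      rwa [e] at this
  -- apply Aschbacher's criterion
  refine Cfsg.Agent.S1175.result M hMtop z hzo (hJM hzJ) ⟨S, hzS, fun s hs => ?_⟩ ?_ ?_
  · exact hzc s hs
  · intro g hg
    -- the 2-subgroup generated by `g z g⁻¹`
    have hp : IsPGroup 2 (Subgroup.zpowers (g * z * g⁻¹)) := by
      rw [IsPGroup.iff_card]
      exact ⟨1, by rw [Nat.card_zpowers, horder, hzo, pow_one]⟩
    obtain ⟨m, hm, hmS⟩ := exists_conj_le S M hSM (Subgroup.zpowers (g * z * g⁻¹))
      ((Subgroup.zpowers_le).2 hg) hp
    have h1 : m * (g * z * g⁻¹) * m⁻¹ ∈ (S : Subgroup X) := hmS _ (Subgroup.mem_zpowers _)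
    have e1 : m * (g * z * g⁻¹) * m⁻¹ = (m * g) * z * (m * g)⁻¹ := by group
    rw [e1] at h1
    have h2 : (m * g) * z * (m * g)⁻¹ ∈ T := hcl z hzT (m * g) h1
    have h3 := hCJ _ h2 ((horder (m * g) z).trans hzo)
    -- the conjugate of `S` by `m g` lies in `M`
    have h4 : (S : Subgroup X).map (MulAut.conj (m * g)).toMonoidHom ≤ M := by
      rintro _ ⟨s, hs, rfl⟩
      apply hJM
      apply h3
      apply hconjC
      rw [Subgroup.mem_centralizer_singleton_iff]
      exact hzc s hs
    obtain ⟨m', hm', hmS'⟩ := exists_conj_le S M hSM _ h4 (hSp.map _)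
    have h5 : m' * (m * g) ∈ M := by
      apply hNS
      intro s hs
      have := hmS' _ (Subgroup.mem_map_of_mem (MulAut.conj (m * g)).toMonoidHom hs)
      have e2 : m' * ((MulAut.conj (m * g)).toMonoidHom s) * m'⁻¹ = m' * (m * g) * s * (m' * (m * g))⁻¹ := by
        simp [MulAut.conj_apply]; group
      rwa [e2] at this
    have h6 := M.mul_mem (M.inv_mem (M.mul_mem hm' hm)) h5
    have e3 : (m' * m)⁻¹ * (m' * (m * g)) = g := by group
    rwa [e3] at h6
  · intro g hcomm hne
    set y := g * z * g⁻¹ with hy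
    have hzz : z * z = 1 := by
      have := pow_orderOf_eq_one z
      rwa [hzo, pow_two] at this
    have hyy : y * y = 1 := by
      rw [hy]
      calc g * z * g⁻¹ * (g * z * g⁻¹) = g * (z * z) * g⁻¹ := by group
        _ = 1 := by rw [hzz]; group
    have hyM : y ∈ M := by
      apply hJM
      apply hCJ z hzT hzo
      rw [Subgroup.mem_centralizer_singleton_iff]
      exact hcomm.eq.symm
    -- the four-group generated by `z` and `y`
    have hcomm' : z * y = y * z := hcomm.eq
    set Q : Subgroup X := Subgroup.closure {z, y} with hQ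
    have hQM : Q ≤ M := by
      rw [hQ, Subgroup.closure_le]
      rintro x (rfl | rfl)
      · exact hJM hzJ
      · exact hyM
    have hQc : ∀ a ∈ Q, ∀ b ∈ Q, a * b = b * a := by
      intro a ha b hb
      have : Q ≤ Subgroup.centralizer (Q : Set X) := by
        rw [hQ, Subgroup.closure_le, Subgroup.centralizer_closure]
        rintro x hx
        rw [SetLike.mem_coe, Subgroup.mem_centralizer_iff]
        intro w hw
        rcases hx with rfl | rfl <;> rcases hw with rfl | rfl
        · rfl
        · exact hcomm'.symm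
        · exact hcomm'
        · rfl
      exact (Subgroup.mem_centralizer_iff.1 (this ha) b hb).symm
    have hQ2 : ∀ a ∈ Q, a * a = 1 := by
      intro a ha
      induction ha using Subgroup.closure_induction with
      | mem x hx =>
        rcases hx with rfl | rfl
        · exact hzz
        · exact hyy
      | one => simp
      | mul a b ha hb iha ihb =>
        have hab := hQc a ha b hb
        calc a * b * (a * b) = a * (b * a) * b := by group
          _ = a * (a * b) * b := by rw [hab]
          _ = (a * a) * (b * b) := by group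
          _ = 1 := by rw [iha, ihb, mul_one]
      | inv a ha iha =>
        calc a⁻¹ * a⁻¹ = (a * a)⁻¹ := by group
          _ = 1 := by rw [iha, inv_one]
    have hQp : IsPGroup 2 Q := by
      intro a
      refine ⟨1, ?_⟩
      apply Subtype.ext
      have := hQ2 a a.2
      simpa [pow_two] using this
    obtain ⟨m, hm, hmS⟩ := exists_conj_le S M hSM Q hQM hQp
    have h1 : m * z * m⁻¹ ∈ (S : Subgroup X) := hmS z (Subgroup.subset_closure (by simp))
    have h2 : m * y * m⁻¹ ∈ (S : Subgroup X) := hmS y (Subgroup.subset_closure (by simp))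
    have h1' : m * z * m⁻¹ ∈ T := hcl z hzT m h1
    have e1 : m * y * m⁻¹ = (m * g) * z * (m * g)⁻¹ := by rw [hy]; group
    have h2' : m * y * m⁻¹ ∈ T := by
      rw [e1] at h2 ⊢
      exact hcl z hzT (m * g) h2
    have h3 : m * (z * y) * m⁻¹ ∈ T := by
      have := T.mul_mem h1' h2'
      have e : m * z * m⁻¹ * (m * y * m⁻¹) = m * (z * y) * m⁻¹ := by group
      rwa [e] at this
    have hzy : orderOf (z * y) = 2 := by
      rw [orderOf_eq_prime_iff]
      constructor
      · rw [pow_two]
        exact hQ2 _ (Q.mul_mem (Subgroup.subset_closure (by simp)) (Subgroup.subset_closure (by simp)))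
      · intro h
        apply hne
        have : y = z⁻¹ := (eq_inv_of_mul_eq_one_right h)
        rw [this]
        exact (eq_inv_of_mul_eq_one_left hzz).symm
    exact conj_centralizer_le M m (z * y) hm ((hCJ _ h3 ((horder m (z * y)).trans hzy)).trans hJM)

end Cfsg.Agent.S1174
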