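import Cfsg.Statements.S1222
import Mathlib
import Cfsg.Agent.StrongEmb.RankOne
import Cfsg.Agent.TwoFusion.StronglyEmbeddedBasic

set_option autoImplicit false
open Cfsg

namespace Cfsg.Agent.S1222

open MulAction
open scoped Pointwise

/-- The rank one set-up from a strongly embedded subgroup with a normal subgroup regular on the
other cosets. -/
theorem setup {G : Type*} [Group G] [Finite G] (H : Subgroup G) (hH : Cfsg.IsStronglyEmbedded H)
    (Q : Subgroup G) (hQH : Q ≤ H) (hQn : (Q.subgroupOf H).Normal)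
    (htrans : ∀ g₁ g₂ : G, g₁ ∉ H → g₂ ∉ H → ∃ u ∈ Q, g₂⁻¹ * (u * g₁) ∈ H)
    (hreg : ∀ g : G, g ∉ H → ∀ u ∈ Q, g⁻¹ * (u * g) ∈ H → u = 1) {t : G} (ht : t ∉ H)
    (ht2 : orderOf t = 2) :
    Cfsg.IsRankOneSetup G (G ⧸ H) ((1 : G) : G ⧸ H) t Q := by
  have hstab : MulAction.stabilizer G ((1 : G) : G ⧸ H) = H := by
    simp
  have hmem : ∀ g : G, g ∈ MulAction.stabilizer G ((1 : G) : G ⧸ H) ↔ g ∈ H := by
    intro g; rw [hstab]
  have hsmul : ∀ g h : G, g • ((h : G) : G ⧸ H) = ((g * h : G) : G ⧸ H) := fun g h => rfl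
  have hfix : ∀ g h : G, g ∈ MulAction.stabilizer G ((h : G) : G ⧸ H) ↔ h⁻¹ * (g * h) ∈ H := by
    intro g h
    rw [MulAction.mem_stabilizer_iff, hsmul, eq_comm, QuotientGroup.eq]
  have htt : t * t = 1 := by
    have := pow_orderOf_eq_one t; rwa [ht2, pow_two] at this
  have ht1 : t ≠ 1 := fun h => by rw [h, orderOf_one] at ht2; exact absurd ht2 (by norm_num)
  have hta : t • ((1 : G) : G ⧸ H) = ((t : G) : G ⧸ H) := by rw [hsmul, mul_one]
  have hD : MulAction.stabilizer G ((1 : G) : G ⧸ H) ⊓ MulAction.stabilizer G (t • ((1 : G) : G ⧸ H)) =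
      H ⊓ H.map (MulAut.conj t).toMonoidHom := by
    ext g
    rw [Subgroup.mem_inf, Subgroup.mem_inf, hmem, hta, hfix]
    constructor
    · rintro ⟨h1, h2⟩
      refine ⟨h1, ⟨t⁻¹ * (g * t), h2, ?_⟩⟩
      simp [mul_assoc]
    · rintro ⟨h1, ⟨y, hy, hyg⟩⟩
      refine ⟨h1, ?_⟩
      have : t⁻¹ * (g * t) = y := by
        rw [← hyg]; simp [mul_assoc]
      rw [this]; exact hy
  have hQD : Q ⊔ (MulAction.stabilizer G ((1 : G) : G ⧸ H) ⊓
      MulAction.stabilizer G (t • ((1 : G) : G ⧸ H))) = MulAction.stabilizer G ((1 : G) : G ⧸ H) := by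
    apply le_antisymm
    · rw [sup_le_iff]
      exact ⟨by rw [hstab]; exact hQH, inf_le_left⟩
    · intro h hh
      have hhH : h ∈ H := (hmem h).mp hh
      have hht : h * t ∉ H := fun hc => ht ((H.mul_mem_cancel_left hhH).mp hc)
      obtain ⟨u, hu, hu2⟩ := htrans t (h * t) ht hht
      have h3 : h = u * (u⁻¹ * h) := by group
      rw [h3]
      refine mul_mem (Subgroup.mem_sup_left hu) (Subgroup.mem_sup_right ⟨?_, ?_⟩)
      · exact (hmem _).mpr (mul_mem (inv_mem (hQH hu)) hhH)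
      · have h4 : t⁻¹ * (u⁻¹ * h * t) = ((h * t)⁻¹ * (u * t))⁻¹ := by group
        have h5 : u⁻¹ * h ∈ MulAction.stabilizer G ((t : G) : G ⧸ H) := by
          rw [hfix, h4]; exact inv_mem hu2
        rw [hta]; exact h5
  have hodd : Odd (Nat.card ↥(MulAction.stabilizer G ((1 : G) : G ⧸ H) ⊓
      MulAction.stabilizer G (t • ((1 : G) : G ⧸ H)))) := by
    rw [hD]; exact hH.2.2 t ht
  have hinf : Q ⊓ MulAction.stabilizer G (t • ((1 : G) : G ⧸ H)) = ⊥ := by
    rw [eq_bot_iff]
    rintro u ⟨hu, hu2⟩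
    rw [hta] at hu2
    exact hreg t ht u hu ((hfix u t).mp hu2)
  have hnorm : ∀ h ∈ MulAction.stabilizer G ((1 : G) : G ⧸ H), ∀ x ∈ Q, h * x * h⁻¹ ∈ Q := by
    intro h hh x hx
    have := hQn.conj_mem ⟨x, hQH hx⟩ hx ⟨h, (hmem h).mp hh⟩
    exact this
  refine ⟨?_, htt, ht1, ?_, ?_, hnorm, hinf, hQD, ?_, hodd⟩
  · -- double transitivity
    rw [MulAction.is_two_pretransitive_iff]
    intro a b c d hab hcd
    obtain ⟨a, rfl⟩ := QuotientGroup.mk_surjective a
    obtain ⟨b, rfl⟩ := QuotientGroup.mk_surjective b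
    obtain ⟨c, rfl⟩ := QuotientGroup.mk_surjective c
    obtain ⟨d, rfl⟩ := QuotientGroup.mk_surjective d
    have h1 : a⁻¹ * b ∉ H := fun h => hab ((QuotientGroup.eq).mpr h)
    have h2 : c⁻¹ * d ∉ H := fun h => hcd ((QuotientGroup.eq).mpr h)
    obtain ⟨u, hu, hu2⟩ := htrans (a⁻¹ * b) (c⁻¹ * d) h1 h2
    refine ⟨c * u * a⁻¹, ?_, ?_⟩
    · rw [hsmul, eq_comm, QuotientGroup.eq]
      have : c⁻¹ * (c * u * a⁻¹ * a) = u := by group
      rw [this]; exact hQH hu
    · rw [hsmul, eq_comm, QuotientGroup.eq]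
      have : d⁻¹ * (c * u * a⁻¹ * b) = (c⁻¹ * d)⁻¹ * (u * (a⁻¹ * b)) := by group
      rw [this]; exact hu2
  · intro hc; exact ht ((hmem t).mp hc)
  · rw [hstab]; exact hQH
  · -- `|Q|` even
    by_contra hne
    rw [Nat.not_even_iff_odd] at hne
    obtain ⟨s, hs, hs2⟩ := Cfsg.Agent.TwoFusion.StronglyEmbeddedBasic.exists_involution hH
    -- `H = Q D`, `|H|` divides `|Q| |D|`
    have hcard : Nat.card H = Nat.card Q * Nat.card ↥(MulAction.stabilizer G ((1 : G) : G ⧸ H) ⊓
      MulAction.stabilizer G (t • ((1 : G) : G ⧸ H))) := by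
      set D := MulAction.stabilizer G ((1 : G) : G ⧸ H) ⊓
        MulAction.stabilizer G (t • ((1 : G) : G ⧸ H)) with hDdef
      have hDH : D ≤ H := by rw [hD]; exact inf_le_left
      have hc : (Q.subgroupOf H).IsComplement' (D.subgroupOf H) := by
        apply Subgroup.isComplement'_of_disjoint_and_mul_eq_univ
        · rw [Subgroup.disjoint_def]
          intro x hx hx2
          apply Subtype.ext
          have h1 : (x : G) ∈ Q ⊓ MulAction.stabilizer G (t • ((1 : G) : G ⧸ H)) :=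
            ⟨hx, (Subgroup.mem_inf.mp hx2).2⟩
          rw [hinf] at h1
          exact h1
        · rw [Set.eq_univ_iff_forall]
          intro h
          have hh : (h : G) ∈ Q ⊔ D := by rw [hQD, hstab]; exact h.2
          have hn : ∀ d ∈ D, ∀ x ∈ Q, d * x * d⁻¹ ∈ Q := fun d hd x hx =>
            hnorm d (Subgroup.mem_inf.mp hd).1 x hx
          have hmulset : ((Q ⊔ D : Subgroup G) : Set G) = (Q : Set G) * (D : Set G) := by
            have hDN : D ≤ Subgroup.normalizer (Q : Set G) := by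
              intro d hd
              rw [Subgroup.mem_normalizer_iff]
              intro x
              constructor
              · exact fun hx => hn d hd x hx
              · intro hx
                have := hn d⁻¹ (inv_mem hd) _ hx
                simpa [mul_assoc] using this
            exact Subgroup.coe_mul_of_right_le_normalizer_left Q D hDN
          have h2 : (h : G) ∈ (Q : Set G) * (D : Set G) := by rw [← hmulset]; exact hh
          obtain ⟨x, hx, d, hd, hxd⟩ := Set.mem_mul.mp h2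
          exact Set.mem_mul.mpr ⟨⟨x, hQH hx⟩, hx, ⟨d, hDH hd⟩, hd, Subtype.ext hxd⟩
      have h1 := hc.card_mul_card
      rw [← h1]
      congr 1
      · exact (Nat.card_congr (Subgroup.subgroupOfEquivOfLe hQH).toEquiv)
      · exact (Nat.card_congr (Subgroup.subgroupOfEquivOfLe hDH).toEquiv)
    have : Odd (Nat.card H) := by rw [hcard]; exact hne.mul hodd
    exact (Nat.not_even_iff_odd.mpr this) hH.2.1

/-- Let G be a finite simple group with a strongly embedded subgroup H such that H permutes transitively the cosets gH with g ∉ H, and H has a normal subgroup Q acting regularly on those cosets (transitively, with only the identity fixing any of them). Then G is isomorphic to PSL(2,F) with F of characteristic 2 and at least 4 elements, or is simple with the order of a Suzuki group, or is isomorphic to PSU(3) over a field with q² elements, q ≥ 4 a power of 2. -/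
theorem result {G : Type*} [Group G] [Finite G] [IsSimpleGroup G] (H : Subgroup G) (hH : Cfsg.IsStronglyEmbedded H) (Q : Subgroup G) (hQH : Q ≤ H) (hQn : (Q.subgroupOf H).Normal) (htrans : ∀ g₁ g₂ : G, g₁ ∉ H → g₂ ∉ H → ∃ u ∈ Q, g₂⁻¹ * (u * g₁) ∈ H) (hreg : ∀ g : G, g ∉ H → ∀ u ∈ Q, g⁻¹ * (u * g) ∈ H → u = 1) : (∃ (F : Type) (_ : Field F) (_ : Fintype F), CharP F 2 ∧ 4 ≤ Fintype.card F ∧ Nonempty (G ≃* Matrix.ProjectiveSpecialLinearGroup (Fin 2) F)) ∨ Cfsg.IsSuzuki G ∨ (∃ (F : Type) (_ : Field F) (_ : Fintype F) (q : ℕ), Fintype.card F = q ^ 2 ∧ Even q ∧ 4 ≤ q ∧ Nonempty (G ≃* Cfsg.PSU 3 F q)) := by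
  obtain ⟨t, ht, ht2⟩ := Cfsg.Agent.TwoFusion.StronglyEmbeddedBasic.exists_involution_notMem hH
  have hS := setup H hH Q hQH hQn htrans hreg ht ht2
  have hcyc : ¬ IsCyclic G := by
    refine Cfsg.Agent.StrongEmb.RankOne.not_isCyclic_of_exists H hH.1 ?_
    intro h
    have := hH.2.1
    rw [h, Subgroup.card_bot] at this
    exact absurd this (by decide)
  rcases Cfsg.Agent.StrongEmb.RankOne.of_setup hS hcyc with
    ⟨F, hF1, hF2, ⟨n, hn, hcard⟩, hiso⟩ | hsz | ⟨F, hF1, hF2, n, hn, hcard, hiso⟩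
  · refine Or.inl ⟨F, hF1, hF2, ?_, ?_, hiso⟩
    · obtain ⟨p, hp⟩ := CharP.exists F
      have hp' : p.Prime := (CharP.char_is_prime_or_zero F p).resolve_right
        (fun h0 => by subst h0; exact CharP.char_ne_zero_of_finite F 0 rfl)
      obtain ⟨k, hk1, hk2⟩ := FiniteField.card F p
      have : p = 2 := by
        have h1 : p ∣ 2 ^ n := by
          rw [← hcard, hk2]
          exact dvd_pow_self p k.pos.ne'
        exact (Nat.prime_dvd_prime_iff_eq hp' Nat.prime_two).mp (hp'.dvd_of_dvd_pow h1)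
      rw [this] at hp; exact hp
    · rw [hcard]
      calc 4 = 2 ^ 2 := by norm_num
        _ ≤ 2 ^ n := Nat.pow_le_pow_right (by norm_num) hn
  · exact Or.inr (Or.inl hsz)
  · refine Or.inr (Or.inr ⟨F, hF1, hF2, 2 ^ n, hcard, ?_, ?_, hiso⟩)
    · exact (Nat.even_pow.mpr ⟨even_two, by omega⟩)
    · calc 4 = 2 ^ 2 := by norm_num
        _ ≤ 2 ^ n := Nat.pow_le_pow_right (by norm_num) hn

end Cfsg.Agent.S1222
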