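import Cfsg.Statements.S0188
import Cfsg.Agent.Characters.Core
-- import your own Cfsg.Agent.* helpers here

set_option autoImplicit false
open Cfsg

namespace Cfsg.Agent.S0188

open scoped ComplexConjugate
open Cfsg.Agent.Characters.Core

section aux

universe u v

variable {G : Type u} [Group G] {H : Type v} [Group H]

/-- The outer product of two functions. -/
theorem isCharacter_outer {φ : G → ℂ} {ψ : H → ℂ} (hφ : IsCharacter G φ) (hψ : IsCharacter H ψ) :
    IsCharacter (G × H) (fun x => φ x.1 * ψ x.2) :=
  isCharacter_mul (isCharacter_comp (MonoidHom.fst G H) hφ)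
    (isCharacter_comp (MonoidHom.snd G H) hψ)

/-- The inner product of a function on `G × H` with an outer product, as an iterated inner
product. -/
theorem classInner_outer [Fintype G] [Fintype H] (θ : G × H → ℂ) (φ : G → ℂ) (ψ : H → ℂ) :
    classInner θ (fun x => φ x.1 * ψ x.2) =
      classInner (fun h => classInner (fun g => θ (g, h)) φ) ψ := by
  unfold classInner
  rw [Fintype.sum_prod_type_right, Nat.card_prod]
  simp only [map_mul, Finset.mul_sum, Finset.sum_mul]
  push_cast
  refine Finset.sum_congr rfl fun h _ => Finset.sum_congr rfl fun g _ => ?_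
  rw [mul_inv]
  ring

/-- The outer product of irreducible characters is irreducible. -/
theorem isIrr_outer [Finite G] [Finite H] {φ : G → ℂ} {ψ : H → ℂ} (hφ : IsIrrCharacter G φ)
    (hψ : IsIrrCharacter H ψ) : IsIrrCharacter (G × H) (fun x => φ x.1 * ψ x.2) := by
  classical
  have := Fintype.ofFinite G
  have := Fintype.ofFinite H
  rw [isIrr_iff_classInner_self (isCharacter_outer (isIrr_isCharacter hφ) (isIrr_isCharacter hψ)),
    classInner_outer]
  have h1 : (fun h => classInner (fun g => φ g * ψ h) φ) = ψ := by
    funext h
    have : (fun g => φ g * ψ h) = ψ h • φ := by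
      funext g
      simp [mul_comm]
    rw [this, classInner_smul_left, classInner_irr_self hφ, mul_one]
  simp only at h1 ⊢
  rw [h1, classInner_irr_self hψ]

end aux

/-- The irreducible complex characters of G × H are precisely the functions (g, h) ↦ φ g * ψ h with φ, ψ irreducible characters of G and H. -/
theorem result {G : Type*} [Group G] [Finite G] {H : Type*} [Group H] [Finite H] (θ : G × H → ℂ) : Cfsg.IsIrrCharacter (G × H) θ ↔ ∃ (φ : G → ℂ) (ψ : H → ℂ), Cfsg.IsIrrCharacter G φ ∧ Cfsg.IsIrrCharacter H ψ ∧ θ = fun x => φ x.1 * ψ x.2 := by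
  classical
  have := Fintype.ofFinite G
  have := Fintype.ofFinite H
  constructor
  · intro hθ
    by_contra hne
    push Not at hne
    have hcf : IsClassFunction (G × H) θ := isIrr_isClassFunction hθ
    have key : ∀ (φ : G → ℂ) (ψ : H → ℂ), IsIrrCharacter G φ → IsIrrCharacter H ψ →
        classInner (fun h => classInner (fun g => θ (g, h)) φ) ψ = 0 := by
      intro φ ψ hφ hψ
      rw [← classInner_outer]
      exact classInner_irr_ne hθ (isIrr_outer hφ hψ) (hne φ ψ hφ hψ)
    have key2 : ∀ (φ : G → ℂ), IsIrrCharacter G φ →
        (fun h => classInner (fun g => θ (g, h)) φ) = 0 := by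
      intro φ hφ
      apply classFunction_eq_zero
      · intro h k
        simp only
        congr 1
        funext g
        have := hcf (g, h) (1, k)
        simpa using this
      · intro ψ hψ
        exact key φ ψ hφ hψ
    have key3 : ∀ h : H, (fun g => θ (g, h)) = 0 := by
      intro h
      apply classFunction_eq_zero
      · intro g k
        have := hcf (g, h) (k, 1)
        simpa using this
      · intro φ hφ
        exact congrFun (key2 φ hφ) h
    have hzero : θ = 0 := by
      funext x
      obtain ⟨g, h⟩ := x
      exact congrFun (key3 h) g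
    have h1 := classInner_irr_self hθ
    rw [hzero, classInner_zero_left] at h1
    exact zero_ne_one h1
  · rintro ⟨φ, ψ, hφ, hψ, rfl⟩
    exact isIrr_outer hφ hψ

end Cfsg.Agent.S0188
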