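import Mathlib
import Cfsg.Statements.S0961
import Cfsg.Agent.Characters.Core
import Cfsg.Agent.Characters.Brauer

set_option autoImplicit false
open Cfsg

namespace Cfsg.Agent.S0961

open Cfsg.Agent.Characters.Core

/-- The regular representation on functions. -/
noncomputable def regRep (Q : Type*) [Group Q] : Representation ℂ Q (Q → ℂ) where
  toFun g := LinearMap.funLeft ℂ ℂ (fun x => g⁻¹ * x)
  map_one' := by ext x; simp [LinearMap.funLeft_apply]
  map_mul' g h := by ext x; simp [LinearMap.funLeft_apply, mul_assoc]

/-- The regular character, as a function. -/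
theorem isCharacter_regular (Q : Type*) [Group Q] [Finite Q] :
    IsCharacter Q (fun g : Q => haveI := Classical.dec (g = 1); if g = 1 then (Nat.card Q : ℂ) else 0) := by
  classical
  have := Fintype.ofFinite Q
  have h := isCharacter_of_rep (regRep Q)
  convert h using 1
  ext g
  rw [Representation.character, LinearMap.trace_eq_matrix_trace ℂ (Pi.basisFun ℂ Q)]
  have h0 : ∀ x : Q, (LinearMap.toMatrix (Pi.basisFun ℂ Q) (Pi.basisFun ℂ Q) (regRep Q g)) x x
      = if g⁻¹ * x = x then 1 else 0 := by
    intro x
    rw [LinearMap.toMatrix_apply]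
    simp only [Pi.basisFun_apply, Pi.basisFun_repr]
    change (Pi.single x (1 : ℂ) : Q → ℂ) (g⁻¹ * x) = _
    rw [Pi.single_apply]
  simp only [Matrix.trace, Matrix.diag]
  rw [Finset.sum_congr rfl (fun x _ => h0 x)]
  split_ifs with h1
  · subst h1
    simp
  · symm
    apply Finset.sum_eq_zero
    intro x _
    rw [if_neg]
    intro h2
    exact h1 (by simpa using h2)

/-- In a group with a normal subgroup `K` of order prime to `p` and index a power of `p`, the
elements of `K` are those of order prime to `p`. -/
theorem mem_iff_of_index {E : Type*} [Group E] [Finite E] {p : ℕ} (hp : p.Prime) (K : Subgroup E)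
    [K.Normal] {j : ℕ} (hj : K.index = p ^ j) (hK : (Nat.card K).Coprime p) (e : E) :
    e ∈ K ↔ ¬ p ∣ orderOf e := by
  constructor
  · intro he hd
    have h1 : orderOf e ∣ Nat.card K := by
      have := orderOf_dvd_natCard (⟨e, he⟩ : K)
      rwa [← Subgroup.orderOf_coe] at this
    exact (Nat.Prime.coprime_iff_not_dvd hp).mp hK.symm (hd.trans h1)
  · intro hd
    rw [← QuotientGroup.eq_one_iff, ← orderOf_eq_one_iff]
    have h1 : orderOf ((e : E ⧸ K)) ∣ p ^ j := by
      rw [← hj, Subgroup.index]
      exact orderOf_dvd_natCard _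
    have h2 : orderOf ((e : E ⧸ K)) ∣ orderOf e := orderOf_map_dvd (QuotientGroup.mk' K) e
    obtain ⟨i, -, hi⟩ := (Nat.dvd_prime_pow hp).mp h1
    rcases Nat.eq_zero_or_pos i with h0 | h0
    · rw [hi, h0, pow_zero]
    · exfalso
      apply hd
      refine dvd_trans ?_ h2
      rw [hi]
      exact dvd_pow_self p h0.ne'

/-- Elementary groups have a normal `p`-complement for every prime `p`. -/
theorem exists_complement {E : Type*} [Group E] [Finite E] {p q : ℕ} (hp : p.Prime)
    (hq : q.Prime) (hE : IsElementary q E) :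
    ∃ (K : Subgroup E), K.Normal ∧ (∃ j : ℕ, K.index = p ^ j) ∧ (Nat.card K).Coprime p := by
  obtain ⟨z, hz, hcop, k, hk⟩ := hE
  by_cases hpq : p = q
  · subst hpq
    refine ⟨Subgroup.zpowers z, ?_, ⟨k, hk⟩, ?_⟩
    · refine ⟨fun n hn g => ?_⟩
      have : n ∈ Subgroup.center E := (Subgroup.zpowers_le.mpr hz) hn
      rw [Subgroup.mem_center_iff] at this
      rw [this g]
      simpa using hn
    · rw [Nat.card_zpowers]
      exact hcop
  · haveI := Fact.mk hp
    obtain ⟨P⟩ : Nonempty (Sylow p E) := inferInstance
    have hzn : (Subgroup.zpowers z).Normal := by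
      refine ⟨fun n hn g => ?_⟩
      have : n ∈ Subgroup.center E := (Subgroup.zpowers_le.mpr hz) hn
      rw [Subgroup.mem_center_iff] at this
      rw [this g]
      simpa using hn
    have hP : ∀ x ∈ (P : Subgroup E), x ∈ Subgroup.center E := by
      intro x hx
      apply (Subgroup.zpowers_le.mpr hz)
      rw [← QuotientGroup.eq_one_iff, ← orderOf_eq_one_iff]
      have h1 : orderOf ((x : E ⧸ Subgroup.zpowers z)) ∣ q ^ k := by
        rw [← hk, Subgroup.index]
        exact orderOf_dvd_natCard _
      have h2 : orderOf ((x : E ⧸ Subgroup.zpowers z)) ∣ orderOf x :=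
        orderOf_map_dvd (QuotientGroup.mk' _) x
      obtain ⟨i, hi⟩ := (IsPGroup.iff_orderOf.mp P.2) ⟨x, hx⟩
      rw [← Subgroup.orderOf_coe] at hi
      have hi : orderOf x = p ^ i := hi
      rw [hi] at h2
      have h3 : Nat.Coprime (p ^ i) (q ^ k) :=
        Nat.Coprime.pow _ _ ((Nat.coprime_primes hp hq).mpr hpq)
      exact Nat.eq_one_of_dvd_coprimes h3 h2 h1
    have hPn : (P : Subgroup E).Normal := by
      refine ⟨fun n hn g => ?_⟩
      have := Subgroup.mem_center_iff.mp (hP n hn) g
      rw [this]
      simpa using hn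
    have hPc : Nat.Coprime (Nat.card (P : Subgroup E)) (P : Subgroup E).index :=
      P.card_coprime_index
    obtain ⟨K, hK⟩ := Subgroup.exists_right_complement'_of_coprime hPc
    obtain ⟨i, hi⟩ := IsPGroup.iff_card.mp P.2
    have hKcard : Nat.card K = (P : Subgroup E).index := hK.card_right
    refine ⟨K, ?_, ⟨i, ?_⟩, ?_⟩
    · refine ⟨fun n hn g => ?_⟩
      have hg : g ∈ (P : Subgroup E) ⊔ K := by
        rw [hK.sup_eq_top]; trivial
      obtain ⟨a, ha, b, hb, rfl⟩ := (Subgroup.mem_sup_of_normal_left).mp hg
      have h1 : a * b * n * (a * b)⁻¹ = b * n * b⁻¹ := by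
        have hc := Subgroup.mem_center_iff.mp (hP a ha) (b * n * b⁻¹)
        calc a * b * n * (a * b)⁻¹ = a * (b * n * b⁻¹) * a⁻¹ := by group
          _ = (b * n * b⁻¹) * a * a⁻¹ := by rw [hc]
          _ = b * n * b⁻¹ := by group
      rw [h1]
      exact K.mul_mem (K.mul_mem hb hn) (K.inv_mem hb)
    · rw [hK.index_eq_card]
      exact hi
    · rw [hKcard]
      have h4 := (Nat.Prime.coprime_iff_not_dvd hp).mpr P.not_dvd_index
      exact h4.symm

/-- Let χ be an irreducible character of the finite group G and let p ^ a be the largest power of the prime p dividing the order of G. Then the function equal to p ^ a * χ x at elements x of order prime to p and to 0 elsewhere is a generalized character (a difference of characters). -/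
theorem result {G : Type*} [Group G] [Finite G] (p : ℕ) [Fact p.Prime] (χ : Cfsg.IrrCharacter G) : Cfsg.IsGeneralizedCharacter G (fun x : G => if p ∣ orderOf x then 0 else ((p ^ (Nat.card G).factorization p : ℕ) : ℂ) * (χ : G → ℂ) x) := by
  classical
  have hp : p.Prime := Fact.out
  have hχ := isIrr_isCharacter χ.2
  apply Cfsg.Agent.Characters.Brauer.brauer_characterization
  · intro g h
    have h1 : orderOf (h * g * h⁻¹) = orderOf g := by
      have := orderOf_injective (MulAut.conj h).toMonoidHom (MulAut.conj h).injective g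
      simpa using this
    simp only [h1, isIrr_isClassFunction χ.2 g h]
  · intro E q hq hE
    obtain ⟨K, hKn, ⟨j, hj⟩, hK⟩ := exists_complement hp hq hE
    have hmem := mem_iff_of_index hp K hj hK
    have hjle : j ≤ (Nat.card G).factorization p := by
      rw [← Nat.Prime.pow_dvd_iff_le_factorization hp Nat.card_pos.ne', ← hj]
      exact (K.index_dvd_card).trans E.card_subgroup_dvd_card
    have hreg := isCharacter_comp (QuotientGroup.mk' K) (isCharacter_regular (E ⧸ K))
    have hres : IsCharacter E ((χ : G → ℂ) ∘ E.subtype) := isCharacter_comp E.subtype hχ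
    have hprod := isCharacter_nsmul (p ^ ((Nat.card G).factorization p - j))
      (isCharacter_mul hreg hres)
    refine ⟨_, 0, hprod, isCharacter_zero, ?_⟩
    ext e
    have ho : orderOf (e : G) = orderOf e := Subgroup.orderOf_coe e
    simp only [sub_zero, Pi.smul_apply, Pi.mul_apply, Function.comp_apply,
      QuotientGroup.mk'_apply, QuotientGroup.eq_one_iff, Subgroup.subtype_apply, ho]
    by_cases he : p ∣ orderOf e
    · rw [if_pos he, if_neg (by rw [hmem]; simpa using he)]
      simp
    · rw [if_neg he, if_pos ((hmem e).mpr he)]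
      have hc : Nat.card (E ⧸ K) = p ^ j := by rw [← hj]; rfl
      rw [hc, nsmul_eq_mul, ← mul_assoc, ← Nat.cast_mul, ← pow_add, Nat.sub_add_cancel hjle]

end Cfsg.Agent.S0961
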