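import Cfsg.Statements.S0916
import Cfsg.Agent.Blocks.SylowIn

set_option autoImplicit false
open Cfsg

namespace Cfsg.Agent.S0916

open Cfsg.Agent.Blocks.SylowIn

/-- Let P be a p-subgroup of the finite group G, C its centralizer and N its normalizer. Say that a conjugacy class (of G, or of N) has defect group P when P is a Sylow p-subgroup of the centralizer (in G, respectively in N) of some element of the class. Then: (i) if the class of g in G has defect group P, the elements of that class lying in C form a single N-class, again with defect group P; (ii) every N-class with defect group P arises this way from exactly one G-class with defect group P. -/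
theorem result {G : Type*} [Group G] [Finite G] (p : ℕ) [Fact p.Prime] (P : Subgroup G) (hP : IsPGroup p P) : (∀ g : G, (∃ S : Sylow p (Subgroup.centralizer ({g} : Set G)), (S : Subgroup (Subgroup.centralizer ({g} : Set G))).map (Subgroup.centralizer ({g} : Set G)).subtype = P) → (∃ c : G, IsConj g c ∧ c ∈ Subgroup.centralizer (P : Set G)) ∧ (∀ c₁ c₂ : G, IsConj g c₁ → IsConj g c₂ → c₁ ∈ Subgroup.centralizer (P : Set G) → c₂ ∈ Subgroup.centralizer (P : Set G) → ∃ n ∈ Subgroup.normalizer (P : Set G), n * c₁ * n⁻¹ = c₂)) ∧ (∀ c : G, c ∈ Subgroup.centralizer (P : Set G) → (∃ S : Sylow p (Subgroup.centralizer ({c} : Set G) ⊓ Subgroup.normalizer (P : Set G) : Subgroup G), (S : Subgroup ↥(Subgroup.centralizer ({c} : Set G) ⊓ Subgroup.normalizer (P : Set G))).map (Subgroup.centralizer ({c} : Set G) ⊓ Subgroup.normalizer (P : Set G)).subtype = P) → ∃ S : Sylow p (Subgroup.centralizer ({c} : Set G)), (S : Subgroup (Subgroup.centralizer ({c} : Set G))).map (Subgroup.centralizer ({c} : Set G)).subtype = P) := by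
  -- `P ≤ C(c)` iff `c ∈ C(P)`
  have hle : ∀ c : G, c ∈ Subgroup.centralizer (P : Set G) →
      P ≤ Subgroup.centralizer ({c} : Set G) := by
    intro c hc x hx
    rw [Subgroup.mem_centralizer_singleton_iff]
    exact (Subgroup.mem_centralizer_iff.mp hc) x hx
  constructor
  · intro g hg
    have hcard := card_of_sylow_map_eq hg
    constructor
    · refine ⟨g, IsConj.refl g, ?_⟩
      rw [Subgroup.mem_centralizer_iff]
      intro h hh
      obtain ⟨S, hS⟩ := hg
      have h1 : h ∈ Subgroup.centralizer ({g} : Set G) := by
        have : h ∈ (S : Subgroup (Subgroup.centralizer ({g} : Set G))).map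
            (Subgroup.centralizer ({g} : Set G)).subtype := by rw [hS]; exact hh
        exact Subgroup.map_subtype_le _ this
      exact Subgroup.mem_centralizer_singleton_iff.mp h1
    · intro c₁ c₂ h₁ h₂ hc₁ hc₂
      obtain ⟨y, hy⟩ := isConj_iff.mp (h₁.symm.trans h₂)
      -- `P` is Sylow in `C(c₂)`
      have e₂ : ∃ S : Sylow p (Subgroup.centralizer ({c₂} : Set G)),
          (S : Subgroup (Subgroup.centralizer ({c₂} : Set G))).map
            (Subgroup.centralizer ({c₂} : Set G)).subtype = P := by
        apply exists_sylow_map_eq_of_card (hle c₂ hc₂)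
        rw [card_centralizer_of_isConj h₂]
        exact hcard
      have e₁ : ∃ S : Sylow p (Subgroup.centralizer ({c₂} : Set G)),
          (S : Subgroup (Subgroup.centralizer ({c₂} : Set G))).map
            (Subgroup.centralizer ({c₂} : Set G)).subtype =
              P.map (MulAut.conj y).toMonoidHom := by
        apply exists_sylow_map_eq_of_card
        · rw [← hy, ← centralizer_singleton_conj]
          exact Subgroup.map_mono (hle c₁ hc₁)
        · rw [card_centralizer_of_isConj h₂, ← hcard]
          exact (Nat.card_congr (P.equivMapOfInjective _ (MulAut.conj y).injective).toEquiv).symm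
      obtain ⟨z, hz, hzP⟩ := exists_conj_of_sylow_map_eq e₁ e₂
      refine ⟨z * y, ?_, ?_⟩
      · have hmap : P.map (MulAut.conj (z * y)).toMonoidHom = P := by
          rw [Subgroup.map_map] at hzP
          have : (MulAut.conj z).toMonoidHom.comp (MulAut.conj y).toMonoidHom =
              (MulAut.conj (z * y)).toMonoidHom := by
            ext x
            simp [mul_assoc]
          rwa [this] at hzP
        rw [Subgroup.mem_normalizer_iff]
        intro h
        constructor
        · intro hh
          rw [← hmap]
          exact ⟨h, hh, rfl⟩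
        · intro hh
          rw [← hmap] at hh
          obtain ⟨x, hx, hxe⟩ := hh
          have : x = h := (MulAut.conj (z * y)).injective hxe
          rwa [← this]
      · rw [Subgroup.mem_centralizer_singleton_iff] at hz
        calc z * y * c₁ * (z * y)⁻¹ = z * (y * c₁ * y⁻¹) * z⁻¹ := by group
          _ = z * c₂ * z⁻¹ := by rw [hy]
          _ = c₂ * z * z⁻¹ := by rw [hz]
          _ = c₂ := by group
  · intro c hc h
    rw [exists_sylow_map_eq_iff] at h ⊢
    obtain ⟨-, -, hmax⟩ := h
    refine ⟨hle c hc, hP, ?_⟩
    intro Q hQ hQp hPQ
    apply eq_of_normalizer_inf_le hQp hPQ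
    have h1 : Subgroup.normalizer (P : Set G) ⊓ Q = P := by
      apply hmax
      · exact le_inf (inf_le_right.trans hQ) inf_le_left
      · exact hQp.to_le inf_le_right
      · exact le_inf Subgroup.le_normalizer hPQ
    rw [h1]

end Cfsg.Agent.S0916
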