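import Cfsg.Statements.S0911
import Cfsg.Agent.Blocks.MinMax

set_option autoImplicit false
open Cfsg

namespace Cfsg.Agent.S0911

open Cfsg.Agent.Blocks.Basic Cfsg.Agent.Blocks.MinMax Cfsg.Agent.Blocks.Local

/-- The min–max Theorem for defect classes. Let B be a block of the finite group G relative to a maximal ideal M of the algebraic integers containing the prime p, let g represent a defect class of B and let D be a Sylow p-subgroup of the centralizer of g (viewed in G). For any h: (a) if the idempotent coefficient of B at h is a local integer outside the local ideal, then some conjugate of D contains a Sylow p-subgroup of the centralizer of h; (b) if the central character of some member of B at h is outside the local ideal, then some conjugate of D is contained in a Sylow p-subgroup of the centralizer of h. -/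
theorem result {G : Type*} [Group G] [Finite G] (p : ℕ) [Fact p.Prime] (M : Ideal Cfsg.AlgInt) (hM : Cfsg.IsPModular p M) (B : Set (Cfsg.IrrCharacter G)) (hB : Cfsg.IsPBlock M B) (g : G) (hg : Cfsg.IsDefectClass M B g) (D : Sylow p (Subgroup.centralizer ({g} : Set G))) (h : G) : (Cfsg.MemLocalRing M (Cfsg.blockCoeff B h) → ¬ Cfsg.MemLocalIdeal M (Cfsg.blockCoeff B h) → ∃ (x : G) (Q : Sylow p (Subgroup.centralizer ({h} : Set G))), (Q : Subgroup (Subgroup.centralizer ({h} : Set G))).map (Subgroup.centralizer ({h} : Set G)).subtype ≤ ((D : Subgroup (Subgroup.centralizer ({g} : Set G))).map (Subgroup.centralizer ({g} : Set G)).subtype).map (MulAut.conj x).toMonoidHom) ∧ ((∃ χ ∈ B, ¬ Cfsg.MemLocalIdeal M (Cfsg.centralChar (χ : G → ℂ) h)) → ∃ (x : G) (Q : Sylow p (Subgroup.centralizer ({h} : Set G))), ((D : Subgroup (Subgroup.centralizer ({g} : Set G))).map (Subgroup.centralizer ({g} : Set G)).subtype).map (MulAut.conj x).toMonoidHom ≤ (Q : Subgroup (Subgroup.centralizer ({h} : Set G))).map (Subgroup.centralizer ({h} : Set G)).subtype)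 := by
  classical
  have := Fintype.ofFinite G
  have hP : M.IsPrime := isPrime_of_isPModular hM
  have hDS : IsSylowCentralizer p g ((D : Subgroup (Subgroup.centralizer ({g} : Set G))).map
      (Subgroup.centralizer ({g} : Set G)).subtype) := ⟨D, rfl⟩
  obtain ⟨χ, hχB⟩ := isPBlock_nonempty hB
  constructor
  · intro _ hh
    obtain ⟨Q⟩ : Nonempty (Sylow p (Subgroup.centralizer ({h} : Set G))) := inferInstance
    have hQS : IsSylowCentralizer p h ((Q : Subgroup (Subgroup.centralizer ({h} : Set G))).map
      (Subgroup.centralizer ({h} : Set G)).subtype) := ⟨Q, rfl⟩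
    obtain ⟨x, hgx, hx⟩ := exists_isConj_of_blockCoeff hM hB ⟨χ, hχB, hg.2.2 χ hχB⟩ hh
      (isPGroup_of_isSylowCentralizer hQS) (le_centralizer_of_isSylowCentralizer hQS)
    obtain ⟨E, hE, hQE⟩ := exists_isSylowCentralizer (isPGroup_of_isSylowCentralizer hQS) hx
    obtain ⟨t, -, ht⟩ := isSylowCentralizer_conj_of_isConj hDS hE hgx
    exact ⟨t, Q, by rw [← ht]; exact hQE⟩
  · rintro ⟨ψ, hψB, hψ⟩
    obtain ⟨x, hhx, hx⟩ := exists_isConj_of_blockCoeff hM hB ⟨ψ, hψB, hψ⟩ hg.2.1
      (isPGroup_of_isSylowCentralizer hDS) (le_centralizer_of_isSylowCentralizer hDS)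
    obtain ⟨t, rfl⟩ := isConj_iff.1 hhx
    have h1 : ((D : Subgroup (Subgroup.centralizer ({g} : Set G))).map
        (Subgroup.centralizer ({g} : Set G)).subtype).map (MulAut.conj t⁻¹).toMonoidHom ≤
        Subgroup.centralizer ({h} : Set G) := by
      have h2 := Subgroup.map_mono (f := (MulAut.conj t⁻¹).toMonoidHom) hx
      rw [← centralizer_conj] at h2
      convert h2 using 3
      simp [mul_assoc]
    obtain ⟨E, ⟨Q, rfl⟩, hQE⟩ := exists_isSylowCentralizer
      ((isPGroup_of_isSylowCentralizer hDS).map (MulAut.conj t⁻¹).toMonoidHom) h1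
    exact ⟨t⁻¹, Q, hQE⟩

end Cfsg.Agent.S0911
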