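import Mathlib
import Cfsg.Statements.S0946
import Cfsg.Agent.Blocks.Homocyclic

set_option autoImplicit false
open Cfsg

namespace Cfsg.Agent.S0946

/-- Let P be a Sylow 2-subgroup of the finite group G isomorphic to Z/2^m × Z/2^m with m ≥ 1. Then either P has a normal complement in G, or all involutions of G are conjugate. -/
theorem result {G : Type*} [Group G] [Finite G] (P : Sylow 2 G) (m : ℕ) (hm : 1 ≤ m) (e : (P : Subgroup G) ≃* Multiplicative (ZMod (2 ^ m) × ZMod (2 ^ m))) : (∃ N : Subgroup G, N.Normal ∧ Subgroup.IsComplement' N (P : Subgroup G)) ∨ ∀ s t : G, orderOf s = 2 → orderOf t = 2 → IsConj s t := by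
  rcases Blocks.Homocyclic.relIndex_eq_one_or_three P m hm e with h1 | h3
  · left
    have hle : Subgroup.normalizer (P : Set G) ≤ Subgroup.centralizer (P : Set G) :=
      Subgroup.relIndex_eq_one.1 h1
    exact ⟨_, inferInstance, MonoidHom.ker_transferSylow_isComplement' P hle⟩
  · right
    intro s t hs ht
    obtain ⟨s', hs'P, hs'2, hs'c⟩ := Blocks.Homocyclic.exists_isConj_mem P s hs
    obtain ⟨t', ht'P, ht'2, ht'c⟩ := Blocks.Homocyclic.exists_isConj_mem P t ht
    obtain ⟨x, _, hx⟩ := Blocks.Homocyclic.isConj_of_relIndex_eq_three P m e h3 s' t'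
      hs'P hs'2 ht'P ht'2
    exact (hs'c.trans (isConj_iff.2 ⟨x, hx⟩)).trans ht'c.symm

end Cfsg.Agent.S0946
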