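import Cfsg.Statements.S0852
import Cfsg.Agent.Characters.Core
import Cfsg.Agent.CharactersDeep.NormalInd
import Cfsg.Agent.CharactersDeep.Tifn

set_option autoImplicit false
open Cfsg

namespace Cfsg.Agent.S0852

open scoped ComplexConjugate in
/-- Let K be a subgroup of the finite group G that meets each conjugate by an element outside its normalizer N trivially, is properly contained in N, and contains the centralizer of each of its non-identity elements (a T.I. subgroup with Frobenius normalizer). Let S be the set of irreducible characters of N taking at some element of K a value different from their degree, suppose S has at least two members, and let star be a linear isometry on the integer span of S into the generalized characters of G that agrees with induction on the members vanishing at the identity (so S is coherent, with star as the extending isometry). Then an irreducible character ψ of G is of the form star χ or -star χ for some χ in S if and only if ψ is not constant on the non-identity elements of K.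 -/
theorem result {G : Type*} [Group G] [Fintype G] (K : Subgroup G) (hTI : ∀ g : G, g ∉ Subgroup.normalizer (K : Set G) → ∀ k ∈ K, g * k * g⁻¹ ∈ K → k = 1) (hlt : K < Subgroup.normalizer (K : Set G)) (hC : ∀ k ∈ K, k ≠ 1 → Subgroup.centralizer ({k} : Set G) ≤ K) [Fintype ↥(Subgroup.normalizer (K : Set G))] (S : Set (↥(Subgroup.normalizer (K : Set G)) → ℂ)) (hS : S = {χ : ↥(Subgroup.normalizer (K : Set G)) → ℂ | Cfsg.IsIrrCharacter ↥(Subgroup.normalizer (K : Set G)) χ ∧ ∃ k : ↥(Subgroup.normalizer (K : Set G)), (k : G) ∈ K ∧ χ k ≠ χ 1}) (htwo : ∃ χ ∈ S, ∃ ξ ∈ S, χ ≠ ξ) (star : (↥(Subgroup.normalizer (K : Set G)) → ℂ) → (G → ℂ)) (hstar : Cfsg.IsLinearIsometryOn (Cfsg.zspan S) star) (hext : ∀ α ∈ Cfsg.zspanOn S ({1}ᶜ : Set ↥(Subgroup.normalizer (K : Set G))), star α = Cfsg.indFun (Subgroup.normalizer (K : Set G)) α) (ψ : G → ℂ) (hψ : Cfsg.IsIrrCharacter G ψ) : (∃ χ ∈ S, ψ = star χ ∨ ψ = -star χ) ↔ ∃ a ∈ K, ∃ b ∈ K, a ≠ 1 ∧ b ≠ 1 ∧ ψ a ≠ ψ b := by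
  classical
  -- members of `S`
  have hirr : ∀ χ ∈ S, IsIrrCharacter ↥(Subgroup.normalizer (K : Set G)) χ := by
    intro χ hχ
    rw [hS] at hχ
    exact hχ.1
  have hker : ∀ χ ∈ S, ∃ k : ↥(Subgroup.normalizer (K : Set G)), (k : G) ∈ K ∧ χ k ≠ χ 1 := by
    intro χ hχ
    rw [hS] at hχ
    exact hχ.2
  have hdeg : ∀ χ ∈ S, ∃ n : ℕ, χ 1 = n := fun χ hχ =>
    Characters.Core.isCharacter_apply_one (Characters.Core.isIrr_isCharacter (hirr χ hχ))
  have hdeg0 : ∀ χ ∈ S, χ 1 ≠ 0 := by
    intro χ hχ
    obtain ⟨n, hn, hχn⟩ := Characters.Core.isIrr_apply_one (hirr χ hχ)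
    rw [hχn]
    exact Nat.cast_ne_zero.mpr hn.ne'
  have hmem : ∀ χ ∈ S, χ ∈ zspan S := fun χ hχ => Submodule.subset_span hχ
  have hψcf := Characters.Core.isIrr_isClassFunction hψ
  -- the fundamental identity
  have hfund : ∀ χ ∈ S, ∀ ξ ∈ S,
      χ 1 * classInner (star ξ) ψ - ξ 1 * classInner (star χ) ψ =
      χ 1 * classInner ξ (fun h : ↥(Subgroup.normalizer (K : Set G)) => ψ h) -
      ξ 1 * classInner χ (fun h : ↥(Subgroup.normalizer (K : Set G)) => ψ h) := by
    intro χ hχ ξ hξ
    rw [← CharactersDeep.Tifn.classInner_comb, ← CharactersDeep.Tifn.classInner_comb,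
      ← CharactersDeep.Tifn.star_comb hstar hχ hξ (hdeg χ hχ) (hdeg ξ hξ),
      hext _ (CharactersDeep.Tifn.comb_mem_zspanOn hχ hξ (hdeg χ hχ) (hdeg ξ hξ)),
      CharactersDeep.NormalInd.classInner_indFun _ _ _ hψcf]
  constructor
  · rintro ⟨χ, hχS, hψχ⟩
    by_contra hcon
    push Not at hcon
    -- a second member of `S`
    obtain ⟨ξ, hξS, hξχ⟩ : ∃ ξ ∈ S, ξ ≠ χ := by
      obtain ⟨χ₁, h₁, χ₂, h₂, hne⟩ := htwo
      by_cases h : χ₁ = χ
      · exact ⟨χ₂, h₂, fun h' => hne (h.trans h'.symm)⟩
      · exact ⟨χ₁, h₁, h⟩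
    obtain ⟨k₀, hk₀, hk₀ne⟩ := hker χ hχS
    have hk₀1 : (k₀ : G) ≠ 1 := by
      intro h
      apply hk₀ne
      have : k₀ = 1 := Subtype.ext h
      rw [this]
    -- the combination is orthogonal to the restriction of `ψ`
    have h0 : classInner (fun x => χ 1 * ξ x - ξ 1 * χ x)
        (fun h : ↥(Subgroup.normalizer (K : Set G)) => ψ h) = 0 := by
      have h1 : classInner (fun x => χ 1 * ξ x - ξ 1 * χ x)
          (fun h : ↥(Subgroup.normalizer (K : Set G)) => ψ h) =
          classInner (fun x => χ 1 * ξ x - ξ 1 * χ x)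
          (ψ k₀ • (1 : ↥(Subgroup.normalizer (K : Set G)) → ℂ)) := by
        show (Nat.card ↥(Subgroup.normalizer (K : Set G)) : ℂ)⁻¹ * _ =
          (Nat.card ↥(Subgroup.normalizer (K : Set G)) : ℂ)⁻¹ * _
        congr 1
        refine Finset.sum_congr rfl (fun x _ => ?_)
        by_cases hxK : (x : G) ∈ K
        · by_cases hx1 : x = 1
          · subst hx1
            have : χ 1 * ξ 1 - ξ 1 * χ 1 = 0 := by ring
            simp only [this, zero_mul]
          · have hx1' : (x : G) ≠ 1 := fun h => hx1 (Subtype.ext h)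
            have := hcon x hxK k₀ hk₀ hx1' hk₀1
            simp only [this, Pi.smul_apply, Pi.one_apply, smul_eq_mul, mul_one]
        · have e1 := CharactersDeep.Tifn.apply_eq_zero_of_notMem K hC (hirr χ hχS) (hker χ hχS)
            x hxK
          have e2 := CharactersDeep.Tifn.apply_eq_zero_of_notMem K hC (hirr ξ hξS) (hker ξ hξS)
            x hxK
          simp only [e1, e2, mul_zero, sub_zero, zero_mul]
      have hone : ∀ η ∈ S, classInner η (1 : ↥(Subgroup.normalizer (K : Set G)) → ℂ) = 0 := by
        intro η hη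
        refine Characters.Core.classInner_irr_ne (hirr η hη) Characters.Core.isIrr_one ?_
        rintro rfl
        obtain ⟨k, _, hk⟩ := hker _ hη
        exact hk rfl
      rw [h1, Characters.Core.classInner_smul_right, CharactersDeep.Tifn.classInner_comb,
        hone ξ hξS, hone χ hχS]
      ring
    rw [CharactersDeep.Tifn.classInner_comb, ← hfund χ hχS ξ hξS] at h0
    have e1 : classInner (star ξ) (star χ) = 0 := by
      rw [hstar.2.2.1 _ (hmem ξ hξS) _ (hmem χ hχS)]
      exact Characters.Core.classInner_irr_ne (hirr ξ hξS) (hirr χ hχS) hξχ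
    have e2 : classInner (star χ) (star χ) = 1 := by
      rw [hstar.2.2.1 _ (hmem χ hχS) _ (hmem χ hχS)]
      exact Characters.Core.classInner_irr_self (hirr χ hχS)
    rcases hψχ with h | h
    · rw [h, e1, e2] at h0
      apply hdeg0 ξ hξS
      linear_combination -h0
    · rw [h, Characters.Core.classInner_neg_right, Characters.Core.classInner_neg_right,
        e1, e2] at h0
      apply hdeg0 ξ hξS
      linear_combination h0
  · rintro ⟨a, ha, b, hb, ha1, hb1, hab⟩
    by_contra hcon
    push Not at hcon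
    have hzero : ∀ χ ∈ S, classInner (star χ) ψ = 0 := by
      intro χ hχ
      have e2 : classInner (star χ) (star χ) = 1 := by
        rw [hstar.2.2.1 _ (hmem χ hχ) _ (hmem χ hχ)]
        exact Characters.Core.classInner_irr_self (hirr χ hχ)
      rcases Characters.Core.isIrr_of_generalized (hstar.2.2.2 _ (hmem χ hχ)) e2 with h | h
      · exact Characters.Core.classInner_irr_ne h hψ (fun h' => (hcon χ hχ).1 h'.symm)
      · have := Characters.Core.classInner_irr_ne h hψ (fun h' => (hcon χ hχ).2 h'.symm)
        rw [Characters.Core.classInner_neg_left] at this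
        exact neg_eq_zero.mp this
    obtain ⟨χ₀, hχ₀, _⟩ := htwo
    let ψN : ↥(Subgroup.normalizer (K : Set G)) → ℂ := fun h => ψ h
    have hψN : IsClassFunction ↥(Subgroup.normalizer (K : Set G)) ψN := fun g h => hψcf g h
    let β : ℂ := classInner ψN χ₀ / χ₀ 1
    have hβ : ∀ χ ∈ S, classInner ψN χ = β * χ 1 := by
      intro χ hχ
      have h1 := hfund χ hχ χ₀ hχ₀
      rw [hzero χ hχ, hzero χ₀ hχ₀] at h1
      have h2 : χ₀ 1 * classInner χ ψN = χ 1 * classInner χ₀ ψN := by
        linear_combination h1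
      have h3 := congrArg conj h2
      rw [map_mul, map_mul, Characters.Core.classInner_conj_symm,
        Characters.Core.classInner_conj_symm] at h3
      obtain ⟨n, hn⟩ := hdeg χ hχ
      obtain ⟨m, hm⟩ := hdeg χ₀ hχ₀
      have hm0 := hdeg0 χ₀ hχ₀
      rw [hn, hm, Complex.conj_natCast, Complex.conj_natCast] at h3
      show classInner ψN χ = classInner ψN χ₀ / χ₀ 1 * χ 1
      rw [hn, hm]
      rw [hm] at hm0
      field_simp
      linear_combination h3
    have : Finite (IrrCharacter ↥(Subgroup.normalizer (K : Set G))) := Characters.Core.finite_irr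
    let _ : Fintype (IrrCharacter ↥(Subgroup.normalizer (K : Set G))) := Fintype.ofFinite _
    have hval : ∀ x : ↥(Subgroup.normalizer (K : Set G)), (x : G) ∈ K → x ≠ 1 →
        ψN x = ∑ χ : IrrCharacter ↥(Subgroup.normalizer (K : Set G)),
          (classInner ψN (χ : ↥(Subgroup.normalizer (K : Set G)) → ℂ) -
            β * (χ : ↥(Subgroup.normalizer (K : Set G)) → ℂ) 1) *
          (χ : ↥(Subgroup.normalizer (K : Set G)) → ℂ) 1 := by
      intro x hxK hx1
      have h1 := congrFun (Characters.Core.classFunction_eq_sum hψN) x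
      rw [Finset.sum_apply] at h1
      have h2 := CharactersDeep.Tifn.sum_irr_apply_one_mul hx1
      have h3 : ψN x = ∑ χ : IrrCharacter ↥(Subgroup.normalizer (K : Set G)),
          (classInner ψN (χ : ↥(Subgroup.normalizer (K : Set G)) → ℂ) -
            β * (χ : ↥(Subgroup.normalizer (K : Set G)) → ℂ) 1) *
          (χ : ↥(Subgroup.normalizer (K : Set G)) → ℂ) x := by
        rw [h1]
        simp only [sub_mul, Finset.sum_sub_distrib, mul_assoc, ← Finset.mul_sum, h2, mul_zero,
          sub_zero, Pi.smul_apply, smul_eq_mul]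
      rw [h3]
      refine Finset.sum_congr rfl (fun χ _ => ?_)
      by_cases hχS : (χ : ↥(Subgroup.normalizer (K : Set G)) → ℂ) ∈ S
      · rw [hβ _ hχS]
        ring
      · have h4 : (χ : ↥(Subgroup.normalizer (K : Set G)) → ℂ) x =
            (χ : ↥(Subgroup.normalizer (K : Set G)) → ℂ) 1 := by
          by_contra hne
          apply hχS
          rw [hS]
          exact ⟨χ.2, x, hxK, hne⟩
        rw [h4]
    apply hab
    have hNa : a ∈ Subgroup.normalizer (K : Set G) := hlt.le ha
    have hNb : b ∈ Subgroup.normalizer (K : Set G) := hlt.le hb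
    have hva := hval ⟨a, hNa⟩ ha (fun h => ha1 (congrArg Subtype.val h))
    have hvb := hval ⟨b, hNb⟩ hb (fun h => hb1 (congrArg Subtype.val h))
    exact hva.trans hvb.symm

end Cfsg.Agent.S0852
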