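import Cfsg.Statements.S0850
import Mathlib

set_option autoImplicit false
open Cfsg

namespace Cfsg.Agent.S0850

theorem extendByZero_coe {G : Type*} [Group G] (H : Subgroup G) (θ : H → ℂ) (h : H) :
    Cfsg.extendByZero H θ (h : G) = θ h :=
  Subtype.val_injective.extend_apply θ 0 h

theorem extendByZero_of_notMem {G : Type*} [Group G] (H : Subgroup G) (θ : H → ℂ) {g : G}
    (hg : g ∉ H) : Cfsg.extendByZero H θ g = 0 := by
  have : ¬ ∃ a : H, (a : G) = g := by
    rintro ⟨a, rfl⟩
    exact hg a.2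
  show Function.extend (Subtype.val : H → G) θ 0 g = 0
  rw [Function.extend_apply' _ _ _ this]
  rfl

/-- An element normalizing `K` and lying outside `K`, where `K` contains the centralizers of its
non-identity elements, is not conjugate to an element of `K`. -/
theorem not_conj_mem {G : Type*} [Group G] [Finite G] (K : Subgroup G)
    (hC : ∀ k ∈ K, k ≠ 1 → Subgroup.centralizer ({k} : Set G) ≤ K)
    (x : G) (hx : x ∈ Subgroup.normalizer (K : Set G)) (hxK : x ∉ K) (g : G) :
    g * x * g⁻¹ ∉ K := by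
  classical
  intro hg
  -- orders
  have hord : orderOf x ∣ Nat.card K := by
    have h1 : orderOf (g * x * g⁻¹) = orderOf x := by
      rw [← MulAut.conj_apply]
      exact orderOf_injective (MulAut.conj g).toMonoidHom (MulAut.conj g).injective x
    rw [← h1]
    have := orderOf_dvd_natCard (⟨g * x * g⁻¹, hg⟩ : K)
    rwa [Subgroup.orderOf_mk] at this
  have hx1 : x ≠ 1 := fun h => hxK (h ▸ K.one_mem)
  obtain ⟨p, hp, hpx⟩ := Nat.exists_prime_and_dvd (fun h => hx1 (orderOf_eq_one_iff.mp h))
  have : Fact p.Prime := ⟨hp⟩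
  obtain ⟨m, hm⟩ := hpx
  have hm0 : m ≠ 0 := by
    rintro rfl
    exact (orderOf_pos x).ne' (by simpa using hm)
  -- `y = x ^ m` has order `p`
  set y := x ^ m with hy
  have hyord : orderOf y = p := by
    rw [hy, orderOf_pow_of_dvd hm0 ⟨p, by rw [hm, mul_comm]⟩, hm]
    exact Nat.mul_div_cancel _ (Nat.pos_of_ne_zero hm0)
  have hy1 : y ≠ 1 := fun h => hp.one_lt.ne' (by rw [← hyord, h, orderOf_one])
  have hxy : x * y = y * x := by rw [hy]; exact (pow_succ' x m).symm.trans (pow_succ x m)
  have hyK : y ∉ K := by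
    intro h
    exact hxK (hC y h hy1 (Subgroup.mem_centralizer_singleton_iff.mpr hxy))
  have hyN : y ∈ Subgroup.normalizer (K : Set G) := Subgroup.pow_mem _ hx m
  have hle : Subgroup.zpowers y ≤ Subgroup.normalizer (K : Set G) := by
    rw [Subgroup.zpowers_le]; exact hyN
  -- the group generated by `y` acts on `K` by conjugation
  let _ : MulDistribMulAction (Subgroup.zpowers y) K :=
    MulDistribMulAction.compHom K (K.normalizerMonoidHom.comp (Subgroup.inclusion hle))
  have hact : ∀ (z : Subgroup.zpowers y) (k : K), ((z • k : K) : G) = (z : G) * k * (z : G)⁻¹ :=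
    fun z k => rfl
  have hpg : IsPGroup p (Subgroup.zpowers y) := by
    refine IsPGroup.of_card (n := 1) ?_
    rw [Nat.card_zpowers, hyord, pow_one]
  have hpK : p ∣ Nat.card K := (Dvd.intro _ hm.symm).trans hord
  obtain ⟨b, hb, hb1⟩ := hpg.exists_fixed_point_of_prime_dvd_card_of_fixed_point K hpK
    (a := (1 : K)) (fun z => smul_one z)
  have hb2 := hb ⟨y, Subgroup.mem_zpowers y⟩
  have hb3 : y * b * y⁻¹ = b := by
    rw [← hact ⟨y, Subgroup.mem_zpowers y⟩ b, hb2]
  have hb4 : y * b = b * y := by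
    rw [mul_inv_eq_iff_eq_mul] at hb3
    exact hb3
  have hbne : (b : G) ≠ 1 := fun h => hb1 (Subtype.ext h).symm
  exact hyK (hC b b.2 hbne (Subgroup.mem_centralizer_singleton_iff.mpr hb4))

/-- Let K be a subgroup of the finite group G that meets each conjugate by an element outside its normalizer N trivially, is properly contained in N, and contains the centralizer of each of its non-identity elements (a T.I. subgroup with Frobenius normalizer). Then no element of N outside K is conjugate in G to an element of K, and for every class function ϑ of N that vanishes on N away from K and at the identity, the function induced from ϑ to G agrees with ϑ on all of N. -/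
theorem result {G : Type*} [Group G] [Fintype G] (K : Subgroup G) (hTI : ∀ g : G, g ∉ Subgroup.normalizer (K : Set G) → ∀ k ∈ K, g * k * g⁻¹ ∈ K → k = 1) (hlt : K < Subgroup.normalizer (K : Set G)) (hC : ∀ k ∈ K, k ≠ 1 → Subgroup.centralizer ({k} : Set G) ≤ K) : (∀ x ∈ Subgroup.normalizer (K : Set G), x ∉ K → ∀ g : G, g * x * g⁻¹ ∉ K) ∧ ∀ (ϑ : Subgroup.normalizer (K : Set G) → ℂ), Cfsg.IsClassFunction (Subgroup.normalizer (K : Set G)) ϑ → (∀ x : Subgroup.normalizer (K : Set G), (x : G) ∉ K → ϑ x = 0) → ϑ 1 = 0 → ∀ x : Subgroup.normalizer (K : Set G), Cfsg.indFun (Subgroup.normalizer (K : Set G)) ϑ x = ϑ x := by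
  classical
  refine ⟨fun x hx hxK g => not_conj_mem K hC x hx hxK g, ?_⟩
  set N := Subgroup.normalizer (K : Set G) with hN
  intro ϑ hcf hvan h1 x
  have hdef : Cfsg.indFun N ϑ x =
    (Nat.card N : ℂ)⁻¹ * ∑ y : G, Cfsg.extendByZero N ϑ (y⁻¹ * x * y) := rfl
  rw [hdef]
  have hext0 : ∀ y : G, y ∉ K → Cfsg.extendByZero N ϑ y = 0 := by
    intro y hy
    by_cases hyN : y ∈ N
    · have := extendByZero_coe N ϑ ⟨y, hyN⟩
      rw [show Cfsg.extendByZero N ϑ y = ϑ ⟨y, hyN⟩ from this]
      exact hvan _ hy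
    · exact extendByZero_of_notMem N ϑ hyN
  by_cases hxK : (x : G) ∈ K
  swap
  · rw [hvan x hxK, Finset.sum_eq_zero, mul_zero]
    intro y _
    apply hext0
    have := not_conj_mem K hC x x.2 hxK y⁻¹
    rwa [inv_inv] at this
  by_cases hx1 : x = 1
  · subst hx1
    rw [h1, Finset.sum_eq_zero, mul_zero]
    intro y _
    have h2 : y⁻¹ * ((1 : N) : G) * y = ((1 : N) : G) := by simp
    rw [h2, extendByZero_coe, h1]
  have hx1' : (x : G) ≠ 1 := fun h => hx1 (Subtype.ext h)
  have hNc : (Nat.card N : ℂ) ≠ 0 := by exact_mod_cast Nat.card_pos.ne'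
  have hterm : ∀ g : G, Cfsg.extendByZero N ϑ (g⁻¹ * x * g) =
      if g ∈ N then ϑ x else 0 := by
    intro g
    split_ifs with hg
    · have h1 : g⁻¹ * x * g = ((⟨g, hg⟩⁻¹ * x * ⟨g, hg⟩ : N) : G) := rfl
      rw [h1, extendByZero_coe]
      have := hcf x ⟨g, hg⟩⁻¹
      rwa [inv_inv] at this
    · apply hext0
      intro h3
      have hg' : g⁻¹ ∉ N := fun h => hg (by simpa using inv_mem h)
      refine hx1' (hTI g⁻¹ hg' x hxK ?_)
      rwa [inv_inv]
  simp only [hterm]
  rw [Finset.sum_ite, Finset.sum_const_zero, add_zero, Finset.sum_const, nsmul_eq_mul]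
  have hc : (Finset.univ.filter (fun g : G => g ∈ N)).card = Nat.card N := by
    rw [Nat.card_eq_fintype_card, Fintype.card_subtype]
  rw [hc, inv_mul_cancel_left₀ hNc]

end Cfsg.Agent.S0850
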