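import Cfsg.Statements.S0159
import Cfsg.Agent.S0133
import Cfsg.Agent.S0155
import Cfsg.Agent.S0156

set_option autoImplicit false
open Cfsg

namespace Cfsg.Agent.S0159

/-- There are finitely many irreducible characters. -/
theorem finite_irrCharacter (G : Type*) [Group G] [Finite G] : Finite (Cfsg.IrrCharacter G) := by
  have : Finite (ConjClasses G) := Quotient.finite _
  have : Nonempty (ConjClasses G) := ⟨1⟩
  apply Nat.finite_of_card_ne_zero
  rw [Cfsg.Agent.S0133.result]
  exact Nat.card_pos.ne'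

/-- The number of solutions of s * s = 1 in a finite group equals the sum, over the irreducible characters χ, of (the average over s of χ (s * s)) times χ 1. -/
theorem result {G : Type*} [Group G] [Fintype G] : (Nat.card {s : G // s * s = 1} : ℂ) = ∑ᶠ χ : Cfsg.IrrCharacter G, ((Nat.card G : ℂ)⁻¹ * ∑ s : G, (χ : G → ℂ) (s * s)) * (χ : G → ℂ) 1 := by
  classical
  have : Finite (Cfsg.IrrCharacter G) := finite_irrCharacter G
  cases nonempty_fintype (Cfsg.IrrCharacter G)
  have hreg : ∀ g : G, ∑ χ : Cfsg.IrrCharacter G, (χ : G → ℂ) 1 * (χ : G → ℂ) g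
      = if g = 1 then (Nat.card G : ℂ) else 0 := by
    intro g
    have h := congrFun (Cfsg.Agent.S0156.result (G := G)) g
    rw [finsum_eq_sum_of_fintype, Finset.sum_apply, Cfsg.Agent.S0155.result] at h
    rw [h]
    simp [Pi.smul_apply, smul_eq_mul]
  have hG : (Nat.card G : ℂ) ≠ 0 := by
    exact_mod_cast Nat.card_pos.ne'
  rw [finsum_eq_sum_of_fintype]
  calc (Nat.card {s : G // s * s = 1} : ℂ)
      = (Nat.card G : ℂ)⁻¹ * ∑ s : G, (if s * s = 1 then (Nat.card G : ℂ) else 0) := by
        rw [← Finset.sum_filter, Finset.sum_const, Nat.card_eq_fintype_card, Fintype.card_subtype,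
          nsmul_eq_mul]
        field_simp
    _ = (Nat.card G : ℂ)⁻¹ * ∑ s : G, ∑ χ : Cfsg.IrrCharacter G, (χ : G → ℂ) 1 * (χ : G → ℂ) (s * s) := by
        simp_rw [hreg]
    _ = ∑ χ : Cfsg.IrrCharacter G, ((Nat.card G : ℂ)⁻¹ * ∑ s : G, (χ : G → ℂ) (s * s)) * (χ : G → ℂ) 1 := by
        rw [Finset.sum_comm, Finset.mul_sum]
        apply Finset.sum_congr rfl
        intro χ _
        rw [← Finset.mul_sum]
        ring

end Cfsg.Agent.S0159
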