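import Cfsg.Statements.S0895
-- import your own Cfsg.Agent.* helpers here
import Cfsg.Agent.S0158

set_option autoImplicit false
open Cfsg

namespace Cfsg.Agent.S0895

open Representation Matrix

/-- A nondegenerate alternating invariant form forces even dimension. -/
theorem not_odd_of_neg {G : Type*} [Group G] [Fintype G] {V : Type*} [AddCommGroup V]
    [Module ℂ V] [FiniteDimensional ℂ V] (ρ : Representation ℂ G V) [ρ.IsIrreducible]
    (f : IntertwiningMap ρ ρ.dual) (hf : f ≠ 0) (h : ∀ v w : V, f v w = -1 * f w v)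
    (hodd : Odd (Module.finrank ℂ V)) : False := by
  classical
  let b := Module.finBasis ℂ V
  let M : Matrix (Fin (Module.finrank ℂ V)) (Fin (Module.finrank ℂ V)) ℂ :=
    Matrix.of fun i j => f (b j) (b i)
  have hMT : Mᵀ = -M := by
    ext i j
    simp only [M, Matrix.transpose_apply, Matrix.of_apply, Matrix.neg_apply]
    rw [h]
    ring
  have hdet : M.det = 0 := by
    have h1 : M.det = (-M).det := by rw [← hMT, Matrix.det_transpose]
    rw [Matrix.det_neg, Fintype.card_fin, hodd.neg_one_pow] at h1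
    have h2 : (2 : ℂ) * M.det = 0 := by linear_combination h1
    simpa using h2
  obtain ⟨v, hv, hv0⟩ := Matrix.exists_mulVec_eq_zero_iff.2 hdet
  have hinj := (Cfsg.Agent.S0158.bijective_of_ne_zero ρ f hf).1
  apply hv
  have h3 : f (∑ j, v j • b j) = 0 := by
    refine b.ext fun i => ?_
    have h4 := congrFun hv0 i
    simp only [Matrix.mulVec, dotProduct, M, Matrix.of_apply, Pi.zero_apply] at h4
    have h5 : f (∑ j, v j • b j) = ∑ j, v j • f (b j) := by
      show f.toLinearMap (∑ j, v j • b j) = ∑ j, v j • f.toLinearMap (b j)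
      rw [map_sum]
      simp only [map_smul]
    rw [h5]
    rw [LinearMap.sum_apply]
    simp only [LinearMap.smul_apply, smul_eq_mul, LinearMap.zero_apply]
    rw [← h4]
    exact Finset.sum_congr rfl fun j _ => mul_comm _ _
  have h6 : ∑ j, v j • b j = 0 := by
    apply hinj
    rw [h3]
    exact (map_zero f.toLinearMap).symm
  funext i
  exact Fintype.linearIndependent_iff.1 b.linearIndependent v h6 i

/-- Let χ be a real-valued irreducible character of a finite group G whose degree is an odd natural number. Then the average over s in G of χ (s * s) equals 1. -/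
theorem result {G : Type*} [Group G] [Fintype G] (χ : G → ℂ) (hχ : Cfsg.IsIrrCharacter G χ) (hreal : ∀ g : G, (χ g).im = 0) (d : ℕ) (hd : χ 1 = d) (hodd : Odd d) : (Nat.card G : ℂ)⁻¹ * ∑ s : G, χ (s * s) = 1 := by
  classical
  obtain ⟨n, ρ, hρ, rfl⟩ := hχ
  haveI : Invertible (Nat.card G : ℂ) := invertibleOfNonzero (by
    exact_mod_cast Nat.card_pos.ne')
  obtain ⟨ε, hε, h⟩ := Cfsg.Agent.S0158.exists_sign ρ
  have hinv : ∀ g : G, ρ.character g⁻¹ = ρ.character g := by
    intro g
    rw [Cfsg.Agent.S0158.char_inv]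
    exact Complex.conj_eq_iff_im.2 (hreal g)
  have hself : (Nat.card G : ℂ)⁻¹ * ∑ g : G, ρ.character g * ρ.character g⁻¹ = 1 := by
    rw [card_inv_mul_sum_char_mul_char_eq_finrank ρ ρ]
    simp
  have hself' : (Nat.card G : ℂ)⁻¹ * ∑ g : G, ρ.character g * ρ.character g = 1 := by
    simpa only [hinv] using hself
  have hν : (Nat.card G : ℂ)⁻¹ * ∑ s : G, ρ.character (s * s) = ε := by
    rw [Cfsg.Agent.S0158.sum_sq ρ ε h]
    linear_combination ε * hself'
  rw [hν]
  rcases hε with hε | hε
  · exact hε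
  exfalso
  subst hε
  have hdim : (Nat.card G : ℂ)⁻¹ * ∑ s : G, ρ.character s * ρ.character s
      = (Module.finrank ℂ (IntertwiningMap ρ ρ.dual) : ℂ) := by
    rw [← card_inv_mul_sum_char_mul_char_eq_finrank ρ ρ.dual]
    congr 1
    refine Fintype.sum_equiv (Equiv.inv G) _ _ (fun s => ?_)
    simp only [Equiv.inv_apply, char_dual, inv_inv]
  obtain ⟨f₀, h0⟩ : ∃ f₀ : IntertwiningMap ρ ρ.dual, f₀ ≠ 0 := by
    by_contra hcon
    push Not at hcon
    haveI : Subsingleton (IntertwiningMap ρ ρ.dual) :=
      ⟨fun a b => by rw [hcon a, hcon b]⟩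
    rw [hself', Module.finrank_zero_of_subsingleton] at hdim
    norm_num at hdim
  refine not_odd_of_neg ρ f₀ h0 (h f₀) ?_
  have hdeg : (Module.finrank ℂ (Fin n → ℂ) : ℂ) = (d : ℂ) := by
    rw [← hd, Representation.char_one]
  have : Module.finrank ℂ (Fin n → ℂ) = d := by exact_mod_cast hdeg
  rw [this]
  exact hodd

end Cfsg.Agent.S0895
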