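import Cfsg.Statements.S0882
import Cfsg.Agent.S0739
import Cfsg.Agent.PermutationGroups.ZassenhausBasic

set_option autoImplicit false
open Cfsg

namespace Cfsg.Agent.S0882

open Cfsg.Agent.PermutationGroups.ZassenhausBasic

section

variable {G Ω : Type*} [Group G] [MulAction G Ω]

/-- in a simple group containing elements of even order, there are no normal `q`-complements
for odd primes `q` dividing the order -/
theorem no_normal_complement [Finite G] [IsSimpleGroup G] {q : ℕ} (hq : q.Prime) (hq2 : q ≠ 2)
    (h2 : 2 ∣ Nat.card G) (hqd : q ∣ Nat.card G) :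
    ¬ ∃ N : Subgroup G, N.Normal ∧ N.index = q ^ (Nat.card G).factorization q := by
  rintro ⟨N, hN, hi⟩
  rcases hN.eq_bot_or_eq_top with h | h
  · rw [h, Subgroup.index_bot] at hi
    rw [hi] at h2
    have := Nat.Prime.dvd_of_dvd_pow Nat.prime_two h2
    exact hq2 ((Nat.prime_dvd_prime_iff_eq Nat.prime_two hq).mp this).symm
  · rw [h, Subgroup.index_top] at hi
    have h0 : (Nat.card G).factorization q ≠ 0 := by
      have := hq.factorization_pos_of_dvd (Nat.card_pos.ne') hqd
      omega
    have : 1 < q ^ (Nat.card G).factorization q := Nat.one_lt_pow h0 hq.one_lt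
    omega

end

/-- Let G be a finite simple Zassenhaus group on Ω with n = h + 1 points whose two-point stabilizer E has odd order e with 2e < h - 1. Then any two involutions of G are conjugate, and the number of involutions is e * (h + 1) if h is even and e * h if h is odd. -/
theorem result {G Ω : Type*} [Group G] [Finite G] [MulAction G Ω] [Fintype Ω] (hZ : Cfsg.IsZassenhausGroup G Ω) {a b : Ω} (hab : a ≠ b) [IsSimpleGroup G] (h e : ℕ) (hh : Fintype.card Ω = h + 1) (he : Nat.card ↥(MulAction.stabilizer G a ⊓ MulAction.stabilizer G b : Subgroup G) = e) (hodd : Odd e) (hlt : 2 * e < h - 1) : (∀ x y : G, orderOf x = 2 → orderOf y = 2 → IsConj x y) ∧ Nat.card {x : G // orderOf x = 2} = (if Even h then e * (h + 1) else e * h) := by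
  classical
  have : Fintype G := Fintype.ofFinite G
  set E : Subgroup G := MulAction.stabilizer G a ⊓ MulAction.stabilizer G b with hE
  -- an element swapping a and b
  obtain ⟨s, hsa, hsb⟩ := exists_swap hZ hab
  have hs2mem : s * s ∈ E := by
    refine ⟨?_, ?_⟩
    · change (s * s) • a = a
      rw [mul_smul, hsa, hsb]
    · change (s * s) • b = b
      rw [mul_smul, hsb, hsa]
  have h2dvd : 2 ∣ Nat.card G := by
    by_contra hcon
    have hoddG : Odd (Nat.card G) := by
      rw [← Nat.not_even_iff_odd, even_iff_two_dvd]; exact hcon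
    have hords : Odd (orderOf s) := hoddG.of_dvd_nat (orderOf_dvd_natCard s)
    obtain ⟨k, hk⟩ := hords
    have h1 : s ^ (2 * k + 1) = 1 := by rw [← hk]; exact pow_orderOf_eq_one s
    have h2 : s ^ (2 * k + 1) ∈ E → False := by
      intro hmem
      have : s ∈ E := by
        have h3 : s ^ (2 * k + 1) = (s * s) ^ k * s := by
          rw [pow_succ, pow_mul, pow_two]
        rw [h3] at hmem
        exact (Subgroup.mul_mem_cancel_left E (E.pow_mem hs2mem k)).mp hmem
      exact hab (hsa.symm.trans this.1 |>.symm)
    exact h2 (h1 ▸ E.one_mem)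
  have key := Cfsg.Agent.S0739.result hZ hab (by rw [← hE, he]; exact hodd) (by
    intro q hq hqd
    have hqG : q ∣ Nat.card G := hqd.trans (Subgroup.card_subgroup_dvd_card _)
    refine no_normal_complement hq ?_ h2dvd hqG
    rintro rfl
    rw [← hE, he] at hqd
    exact (Nat.not_even_iff_odd.mpr hodd) (even_iff_two_dvd.mpr hqd))
  obtain ⟨hcyc, hcent, hinv⟩ := key
  rw [← hE] at hcyc hcent hinv
  have hEodd : ∀ x ∈ E, x ^ e = 1 := by
    intro x hx
    have := pow_card_eq_one' (x := (⟨x, hx⟩ : E))
    rw [he] at this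
    exact congrArg Subtype.val this
  -- elements of E with square 1 are trivial
  have hEsq : ∀ x ∈ E, x * x = 1 → x = 1 := by
    intro x hx hxx
    obtain ⟨k, hk⟩ := hodd
    have h1 := hEodd x hx
    rw [hk, pow_succ, pow_mul, pow_two, hxx, one_pow, one_mul] at h1
    exact h1
  -- no involution fixes two points
  have hfix : ∀ x : G, orderOf x = 2 → ∀ c d : Ω, c ≠ d → x • c = c → x • d = d → False := by
    intro x hx c d hcd hxc hxd
    obtain ⟨g, hga, hgb⟩ := exists_smul_eq hZ hab hcd
    have hmem : g⁻¹ * x * g ∈ E := by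
      refine ⟨?_, ?_⟩
      · change (g⁻¹ * x * g) • a = a
        rw [mul_smul, mul_smul, hga, hxc, inv_smul_eq_iff, hga]
      · change (g⁻¹ * x * g) • b = b
        rw [mul_smul, mul_smul, hgb, hxd, inv_smul_eq_iff, hgb]
    have hxx : x * x = 1 := by rw [← pow_two, ← hx]; exact pow_orderOf_eq_one x
    have h1 := hEsq _ hmem (by
      have : g⁻¹ * x * g * (g⁻¹ * x * g) = g⁻¹ * (x * x) * g := by group
      rw [this, hxx]; group)
    have h2 : x = 1 := by
      have : x = g * (g⁻¹ * x * g) * g⁻¹ := by group
      rw [this, h1]; group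
    rw [h2, orderOf_one] at hx
    omega
  -- swapping elements are involutions
  have hswap : ∀ x : G, x • a = b → x • b = a → orderOf x = 2 := by
    intro x hxa hxb
    have hxxmem : x * x ∈ E := by
      refine ⟨?_, ?_⟩
      · change (x * x) • a = a
        rw [mul_smul, hxa, hxb]
      · change (x * x) • b = b
        rw [mul_smul, hxb, hxa]
    have h1 := hinv x hxa hxb _ hxxmem
    have h2 : x * x = (x * x)⁻¹ := by
      rw [← h1]; group
    have h3 : (x * x) * (x * x) = 1 := by
      nth_rewrite 1 [h2]; group
    have h4 := hEsq _ hxxmem h3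
    have h5 : x ≠ 1 := by
      rintro rfl
      rw [one_smul] at hxa
      exact hab hxa
    exact orderOf_eq_prime (by rw [pow_two]; exact h4) h5
  -- the set of swapping elements is a coset of E
  have hs_ord := hswap s hsa hsb
  -- any involution moving c to d swaps them
  have hsw : ∀ x : G, orderOf x = 2 → ∀ c d : Ω, x • c = d → x • d = c := by
    intro x hx c d hxc
    have hxx : x * x = 1 := by rw [← pow_two, ← hx]; exact pow_orderOf_eq_one x
    rw [← hxc, ← mul_smul, hxx, one_smul]
  -- each swapping element is conjugate to s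
  have hconj : ∀ x : G, x • a = b → x • b = a → IsConj s x := by
    intro x hxa hxb
    have hmem : s⁻¹ * x ∈ E := by
      refine ⟨?_, ?_⟩
      · change (s⁻¹ * x) • a = a
        rw [mul_smul, hxa, inv_smul_eq_iff, hsa]
      · change (s⁻¹ * x) • b = b
        rw [mul_smul, hxb, inv_smul_eq_iff, hsb]
    obtain ⟨k, hk⟩ := hodd
    set t := s⁻¹ * x with ht
    -- t = r * r with r = t ^ (k + 1)
    have hr : t ^ (k + 1) * t ^ (k + 1) = t := by
      rw [← pow_add]
      have : k + 1 + (k + 1) = e + 1 := by omega
      rw [this, pow_succ, hEodd t hmem, one_mul]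
    have hrmem : t ^ (k + 1) ∈ E := E.pow_mem hmem _
    have h1 := hinv s hsa hsb _ (E.inv_mem hrmem)
    rw [inv_inv] at h1
    -- s r⁻¹ s⁻¹ = r, so s r⁻¹ = r s
    rw [isConj_iff]
    refine ⟨(t ^ (k + 1))⁻¹, ?_⟩
    have h2 : x = s * t := by rw [ht]; group
    have h3 : (t ^ (k + 1))⁻¹ * s = s * t ^ (k + 1) := by
      have h4 := hinv s hsa hsb _ hrmem
      -- s r s⁻¹ = r⁻¹
      rw [← h4]; group
    rw [inv_inv, h3, mul_assoc, hr, h2]
  have hall : ∀ x : G, orderOf x = 2 → IsConj s x := by
    intro x hx
    -- x moves a point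
    have hmove : ∃ c : Ω, x • c ≠ c := by
      by_contra hcon
      push Not at hcon
      exact hfix x hx a b hab (hcon a) (hcon b)
    obtain ⟨c, hc⟩ := hmove
    obtain ⟨g, hga, hgb⟩ := exists_smul_eq hZ hab (Ne.symm hc)
    have hxd : x • (x • c) = c := hsw x hx c (x • c) rfl
    have h1 : IsConj s (g⁻¹ * x * g) := by
      apply hconj
      · rw [mul_smul, mul_smul, hga, inv_smul_eq_iff, hgb]
      · rw [mul_smul, mul_smul, hgb, hxd, inv_smul_eq_iff, hga]
    refine h1.trans (isConj_iff.mpr ⟨g, by group⟩)
  refine ⟨fun x y hx hy => (hall x hx).symm.trans (hall y hy), ?_⟩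
  -- counting
  have hcount_swap : ∀ c d : Ω, c ≠ d →
      Fintype.card {x : G // orderOf x = 2 ∧ x • c = d} = e := by
    intro c d hcd
    obtain ⟨g, hga, hgb⟩ := exists_smul_eq hZ hab hcd
    rw [← he, ← Nat.card_eq_fintype_card]
    symm
    refine Nat.card_congr ⟨fun k => ⟨g * (s * k) * g⁻¹, ?_, ?_⟩,
      fun x => ⟨s⁻¹ * (g⁻¹ * x * g), ?_⟩, ?_, ?_⟩
    · have : IsConj (s * (k : G)) (g * (s * k) * g⁻¹) := isConj_iff.mpr ⟨g, rfl⟩
      have ho : orderOf (s * (k : G)) = 2 := by
        apply hswap
        · rw [mul_smul, show (k : G) • a = a from k.2.1, hsa]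
        · rw [mul_smul, show (k : G) • b = b from k.2.2, hsb]
      rw [← ho]
      have := orderOf_injective (MulAut.conj g).toMonoidHom (MulAut.conj g).injective (s * (k : G))
      simpa using this
    · have hg' : g⁻¹ • c = a := by rw [inv_smul_eq_iff, hga]
      rw [mul_smul, mul_smul, mul_smul, hg', show (k : G) • a = a from k.2.1, hsa, hgb]
    · have hx1 := x.2.2
      have hx2 := hsw x.1 x.2.1 c d hx1
      refine ⟨?_, ?_⟩
      · change (s⁻¹ * (g⁻¹ * (x : G) * g)) • a = a
        rw [mul_smul, mul_smul, mul_smul, hga, hx1, inv_smul_eq_iff, inv_smul_eq_iff, hsa, hgb]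
      · change (s⁻¹ * (g⁻¹ * (x : G) * g)) • b = b
        rw [mul_smul, mul_smul, mul_smul, hgb, hx2, inv_smul_eq_iff, inv_smul_eq_iff, hsb, hga]
    · intro k
      apply Subtype.ext
      simp only
      group
    · intro x
      apply Subtype.ext
      simp only
      group
  -- double count
  have hdc : ∑ x ∈ (Finset.univ.filter fun x : G => orderOf x = 2),
        (Finset.univ.filter fun p : Ω × Ω => p.1 ≠ p.2 ∧ x • p.1 = p.2).card =
      ∑ p ∈ (Finset.univ.filter fun p : Ω × Ω => p.1 ≠ p.2), e := by
    have h1 := Finset.sum_card_bipartiteAbove_eq_sum_card_bipartiteBelow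
      (s := Finset.univ.filter fun x : G => orderOf x = 2)
      (t := Finset.univ.filter fun p : Ω × Ω => p.1 ≠ p.2)
      (fun (x : G) (p : Ω × Ω) => x • p.1 = p.2)
    have h2 : ∀ x ∈ (Finset.univ.filter fun x : G => orderOf x = 2),
        (Finset.univ.filter fun p : Ω × Ω => p.1 ≠ p.2 ∧ x • p.1 = p.2).card =
        (Finset.bipartiteAbove (fun (x : G) (p : Ω × Ω) => x • p.1 = p.2)
          (Finset.univ.filter fun p : Ω × Ω => p.1 ≠ p.2) x).card := by
      intro x _
      congr 1
      ext p
      simp [Finset.bipartiteAbove]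
    rw [Finset.sum_congr rfl h2, h1]
    refine Finset.sum_congr rfl fun p hp => ?_
    rw [Finset.mem_filter] at hp
    rw [← hcount_swap p.1 p.2 hp.2, Fintype.card_subtype]
    congr 1
    ext x
    simp [Finset.bipartiteBelow]
  have hoff : (Finset.univ.filter fun p : Ω × Ω => p.1 ≠ p.2).card = (h + 1) * h := by
    have h1 : (Finset.univ.filter fun p : Ω × Ω => p.1 ≠ p.2) = (Finset.univ : Finset Ω).offDiag := by
      ext p; simp [Finset.mem_offDiag]
    rw [h1, Finset.offDiag_card, Finset.card_univ, hh, ← Nat.mul_sub_one]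
    simp
  rw [Finset.sum_const, hoff, smul_eq_mul] at hdc
  -- number of moved points of an involution
  have hmoved : ∀ x : G, orderOf x = 2 →
      (Finset.univ.filter fun p : Ω × Ω => p.1 ≠ p.2 ∧ x • p.1 = p.2).card =
        if Even h then h else h + 1 := by
    intro x hx
    -- moved points
    have h1 : (Finset.univ.filter fun p : Ω × Ω => p.1 ≠ p.2 ∧ x • p.1 = p.2).card =
        (Finset.univ.filter fun c : Ω => x • c ≠ c).card := by
      refine Finset.card_bij' (fun p _ => p.1) (fun c _ => (c, x • c)) ?_ ?_ ?_ ?_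
      · intro p hp
        simp only [Finset.mem_filter, Finset.mem_univ, true_and] at hp ⊢
        rw [hp.2]; exact hp.1.symm
      · intro c hc
        simp only [Finset.mem_filter, Finset.mem_univ, true_and] at hc ⊢
        exact ⟨hc.symm, trivial⟩
      · intro p hp
        simp only [Finset.mem_filter, Finset.mem_univ, true_and] at hp
        exact Prod.ext rfl hp.2
      · intro c _
        rfl
    rw [h1]
    have h2 : (Finset.univ.filter fun c : Ω => x • c = c).card +
        (Finset.univ.filter fun c : Ω => x • c ≠ c).card = h + 1 := by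
      rw [← hh, ← Finset.card_univ]
      exact Finset.card_filter_add_card_filter_not (s := (Finset.univ : Finset Ω)) (fun c => x • c = c)
    have h3 : (Finset.univ.filter fun c : Ω => x • c = c).card ≤ 1 := by
      rw [Finset.card_le_one]
      intro c hc d hd
      simp only [Finset.mem_filter, Finset.mem_univ, true_and] at hc hd
      by_contra hcd
      exact hfix x hx c d hcd hc hd
    have h4 : Fintype.card Ω ≡ (Finset.univ.filter fun c : Ω => x • c = c).card [MOD 2] := by
      let f : Function.End Ω := fun c : Ω => x • c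
      have hpow : f ^ 2 ^ 1 = 1 := by
        have : x * x = 1 := by rw [← pow_two, ← hx]; exact pow_orderOf_eq_one x
        rw [pow_one, pow_two]
        refine funext fun c => ?_
        change x • (x • c) = c
        rw [← mul_smul, this, one_smul]
      have := Equiv.Perm.card_fixedPoints_modEq (p := 2) (n := 1) hpow
      convert this using 1
      rw [← Fintype.card_subtype]
      exact Fintype.card_congr (Equiv.refl _)
    rw [hh] at h4
    have h4' : (h + 1) % 2 = (Finset.univ.filter fun c : Ω => x • c = c).card % 2 := h4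
    split_ifs with hev
    · rw [Nat.even_iff] at hev
      omega
    · rw [Nat.not_even_iff] at hev
      omega
  have hsum : ∑ x ∈ (Finset.univ.filter fun x : G => orderOf x = 2),
        (Finset.univ.filter fun p : Ω × Ω => p.1 ≠ p.2 ∧ x • p.1 = p.2).card =
      (Finset.univ.filter fun x : G => orderOf x = 2).card * (if Even h then h else h + 1) := by
    rw [Finset.sum_congr rfl (fun x hx => hmoved x (Finset.mem_filter.mp hx).2), Finset.sum_const,
      smul_eq_mul]
  rw [hsum] at hdc
  rw [Nat.card_eq_fintype_card, Fintype.card_subtype]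
  have hhpos : 0 < h := by omega
  split_ifs at hdc ⊢ with hev
  · have : (Finset.univ.filter fun x : G => orderOf x = 2).card * h = (e * (h + 1)) * h := by
      rw [hdc]; ring
    exact Nat.eq_of_mul_eq_mul_right hhpos this
  · have : (Finset.univ.filter fun x : G => orderOf x = 2).card * (h + 1) = (e * h) * (h + 1) := by
      rw [hdc]; ring
    exact Nat.eq_of_mul_eq_mul_right (Nat.succ_pos h) this

end Cfsg.Agent.S0882
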