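import Cfsg.Statements.S0884
-- import your own Cfsg.Agent.* helpers here
import Cfsg.Agent.CharactersDeep.ZassenhausInvol
import Cfsg.Agent.S0882

set_option autoImplicit false
open Cfsg

namespace Cfsg.Agent.S0884

open MulAction Cfsg.Agent.CharactersDeep.Zassenhaus Cfsg.Agent.CharactersDeep.ZassenhausInvol
open Finset

/-- for any conjugacy class, at most `|G|` pairs of involutions have their product in the class -/
theorem card_pairs_le {G : Type*} [Group G] [Fintype G] [DecidableEq G]
    (S : Finset (G × G)) (hS : ∀ p ∈ S, orderOf p.1 = 2 ∧ orderOf p.2 = 2)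
    (C : ConjClasses G) (hC : ∀ p ∈ S, ConjClasses.mk (p.1 * p.2) = C) :
    S.card ≤ Fintype.card G := by
  classical
  rcases S.eq_empty_or_nonempty with h | ⟨⟨x₀, y₀⟩, h₀⟩
  · rw [h]; simp
  have hx₀ := mul_self_of_orderOf_two (hS _ h₀).1
  have hy₀ := mul_self_of_orderOf_two (hS _ h₀).2
  simp only at hx₀ hy₀
  have hx₀' : x₀⁻¹ = x₀ := inv_eq_of_mul_eq_one_right hx₀
  have hy₀' : y₀⁻¹ = y₀ := inv_eq_of_mul_eq_one_right hy₀
  have hex : ∀ z : G, ∃ g : G, ConjClasses.mk z = C → g * (x₀ * y₀) * g⁻¹ = z := by
    intro z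
    by_cases hz : ConjClasses.mk z = C
    · have h1 : IsConj (x₀ * y₀) z := by
        rw [← ConjClasses.mk_eq_mk_iff_isConj, hz]
        exact hC _ h₀
      rw [isConj_iff] at h1
      obtain ⟨c, hc⟩ := h1
      exact ⟨c, fun _ => hc⟩
    · exact ⟨1, fun h => absurd h hz⟩
  choose g hg using hex
  let f : G × G → G := fun p => p.1 * g (p.1 * p.2) * x₀
  have hf : ∀ p ∈ S, f p * (x₀ * y₀) * (f p)⁻¹ = p.1 * p.2 := by
    rintro ⟨x, y⟩ hp
    have h1 := mul_self_of_orderOf_two (hS _ hp).1
    have h2 := mul_self_of_orderOf_two (hS _ hp).2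
    simp only at h1 h2
    have h1' : x⁻¹ = x := inv_eq_of_mul_eq_one_right h1
    have h2' : y⁻¹ = y := inv_eq_of_mul_eq_one_right h2
    have h3 := hg (x * y) (hC _ hp)
    show x * g (x * y) * x₀ * (x₀ * y₀) * (x * g (x * y) * x₀)⁻¹ = x * y
    calc x * g (x * y) * x₀ * (x₀ * y₀) * (x * g (x * y) * x₀)⁻¹
        = x * (g (x * y) * (x₀ * (x₀ * y₀) * x₀⁻¹) * (g (x * y))⁻¹) * x⁻¹ := by group
      _ = x * (g (x * y) * (x₀ * y₀)⁻¹ * (g (x * y))⁻¹) * x⁻¹ := by
          rw [← mul_assoc x₀ x₀ y₀, hx₀, one_mul, mul_inv_rev, hx₀', hy₀']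
      _ = x * (g (x * y) * (x₀ * y₀) * (g (x * y))⁻¹)⁻¹ * x⁻¹ := by group
      _ = x * (x * y)⁻¹ * x⁻¹ := by rw [h3]
      _ = x * y⁻¹ * (x⁻¹ * x⁻¹) := by group
      _ = x * y := by rw [h2', h1', h1, mul_one]
  have hinj : Set.InjOn f S := by
    intro p hp q hq hpq
    have h1 := hf p hp
    have h2 := hf q hq
    rw [hpq, h2] at h1
    have h3 : p.1 * g (p.1 * p.2) * x₀ = q.1 * g (q.1 * q.2) * x₀ := hpq
    rw [← h1] at h3
    have h4 : q.1 = p.1 := by
      exact (mul_right_cancel (mul_right_cancel h3)).symm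
    rw [h4] at h1
    exact Prod.ext h4.symm (mul_left_cancel h1).symm
  calc S.card = (S.image f).card := (card_image_of_injOn hinj).symm
    _ ≤ Fintype.card G := card_le_univ _

/-- Let G be a finite simple Zassenhaus group on Ω with h + 1 points whose two-point stabilizer E has odd order e with 2e < h - 1, and let H be the subgroup of the stabilizer of a consisting of the identity and the elements fixing no point other than a (given here as a subgroup of the stabilizer of order one less than the number of points whose non-identity elements fix only a; it is the Frobenius kernel of the stabilizer). Then at least e conjugacy classes of G contain no element of H. -/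
theorem result {G Ω : Type*} [Group G] [Finite G] [MulAction G Ω] [Fintype Ω] (hZ : Cfsg.IsZassenhausGroup G Ω) {a b : Ω} (hab : a ≠ b) [IsSimpleGroup G] (h e : ℕ) (hh : Fintype.card Ω = h + 1) (he : Nat.card ↥(MulAction.stabilizer G a ⊓ MulAction.stabilizer G b : Subgroup G) = e) (hodd : Odd e) (hlt : 2 * e < h - 1) (H : Subgroup G) (hHa : H ≤ MulAction.stabilizer G a) (hHcard : Nat.card H + 1 = Fintype.card Ω) (hHfix : ∀ u ∈ H, u ≠ 1 → ∀ c : Ω, u • c = c → c = a) : e ≤ Nat.card {C : ConjClasses G // ∀ g : G, ConjClasses.mk g = C → g ∉ H} := by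
  classical
  have := Fintype.ofFinite G
  have := Fintype.ofFinite (ConjClasses G)
  have hodd' : Odd (Nat.card ↥(stabilizer G a ⊓ stabilizer G b : Subgroup G)) := by rw [he]; exact hodd
  have hcardE : ∀ c d : Ω, c ≠ d → Nat.card ↥(stabilizer G c ⊓ stabilizer G d : Subgroup G) = e :=
    fun c d hcd => (card_two_eq hZ hab hcd).trans he
  set I : Finset G := univ.filter (fun x => orderOf x = 2) with hI
  have memI : ∀ x : G, x ∈ I ↔ orderOf x = 2 := by intro x; simp [hI]
  have hIsq : ∀ x ∈ I, x * x = 1 := fun x hx => mul_self_of_orderOf_two ((memI x).1 hx)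
  have hIcard : I.card = if Even h then e * (h + 1) else e * h := by
    rw [← (Cfsg.Agent.S0882.result hZ hab h e hh he hodd hlt).2, Nat.card_eq_fintype_card,
      Fintype.card_subtype]
  -- involutions mapping `c` to `d`
  let S : Ω → Ω → Finset G := fun c d => I.filter (fun x => x • c = d)
  have memS : ∀ c d x, x ∈ S c d ↔ x ∈ I ∧ x • c = d := by intro c d x; simp [S]
  have hScard : ∀ c d, c ≠ d → (S c d).card = e := by
    intro c d hcd
    have h1 := card_involutions_swapping hZ hcd (by rw [hcardE c d hcd]; exact hodd)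
    rw [hcardE c d hcd, Nat.card_eq_fintype_card, Fintype.card_subtype] at h1
    rw [← h1]
    congr 1
    ext x
    simp [S, hI]
  have hSself : ∀ c, (S c c).card + h * e = I.card := by
    intro c
    have h1 : I.card = ∑ d : Ω, (S c d).card :=
      card_eq_sum_card_fiberwise (f := fun x : G => x • c) (t := univ) (fun x _ => by simp)
    rw [h1, ← add_sum_erase univ (fun d => (S c d).card) (mem_univ c)]
    congr 1
    rw [sum_congr rfl (fun d hd => hScard c d (ne_of_mem_erase hd).symm), sum_const, smul_eq_mul,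
      card_erase_of_mem (mem_univ c), card_univ, hh]
    simp
  obtain ⟨i, hi⟩ : ∃ i, ∀ c, (S c c).card = i := by
    refine ⟨(S a a).card, fun c => ?_⟩
    have h1 := hSself a
    have h2 := hSself c
    omega
  have him : I.card = i + h * e := by rw [← hSself a, hi]
  -- classes
  let CF : Finset (ConjClasses G) :=
    univ.filter (fun C => ∀ g : G, ConjClasses.mk g = C → ∀ c : Ω, g • c ≠ c)
  let CT : Finset (ConjClasses G) :=
    (univ.filter (fun g : G => g ≠ 1 ∧ g • a = a ∧ g • b = b)).image ConjClasses.mk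
  -- pairs
  let A : Finset (G × G) := I.offDiag.filter (fun p => ∃ c : Ω, p.1 • c = c ∧ p.2 • c = c)
  let B : Finset (G × G) := I.offDiag.filter (fun p => ∃ c : Ω, p.1 • c = p.2 • c ∧ p.1 • c ≠ c)
  let F : Finset (G × G) := I.offDiag.filter (fun p => ∀ c : Ω, (p.1 * p.2) • c ≠ c)
  have hA : A.card ≤ (h + 1) * (i * i - i) := by
    have h1 : A ⊆ univ.biUnion (fun c : Ω => (S c c).offDiag) := by
      rintro ⟨x, y⟩ hp
      simp only [A, mem_filter, mem_offDiag] at hp
      obtain ⟨⟨hx, hy, hne⟩, c, hc1, hc2⟩ := hp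
      simp only [mem_biUnion, mem_univ, true_and, mem_offDiag, memS]
      exact ⟨c, ⟨hx, hc1⟩, ⟨hy, hc2⟩, hne⟩
    calc A.card ≤ (univ.biUnion (fun c : Ω => (S c c).offDiag)).card := card_le_card h1
      _ ≤ ∑ c : Ω, ((S c c).offDiag).card := card_biUnion_le
      _ = ∑ c : Ω, (i * i - i) := by
          apply sum_congr rfl
          intro c _
          rw [offDiag_card, hi]
      _ = (h + 1) * (i * i - i) := by rw [sum_const, card_univ, hh, smul_eq_mul]
  have hB : 2 * B.card ≤ ((h + 1) * (h + 1) - (h + 1)) * (e * e - e) := by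
    have h1 : ∑ q ∈ (univ : Finset Ω).offDiag, ((S q.1 q.2).offDiag).card =
        ((h + 1) * (h + 1) - (h + 1)) * (e * e - e) := by
      have : ∀ q ∈ (univ : Finset Ω).offDiag, ((S q.1 q.2).offDiag).card = e * e - e := by
        intro q hq
        rw [offDiag_card, hScard _ _ (mem_offDiag.1 hq).2.2]
      rw [sum_congr rfl this, sum_const, offDiag_card, card_univ, hh, smul_eq_mul]
    rw [← h1]
    have h2 : ∑ q ∈ (univ : Finset Ω).offDiag, ((S q.1 q.2).offDiag).card =
        ∑ p ∈ I.offDiag, ((univ : Finset Ω).offDiag.filter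
          (fun q => p.1 • q.1 = q.2 ∧ p.2 • q.1 = q.2)).card := by
      have h3 : ∀ q ∈ (univ : Finset Ω).offDiag, ((S q.1 q.2).offDiag).card =
          (I.offDiag.filter (fun p => p.1 • q.1 = q.2 ∧ p.2 • q.1 = q.2)).card := by
        intro q _
        congr 1
        ext p
        simp only [mem_offDiag, memS, mem_filter]
        tauto
      rw [sum_congr rfl h3]
      simp only [card_filter]
      rw [sum_comm]
    rw [h2]
    calc 2 * B.card = ∑ p ∈ B, 2 := by rw [sum_const, smul_eq_mul, mul_comm]
      _ ≤ ∑ p ∈ B, ((univ : Finset Ω).offDiag.filter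
          (fun q => p.1 • q.1 = q.2 ∧ p.2 • q.1 = q.2)).card := by
          apply sum_le_sum
          rintro ⟨x, y⟩ hp
          simp only [B, mem_filter, mem_offDiag] at hp
          obtain ⟨⟨hx, hy, hne⟩, c, hc1, hc2⟩ := hp
          have hxd : x • (x • c) = c := by rw [← mul_smul, hIsq x hx, one_smul]
          have hyd : y • (x • c) = c := by rw [hc1, ← mul_smul, hIsq y hy, one_smul]
          have h4 : ({(c, x • c), (x • c, c)} : Finset (Ω × Ω)).card = 2 := by
            rw [card_pair]
            intro h5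
            exact hc2 (congrArg Prod.fst h5).symm
          rw [← h4]
          apply card_le_card
          intro q hq
          simp only [mem_insert, mem_singleton] at hq
          simp only [mem_filter, mem_offDiag, mem_univ, true_and]
          rcases hq with rfl | rfl
          · exact ⟨hc2.symm, rfl, hc1.symm⟩
          · exact ⟨hc2, hxd, hyd⟩
      _ ≤ ∑ p ∈ I.offDiag, ((univ : Finset Ω).offDiag.filter
          (fun q => p.1 • q.1 = q.2 ∧ p.2 • q.1 = q.2)).card := by
          apply sum_le_sum_of_subset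
          exact filter_subset _ _
  have hF : F.card ≤ Fintype.card G * CF.card := by
    apply card_le_mul_card_image_of_maps_to (f := fun p : G × G => ConjClasses.mk (p.1 * p.2))
    · rintro ⟨x, y⟩ hp
      simp only [F, mem_filter, mem_offDiag] at hp
      obtain ⟨⟨hx, hy, hne⟩, hfix⟩ := hp
      simp only [CF, mem_filter, mem_univ, true_and]
      intro g hg c hc
      rw [ConjClasses.mk_eq_mk_iff_isConj, isConj_iff] at hg
      obtain ⟨k, hk⟩ := hg
      apply hfix (k • c)
      rw [← hk, mul_smul, mul_smul, inv_smul_smul, hc]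
    · intro C _
      apply card_pairs_le _ _ C
      · intro p hp
        exact (mem_filter.1 hp).2
      · intro p hp
        have := (mem_filter.1 ((mem_filter.1 hp).1)).1
        rw [mem_offDiag] at this
        exact ⟨(memI _).1 this.1, (memI _).1 this.2.1⟩
  have hcover : I.offDiag ⊆ A ∪ B ∪ F := by
    rintro ⟨x, y⟩ hp
    simp only [mem_union]
    have hp' := mem_offDiag.1 hp
    by_cases hfree : ∀ c : Ω, (x * y) • c ≠ c
    · right
      exact mem_filter.2 ⟨hp, hfree⟩
    · left
      push Not at hfree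
      obtain ⟨c, hc⟩ := hfree
      have h1 : x • c = y • c := by
        have h2 : x • ((x * y) • c) = x • c := by rw [hc]
        rw [mul_smul, ← mul_smul x x, hIsq x hp'.1, one_smul] at h2
        exact h2.symm
      by_cases h2 : x • c = c
      · left
        exact mem_filter.2 ⟨hp, c, h2, by rw [← h1, h2]⟩
      · right
        exact mem_filter.2 ⟨hp, c, h1, h2⟩
  have hcover' : I.card * I.card - I.card ≤ A.card + B.card + F.card := by
    rw [← offDiag_card]
    refine (card_le_card hcover).trans ((card_union_le _ _).trans ?_)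
    have := card_union_le A B
    omega
  have hG : Fintype.card G = (h + 1) * h * e := by
    rw [← Nat.card_eq_fintype_card, card_group hZ hab hh, he]
  -- number of classes of elements with two fixed points
  have hT : e - 1 ≤ 2 * CT.card := by
    have h1 : (univ.filter (fun g : G => g ≠ 1 ∧ g • a = a ∧ g • b = b)).card + 1 = e := by
      have h2 : Nat.card ↥(stabilizer G a ⊓ stabilizer G b : Subgroup G) =
          (univ.filter (fun g : G => g • a = a ∧ g • b = b)).card := by
        rw [← Fintype.card_subtype, ← Nat.card_eq_fintype_card]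
        rfl
      rw [← he, h2, ← card_erase_add_one (a := (1 : G)) (s := univ.filter (fun g : G => g • a = a ∧ g • b = b))
        (by simp)]
      congr 2
      ext g
      simp
    have h2 : (univ.filter (fun g : G => g ≠ 1 ∧ g • a = a ∧ g • b = b)).card ≤ 2 * CT.card := by
      apply card_le_mul_card_image
      intro C hC
      obtain ⟨x, hx, rfl⟩ := mem_image.1 hC
      obtain ⟨-, hx1, hxa, hxb⟩ := mem_filter.1 hx
      have h3 : (univ.filter (fun g : G => g ≠ 1 ∧ g • a = a ∧ g • b = b)).filter
          (fun g => ConjClasses.mk g = ConjClasses.mk x) ⊆ {x, x⁻¹} := by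
        intro y hy
        obtain ⟨hy, hyx⟩ := mem_filter.1 hy
        obtain ⟨-, hy1, hya, hyb⟩ := mem_filter.1 hy
        rw [ConjClasses.mk_eq_mk_iff_isConj, isConj_iff] at hyx
        obtain ⟨g, hg⟩ := hyx
        have hyE : y ∈ (stabilizer G a ⊓ stabilizer G b : Subgroup G) := ⟨hya, hyb⟩
        have hxE : x ∈ (stabilizer G a ⊓ stabilizer G b : Subgroup G) := ⟨hxa, hxb⟩
        have h4 := pair_of_conj hZ hab (g := g) hy1 hyE (by rw [hg]; exact hxE)
        rw [mem_insert, mem_singleton]
        rcases h4 with ⟨h5, h6⟩ | ⟨h5, h6⟩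
        · left
          have h7 := two_comm hZ hab hodd' (x := g) (y := y) ⟨h5, h6⟩ hyE
          rw [← hg, h7, mul_inv_cancel_right]
        · right
          have h7 := swap_inverts hZ hab hodd' h5 h6 hyE
          rw [← hg, h7, inv_inv]
      exact (card_le_card h3).trans card_le_two
    omega
  have hdisj : Disjoint CF CT := by
    rw [disjoint_left]
    intro C hC hC'
    obtain ⟨x, hx, rfl⟩ := mem_image.1 hC'
    obtain ⟨-, hx1, hxa, hxb⟩ := mem_filter.1 hx
    exact (mem_filter.1 hC).2 x rfl a hxa
  have htot : (CF ∪ CT).card ≤ Nat.card {C : ConjClasses G // ∀ g : G, ConjClasses.mk g = C → g ∉ H} := by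
    rw [Nat.card_eq_fintype_card, Fintype.card_subtype]
    apply card_le_card
    intro C hC
    rw [mem_filter]
    refine ⟨mem_univ _, ?_⟩
    rintro g rfl hgH
    rcases mem_union.1 hC with hC | hC
    · exact (mem_filter.1 hC).2 g rfl a (hHa hgH)
    · obtain ⟨x, hx, hxg⟩ := mem_image.1 hC
      obtain ⟨-, hx1, hxa, hxb⟩ := mem_filter.1 hx
      rw [ConjClasses.mk_eq_mk_iff_isConj, isConj_iff] at hxg
      obtain ⟨k, hk⟩ := hxg
      have hg1 : g ≠ 1 := by
        rintro rfl
        apply hx1
        have : x = k⁻¹ * (k * x * k⁻¹) * k := by group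
        rw [this, hk]; group
      have h1 : g • (k • a) = k • a := by rw [← hk, mul_smul, mul_smul, inv_smul_smul, hxa]
      have h2 : g • (k • b) = k • b := by rw [← hk, mul_smul, mul_smul, inv_smul_smul, hxb]
      have h3 := hHfix g hgH hg1 _ h1
      have h4 := hHfix g hgH hg1 _ h2
      exact hab (MulAction.injective k (h3.trans h4.symm))
  rw [card_union_of_disjoint hdisj] at htot
  refine le_trans ?_ htot
  -- arithmetic
  rw [hG] at hF
  generalize CF.card = n at *
  generalize CT.card = k at *
  generalize A.card = α at *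
  generalize B.card = β at *
  generalize F.card = γ at *
  rw [him] at hIcard hcover'
  have hle1 : i ≤ i * i := Nat.le_mul_self i
  have hle2 : e ≤ e * e := Nat.le_mul_self e
  have hle3 : h + 1 ≤ (h + 1) * (h + 1) := Nat.le_mul_self _
  have hle4 : i + h * e ≤ (i + h * e) * (i + h * e) := Nat.le_mul_self _
  have hepos : 0 < e := hodd.pos
  have hhpos : 0 < h := by omega
  zify [hle1, hle2, hle3, hle4] at hA hB hF hcover'
  have hmain : 2 * (((i : ℤ) + h * e) * (i + h * e) - (i + h * e)) ≤
      2 * ((h + 1) * (i * i - i)) + ((h + 1) * (h + 1) - (h + 1)) * (e * e - e) +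
        2 * ((h + 1) * h * e * n) := by linarith
  obtain ⟨m, rfl⟩ := hodd
  have hk : m ≤ k := by omega
  suffices hn : m + 1 ≤ n by omega
  by_contra hn
  have hn' : (n : ℤ) ≤ m := by exact_mod_cast (by omega : n ≤ m)
  have hh' : (0 : ℤ) < h := by exact_mod_cast hhpos
  by_cases hev : Even h
  · rw [if_pos hev] at hIcard
    have hie : i = 2 * m + 1 := by
      have : i + h * (2 * m + 1) = (2 * m + 1) + h * (2 * m + 1) := by rw [hIcard]; ring
      exact Nat.add_right_cancel this
    subst hie
    push_cast at hmain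
    have h1 : ((h : ℤ) + 1) * (2 * m + 1) * h * (2 * (2 * m + 1)) ≤
        ((h : ℤ) + 1) * (2 * m + 1) * h * (2 * m + 2 * n) := by
      linarith
    have h2 : (0 : ℤ) < ((h : ℤ) + 1) * (2 * m + 1) * h := by positivity
    have h3 := le_of_mul_le_mul_left h1 h2
    linarith
  · rw [if_neg hev] at hIcard
    have hie : i = 0 := by
      have : i + h * (2 * m + 1) = 0 + h * (2 * m + 1) := by rw [hIcard]; ring
      exact Nat.add_right_cancel this
    subst hie
    push_cast at hmain
    have h1 : ((h : ℤ) * (2 * m + 1)) * (2 * (h * (2 * m + 1) - 1)) ≤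
        ((h : ℤ) * (2 * m + 1)) * ((h + 1) * (2 * m + 2 * n)) := by
      linarith
    have h2 : (0 : ℤ) < (h : ℤ) * (2 * m + 1) := by positivity
    have h3 := le_of_mul_le_mul_left h1 h2
    have h4 : ((h : ℤ) + 1) * (2 * m + 2 * n) ≤ (h + 1) * (2 * m + 2 * m) := by
      apply mul_le_mul_of_nonneg_left _ (by positivity)
      linarith
    have h5 : (2 * (2 * m + 1) : ℤ) < h - 1 := by
      have : 2 * (2 * m + 1) + 1 < h := by omega
      have h6 : ((2 * (2 * m + 1) + 1 : ℕ) : ℤ) < (h : ℤ) := by exact_mod_cast this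
      push_cast at h6
      linarith
    nlinarith

end Cfsg.Agent.S0884
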