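import Cfsg.Statements.S0185
import Mathlib.RepresentationTheory.Maschke
import Mathlib.RepresentationTheory.Irreducible
import Mathlib.RepresentationTheory.Semisimple
import Mathlib.Analysis.Complex.Polynomial.Basic
import Mathlib.LinearAlgebra.FiniteDimensional.Basic
import Cfsg.Agent.S0135

set_option autoImplicit false
open Cfsg

namespace Cfsg.Agent.S0185

open Module

/-- A minimal nonzero subrepresentation is irreducible. -/
theorem isIrreducible_of_isAtom {k : Type*} [Field k] {G : Type*} [Group G] {V : Type*}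
    [AddCommGroup V] [Module k V] (ρ : Representation k G V) (σ : Subrepresentation ρ)
    (hσ : IsAtom σ) : σ.toRepresentation.IsIrreducible := by
  have hne : σ.toSubmodule ≠ ⊥ := by
    intro h
    apply hσ.1
    exact Subrepresentation.toSubmodule_injective h
  have hnt : Nontrivial (Subrepresentation σ.toRepresentation) := by
    refine ⟨⟨⊥, ⊤, fun h => hne ?_⟩⟩
    have h' : (⊥ : Submodule k σ.toSubmodule) = ⊤ := congrArg Subrepresentation.toSubmodule h
    rw [Submodule.eq_bot_iff]
    intro x hx
    have : (⟨x, hx⟩ : σ.toSubmodule) ∈ (⊥ : Submodule k σ.toSubmodule) := by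
      rw [h']; trivial
    simpa using this
  refine { toNontrivial := hnt, eq_bot_or_eq_top := fun τ => ?_ }
  let τ' : Subrepresentation ρ :=
    ⟨τ.toSubmodule.map σ.toSubmodule.subtype, by
      rintro g v ⟨w, hw, rfl⟩
      exact ⟨σ.toRepresentation g w, τ.apply_mem_toSubmodule g hw, rfl⟩⟩
  have hle : τ' ≤ σ := by
    rintro v ⟨w, hw, rfl⟩
    exact w.2
  rcases hσ.le_iff.1 hle with h | h
  · left
    apply Subrepresentation.toSubmodule_injective
    have h1 : τ.toSubmodule.map σ.toSubmodule.subtype = ⊥ :=
      congrArg Subrepresentation.toSubmodule h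
    apply Submodule.map_injective_of_injective (Submodule.subtype_injective σ.toSubmodule)
    rw [h1]
    exact (Submodule.map_bot _).symm
  · right
    apply Subrepresentation.toSubmodule_injective
    have h1 : τ.toSubmodule.map σ.toSubmodule.subtype = σ.toSubmodule :=
      congrArg Subrepresentation.toSubmodule h
    change τ.toSubmodule = ⊤
    rw [eq_top_iff]
    rintro ⟨x, hx⟩ -
    rw [← h1] at hx
    obtain ⟨w, hw, hwx⟩ := hx
    have : w = ⟨x, by rw [← h1]; exact ⟨w, hw, hwx⟩⟩ := Subtype.ext hwx
    rw [← this]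
    exact hw

/-- Irreducible subrepresentations of `ρ` span the whole space, and `ρ a`, `ρ b` commute on each of
them as soon as they are one-dimensional. -/
theorem commute_of_irreducible_dim_one {G : Type*} [Group G] [Finite G] {V : Type*}
    [AddCommGroup V] [Module ℂ V] (ρ : Representation ℂ G V)
    (h : ∀ σ : Subrepresentation ρ, σ.toRepresentation.IsIrreducible →
      finrank ℂ σ.toSubmodule = 1) (a b : G) : ρ (a * b) = ρ (b * a) := by
  have : NeZero (Nat.card G : ℂ) := ⟨by exact_mod_cast Nat.card_pos.ne'⟩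
  have hs : IsSemisimpleModule (MonoidAlgebra ℂ G) ρ.asModule := inferInstance
  -- the submodule of vectors on which `ρ (a * b)` and `ρ (b * a)` agree
  have key : ∀ σ : Subrepresentation ρ, IsAtom σ → ∀ v ∈ σ.toSubmodule,
      ρ (a * b) v = ρ (b * a) v := by
    intro σ hσ v hv
    have h1 := h σ (isIrreducible_of_isAtom ρ σ hσ)
    by_cases hv0 : v = 0
    · rw [hv0, map_zero, map_zero]
    have hv0' : (⟨v, hv⟩ : σ.toSubmodule) ≠ 0 := fun h0 => hv0 (congrArg Subtype.val h0)
    have h2 := (finrank_eq_one_iff_of_nonzero' _ hv0').1 h1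
    have h3 : ∀ g : G, ∃ c : ℂ, ρ g v = c • v := by
      intro g
      obtain ⟨c, hc⟩ := h2 ⟨ρ g v, σ.apply_mem_toSubmodule g hv⟩
      exact ⟨c, (congrArg Subtype.val hc).symm⟩
    obtain ⟨ca, hca⟩ := h3 a
    obtain ⟨cb, hcb⟩ := h3 b
    rw [map_mul, map_mul, Module.End.mul_apply, Module.End.mul_apply, hcb, hca, map_smul, map_smul,
      hca, hcb, smul_comm]
  have htop := IsSemisimpleModule.sSup_simples_eq_top (MonoidAlgebra ℂ G) ρ.asModule
  rw [sSup_eq_iSup'] at htop
  let e := Subrepresentation.subrepresentationSubmoduleOrderIso (ρ := ρ)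
  have main : ∀ v : ρ.asModule, ρ (a * b) v = ρ (b * a) v := by
    intro v
    have hv : v ∈ ⨆ m : {m : Submodule (MonoidAlgebra ℂ G) ρ.asModule |
        IsSimpleModule (MonoidAlgebra ℂ G) m}, (m : Submodule (MonoidAlgebra ℂ G) ρ.asModule) := by
      rw [htop]; trivial
    refine Submodule.iSup_induction (M := ρ.asModule) _
      (motive := fun v : ρ.asModule => ρ (a * b) v = ρ (b * a) v) hv ?_ ?_ ?_
    · rintro ⟨m, hm⟩ x hx
      have hat : IsAtom m := isSimpleModule_iff_isAtom.1 hm
      have hat' : IsAtom (e.symm m) := (e.symm.isAtom_iff m).2 hat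
      exact key _ hat' x hx
    · exact (map_zero (ρ (a * b))).trans (map_zero (ρ (b * a))).symm
    · intro x y hx hy
      exact (map_add (ρ (a * b)) x y).trans
        ((congrArg₂ (· + ·) hx hy).trans (map_add (ρ (b * a)) x y).symm)
  exact LinearMap.ext main

/-- If a finite group has a faithful complex representation of degree less than the smallest prime dividing its order, the group is abelian. -/
theorem result {G : Type*} [Group G] [Finite G] {V : Type*} [AddCommGroup V] [Module ℂ V] [FiniteDimensional ℂ V] (ρ : Representation ℂ G V) (hfaithful : Function.Injective ρ) (hdeg : ∀ p : ℕ, p.Prime → p ∣ Nat.card G → Module.finrank ℂ V < p) (a b : G) : a * b = b * a := by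
  apply hfaithful
  apply commute_of_irreducible_dim_one
  intro σ hσ
  have hdvd : finrank ℂ σ.toSubmodule ∣ Nat.card G := Cfsg.Agent.S0135.result σ.toRepresentation
  by_contra hne
  obtain ⟨q, hq, hqd⟩ := Nat.exists_prime_and_dvd hne
  have h1 := hdeg q hq (hqd.trans hdvd)
  have h2 : finrank ℂ σ.toSubmodule ≤ finrank ℂ V := Submodule.finrank_le _
  have h3 : q ≤ finrank ℂ σ.toSubmodule :=
    Nat.le_of_dvd (Nat.pos_of_dvd_of_pos hdvd Nat.card_pos) hqd
  omega

end Cfsg.Agent.S0185
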