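import Cfsg.Statements.S0898
import Cfsg.Agent.CharDeep.DegreeBound

set_option autoImplicit false
open Cfsg

namespace Cfsg.Agent.S0898

open scoped ComplexConjugate

open Cfsg.Agent.Characters Cfsg.Agent.CharDeep.DegreeBound

/-- An irreducible character of an abelian group has degree one. -/
theorem irr_one_of_comm {H : Type*} [Group H] (hab : ∀ a b : H, a * b = b * a) {χ : H → ℂ}
    (hχ : IsIrrCharacter H χ) : χ 1 = 1 := by
  obtain ⟨n, ρ, hρ, rfl⟩ := hχ
  have : IsMulCommutative H := ⟨⟨hab⟩⟩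
  have hρ' := hρ
  rw [Representation.char_one,
    Representation.IsIrreducible.finrank_eq_one_of_isMulCommutative ρ]
  simp

/-- The norm of a character of a finite abelian group is at least its degree. -/
theorem degree_le_norm {H : Type*} [Group H] [Fintype H] (hab : ∀ a b : H, a * b = b * a)
    {χ : H → ℂ} (hχ : IsCharacter H χ) : (χ 1).re ≤ (classInner χ χ).re := by
  classical
  have hfin : Finite (IrrCharacter H) := Core.finite_irr
  have : Fintype (IrrCharacter H) := Fintype.ofFinite _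
  obtain ⟨m, hm⟩ := (Core.isCharacter_iff).1 hχ
  have h1 : χ 1 = ∑ ψ : IrrCharacter H, (m ψ : ℂ) := by
    rw [hm, Finset.sum_apply]
    refine Finset.sum_congr rfl fun ψ _ => ?_
    rw [Pi.smul_apply, irr_one_of_comm hab ψ.2, nsmul_eq_mul, mul_one]
  have h2 : ∀ ψ : IrrCharacter H, classInner χ (ψ : H → ℂ) = m ψ := by
    intro ψ
    rw [hm, Core.classInner_sum_left]
    have : ∀ φ : IrrCharacter H, classInner (m φ • (φ : H → ℂ)) (ψ : H → ℂ) =
        if φ = ψ then (m ψ : ℂ) else 0 := by
      intro φ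
      rw [← Nat.cast_smul_eq_nsmul ℂ, Core.classInner_smul_left, Core.classInner_irr φ.2 ψ.2]
      by_cases h : φ = ψ
      · subst h; simp
      · rw [if_neg h, if_neg (fun h' => h (Subtype.ext h')), mul_zero]
    rw [Finset.sum_congr rfl (fun φ _ => this φ)]
    simp
  have hcl := Core.isCharacter_isClassFunction hχ
  have h3 : classInner χ χ = ∑ ψ : IrrCharacter H, (m ψ : ℂ) ^ 2 := by
    rw [Core.classInner_eq_sum hcl hcl]
    refine Finset.sum_congr rfl fun ψ _ => ?_
    rw [h2 ψ, Complex.conj_natCast, sq]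
  rw [h1, h3, Complex.re_sum, Complex.re_sum]
  refine Finset.sum_le_sum fun ψ _ => ?_
  have : ((m ψ : ℂ) ^ 2).re = (m ψ : ℝ) ^ 2 := by
    rw [← Complex.ofReal_natCast, ← Complex.ofReal_pow, Complex.ofReal_re]
  rw [this, Complex.natCast_re]
  have h4 : m ψ ≤ m ψ ^ 2 := Nat.le_self_pow (by norm_num) _
  exact_mod_cast h4

/-- An irreducible character that is constant on `H` is principal if no proper normal subgroup
contains `H`. -/
theorem eq_one_of_ker {G : Type*} [Group G] [Fintype G] (H : Subgroup G)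
    (hnor : ∀ M : Subgroup G, M.Normal → H ≤ M → M = ⊤) {χ : G → ℂ} (hχ : IsIrrCharacter G χ)
    (hker : ¬ ∃ h ∈ H, χ h ≠ χ 1) : χ = 1 := by
  by_contra hne
  have horth := Core.classInner_irr_ne hχ Core.isIrr_one hne
  have hχ' := hχ
  obtain ⟨n, ρ, hρ, hρχ⟩ := hχ'
  have hle : H ≤ ρ.ker := by
    intro h hh
    have h1 : χ h = χ 1 := by
      by_contra h1
      exact hker ⟨h, hh, h1⟩
    have h2 : ρ.character h = (Module.finrank ℂ (Fin n → ℂ) : ℂ) := by
      rw [← Representation.char_one ρ, hρχ]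
      exact h1
    exact (Values.character_eq_finrank_iff ρ h).1 h2
  have htop := hnor _ inferInstance hle
  have hall : ∀ g, χ g = χ 1 := by
    intro g
    have hg : g ∈ ρ.ker := by rw [htop]; trivial
    have h2 : ρ g = 1 := hg
    rw [← hρχ]
    change LinearMap.trace ℂ _ (ρ g) = LinearMap.trace ℂ _ (ρ 1)
    rw [h2, map_one ρ]
  have h0 : χ 1 ≠ 0 := Central.irr_one_ne_zero hχ
  have hcard : (Nat.card G : ℂ) ≠ 0 := by exact_mod_cast Nat.card_pos.ne'
  apply h0
  rw [classInner] at horth
  simp only [hall, Pi.one_apply, map_one, mul_one, Finset.sum_const, Finset.card_univ,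
    Fintype.card_eq_nat_card, nsmul_eq_mul] at horth
  rwa [← mul_assoc, inv_mul_cancel₀ hcard, one_mul] at horth

/-- Let H be an abelian subgroup of the finite group G meeting the centre of G trivially, such that for every non-central g the centralizer of g has nontrivial intersection with at most one conjugate of H. Let χ be an irreducible character of G with χ h ≠ χ 1 for some h in H, and let c be the inner product of the restriction of χ to H with the principal character. Then χ(1)² > (order of H)·c²; and if in addition χ 1 ≠ 1 and no proper normal subgroup of G contains H, then (1 + χ 1)² > order of H (both sides read as real numbers). -/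
theorem result {G : Type*} [Group G] [Fintype G] (H : Subgroup G) [Fintype H] (hab : ∀ a ∈ H, ∀ b ∈ H, a * b = b * a) (hZ : H ⊓ Subgroup.center G = ⊥) (hone : ∀ g : G, g ∉ Subgroup.center G → ∀ a b : G, Subgroup.centralizer ({g} : Set G) ⊓ H.map (MulAut.conj a).toMonoidHom ≠ ⊥ → Subgroup.centralizer ({g} : Set G) ⊓ H.map (MulAut.conj b).toMonoidHom ≠ ⊥ → H.map (MulAut.conj a).toMonoidHom = H.map (MulAut.conj b).toMonoidHom) (χ : G → ℂ) (hχ : Cfsg.IsIrrCharacter G χ) (hker : ∃ h ∈ H, χ h ≠ χ 1) : (χ 1).re ^ 2 > (Nat.card H : ℝ) * (Cfsg.classInner (fun h : H => χ h) (fun _ => 1)).re ^ 2 ∧ (χ 1 ≠ 1 → (∀ M : Subgroup G, M.Normal → H ≤ M → M = ⊤) → (1 + (χ 1).re) ^ 2 > (Nat.card H : ℝ)) := by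
  classical
  have hH0 : (0 : ℝ) < (Nat.card H : ℝ) := by exact_mod_cast Nat.card_pos
  -- restriction to `H` is a character
  have hres : ∀ {ψ : G → ℂ}, IsCharacter G ψ → IsCharacter H (fun h : H => ψ h) :=
    fun hψ => Core.isCharacter_comp H.subtype hψ
  have hone' : IsCharacter H (fun _ : H => (1 : ℂ)) := Core.isCharacter_one
  -- the first claim, for all irreducible characters
  have main : ∀ ψ : G → ℂ, IsIrrCharacter G ψ → (∃ h ∈ H, ψ h ≠ ψ 1) →
      (ψ 1).re ^ 2 > (Nat.card H : ℝ) *
        (Cfsg.classInner (fun h : H => ψ h) (fun _ => 1)).re ^ 2 := by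
    intro ψ hψ hk
    have h := degree_bound H hZ hone ψ hψ hk
    obtain ⟨d, -, hd⟩ := Core.isIrr_apply_one hψ
    obtain ⟨c, hc⟩ := Core.classInner_isNat (hres (Core.isIrr_isCharacter hψ)) hone'
    rw [hc, hd] at h ⊢
    simpa using h
  refine ⟨main χ hχ hker, fun hχ1 hnor => ?_⟩
  have hfin : Finite (IrrCharacter G) := Core.finite_irr
  have : Fintype (IrrCharacter G) := Fintype.ofFinite _
  have hχc := Core.isIrr_isCharacter hχ
  have hθ : IsCharacter G (χ * fun g => conj (χ g)) :=
    Core.isCharacter_mul hχc (Core.isCharacter_conj hχc)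
  obtain ⟨m, hm⟩ := (Core.isCharacter_iff).1 hθ
  let o : IrrCharacter G := ⟨1, Core.isIrr_one⟩
  -- multiplicity of the principal character
  have hmo : (m o : ℂ) = 1 := by
    have h1 : classInner (χ * fun g => conj (χ g)) (1 : G → ℂ) = 1 := by
      rw [← Core.classInner_irr_self hχ]
      simp [classInner]
    rw [hm, Core.classInner_sum_left] at h1
    have h2 : ∀ φ : IrrCharacter G, classInner (m φ • (φ : G → ℂ)) (1 : G → ℂ) =
        if φ = o then (m o : ℂ) else 0 := by
      intro φ
      rw [← Nat.cast_smul_eq_nsmul ℂ, Core.classInner_smul_left, Core.classInner_irr φ.2 o.2]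
      by_cases h : φ = o
      · subst h; simp
      · rw [if_neg h, if_neg (fun h' => h (Subtype.ext h')), mul_zero]
    rw [Finset.sum_congr rfl (fun φ _ => h2 φ)] at h1
    simpa using h1
  obtain ⟨n, hn0, hn⟩ := Core.isIrr_apply_one hχ
  have hn2 : 2 ≤ n := by
    rcases Nat.lt_or_ge n 2 with h | h
    · exfalso
      apply hχ1
      rw [hn]
      have : n = 1 := by omega
      rw [this]; simp
    · exact h
  -- degrees
  have hdeg : ((n : ℂ)) ^ 2 = ∑ φ : IrrCharacter G, (m φ : ℂ) * (φ : G → ℂ) 1 := by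
    have h1 := congrFun hm 1
    rw [Finset.sum_apply] at h1
    simp only [Pi.mul_apply, Pi.smul_apply, nsmul_eq_mul, hn, Complex.conj_natCast] at h1
    rw [← h1]; ring
  have hdegr : (n : ℝ) ^ 2 = ∑ φ : IrrCharacter G, (m φ : ℝ) * ((φ : G → ℂ) 1).re := by
    have h1 := congrArg Complex.re hdeg
    rw [Complex.re_sum] at h1
    have h2 : ((n : ℂ) ^ 2).re = (n : ℝ) ^ 2 := by
      rw [← Complex.ofReal_natCast, ← Complex.ofReal_pow, Complex.ofReal_re]
    rw [h2] at h1
    rw [h1]
    refine Finset.sum_congr rfl fun φ _ => ?_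
    rw [← Complex.ofReal_natCast, Complex.re_ofReal_mul]
  -- restriction to `H`
  have hinn : classInner (fun h : H => χ h) (fun h : H => χ h) =
      ∑ φ : IrrCharacter G, (m φ : ℂ) * classInner (fun h : H => (φ : G → ℂ) h) (fun _ => 1) := by
    have h1 : classInner (fun h : H => χ h) (fun h : H => χ h) =
        classInner (fun h : H => (χ * fun g => conj (χ g)) h) (fun _ => 1) := by
      simp [classInner]
    have h2 : (fun h : H => (χ * fun g => conj (χ g)) h) =
        ∑ φ : IrrCharacter G, (m φ : ℂ) • (fun h : H => (φ : G → ℂ) h) := by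
      funext h
      rw [hm, Finset.sum_apply, Finset.sum_apply]
      refine Finset.sum_congr rfl fun φ _ => ?_
      rw [Pi.smul_apply, Pi.smul_apply, nsmul_eq_mul, smul_eq_mul]
    rw [h1, h2, Core.classInner_sum_left]
    refine Finset.sum_congr rfl fun φ _ => ?_
    rw [Core.classInner_smul_left]
  have hinnr : (classInner (fun h : H => χ h) (fun h : H => χ h)).re =
      ∑ φ : IrrCharacter G, (m φ : ℝ) *
        (classInner (fun h : H => (φ : G → ℂ) h) (fun _ => 1)).re := by
    rw [hinn, Complex.re_sum]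
    refine Finset.sum_congr rfl fun φ _ => ?_
    rw [← Complex.ofReal_natCast, Complex.re_ofReal_mul]
  have hge : (n : ℝ) ≤ (classInner (fun h : H => χ h) (fun h : H => χ h)).re := by
    have h1 := degree_le_norm (H := H) (fun a b => Subtype.ext (hab a a.2 b b.2)) (hres hχc)
    have h2 : ((χ ((1 : H) : G))).re = n := by
      rw [Subgroup.coe_one, hn, Complex.natCast_re]
    rwa [h2] at h1
  -- comparison
  set s : ℝ := Real.sqrt (Nat.card H : ℝ) with hs
  have hs0 : 0 < s := Real.sqrt_pos.2 hH0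
  have hss : s ^ 2 = (Nat.card H : ℝ) := Real.sq_sqrt hH0.le
  have hcomp : ∀ φ : IrrCharacter G, φ ≠ o →
      s * (classInner (fun h : H => (φ : G → ℂ) h) (fun _ => 1)).re < ((φ : G → ℂ) 1).re := by
    intro φ hφ
    have hk : ∃ h ∈ H, (φ : G → ℂ) h ≠ (φ : G → ℂ) 1 := by
      by_contra hk
      exact hφ (Subtype.ext (eq_one_of_ker H hnor φ.2 hk))
    have h1 := main φ φ.2 hk
    obtain ⟨d, hd0, hd⟩ := Core.isIrr_apply_one φ.2
    rw [← hss, ← mul_pow] at h1
    have h2 : 0 ≤ ((φ : G → ℂ) 1).re := by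
      rw [hd, Complex.natCast_re]; exact Nat.cast_nonneg _
    exact lt_of_pow_lt_pow_left₀ 2 h2 h1
  have hco : (classInner (fun h : H => (o : G → ℂ) h) (fun _ => 1)).re = 1 := by
    have h1 : classInner (fun h : H => (o : G → ℂ) h) (fun _ => 1) = 1 :=
      Core.classInner_irr_self (G := H) Core.isIrr_one
    rw [h1, Complex.one_re]
  have ho1 : ((o : G → ℂ) 1).re = 1 := Complex.one_re
  have hmor : (m o : ℝ) = 1 := by exact_mod_cast hmo
  rw [← Finset.add_sum_erase _ _ (Finset.mem_univ o), hmor, ho1, one_mul] at hdegr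
  rw [← Finset.add_sum_erase _ _ (Finset.mem_univ o), hmor, hco, one_mul] at hinnr
  -- some other constituent
  have hex : ∃ φ ∈ Finset.univ.erase o, m φ ≠ 0 := by
    by_contra hcon
    push Not at hcon
    rw [Finset.sum_congr rfl (fun φ hφ => by rw [hcon φ hφ, Nat.cast_zero, zero_mul])] at hdegr
    rw [Finset.sum_const_zero, add_zero] at hdegr
    have : (2 : ℝ) ≤ n := by exact_mod_cast hn2
    nlinarith
  have hlt : s * ∑ φ ∈ Finset.univ.erase o, (m φ : ℝ) *
        (classInner (fun h : H => (φ : G → ℂ) h) (fun _ => 1)).re <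
      ∑ φ ∈ Finset.univ.erase o, (m φ : ℝ) * ((φ : G → ℂ) 1).re := by
    rw [Finset.mul_sum]
    apply Finset.sum_lt_sum
    · intro φ hφ
      have h1 := (hcomp φ (Finset.ne_of_mem_erase hφ)).le
      have h2 : (0 : ℝ) ≤ m φ := Nat.cast_nonneg _
      calc s * ((m φ : ℝ) * (classInner (fun h : H => (φ : G → ℂ) h) (fun _ => 1)).re)
          = (m φ : ℝ) * (s * (classInner (fun h : H => (φ : G → ℂ) h) (fun _ => 1)).re) := by ring
        _ ≤ _ := mul_le_mul_of_nonneg_left h1 h2
    · obtain ⟨φ, hφ, hmφ⟩ := hex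
      refine ⟨φ, hφ, ?_⟩
      have h1 := (hcomp φ (Finset.ne_of_mem_erase hφ))
      have h2 : (0 : ℝ) < m φ := by exact_mod_cast Nat.pos_of_ne_zero hmφ
      calc s * ((m φ : ℝ) * (classInner (fun h : H => (φ : G → ℂ) h) (fun _ => 1)).re)
          = (m φ : ℝ) * (s * (classInner (fun h : H => (φ : G → ℂ) h) (fun _ => 1)).re) := by ring
        _ < _ := mul_lt_mul_of_pos_left h1 h2
  have hnr : (χ 1).re = n := by rw [hn, Complex.natCast_re]
  rw [hnr, ← hss]
  have hn1 : (2 : ℝ) ≤ n := by exact_mod_cast hn2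
  have hfinal : s < 1 + n := by
    have h1 : s * ((n : ℝ) - 1) < (1 + n) * ((n : ℝ) - 1) := by
      have h2 : s * ((n : ℝ) - 1) ≤ s * ∑ φ ∈ Finset.univ.erase o, (m φ : ℝ) *
          (classInner (fun h : H => (φ : G → ℂ) h) (fun _ => 1)).re :=
        mul_le_mul_of_nonneg_left (by linarith) hs0.le
      have h3 : ∑ φ ∈ Finset.univ.erase o, (m φ : ℝ) * ((φ : G → ℂ) 1).re =
          (1 + n) * ((n : ℝ) - 1) := by
        have : (1 + (n : ℝ)) * ((n : ℝ) - 1) = (n : ℝ) ^ 2 - 1 := by ring
        rw [this]; linarith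
      linarith
    exact lt_of_mul_lt_mul_right h1 (by linarith)
  exact pow_lt_pow_left₀ hfinal hs0.le (by norm_num)

end Cfsg.Agent.S0898
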