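import Cfsg.Statements.S1026
-- import your own Cfsg.Agent.* helpers here
import Cfsg.Agent.ChevalleyStructure.UnipProd

set_option autoImplicit false
open Cfsg

namespace Cfsg.Agent.S1026

open Cfsg.Agent.ChevalleyStructure Cfsg.Agent.ChevalleyStructure.Elts Cfsg.Agent.ChevalleyStructure.UnipProd in
/-- Every element of `U` has a unique expression `∏_{r ∈ Φ⁺} x_r(t_r)`, the product over the positive roots in increasing index order (the coefficient family `t`, supported on the positive roots, exists and is unique); and conversely every such ordered product is the matrix of an element of `U`. -/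
theorem result {F : Type*} [Field F] (D : Cfsg.Lie.ChevalleyDatum) (hD : D ∈ [Cfsg.Lie.chevG2, Cfsg.Lie.chevB2, Cfsg.Lie.chevD4, Cfsg.Lie.chevF4, Cfsg.Lie.chevE6, Cfsg.Lie.chevE7, Cfsg.Lie.chevE8]) :
    (∀ g : GL D.Idx F, g ∈ D.posUnipotent F →
      ∃! t : ℕ → F, (∀ r, ¬ D.IsPosRoot r → t r = 0) ∧
        (g : Matrix D.Idx D.Idx F) = D.wordMat F (D.posRoots.map fun r => (r, t r))) ∧
    (∀ t : ℕ → F, ∃ g : GL D.Idx F, g ∈ D.posUnipotent F ∧
      (g : Matrix D.Idx D.Idx F) = D.wordMat F (D.posRoots.map fun r => (r, t r))) := by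
  rw [posRoots_eq hD]
  constructor
  · intro g hg
    rw [← unipGE_eq_posUnipotent hD F le_rfl] at hg
    obtain ⟨t, ht, hgt⟩ := exists_prod hD le_rfl hg
    refine ⟨t, ⟨fun r hr => ht r fun h => hr ((UnipOrd.isPosRoot_iff hD r).2 h), ?_⟩, ?_⟩
    · rw [hgt, coe_wordG]
    · rintro t' ⟨ht', hgt'⟩
      have h1 : g = wordG hD ((rootsGE D (D.nroots / 2)).map fun r => (r, t' r)) := (eq_wordG_iff hD g _).2 hgt'
      have h2 := prod_injective hD le_rfl (h1.symm.trans hgt)
      funext r
      by_cases hr : D.nroots / 2 ≤ r ∧ r < D.nroots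
      · exact h2 r hr.1 hr.2
      · rw [ht r hr, ht' r fun h => hr ((UnipOrd.isPosRoot_iff hD r).1 h)]
  · intro t
    refine ⟨wordG hD ((rootsGE D (D.nroots / 2)).map fun r => (r, t r)), ?_, coe_wordG hD _⟩
    rw [← unipGE_eq_posUnipotent hD F le_rfl]
    exact wordG_mem_unipGE hD le_rfl t

end Cfsg.Agent.S1026
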