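import Cfsg.Statements.S1027
-- import your own Cfsg.Agent.* helpers here
import Cfsg.Agent.S1026

set_option autoImplicit false
open Cfsg

namespace Cfsg.Agent.S1027

open Cfsg.Lie Cfsg.Lie.ChevalleyDatum

/-- Number of positive roots, checked datum by datum. -/
theorem length_posRoots (D : ChevalleyDatum)
    (hD : D ∈ [chevG2, chevB2, chevD4, chevF4, chevE6, chevE7, chevE8]) :
    D.posRoots.length = D.nroots / 2 := by
  simp only [List.mem_cons, List.not_mem_nil, or_false] at hD
  rcases hD with rfl | rfl | rfl | rfl | rfl | rfl | rfl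
  all_goals decide +kernel

theorem mem_posRoots (D : ChevalleyDatum) (r : ℕ) : r ∈ D.posRoots ↔ D.IsPosRoot r := by
  constructor
  · intro h
    have h2 := (List.mem_filter.1 h).2
    exact of_decide_eq_true h2
  · intro h
    exact List.mem_filter.2 ⟨List.mem_range.2 h.1, decide_eq_true h⟩

theorem nodup_posRoots (D : ChevalleyDatum) : D.posRoots.Nodup :=
  List.Nodup.filter _ List.nodup_range

/-- The functions supported on the positive roots are counted by `q ^ N`. -/
theorem card_support (F : Type*) [Field F] [Fintype F] (D : ChevalleyDatum) :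
    Nat.card {t : ℕ → F // ∀ r, ¬ D.IsPosRoot r → t r = 0} =
      Fintype.card F ^ D.posRoots.length := by
  classical
  let S : Finset ℕ := ⟨(D.posRoots : Multiset ℕ), nodup_posRoots D⟩
  have hS : ∀ r, r ∈ S ↔ D.IsPosRoot r := fun r => mem_posRoots D r
  have e : {t : ℕ → F // ∀ r, ¬ D.IsPosRoot r → t r = 0} ≃ (S → F) :=
    { toFun := fun t r => t.1 r.1
      invFun := fun f => ⟨fun r => if h : r ∈ S then f ⟨r, h⟩ else 0, fun r hr => by
        exact dif_neg (fun h => hr ((hS r).1 h))⟩
      left_inv := by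
        rintro ⟨t, ht⟩
        apply Subtype.ext
        funext r
        by_cases h : r ∈ S
        · simp [h]
        · simp [h, ht r (fun h' => h ((hS r).2 h'))]
      right_inv := by
        intro f
        funext r
        simp }
  rw [Nat.card_congr e, Nat.card_eq_fintype_card, Fintype.card_fun, Fintype.card_coe]
  rfl

/-- For the subgroup `U` generated by the root elements `x_r(t)` of the positive roots `r`: `|U| = q^N` over a field with `q` elements, where `N` is the number of positive roots (half the number of roots). -/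
theorem result {F : Type*} [Field F] [Fintype F] (D : Cfsg.Lie.ChevalleyDatum) (hD : D ∈ [Cfsg.Lie.chevG2, Cfsg.Lie.chevB2, Cfsg.Lie.chevD4, Cfsg.Lie.chevF4, Cfsg.Lie.chevE6, Cfsg.Lie.chevE7, Cfsg.Lie.chevE8]) :
    Nat.card (D.posUnipotent F) = Fintype.card F ^ (D.nroots / 2) := by
  obtain ⟨h1, h2⟩ := Cfsg.Agent.S1026.result (F := F) D hD
  choose f hf hfm using h2
  rw [← length_posRoots D hD, ← card_support F D]
  refine (Nat.card_congr (Equiv.ofBijective
    (fun t : {t : ℕ → F // ∀ r, ¬ D.IsPosRoot r → t r = 0} =>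
      (⟨f t.1, hf t.1⟩ : D.posUnipotent F)) ⟨?_, ?_⟩)).symm
  · rintro ⟨t, ht⟩ ⟨t', ht'⟩ h
    have hg : f t = f t' := congrArg Subtype.val h
    obtain ⟨u, _, hu⟩ := h1 (f t) (hf t)
    have e1 : t = u := hu t ⟨ht, hfm t⟩
    have e2 : t' = u := hu t' ⟨ht', by rw [hg]; exact hfm t'⟩
    apply Subtype.ext
    exact e1.trans e2.symm
  · rintro ⟨g, hg⟩
    obtain ⟨t, ⟨ht, hgt⟩, _⟩ := h1 g hg
    refine ⟨⟨t, ht⟩, ?_⟩
    apply Subtype.ext
    exact Units.ext ((hfm t).trans hgt.symm)

end Cfsg.Agent.S1027
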