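import Cfsg.Statements.S1035
import Cfsg.Agent.ChevalleyStructure.TorusRange
import Cfsg.Agent.S1033
import Cfsg.Agent.S1034

set_option autoImplicit false
open Cfsg

namespace Cfsg.Agent.S1035

open Cfsg.Lie Cfsg.Agent.ChevalleyStructure.TorusCount Cfsg.Agent.ChevalleyStructure.TorusRange
  Cfsg.Agent.ChevalleyStructure.TorusCert in
theorem aux {F : Type*} [Field F] [Fintype F] (D : ChevalleyDatum)
    (hD : D ∈ [chevG2, chevB2, chevD4, chevF4, chevE6, chevE7, chevE8]) {m d : ℕ} (S : SmithCert D m d) :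
    Nat.gcd d (Fintype.card F - 1) ^ m * Nat.card (D.diagonalSubgroup F) = (Fintype.card F - 1) ^ D.rank := by
  rw [diagonalSubgroup_eq_range (D := D) (F := F) (fun i hi c hc => Cfsg.Agent.S1033.result D hD i hi c hc)
    (fun i hi => S.simple_lt ⟨i, hi⟩) (fun g hg => Cfsg.Agent.S1034.result D hD g hg)]
  exact card_range S F

/-- `d · |H| = (q - 1)^rank` over a field with `q` elements, with `d = 1` (G₂, F₄, E₈), `gcd(3, q-1)` (E₆), `gcd(2, q-1)` (E₇, B₂), `gcd(2, q-1)²` (D₄). -/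
theorem result {F : Type*} [Field F] [Fintype F] {q : ℕ} (hq : Fintype.card F = q)
    (p : Cfsg.Lie.ChevalleyDatum × ℕ)
    (hp : p ∈ [(Cfsg.Lie.chevG2, 1), (Cfsg.Lie.chevF4, 1), (Cfsg.Lie.chevE8, 1), (Cfsg.Lie.chevE6, Nat.gcd 3 (q - 1)),
      (Cfsg.Lie.chevE7, Nat.gcd 2 (q - 1)), (Cfsg.Lie.chevB2, Nat.gcd 2 (q - 1)), (Cfsg.Lie.chevD4, Nat.gcd 2 (q - 1) ^ 2)]) :
    p.2 * Nat.card (p.1.diagonalSubgroup F) = (q - 1) ^ p.1.rank := by
  subst hq
  simp only [List.mem_cons, List.not_mem_nil, or_false] at hp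
  rcases hp with rfl | rfl | rfl | rfl | rfl | rfl | rfl
  · have h := aux (F := F) _ (by simp) Cfsg.Agent.ChevalleyStructure.TorusCert.certG2
    simpa using h
  · have h := aux (F := F) _ (by simp) Cfsg.Agent.ChevalleyStructure.TorusCert.certF4
    simpa using h
  · have h := aux (F := F) _ (by simp) Cfsg.Agent.ChevalleyStructure.TorusCert.certE8
    simpa using h
  · have h := aux (F := F) _ (by simp) Cfsg.Agent.ChevalleyStructure.TorusCert.certE6
    simpa using h
  · have h := aux (F := F) _ (by simp) Cfsg.Agent.ChevalleyStructure.TorusCert.certE7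
    simpa using h
  · have h := aux (F := F) _ (by simp) Cfsg.Agent.ChevalleyStructure.TorusCert.certB2
    simpa using h
  · exact aux (F := F) _ (by simp) Cfsg.Agent.ChevalleyStructure.TorusCert.certD4

end Cfsg.Agent.S1035
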