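import Cfsg.Statements.S1076
import Cfsg.Agent.S1030

set_option autoImplicit false
open Cfsg

namespace Cfsg.Agent.S1076

/-- upper unitriangular element of SL₂ -/
def up {F : Type*} [Field F] (t : F) : Matrix.SpecialLinearGroup (Fin 2) F :=
  ⟨!![1, t; 0, 1], by simp [Matrix.det_fin_two_of]⟩

/-- lower unitriangular element of SL₂ -/
def lo {F : Type*} [Field F] (t : F) : Matrix.SpecialLinearGroup (Fin 2) F :=
  ⟨!![1, 0; t, 1], by simp [Matrix.det_fin_two_of]⟩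

/-- diagonal element of SL₂ -/
def dg {F : Type*} [Field F] (t : F) (ht : t ≠ 0) : Matrix.SpecialLinearGroup (Fin 2) F :=
  ⟨!![t, 0; 0, t⁻¹], by simp [Matrix.det_fin_two_of, ht]⟩

theorem dg_eq {F : Type*} [Field F] (t : F) (ht : t ≠ 0) :
    dg t ht = up t * lo (-t⁻¹) * up t * (up (-1) * lo (-(-1)⁻¹) * up (-1)) := by
  have h : !![t, 0; 0, t⁻¹] = !![1, t; 0, 1] * !![1, 0; -t⁻¹, 1] * !![1, t; 0, 1] *
      (!![1, (-1 : F); 0, 1] * !![1, 0; -(-1 : F)⁻¹, 1] * !![1, -1; 0, 1]) := by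
    ext i j
    fin_cases i <;> fin_cases j <;> simp [Matrix.mul_apply, Fin.sum_univ_two, ht]
  exact Subtype.ext h

theorem dg_mul {F : Type*} [Field F] (t u : F) (ht : t ≠ 0) (hu : u ≠ 0) :
    dg t ht * dg u hu = dg (t * u) (mul_ne_zero ht hu) := by
  have h : !![t, 0; 0, t⁻¹] * !![u, 0; 0, u⁻¹] = !![t * u, 0; 0, (t * u)⁻¹] := by
    ext i j
    fin_cases i <;> fin_cases j <;> simp [Matrix.mul_apply, Fin.sum_univ_two, mul_comm]
  exact Subtype.ext h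

/-- `h_r(t₁) h_r(t₂) = h_r(t₁ t₂)` for non-zero `t₁, t₂` (the third family of defining relations), as a matrix identity. -/
theorem result {F : Type*} [Field F] (D : Cfsg.Lie.ChevalleyDatum) (hD : D ∈ [Cfsg.Lie.chevG2, Cfsg.Lie.chevB2, Cfsg.Lie.chevD4, Cfsg.Lie.chevF4, Cfsg.Lie.chevE6, Cfsg.Lie.chevE7, Cfsg.Lie.chevE8]) (r : ℕ) (hr : r < D.nroots) (t₁ t₂ : F) (h₁ : t₁ ≠ 0) (h₂ : t₂ ≠ 0) :
    D.hMat F r t₁ * D.hMat F r t₂ = D.hMat F r (t₁ * t₂) := by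
  obtain ⟨φ, -, hφ⟩ := Cfsg.Agent.S1030.result (F := F) D hD r hr
  have hup : ∀ t : F, ((φ (up t) : GL D.Idx F) : Matrix D.Idx D.Idx F) = D.x F r t :=
    fun t => (hφ (up t) t).1 rfl
  have hlo : ∀ t : F, ((φ (lo t) : GL D.Idx F) : Matrix D.Idx D.Idx F) = D.x F (D.neg r) t :=
    fun t => (hφ (lo t) t).2 rfl
  have key : ∀ (t : F) (ht : t ≠ 0), D.hMat F r t = ((φ (dg t ht) : GL D.Idx F) : Matrix D.Idx D.Idx F) := by
    intro t ht
    rw [dg_eq]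
    simp only [map_mul, Units.val_mul, hup, hlo]
    simp only [Cfsg.Lie.ChevalleyDatum.hMat, Cfsg.Lie.ChevalleyDatum.wordMat,
      Cfsg.Lie.ChevalleyDatum.hWord, Cfsg.Lie.ChevalleyDatum.nWord]
    simp only [List.map_append, List.map_cons, List.map_nil, List.prod_append, List.prod_cons,
      List.prod_nil, mul_one, mul_assoc]
  rw [key t₁ h₁, key t₂ h₂, key (t₁ * t₂) (mul_ne_zero h₁ h₂), ← dg_mul t₁ t₂ h₁ h₂, map_mul,
    Units.val_mul]

end Cfsg.Agent.S1076
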