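import Cfsg.Statements.S1053
import Cfsg.Agent.ChevalleyStructure.W0Main
import Cfsg.Agent.ChevalleyStructure.W0Small
import Cfsg.Agent.ChevalleyStructure.W0E6
import Cfsg.Agent.ChevalleyStructure.W0E7
import Cfsg.Agent.ChevalleyStructure.W0E8

set_option autoImplicit false
open Cfsg

namespace Cfsg.Agent.S1053

open Cfsg.Agent.ChevalleyStructure.W0Main Cfsg.Agent.ChevalleyStructure.W0Small
  Cfsg.Agent.ChevalleyStructure.W0E6 Cfsg.Agent.ChevalleyStructure.W0E7 Cfsg.Agent.ChevalleyStructure.W0E8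

/-- There is `n₀ ∈ N` with `n₀ U n₀⁻¹ = V` (a representative of the longest element of the Weyl group). -/
theorem result {F : Type*} [Field F] (D : Cfsg.Lie.ChevalleyDatum) (hD : D ∈ [Cfsg.Lie.chevG2, Cfsg.Lie.chevB2, Cfsg.Lie.chevD4, Cfsg.Lie.chevF4, Cfsg.Lie.chevE6, Cfsg.Lie.chevE7, Cfsg.Lie.chevE8]) :
    ∃ n ∈ D.monomialSubgroup F, (D.posUnipotent F).map (MulAut.conj n).toMonoidHom = D.negUnipotent F := by
  have hD' := hD
  simp only [List.mem_cons, List.not_mem_nil, or_false] at hD'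
  rcases hD' with rfl | rfl | rfl | rfl | rfl | rfl | rfl
  · exact exists_conj_of_tables hD F tabG2 wordG2 w0G2 6 (by decide) tabG2_ok rangeG2 wordG2_lt wordG2_simple
      wordG2_ok flipG2 signG2
  · exact exists_conj_of_tables hD F tabB2 wordB2 w0B2 4 (by decide) tabB2_ok rangeB2 wordB2_lt wordB2_simple
      wordB2_ok flipB2 signB2
  · exact exists_conj_of_tables hD F tabD4 wordD4 w0D4 12 (by decide) tabD4_ok rangeD4 wordD4_lt wordD4_simple
      wordD4_ok flipD4 signD4
  · exact exists_conj_of_tables hD F tabF4 wordF4 w0F4 24 (by decide) tabF4_ok rangeF4 wordF4_lt wordF4_simple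
      wordF4_ok flipF4 signF4
  · exact exists_conj_of_tables hD F tabE6 wordE6 w0E6 36 (by decide) tabE6_ok rangeE6 wordE6_lt wordE6_simple
      wordE6_ok flipE6 signE6
  · exact exists_conj_of_tables hD F tabE7 wordE7 w0E7 63 (by decide) tabE7_ok rangeE7 wordE7_lt wordE7_simple
      wordE7_ok flipE7 signE7
  · exact exists_conj_of_tables hD F tabE8 wordE8 w0E8 120 (by decide) tabE8_ok rangeE8 wordE8_lt wordE8_simple
      wordE8_ok flipE8 signE8

end Cfsg.Agent.S1053
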