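import Cfsg.Statements.S1051
-- import your own Cfsg.Agent.* helpers here
import Cfsg.Agent.S1036
import Cfsg.Agent.S1037
import Cfsg.Agent.S1038
import Cfsg.Agent.S1053
import Cfsg.Agent.ChevalleyStructure.Elts
import Cfsg.Agent.ChevalleyStructure.HDiag
import Cfsg.Agent.ChevalleyStructure.CorootGcd

set_option autoImplicit false
open Cfsg

namespace Cfsg.Agent.S1051

open Cfsg.Lie Cfsg.Agent.ChevalleyStructure Cfsg.Agent.ChevalleyStructure.Elts

/-- A diagonal matrix (identity on the coroot block) commuting with all root elements is the identity. -/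
theorem eq_one_of_commute {F : Type*} [Field F] {D : ChevalleyDatum} (hD : InList D)
    (k : GL D.Idx F) (χ : Fin D.nroots → F)
    (hk : (k : Matrix D.Idx D.Idx F) = HDiag.dmat D F χ)
    (hcomm : ∀ r < D.nroots, k * xG hD r (1 : F) = xG hD r 1 * k) : k = 1 := by
  have hχ : ∀ s : Fin D.nroots, χ s = 1 := by
    intro s
    have hs := s.2
    set r := D.nroots - 1 - s.val with hr
    have hr' : r < D.nroots := by omega
    have hne : s ≠ ⟨r, hr'⟩ := by
      intro h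
      have h' : s.val = r := congrArg Fin.val h
      obtain ⟨m, hm⟩ := (CorootGcd.nroots_pos hD).2
      omega
    have hsr : s.val = D.negIdx.getD r 0 := by
      rw [CorootGcd.neg_eq hD hr']; omega
    obtain ⟨i, hi⟩ := CorootGcd.exists_coroot_ne_zero (F := F) hD hr'
    have h1 := congrArg (fun g : GL D.Idx F => (g : Matrix D.Idx D.Idx F) (Sum.inl i) (Sum.inr s)) (hcomm r hr')
    have hx : (xG hD r (1 : F) : Matrix D.Idx D.Idx F) (Sum.inl i) (Sum.inr s) =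
        (((D.coroot.getD r #[]).getD i.val 0 : ℤ) : F) := by
      rw [coe_xG, x_of_lt hr']
      show (if s = ⟨r, hr'⟩ then (0 : F) else if s.val = D.negIdx.getD r 0 then
        (((D.coroot.getD r #[]).getD i.val 0 : ℤ) : F) * 1 else 0) = _
      rw [if_neg hne, if_pos hsr, mul_one]
    simp only [Units.val_mul, hk, HDiag.dmat_def] at h1
    rw [Matrix.diagonal_mul, Matrix.mul_diagonal, hx] at h1
    simp only [Sum.elim_inl, Sum.elim_inr, one_mul] at h1
    have h2 : (((D.coroot.getD r #[]).getD i.val 0 : ℤ) : F) * (χ s - 1) = 0 := by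
      rw [mul_sub, mul_one, ← h1, sub_self]
    rcases mul_eq_zero.1 h2 with h | h
    · exact absurd h hi
    · exact sub_eq_zero.1 h
  apply Units.ext
  rw [hk, Units.val_one]
  have : χ = fun _ => 1 := funext hχ
  rw [this]
  exact HDiag.dmat_one D F

/-- `⋂_g g B g⁻¹ = 1`: the normal core of `B` in the Chevalley group is trivial. -/
theorem result {F : Type*} [Field F] (D : Cfsg.Lie.ChevalleyDatum) (hD : D ∈ [Cfsg.Lie.chevG2, Cfsg.Lie.chevB2, Cfsg.Lie.chevD4, Cfsg.Lie.chevF4, Cfsg.Lie.chevE6, Cfsg.Lie.chevE7, Cfsg.Lie.chevE8]) : ((D.borelSubgroup F).subgroupOf (D.group F)).normalCore = ⊥ := by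
  set K := ((D.borelSubgroup F).subgroupOf (D.group F)).normalCore with hKdef
  have hKn : K.Normal := Subgroup.normalCore_normal _
  have hKB : ∀ k ∈ K, (k : GL D.Idx F) ∈ D.borelSubgroup F := fun k hk =>
    Subgroup.mem_subgroupOf.1 (Subgroup.normalCore_le _ hk)
  obtain ⟨n₀, hn₀N, hn₀⟩ := Cfsg.Agent.S1053.result (F := F) D hD
  have hn₀G : n₀ ∈ D.group F := monomial_le_group hD F hn₀N
  have hHN := Cfsg.Agent.S1038.result (F := F) D hD
  have hBV := (Cfsg.Agent.S1037.result (F := F) D hD).2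
  obtain ⟨hHU, hUH⟩ := Cfsg.Agent.S1036.result (F := F) D hD
  -- conjugation by `n₀` maps `B` into `VH`
  have hconjB : ∀ b ∈ D.borelSubgroup F, n₀ * b * n₀⁻¹ ∈ D.negUnipotent F ⊔ D.diagonalSubgroup F := by
    have hle : (D.borelSubgroup F) ≤
        (D.negUnipotent F ⊔ D.diagonalSubgroup F).comap (MulAut.conj n₀).toMonoidHom := by
      refine sup_le ?_ ?_
      · rw [← Subgroup.map_le_iff_le_comap, hn₀]
        exact le_sup_left
      · intro h hh
        rw [Subgroup.mem_comap]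
        refine (le_sup_right : D.diagonalSubgroup F ≤ _) ?_
        have hhN : h ∈ D.monomialSubgroup F := diagonal_le_monomial D F hh
        have := hHN.conj_mem ⟨h, hhN⟩ (Subgroup.mem_subgroupOf.2 hh) ⟨n₀, hn₀N⟩
        exact Subgroup.mem_subgroupOf.1 this
    intro b hb
    exact hle hb
  -- `K ≤ H`
  have hKH : ∀ k ∈ K, (k : GL D.Idx F) ∈ D.diagonalSubgroup F := by
    intro k hk
    have hk' := hKn.conj_mem k hk ⟨n₀⁻¹, inv_mem hn₀G⟩
    have h1 := hKB _ hk'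
    have h2 := hconjB _ h1
    have h3 : n₀ * ((⟨n₀⁻¹, inv_mem hn₀G⟩ * k * (⟨n₀⁻¹, inv_mem hn₀G⟩ : D.group F)⁻¹ : D.group F) : GL D.Idx F)
        * n₀⁻¹ = (k : GL D.Idx F) := by
      show n₀ * (n₀⁻¹ * (k : GL D.Idx F) * (n₀⁻¹)⁻¹) * n₀⁻¹ = (k : GL D.Idx F)
      group
    rw [h3] at h2
    rw [← hBV]
    exact ⟨hKB k hk, h2⟩
  -- `K` centralises `U`
  have hKU : ∀ k ∈ K, ∀ u ∈ D.posUnipotent F, (k : GL D.Idx F) * u = u * k := by
    intro k hk u hu
    have huG : u ∈ D.group F := posUnipotent_le_group hD F hu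
    have h1 : (k : GL D.Idx F) * u * (k : GL D.Idx F)⁻¹ ∈ D.posUnipotent F :=
      (Subgroup.mem_normalizer_iff.1 (hHU (hKH k hk)) u).1 hu
    have h2 : (k : GL D.Idx F) * u * (k : GL D.Idx F)⁻¹ * u⁻¹ ∈ D.posUnipotent F :=
      mul_mem h1 (inv_mem hu)
    have h3 : k * (⟨u, huG⟩ * k⁻¹ * (⟨u, huG⟩ : D.group F)⁻¹) ∈ K :=
      mul_mem hk (hKn.conj_mem _ (inv_mem hk) _)
    have h4 := hKH _ h3
    have h5 : ((k * (⟨u, huG⟩ * k⁻¹ * (⟨u, huG⟩ : D.group F)⁻¹) : D.group F) : GL D.Idx F) =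
        (k : GL D.Idx F) * u * (k : GL D.Idx F)⁻¹ * u⁻¹ := by
      show (k : GL D.Idx F) * (u * (k : GL D.Idx F)⁻¹ * u⁻¹) = _
      group
    rw [h5] at h4
    have h6 : (k : GL D.Idx F) * u * (k : GL D.Idx F)⁻¹ * u⁻¹ ∈ D.posUnipotent F ⊓ D.diagonalSubgroup F :=
      ⟨h2, h4⟩
    rw [hUH, Subgroup.mem_bot] at h6
    calc (k : GL D.Idx F) * u
        = ((k : GL D.Idx F) * u * (k : GL D.Idx F)⁻¹ * u⁻¹) * (u * k) := by group
      _ = u * k := by rw [h6, one_mul]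
  -- `K` centralises `V`
  have hKV : ∀ k ∈ K, ∀ v ∈ D.negUnipotent F, (k : GL D.Idx F) * v = v * k := by
    intro k hk v hv
    rw [← hn₀] at hv
    obtain ⟨u, hu, rfl⟩ := hv
    have hk' := hKn.conj_mem k hk ⟨n₀⁻¹, inv_mem hn₀G⟩
    have h1 := hKU _ hk' u hu
    have h2 : (n₀⁻¹ * (k : GL D.Idx F) * (n₀⁻¹)⁻¹) * u = u * (n₀⁻¹ * (k : GL D.Idx F) * (n₀⁻¹)⁻¹) := h1
    show (k : GL D.Idx F) * (n₀ * u * n₀⁻¹) = n₀ * u * n₀⁻¹ * (k : GL D.Idx F)
    calc (k : GL D.Idx F) * (n₀ * u * n₀⁻¹)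
        = n₀ * ((n₀⁻¹ * (k : GL D.Idx F) * (n₀⁻¹)⁻¹) * u) * n₀⁻¹ := by group
      _ = n₀ * (u * (n₀⁻¹ * (k : GL D.Idx F) * (n₀⁻¹)⁻¹)) * n₀⁻¹ := by rw [h2]
      _ = n₀ * u * n₀⁻¹ * (k : GL D.Idx F) := by group
  rw [eq_bot_iff]
  intro k hk
  rw [Subgroup.mem_bot]
  apply Subtype.ext
  obtain ⟨χ, -, hχ⟩ := HDiag.exists_dmat D hD (k : GL D.Idx F) (hKH k hk)
  refine eq_one_of_commute hD (k : GL D.Idx F) χ hχ ?_
  intro r hr
  rcases CorootGcd.isPosRoot_or_isNegRoot hD hr with h | h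
  · exact hKU k hk _ (xG_mem_posUnipotent hD h 1)
  · exact hKV k hk _ (xG_mem_negUnipotent hD h 1)

end Cfsg.Agent.S1051
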