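import Cfsg.Statements.S1077
-- import your own Cfsg.Agent.* helpers here
import Cfsg.Agent.ChevalleyStructure.StTheta
import Cfsg.Agent.ChevalleyStructure.StPres
import Cfsg.Agent.S0312
import Cfsg.Agent.S1042
import Cfsg.Agent.S1051
import Cfsg.Agent.S1097

set_option autoImplicit false
open Cfsg

namespace Cfsg.Agent.S1077

open Cfsg.Lie Cfsg.Agent.ChevalleyStructure Cfsg.Agent.ChevalleyStructure.Elts
  Cfsg.Agent.ChevalleyStructure.StTheta

/-- The centre of the Chevalley group is trivial: it lies in the normaliser `B` of `B`, hence in the core of `B`. -/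
theorem center_group_eq_bot {K : Type*} [Field K] {D : ChevalleyDatum} (hD : InList D) :
    Subgroup.center ↥(D.group K) = ⊥ := by
  obtain ⟨P, hPB, -, -⟩ := Cfsg.Agent.S1042.result (F := K) D hD
  have hcore := Cfsg.Agent.S1051.result (F := K) D hD
  rw [← hPB] at hcore
  have hself := Cfsg.Agent.S0312.result P (J := ∅) (Set.empty_subset _)
  have hpar : P.parabolic ∅ = P.B := by
    show P.B ⊔ Subgroup.closure ∅ = P.B
    rw [Subgroup.closure_empty, sup_bot_eq]
  rw [hpar] at hself
  have hle : Subgroup.center ↥(D.group K) ≤ P.B := by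
    have h1 : Subgroup.center ↥(D.group K) ≤ Subgroup.normalizer (P.B : Set ↥(D.group K)) := by
      intro z hz
      rw [Subgroup.mem_normalizer_iff]
      intro b
      have h2 : z * b * z⁻¹ = b := by
        rw [← Subgroup.mem_center_iff.1 hz b, mul_inv_cancel_right]
      rw [h2]
    rw [hself] at h1
    exact h1
  have h3 : Subgroup.center ↥(D.group K) ≤ P.B.normalCore := Subgroup.normal_le_normalCore.2 hle
  rw [hcore] at h3
  exact le_bot_iff.1 h3

/-- An element of `H̄` acts on each root subgroup by a scalar. -/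
theorem exists_scalar {K : Type*} [Field K] {D : ChevalleyDatum} (hD : InList D) {g : D.SteinbergGroup K}
    (hg : g ∈ Subgroup.closure {h | ∃ (i : ℕ) (t : K), i < D.rank ∧ t ≠ 0 ∧
      h = PresentedGroup.mk (D.steinbergRels K) (D.stH (D.simple i) t)}) {s : ℕ} (hs : s < D.nroots) :
    ∃ a : K, a ≠ 0 ∧ ∀ t : K, g * D.stGen K s t * g⁻¹ = D.stGen K s (a * t) := by
  induction hg using Subgroup.closure_induction with
  | one => exact ⟨1, one_ne_zero, fun t => by rw [one_mul, one_mul, inv_one, mul_one]⟩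
  | mem x hx =>
    obtain ⟨i, c, hi, hc, rfl⟩ := hx
    refine ⟨c ^ (D.cartan i s), zpow_ne_zero _ hc, fun t => ?_⟩
    rw [StPres.h_conj hD (thetaGL hD K) (fun r t _ => by rw [thetaGL_stGen, coe_xG]) i s hi hs c hc t,
      mul_inv_cancel_right]
  | mul x y _ _ ihx ihy =>
    obtain ⟨a, ha, hx⟩ := ihx
    obtain ⟨b, hb, hy⟩ := ihy
    refine ⟨a * b, mul_ne_zero ha hb, fun t => ?_⟩
    have e : x * y * D.stGen K s t * (x * y)⁻¹ = x * (y * D.stGen K s t * y⁻¹) * x⁻¹ := by group
    rw [e, hy t, hx (b * t), mul_assoc]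
  | inv x _ ih =>
    obtain ⟨a, ha, hx⟩ := ih
    refine ⟨a⁻¹, inv_ne_zero ha, fun t => ?_⟩
    have h := hx (a⁻¹ * t)
    rw [mul_inv_cancel_left₀ ha] at h
    rw [← h]; group

/-- Steinberg's Theorem: there is a homomorphism `x̄_r(t) ↦ x_r(t)` from the presented group onto the Chevalley group whose kernel is precisely the centre; hence `L(K) ≅ Ḡ/Z(Ḡ)`. -/
theorem result {K : Type*} [Field K] (D : Cfsg.Lie.ChevalleyDatum) (hD : D ∈ [Cfsg.Lie.chevG2, Cfsg.Lie.chevB2, Cfsg.Lie.chevD4, Cfsg.Lie.chevF4, Cfsg.Lie.chevE6, Cfsg.Lie.chevE7, Cfsg.Lie.chevE8]) :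
    ∃ θ : D.SteinbergGroup K →* ↥(D.group K), Function.Surjective θ ∧ θ.ker = Subgroup.center (D.SteinbergGroup K) ∧
      ∀ (r : ℕ) (t : K), r < D.nroots → ((θ (D.stGen K r t) : GL D.Idx K) : Matrix D.Idx D.Idx K) = D.x K r t := by
  have hθ : ∀ (r : ℕ) (t : K), r < D.nroots →
      ((theta hD K (D.stGen K r t) : GL D.Idx K) : Matrix D.Idx D.Idx K) = D.x K r t :=
    fun r t _ => theta_stGen hD r t
  refine ⟨theta hD K, theta_surjective hD, ?_, hθ⟩
  apply le_antisymm
  · intro g hg
    have hgH := Cfsg.Agent.S1097.result D hD (theta hD K) hθ hg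
    have hg1 : thetaGL hD K g = 1 := by
      rw [← coe_theta, MonoidHom.mem_ker.1 hg]; rfl
    rw [Subgroup.mem_center_iff]
    have hcent : ∀ x : D.SteinbergGroup K, x ∈ Subgroup.centralizer {g} := by
      apply St.Rels.mem_of_gens
      intro s hs t
      obtain ⟨a, -, ha⟩ := exists_scalar hD hgH hs
      have h1 := congrArg (thetaGL hD K) (ha t)
      rw [map_mul, map_mul, map_inv, hg1, one_mul, inv_one, mul_one, thetaGL_stGen, thetaGL_stGen] at h1
      have h2 : t = a * t := xG_injective hD hs h1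
      have h3 := ha t
      rw [← h2] at h3
      rw [Subgroup.mem_centralizer_singleton_iff]
      rw [mul_inv_eq_iff_eq_mul] at h3
      exact h3.symm
    intro x
    exact Subgroup.mem_centralizer_singleton_iff.1 (hcent x)
  · intro z hz
    rw [MonoidHom.mem_ker, ← Subgroup.mem_bot, ← center_group_eq_bot hD, Subgroup.mem_center_iff]
    intro y
    obtain ⟨x, rfl⟩ := theta_surjective hD y
    rw [← map_mul, ← map_mul, Subgroup.mem_center_iff.1 hz x]

end Cfsg.Agent.S1077
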