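import Cfsg.Statements.S1090
import Cfsg.Agent.ChevalleyStructure.F4TwUCard
import Cfsg.Agent.ChevalleyStructure.F4Fixed

set_option autoImplicit false
open Cfsg

namespace Cfsg.Agent.S1090

open Cfsg.Lie Cfsg.Agent.ChevalleyStructure.F4TwU Cfsg.Agent.ChevalleyStructure.F4TwUCard
open Cfsg.Agent.ChevalleyStructure.F4Fixed

theorem facts : ∀ r ∈ longPos, ∃ k : Fin 4, Odd' r k.val ∧ barF4 k.val < 4 ∧ sF4 k.val = false ∧
    sF4 (4 + (47 - r)) = false ∧ 4 ≤ barF4 (4 + (47 - r)) ∧ grd (barF4 (4 + (47 - r)) - 4) ≠ 0 := by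
  decide +kernel

/-- |U¹| = |G¹ ∩ U| = (2 ^ (2 * m + 1)) ^ 12 for ²F₄(2^(2m+1)). -/
theorem result {K : Type*} [Field K] [Fintype K] {m : ℕ} (hK : Fintype.card K = 2 ^ (2 * m + 1)) :
    Nat.card ↥(Cfsg.Lie.chevF4.posUnipotent K ⊓ Cfsg.Lie.twistedF4 K (2 ^ m)) = (2 ^ (2 * m + 1)) ^ 12 := by
  have hc : CharP K 2 := charP_two hK
  rw [← hK]
  apply le_antisymm
  · refine card_le _ inf_le_left ?_
    rintro g ⟨_, hg⟩ hgr r hr hn
    obtain ⟨h1, h2⟩ := twistedF4_fix hK hg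
    obtain ⟨k, hk, f1, f2, f3, f4, f5⟩ := facts r hr
    refine ⟨k, hk, ?_⟩
    have e1 : S (bar (Sum.inl k)) = true := by rw [S_bar]; show (!(sF4 k.val)) = true; rw [f2]; rfl
    have e2 : S (bar (Sum.inr ⟨47 - r, hn⟩)) = true := by
      rw [S_bar]
      show (!(sF4 (4 + (47 - r)))) = true
      rw [f3]; rfl
    have e3 := h2 _ _ e1 e2
    rw [bar_bar, bar_bar] at e3
    have e4 : (g : Matrix chevF4.Idx chevF4.Idx K) (bar (Sum.inl k)) (bar (Sum.inr ⟨47 - r, hn⟩)) = 0 := by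
      apply hgr
      show (0 : ℕ) ≠ grd (barF4 (4 + (47 - r)) - 4)
      exact fun h => f5 h.symm
    rw [e4] at e3
    exact pow_eq_zero_iff (by positivity) |>.1 e3.symm
  · exact card_ge (n1_mem _) (n2_mem (by positivity))

end Cfsg.Agent.S1090
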