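import Cfsg.Statements.S0320
import Cfsg.Agent.LieExceptional.BNPairCore
import Cfsg.Agent.LieExceptional.CoxeterExchange

set_option autoImplicit false
open Cfsg

namespace Cfsg.Agent.S0320

open Cfsg.Agent.LieExceptional.BNPairCore Cfsg.Agent.LieExceptional.CoxeterExchange

section

variable {G : Type*} [Group G] (P : Cfsg.BNPair G)

/-- the element of `N` given by a word -/
def wN (ω : List P.S) : P.N :=
  ⟨(ω.map Subtype.val).prod, prod_mem_N (by
    intro s hs
    obtain ⟨t, _, rfl⟩ := List.mem_map.1 hs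
    exact t.2)⟩

theorem wN_cons (b : P.S) (ω : List P.S) :
    wN P (b :: ω) = ⟨(b : G), P.subset b.2⟩ * wN P ω := by
  apply Subtype.ext
  simp [wN]

variable [hN : ((P.B ⊓ P.N).subgroupOf P.N).Normal]

theorem mk_eq_iff (a b : P.N) :
    (QuotientGroup.mk a : P.N ⧸ (P.B ⊓ P.N).subgroupOf P.N) = QuotientGroup.mk b ↔
      (a : G)⁻¹ * b ∈ P.B := by
  rw [QuotientGroup.eq, Subgroup.mem_subgroupOf]
  constructor
  · intro h; exact h.1
  · intro h; exact ⟨h, (a⁻¹ * b).2⟩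

/-- the distinguished involutions -/
def sg (s : P.S) : P.N ⧸ (P.B ⊓ P.N).subgroupOf P.N :=
  QuotientGroup.mk (⟨(s : G), P.subset s.2⟩ : P.N)

theorem wp_sg (ω : List P.S) : wp (sg P) ω = QuotientGroup.mk (wN P ω) := by
  induction ω with
  | nil => rfl
  | cons b ω ih => rw [wp_cons, ih, wN_cons, QuotientGroup.mk_mul]; rfl

theorem lift_word (l : List G) (hl : ∀ s ∈ l, s ∈ P.S) :
    ∃ ω : List P.S, ω.map Subtype.val = l := by
  refine ⟨l.attachWith (· ∈ P.S) hl, ?_⟩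
  simp

theorem length_le_of_isRed {ω : List P.S} (h : IsRed (sg P) ω) :
    ω.length ≤ len P ((wN P ω : P.N) : G) := by
  obtain ⟨l, hlen, hl, hrel⟩ := exists_reduced (P := P) (wN P ω).2
  obtain ⟨ω', rfl⟩ := lift_word P l hl
  rw [← hlen, List.length_map]
  apply h
  rw [wp_sg, wp_sg, mk_eq_iff]
  exact hrel

theorem len_le_of_wp_eq {ω ω' : List P.S} (h : wp (sg P) ω' = wp (sg P) ω) :
    len P ((wN P ω : P.N) : G) ≤ ω'.length := by
  rw [wp_sg, wp_sg, mk_eq_iff] at h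
  have := len_le (P := P) (n := ((wN P ω : P.N) : G)) (l := ω'.map Subtype.val) (by
    intro s hs
    obtain ⟨t, _, rfl⟩ := List.mem_map.1 hs
    exact t.2) h
  simpa using this

theorem exchange_sg : Exchange (sg P) := by
  intro b ω hred hnred
  have h1 : len P ((b : G) * (ω.map Subtype.val).prod) ≤ len P (ω.map Subtype.val).prod := by
    have h2 := length_le_of_isRed P hred
    unfold IsRed at hnred
    push Not at hnred
    obtain ⟨ω', h3, h4⟩ := hnred
    have h5 := len_le_of_wp_eq P h3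
    have h6 : ((wN P (b :: ω) : P.N) : G) = (b : G) * (ω.map Subtype.val).prod := by
      rw [wN_cons]; rfl
    rw [h6] at h5
    rw [List.length_cons] at h4
    have h7 : ((wN P ω : P.N) : G) = (ω.map Subtype.val).prod := rfl
    rw [h7] at h2
    omega
  obtain ⟨l₁, a, l₂, h2, h3⟩ := exchange (P := P) b.2 (ω.map Subtype.val) (by
    intro s hs
    obtain ⟨t, _, rfl⟩ := List.mem_map.1 hs
    exact t.2) h1
  obtain ⟨ω₁, ω₂', rfl, rfl, h5⟩ := List.map_eq_append_iff.1 h2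
  obtain ⟨a', ω₂, rfl, rfl, rfl⟩ := List.map_eq_cons_iff.1 h5
  refine ⟨ω₁, a', ω₂, rfl, ?_⟩
  rw [wp_sg]
  show (QuotientGroup.mk (⟨(b : G), P.subset b.2⟩ * wN P ω₁) :
    P.N ⧸ (P.B ⊓ P.N).subgroupOf P.N) = QuotientGroup.mk (wN P ω₁ * ⟨(a' : G), P.subset a'.2⟩)
  rw [mk_eq_iff]
  exact h3

end

/-- The Weyl group `W = N / (B ⊓ N)` of a (B,N)-pair, with its distinguished involutions, is a Coxeter system. -/
theorem result {G : Type*} [Group G] (P : Cfsg.BNPair G)
    [hN : ((P.B ⊓ P.N).subgroupOf P.N).Normal] :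
    ∃ (M : CoxeterMatrix P.S) (cs : CoxeterSystem M (P.N ⧸ (P.B ⊓ P.N).subgroupOf P.N)),
      ∀ s : P.S, cs.simple s = QuotientGroup.mk (⟨(s : G), P.subset s.2⟩ : P.N) := by
  have hsq : ∀ s : P.S, sg P s * sg P s = 1 := by
    intro s
    show (QuotientGroup.mk ((⟨(s : G), P.subset s.2⟩ : P.N) * ⟨(s : G), P.subset s.2⟩) :
      P.N ⧸ (P.B ⊓ P.N).subgroupOf P.N) = QuotientGroup.mk 1
    rw [mk_eq_iff]
    have := inv_mem (P.sq_mem s s.2)
    simpa using this
  have hinj : Function.Injective (sg P) := by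
    intro s t h
    have h1 := (mk_eq_iff P _ _).1 h
    exact Subtype.ext (P.inj s s.2 t t.2 h1)
  obtain ⟨cs, hcs⟩ := exists_coxeterSystem hsq hinj (exchange_sg P) (by
    intro w
    obtain ⟨n, rfl⟩ := QuotientGroup.mk_surjective w
    obtain ⟨l, hl, hrel⟩ := exists_word (P := P) n.2
    obtain ⟨ω, rfl⟩ := lift_word P l hl
    refine ⟨ω, ?_⟩
    rw [wp_sg, mk_eq_iff]
    exact hrel)
  exact ⟨_, cs, hcs⟩

end Cfsg.Agent.S0320
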