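import Cfsg.Statements.S1142
import Cfsg.Agent.LieRecognition.FeitHigmanGroup
import Cfsg.Agent.LieRecognition.FeitHigmanLin

set_option autoImplicit false
open Cfsg

namespace Cfsg.Agent.S1142

open Cfsg.Agent.LieRecognition

theorem alt_toLin {ι : Type*} [Fintype ι] [DecidableEq ι] : ∀ (k : ℕ) (A B : Matrix ι ι ℝ),
    FeitHigmanLin.alt (Matrix.toLinAlgEquiv' A) (Matrix.toLinAlgEquiv' B) k =
      Matrix.toLinAlgEquiv' (FeitHigmanGroup.alt k A B)
  | 0, A, B => (map_one (Matrix.toLinAlgEquiv' (R := ℝ) (n := ι))).symm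
  | k + 1, A, B => by
    rw [FeitHigmanLin.alt_succ, alt_toLin k B A, ← map_mul]
    rfl

/-- Feit–Higman: if a finite group has a (B,N)-pair of rank 2, its Weyl group `N/(B ⊓ N)` has order 4, 6, 8, 12 or 16. -/
theorem result {G : Type*} [Group G] [Finite G] (P : Cfsg.BNPair G)
    (h2 : P.rank = 2) :
    ((P.B ⊓ P.N).subgroupOf P.N).index ∈ ({4, 6, 8, 12, 16} : Set ℕ) := by
  classical
  have := Fintype.ofFinite (G ⧸ P.B)
  obtain ⟨n, q₁, q₂, S, T, hq₁, hq₂, hn, hS, hT, hbr, htr, hidx⟩ :=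
    FeitHigmanGroup.exists_hecke (P := P) h2
  have key := FeitHigmanLin.feit_higman_linear (V := (G ⧸ P.B) → ℝ)
    (Matrix.toLinAlgEquiv' S) (Matrix.toLinAlgEquiv' T) (q₁ : ℚ) (q₂ : ℚ)
    (by exact_mod_cast hq₁) (by exact_mod_cast hq₂) n hn
    (by
      rw [← map_mul, hS, map_add, map_smul, map_smul, map_one]
      simp)
    (by
      rw [← map_mul, hT, map_add, map_smul, map_smul, map_one]
      simp)
    (by rw [alt_toLin, alt_toLin, hbr])
    (by
      intro k hk1 hk2
      rw [alt_toLin, alt_toLin]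
      have h := htr k hk1 hk2
      constructor
      · rw [← h.1]; exact Matrix.trace_toLin'_eq _
      · rw [← h.2]; exact Matrix.trace_toLin'_eq _)
  rw [hidx]
  simp only [Set.mem_insert_iff, Set.mem_singleton_iff]
  omega

end Cfsg.Agent.S1142
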