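import Cfsg.Statements.S1314
import Mathlib
-- import your own Cfsg.Agent.* helpers here

set_option autoImplicit false
open Cfsg

namespace Cfsg.Agent.S1314

open scoped commutatorElement

/-- Let x be an involution of a group G and L a perfect subgroup with ⁅L, x L x⁻¹⁆ = 1. Then l ↦ l (x l x⁻¹) is a group homomorphism π from L to G whose kernel is central in L and whose image lies in C_G(x); and the commutator subgroup of C_{L ⊔ xLx⁻¹}(x) equals the image of π. -/
theorem result {G : Type*} [Group G] [Finite G] (x : G) (hx : orderOf x = 2) (L : Subgroup G) (hperf : ⁅L, L⁆ = L) (hcomm : ⁅L, L.map (MulAut.conj x).toMonoidHom⁆ = ⊥) : ∃ π : ↥L →* G, (∀ l : ↥L, π l = (l : G) * (x * (l : G) * x⁻¹)) ∧ π.ker ≤ Subgroup.center ↥L ∧ π.range ≤ Subgroup.centralizer ({x} : Set G) ∧ ⁅(L ⊔ L.map (MulAut.conj x).toMonoidHom) ⊓ Subgroup.centralizer ({x} : Set G), (L ⊔ L.map (MulAut.conj x).toMonoidHom) ⊓ Subgroup.centralizer ({x} : Set G)⁆ = π.range := by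
  have hxx : x * x = 1 := by
    have := pow_orderOf_eq_one x
    rw [hx] at this
    rwa [pow_two] at this
  have hxi : x⁻¹ = x := inv_eq_of_mul_eq_one_left hxx
  -- commutation
  have hc : ∀ a ∈ L, ∀ b ∈ L, a * (x * b * x⁻¹) = (x * b * x⁻¹) * a := by
    intro a ha b hb
    have h1 : ⁅a, x * b * x⁻¹⁆ ∈ (⊥ : Subgroup G) := by
      rw [← hcomm]
      refine Subgroup.commutator_mem_commutator ha ?_
      exact ⟨b, hb, by simp⟩
    rw [Subgroup.mem_bot, commutatorElement_eq_one_iff_mul_comm] at h1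
    exact h1
  let π : ↥L →* G :=
    { toFun := fun l => (l : G) * (x * (l : G) * x⁻¹)
      map_one' := by simp
      map_mul' := by
        intro a b
        have h := hc b b.2 a a.2
        calc ((a * b : ↥L) : G) * (x * ((a * b : ↥L) : G) * x⁻¹)
            = (a : G) * ((b : G) * (x * (a : G) * x⁻¹)) * (x * (b : G) * x⁻¹) := by
              simp only [Subgroup.coe_mul]; group
          _ = (a : G) * ((x * (a : G) * x⁻¹) * (b : G)) * (x * (b : G) * x⁻¹) := by rw [h]
          _ = _ := by simp only [mul_assoc] }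
  have hπ : ∀ l : ↥L, π l = (l : G) * (x * (l : G) * x⁻¹) := fun l => rfl
  refine ⟨π, hπ, ?_, ?_, ?_⟩
  · intro l hl
    rw [MonoidHom.mem_ker, hπ] at hl
    rw [Subgroup.mem_center_iff]
    intro g
    apply Subtype.ext
    simp only [Subgroup.coe_mul]
    have h1 : (l : G) = x * ((l : G)⁻¹) * x⁻¹ := by
      have := eq_inv_of_mul_eq_one_left hl
      exact this.trans (by group)
    rw [h1]
    exact hc g g.2 _ (L.inv_mem l.2)
  · rintro _ ⟨l, rfl⟩
    rw [Subgroup.mem_centralizer_singleton_iff, hπ]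
    have h := hc l l.2 l l.2
    rw [hxi] at h ⊢
    calc (l : G) * (x * (l : G) * x) * x = (l : G) * (x * (l : G)) * (x * x) := by
            simp only [mul_assoc]
      _ = (x * x) * (l : G) * (x * (l : G)) := by rw [hxx]; simp
      _ = x * (x * (l : G) * x * (l : G)) := by simp only [mul_assoc]
      _ = x * ((l : G) * (x * (l : G) * x)) := by rw [← h]
  · have hsub : π.range ≤ (L ⊔ L.map (MulAut.conj x).toMonoidHom) ⊓ Subgroup.centralizer ({x} : Set G) := by
      rintro _ ⟨l, rfl⟩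
      refine ⟨?_, ?_⟩
      · rw [hπ]
        refine mul_mem (Subgroup.mem_sup_left l.2) (Subgroup.mem_sup_right ⟨l, l.2, by simp⟩)
      · show π l ∈ Subgroup.centralizer ({x} : Set G)
        rw [Subgroup.mem_centralizer_singleton_iff, hπ]
        have h := hc l l.2 l l.2
        rw [hxi] at h ⊢
        calc (l : G) * (x * (l : G) * x) * x = (l : G) * (x * (l : G)) * (x * x) := by
                simp only [mul_assoc]
          _ = (x * x) * (l : G) * (x * (l : G)) := by rw [hxx]; simp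
          _ = x * (x * (l : G) * x * (l : G)) := by simp only [mul_assoc]
          _ = x * ((l : G) * (x * (l : G) * x)) := by rw [← h]
    apply le_antisymm
    · -- every element of the centralizer is z * π b
      have hnorm : ∀ c ∈ L ⊔ L.map (MulAut.conj x).toMonoidHom, ∃ a ∈ L, ∃ b ∈ L, c = a * (x * b * x⁻¹) := by
        intro c hcm
        rw [Subgroup.sup_eq_closure] at hcm
        induction hcm using Subgroup.closure_induction with
        | mem c hc' =>
          rcases hc' with hc' | hc'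
          · exact ⟨c, hc', 1, L.one_mem, by simp⟩
          · obtain ⟨b, hb, rfl⟩ := hc'
            exact ⟨1, L.one_mem, b, hb, by simp⟩
        | one => exact ⟨1, L.one_mem, 1, L.one_mem, by simp⟩
        | inv c _ h1 =>
          obtain ⟨a, ha, b, hb, rfl⟩ := h1
          refine ⟨a⁻¹, inv_mem ha, b⁻¹, inv_mem hb, ?_⟩
          have h := hc a⁻¹ (inv_mem ha) b⁻¹ (inv_mem hb)
          rw [h]
          group
        | mul c d _ _ h1 h2 =>
          obtain ⟨a, ha, b, hb, rfl⟩ := h1
          obtain ⟨a', ha', b', hb', rfl⟩ := h2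
          refine ⟨a * a', mul_mem ha ha', b * b', mul_mem hb hb', ?_⟩
          have h := hc a' ha' b hb
          calc a * (x * b * x⁻¹) * (a' * (x * b' * x⁻¹))
              = a * ((x * b * x⁻¹) * a') * (x * b' * x⁻¹) := by simp only [mul_assoc]
            _ = a * (a' * (x * b * x⁻¹)) * (x * b' * x⁻¹) := by rw [h]
            _ = a * a' * (x * (b * b') * x⁻¹) := by group
      have key : ∀ c ∈ (L ⊔ L.map (MulAut.conj x).toMonoidHom) ⊓ Subgroup.centralizer ({x} : Set G),
          ∃ b : ↥L, ∃ z ∈ L, (∃ w ∈ L, z = x * w * x⁻¹) ∧ c = z * π b := by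
        intro c hcm
        obtain ⟨hc1, hc2⟩ := hcm
        obtain ⟨a, ha, b, hb, rfl⟩ := hnorm c hc1
        have hc2' : a * (x * b * x⁻¹) ∈ Subgroup.centralizer ({x} : Set G) := hc2
        rw [Subgroup.mem_centralizer_singleton_iff] at hc2'
        -- a * b^x * x = x * a * b^x
        have h3 : b * (x * a * x⁻¹) = a * (x * b * x⁻¹) := by
          have h4 := hc b hb a ha
          rw [h4]
          rw [hxi] at hc2' ⊢
          calc (x * a * x) * b = (x * a * (x * b * x)) * x := by
                  simp only [mul_assoc]; rw [hxx]; simp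
            _ = (x * (a * (x * b * x))) * x := by simp only [mul_assoc]
            _ = (a * (x * b * x) * x) * x := by rw [hc2']
            _ = a * (x * b * x) := by simp only [mul_assoc]; rw [hxx]; simp
        have h5 : b⁻¹ * a = x * (a * b⁻¹) * x⁻¹ := by
          have : b⁻¹ * (b * (x * a * x⁻¹)) * (x * b * x⁻¹)⁻¹ = b⁻¹ * (a * (x * b * x⁻¹)) * (x * b * x⁻¹)⁻¹ := by
            rw [h3]
          calc b⁻¹ * a = b⁻¹ * (a * (x * b * x⁻¹)) * (x * b * x⁻¹)⁻¹ := by group
            _ = b⁻¹ * (b * (x * a * x⁻¹)) * (x * b * x⁻¹)⁻¹ := this.symm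
            _ = x * (a * b⁻¹) * x⁻¹ := by group
        refine ⟨⟨b, hb⟩, b⁻¹ * a, mul_mem (inv_mem hb) ha, ⟨a * b⁻¹, mul_mem ha (inv_mem hb), h5⟩, ?_⟩
        rw [hπ]
        have h6 := hc b hb (a * b⁻¹) (mul_mem ha (inv_mem hb))
        rw [← h5] at h6
        calc a * (x * b * x⁻¹) = (b * (b⁻¹ * a)) * (x * b * x⁻¹) := by group
          _ = (b⁻¹ * a * b) * (x * b * x⁻¹) := by rw [h6]
          _ = b⁻¹ * a * (b * (x * b * x⁻¹)) := by simp only [mul_assoc]
      rw [Subgroup.commutator_le]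
      intro c₁ h₁ c₂ h₂
      obtain ⟨b₁, z₁, hz₁, ⟨w₁, hw₁, e₁⟩, rfl⟩ := key c₁ h₁
      obtain ⟨b₂, z₂, hz₂, ⟨w₂, hw₂, e₂⟩, rfl⟩ := key c₂ h₂
      -- z central
      have hzc : ∀ z ∈ L, (∃ w ∈ L, z = x * w * x⁻¹) → ∀ b : ↥L, z * π b = π b * z := by
        intro z hz ⟨w, hw, e⟩ b
        rw [hπ]
        have e1 := hc b b.2 w hw
        rw [← e] at e1
        have e2 := hc z hz b b.2
        calc z * ((b : G) * (x * (b : G) * x⁻¹)) = (z * (b : G)) * (x * (b : G) * x⁻¹) := by
              simp only [mul_assoc]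
          _ = (b : G) * (z * (x * (b : G) * x⁻¹)) := by rw [← e1]; simp only [mul_assoc]
          _ = (b : G) * (x * (b : G) * x⁻¹ * z) := by rw [e2]
          _ = (b : G) * (x * (b : G) * x⁻¹) * z := by simp only [mul_assoc]
      have hzz : z₁ * z₂ = z₂ * z₁ := by
        have := hc z₁ hz₁ w₂ hw₂
        rw [← e₂] at this
        exact this
      have c11 := hzc z₁ hz₁ ⟨w₁, hw₁, e₁⟩ b₁
      have c12 := hzc z₁ hz₁ ⟨w₁, hw₁, e₁⟩ b₂
      have c21 := hzc z₂ hz₂ ⟨w₂, hw₂, e₂⟩ b₁
      have c22 := hzc z₂ hz₂ ⟨w₂, hw₂, e₂⟩ b₂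
      have key2 : ⁅z₁ * π b₁, z₂ * π b₂⁆ = ⁅π b₁, π b₂⁆ := by
        have h1 : (z₁ * π b₁) * (z₂ * π b₂) = (z₁ * z₂) * (π b₁ * π b₂) := by
          calc (z₁ * π b₁) * (z₂ * π b₂) = z₁ * (π b₁ * z₂) * π b₂ := by simp only [mul_assoc]
            _ = z₁ * (z₂ * π b₁) * π b₂ := by rw [c21]
            _ = _ := by simp only [mul_assoc]
        have h2 : (z₂ * π b₂) * (z₁ * π b₁) = (z₂ * z₁) * (π b₂ * π b₁) := by
          calc (z₂ * π b₂) * (z₁ * π b₁) = z₂ * (π b₂ * z₁) * π b₁ := by simp only [mul_assoc]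
            _ = z₂ * (z₁ * π b₂) * π b₁ := by rw [c12]
            _ = _ := by simp only [mul_assoc]
        have h3 : ⁅z₁ * π b₁, z₂ * π b₂⁆ = ((z₁ * π b₁) * (z₂ * π b₂)) * ((z₂ * π b₂) * (z₁ * π b₁))⁻¹ := by
          rw [commutatorElement_def]; group
        rw [h3, h1, h2, ← hzz, commutatorElement_def]
        have h4 : (z₁ * z₂) * (π b₁ * π b₂) = (π b₁ * π b₂) * (z₁ * z₂) := by
          calc (z₁ * z₂) * (π b₁ * π b₂) = z₁ * (z₂ * π b₁) * π b₂ := by simp only [mul_assoc]
            _ = (z₁ * π b₁) * (z₂ * π b₂) := by rw [c21]; simp only [mul_assoc]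
            _ = (π b₁ * z₁) * (π b₂ * z₂) := by rw [c11, c22]
            _ = π b₁ * (z₁ * π b₂) * z₂ := by simp only [mul_assoc]
            _ = π b₁ * (π b₂ * z₁) * z₂ := by rw [c12]
            _ = _ := by simp only [mul_assoc]
        have h5 : (z₁ * z₂) * (π b₂ * π b₁) = (π b₂ * π b₁) * (z₁ * z₂) := by
          calc (z₁ * z₂) * (π b₂ * π b₁) = z₁ * (z₂ * π b₂) * π b₁ := by simp only [mul_assoc]
            _ = (z₁ * π b₂) * (z₂ * π b₁) := by rw [c22]; simp only [mul_assoc]
            _ = (π b₂ * z₁) * (π b₁ * z₂) := by rw [c12, c21]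
            _ = π b₂ * (z₁ * π b₁) * z₂ := by simp only [mul_assoc]
            _ = π b₂ * (π b₁ * z₁) * z₂ := by rw [c11]
            _ = _ := by simp only [mul_assoc]
        rw [h4, h5]
        group
      rw [key2]
      exact ⟨⁅b₁, b₂⁆, by rw [map_commutatorElement]⟩
    · have hr : π.range = ⁅π.range, π.range⁆ := by
        have h1 : (⁅(⊤ : Subgroup ↥L), (⊤ : Subgroup ↥L)⁆).map L.subtype = L := by
          rw [Subgroup.map_commutator]
          have : (⊤ : Subgroup ↥L).map L.subtype = L := by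
            rw [← MonoidHom.range_eq_map, Subgroup.range_subtype]
          rw [this, hperf]
        have h2 : ⁅(⊤ : Subgroup ↥L), (⊤ : Subgroup ↥L)⁆ = ⊤ := by
          apply Subgroup.map_injective L.subtype_injective
          rw [h1, ← MonoidHom.range_eq_map, Subgroup.range_subtype]
        rw [MonoidHom.range_eq_map, ← Subgroup.map_commutator, h2]
      rw [hr]
      exact Subgroup.commutator_mono hsub hsub

end Cfsg.Agent.S1314
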