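import Cfsg.Statements.S1315
import Cfsg.Agent.SignalizersComponents.IntrinsicFinal
-- import your own Cfsg.Agent.* helpers here

set_option autoImplicit false
open Cfsg

namespace Cfsg.Agent.S1315

open Cfsg.Agent.SignalizersComponents Cfsg.Agent.SignalizersComponents.IntrinsicBasic
  Cfsg.Agent.SignalizersComponents.IntrinsicIntr Cfsg.Agent.SignalizersComponents.IntrinsicFinal

/-- The centre of a group isomorphic to `SL(2, F)` has at most one nontrivial element. -/
theorem center_of_equiv {A F : Type*} [Group A] [Field F]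
    (e : A ≃* Matrix.SpecialLinearGroup (Fin 2) F) :
    ∀ a b : A, a ∈ Subgroup.center A → b ∈ Subgroup.center A → a ≠ 1 → b ≠ 1 → a = b := by
  intro a b ha hb ha1 hb1
  have key : ∀ a : A, a ∈ Subgroup.center A → e a ∈ Subgroup.center _ := by
    intro a ha
    rw [Subgroup.mem_center_iff] at ha ⊢
    intro g
    obtain ⟨g, rfl⟩ := e.surjective g
    rw [← map_mul, ha g, map_mul]
  apply e.injective
  exact center_sl2 _ _ (key a ha) (key b hb) (fun h => ha1 (e.injective (h.trans (map_one e).symm)))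
    (fun h => hb1 (e.injective (h.trans (map_one e).symm)))

/-- Let G be finite and J ≠ K subgroups, each containing exactly one involution, z(J) resp. z(K), each a 2-component of the centralizer of its involution, with J / O(J) and K / O(K) both isomorphic to SL(2, F) for one finite field F of odd order, or both non-split double covers of A7. Then (i) every 2-element of K of order at least 4 centralizing z(J) normalizes J; (ii) if z(J) normalizes K then z(K) normalizes J. -/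
theorem result {G : Type*} [Group G] [Finite G] (J K : Subgroup G) (hJK : J ≠ K) (zJ zK : G) (hzJ : zJ ∈ J ∧ orderOf zJ = 2 ∧ ∀ t ∈ J, orderOf t = 2 → t = zJ) (hzK : zK ∈ K ∧ orderOf zK = 2 ∧ ∀ t ∈ K, orderOf t = 2 → t = zK) (hJ : J ≤ Subgroup.centralizer ({zJ} : Set G) ∧ Cfsg.IsPComponent 2 (J.subgroupOf (Subgroup.centralizer ({zJ} : Set G)))) (hK : K ≤ Subgroup.centralizer ({zK} : Set G) ∧ Cfsg.IsPComponent 2 (K.subgroupOf (Subgroup.centralizer ({zK} : Set G)))) (htype : (∃ (F : Type) (_ : Field F) (_ : Fintype F), Odd (Fintype.card F) ∧ Nonempty (↥J ⧸ Cfsg.oddCore ↥J ≃* Matrix.SpecialLinearGroup (Fin 2) F) ∧ Nonempty (↥K ⧸ Cfsg.oddCore ↥K ≃* Matrix.SpecialLinearGroup (Fin 2) F)) ∨ (Cfsg.IsNonsplitDoubleCover (↥J ⧸ Cfsg.oddCore ↥J) ↥(alternatingGroup (Fin 7)) ∧ Cfsg.IsNonsplitDoubleCover (↥K ⧸ Cfsg.oddCore ↥K) ↥(alternatingGroup (Fin 7)))) : (∀ y ∈ K, IsPGroup 2 ↥(Subgroup.zpowers y) → 4 ≤ orderOf y → y * zJ = zJ * y → y ∈ Subgroup.normalizer (J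 : Set G)) ∧ (zJ ∈ Subgroup.normalizer (K : Set G) → zK ∈ Subgroup.normalizer (J : Set G)) := by
  have hkey : Intr zJ J ∧ Intr zK K ∧
      (Subgroup.center (↥J ⧸ oddCore ↥J)).index = (Subgroup.center (↥K ⧸ oddCore ↥K)).index := by
    rcases htype with ⟨F, _, _, -, ⟨e₁⟩, ⟨e₂⟩⟩ | ⟨h₁, h₂⟩
    · exact ⟨intr_of hzJ hJ (center_of_equiv e₁), intr_of hzK hK (center_of_equiv e₂),
        index_center_congr (e₁.trans e₂.symm)⟩
    · refine ⟨intr_of hzJ hJ (center_eq_of_card h₁.1), intr_of hzK hK (center_eq_of_card h₂.1), ?_⟩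
      obtain ⟨e₁⟩ := h₁.2.1
      obtain ⟨e₂⟩ := h₂.2.1
      exact Nat.card_congr (e₁.trans e₂.symm).toEquiv
  obtain ⟨hiJ, hiK, hidx⟩ := hkey
  refine ⟨?_, ?_⟩
  · intro y hy hy2 hy4 hyz
    obtain ⟨n, hn⟩ := (IsPGroup.iff_card (p := 2)).mp hy2
    rw [Nat.card_zpowers] at hn
    rw [mem_normalizer_iff_cj]
    refine IntrinsicPartI.part_i hiJ hiK hJK hy hyz (n := n) ?_ hn
    by_contra hlt
    have h1 : n = 0 ∨ n = 1 := by omega
    rcases h1 with rfl | rfl <;> omega
  · intro hz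
    rw [mem_normalizer_iff_cj] at hz ⊢
    refine IntrinsicPartII.part_ii hiJ hiK ?_ hJK hz
    rw [relIndex_eq hiJ.tc, relIndex_eq hiK.tc, hidx]

end Cfsg.Agent.S1315
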