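import Cfsg.Statements.S1603
import Cfsg.Agent.S0384
import Cfsg.Agent.SporadicStructure.M11InvMain
import Cfsg.Agent.SporadicStructure.DodecadM12

set_option autoImplicit false
open scoped Pointwise
open Cfsg

namespace Cfsg.Agent.S1603

/-- five distinct points of a dodecad -/
theorem exists_five (d : Finset Cfsg.GolayPt) (hd : d ∈ Cfsg.dodecads) :
    ∃ a : Fin 5 → Cfsg.GolayPt, Function.Injective a ∧ ∀ i, a i ∈ d := by
  have h5 : 5 ≤ d.card := by rw [hd.2]; norm_num
  obtain ⟨t, hts, ht⟩ := Finset.exists_subset_card_eq h5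
  let e := t.equivFin.symm
  refine ⟨fun i => (e (Fin.cast ht.symm i) : Cfsg.GolayPt), ?_, fun i => hts (e _).2⟩
  intro i j h
  have := e.injective (Subtype.ext h)
  simpa using this

theorem transDod : Cfsg.Agent.SporadicStructure.M11InvMain.TransDod := by
  intro d d' hd hd'
  obtain ⟨a, ha, had⟩ := exists_five d hd
  obtain ⟨b, hb, hbd⟩ := exists_five d' hd'
  obtain ⟨g, ⟨hg, hgd, -⟩, -⟩ :=
    Cfsg.Agent.SporadicStructure.DodecadM12.exists_unique_dodecad_map d d' hd hd' a b ha hb had hbd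
  exact ⟨⟨g, hg⟩, hgd⟩

/-- Involution centralisers in the smallest Mathieu group are isomorphic to GL(2, 3). -/
theorem result (d : Finset Cfsg.GolayPt) (hd : d ∈ Cfsg.dodecads) (p : Cfsg.GolayPt) (hp : p ∈ d) (x : ↥(MulAction.stabilizer Cfsg.M24 d ⊓ MulAction.stabilizer Cfsg.M24 p)) (hx : orderOf x = 2) : Nonempty (↥(Subgroup.centralizer ({x} : Set ↥(MulAction.stabilizer Cfsg.M24 d ⊓ MulAction.stabilizer Cfsg.M24 p))) ≃* GL (Fin 2) (ZMod 3)) := by
  exact Cfsg.Agent.SporadicStructure.M11InvMain.main Cfsg.Agent.S0384.result transDod d hd p hp x hx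

end Cfsg.Agent.S1603
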