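import Cfsg.Statements.S0387
import Cfsg.Agent.S0384

set_option autoImplicit false
open scoped Pointwise
open Cfsg

namespace Cfsg.Agent.S0387

/-- Sharp 5-transitivity on the 12 points of a dodecad gives the order of a point stabiliser. -/
theorem card_of_sharp (d : Finset Cfsg.GolayPt) (hcard : d.card = 12) (p : Cfsg.GolayPt) (hp : p ∈ d)
    (hsharp : ∀ x y : Fin 5 ↪ Cfsg.GolayPt, (∀ i, x i ∈ d) → (∀ i, y i ∈ d) →
      ∃! g : MulAction.stabilizer Cfsg.M24 d,
        ∀ i, ((g : Cfsg.M24) : Equiv.Perm Cfsg.GolayPt) (x i) = y i) :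
    Nat.card ↥(MulAction.stabilizer Cfsg.M24 d ⊓ MulAction.stabilizer Cfsg.M24 p) = 7920 := by
  classical
  -- elements of the stabiliser of `d` preserve `d`
  have hmem : ∀ g : Cfsg.M24, g ∈ MulAction.stabilizer Cfsg.M24 d → ∀ q ∈ d,
      (g : Equiv.Perm Cfsg.GolayPt) q ∈ d := by
    intro g hg q hq
    have h1 : g • d = d := hg
    have h2 : g • q ∈ g • d := Finset.smul_mem_smul_finset hq
    rw [h1] at h2
    exact h2
  have hE : (d.erase p).card = 11 := by rw [Finset.card_erase_of_mem hp, hcard]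
  -- an embedding `Fin 4 ↪ d \ {p}`
  obtain ⟨x⟩ : Nonempty (Fin 4 ↪ {q // q ∈ d.erase p}) := by
    apply Function.Embedding.nonempty_of_card_le
    rw [Fintype.card_fin, Fintype.card_coe, hE]; norm_num
  -- extension of embeddings by `p`
  let ext : (Fin 4 ↪ {q // q ∈ d.erase p}) → (Fin 5 ↪ Cfsg.GolayPt) := fun y =>
    ⟨Fin.cons p (fun i => (y i : Cfsg.GolayPt)), by
      rw [Fin.cons_injective_iff]
      refine ⟨?_, ?_⟩
      · rintro ⟨i, hi⟩
        exact (Finset.mem_erase.mp (y i).2).1 hi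
      · exact Subtype.val_injective.comp y.injective⟩
  have ext_mem : ∀ y i, ext y i ∈ d := by
    intro y i
    refine Fin.cases ?_ (fun j => ?_) i
    · exact hp
    · exact (Finset.mem_erase.mp (y j).2).2
  have ext_zero : ∀ y, ext y 0 = p := fun y => rfl
  have ext_succ : ∀ y j, ext y (Fin.succ j) = (y j : Cfsg.GolayPt) := fun y j => rfl
  -- the map
  let F : ↥(MulAction.stabilizer Cfsg.M24 d ⊓ MulAction.stabilizer Cfsg.M24 p) →
      (Fin 4 ↪ {q // q ∈ d.erase p}) := fun g =>
    ⟨fun i => ⟨((g : Cfsg.M24) : Equiv.Perm Cfsg.GolayPt) (x i), by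
      have hg := g.2
      rw [Subgroup.mem_inf] at hg
      rw [Finset.mem_erase]
      refine ⟨?_, hmem _ hg.1 _ (Finset.mem_erase.mp (x i).2).2⟩
      intro h
      have hgp : ((g : Cfsg.M24) : Equiv.Perm Cfsg.GolayPt) p = p := hg.2
      have := ((g : Cfsg.M24) : Equiv.Perm Cfsg.GolayPt).injective (h.trans hgp.symm)
      exact (Finset.mem_erase.mp (x i).2).1 this⟩, by
      intro i j hij
      have := congrArg Subtype.val hij
      exact x.injective (Subtype.ext (((g : Cfsg.M24) : Equiv.Perm Cfsg.GolayPt).injective this))⟩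
  have hF : ∀ g i, ((F g i : {q // q ∈ d.erase p}) : Cfsg.GolayPt)
      = ((g : Cfsg.M24) : Equiv.Perm Cfsg.GolayPt) (x i) := fun g i => rfl
  have hbij : Function.Bijective F := by
    constructor
    · intro g g' hgg
      obtain ⟨k, -, hk⟩ := hsharp (ext x) (ext (F g)) (ext_mem _) (ext_mem _)
      have hg := g.2
      have hg' := g'.2
      rw [Subgroup.mem_inf] at hg hg'
      have h1 : (⟨(g : Cfsg.M24), hg.1⟩ : MulAction.stabilizer Cfsg.M24 d) = k := by
        apply hk
        intro i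
        refine Fin.cases ?_ (fun j => ?_) i
        · exact hg.2
        · rfl
      have h2 : (⟨(g' : Cfsg.M24), hg'.1⟩ : MulAction.stabilizer Cfsg.M24 d) = k := by
        apply hk
        intro i
        refine Fin.cases ?_ (fun j => ?_) i
        · exact hg'.2
        · change ((g' : Cfsg.M24) : Equiv.Perm Cfsg.GolayPt) (x j) = (F g j : Cfsg.GolayPt)
          rw [hgg]
          rfl
      have h3 : (g : Cfsg.M24) = (g' : Cfsg.M24) :=
        congrArg (fun z : MulAction.stabilizer Cfsg.M24 d => (z : Cfsg.M24)) (h1.trans h2.symm)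
      exact Subtype.ext h3
    · intro y
      obtain ⟨k, hk, -⟩ := hsharp (ext x) (ext y) (ext_mem _) (ext_mem _)
      refine ⟨⟨(k : Cfsg.M24), ?_⟩, ?_⟩
      · rw [Subgroup.mem_inf]
        exact ⟨k.2, hk 0⟩
      · apply Function.Embedding.ext
        intro i
        apply Subtype.ext
        exact hk (Fin.succ i)
  rw [Nat.card_congr (Equiv.ofBijective F hbij), Nat.card_eq_fintype_card,
    Fintype.card_embedding_eq, Fintype.card_coe, hE, Fintype.card_fin]
  rfl

/-- The stabiliser of a dodecad and a point on it has order 7920 = 2^4·3^2·5·11. -/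
theorem result (d : Finset Cfsg.GolayPt) (hd : d ∈ Cfsg.dodecads) (p : Cfsg.GolayPt) (hp : p ∈ d) : Nat.card ↥(MulAction.stabilizer Cfsg.M24 d ⊓ MulAction.stabilizer Cfsg.M24 p) = 7920 := by
  exact card_of_sharp d hd.2 p hp (fun x y hx hy => Cfsg.Agent.S0384.result d hd x y hx hy)

end Cfsg.Agent.S0387
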