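import Cfsg.Statements.S0418
import Cfsg.Agent.SporadicA.SimpleCrit
import Cfsg.Agent.SporadicA.PrimeDegNorm

set_option autoImplicit false
open Cfsg

namespace Cfsg.Agent.S0418

/-- A sharply 4-transitive group of degree 11 is simple of order 7920. -/
theorem result {α : Type*} [Fintype α] [DecidableEq α] (hα : Fintype.card α = 11) (G : Subgroup (Equiv.Perm α)) [MulAction.IsMultiplyPretransitive G α 4] (hsharp : ∀ x : Fin 4 ↪ α, MulAction.stabilizer G x = ⊥) : Cfsg.IsM11 G := by
  classical
  have hΩ : Nat.card α = 11 := by rw [Nat.card_eq_fintype_card, hα]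
  have : Fact (Nat.Prime 11) := ⟨by norm_num⟩
  have hne : Nonempty α := by
    rw [← Finite.card_pos_iff, hΩ]
    norm_num
  have hcard : Nat.card G = 7920 := by
    rw [Cfsg.Agent.SporadicA.PrimeDegNorm.card_of_sharply (Ω := α) 4 (by rw [hΩ]; norm_num)
      inferInstance hsharp, hΩ]
    rfl
  have h2 : MulAction.IsMultiplyPretransitive G α 2 :=
    MulAction.isMultiplyPretransitive_of_le (n := 4) (by norm_num)
      (by rw [hΩ]; norm_num)
  have hprim : MulAction.IsPreprimitive G α :=
    MulAction.isPreprimitive_of_is_two_pretransitive h2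
  obtain ⟨P⟩ : Nonempty (Sylow 11 G) := inferInstance
  have hP : Nat.card P = 11 := by
    rw [P.card_eq_multiplicity, hcard]
    have : (7920 : ℕ).factorization 11 = 1 := by
      rw [show (7920 : ℕ) = 11 ^ 1 * 720 by norm_num,
        Nat.factorization_mul (by norm_num) (by norm_num), Nat.Prime.factorization_pow (by norm_num)]
      simp [Nat.factorization_eq_zero_of_not_dvd]
    rw [this, pow_one]
  have hdvd : Nat.card (Subgroup.normalizer (P : Set G)) ∣ 110 :=
    Cfsg.Agent.SporadicA.PrimeDegNorm.card_normalizer_dvd (Ω := α) (p := 11) hΩ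
      (P : Subgroup G) hP
  have hindex : Nat.card (Sylow 11 G) = (Subgroup.normalizer (P : Set G)).index :=
    P.card_eq_index_normalizer
  have hmod : Nat.card (Sylow 11 G) ≡ 1 [MOD 11] := card_sylow_modEq_one 11 G
  have hmul : Nat.card (Subgroup.normalizer (P : Set G)) *
      (Subgroup.normalizer (P : Set G)).index = 7920 := by
    rw [Subgroup.card_mul_index, hcard]
  have hN : Nat.card (Subgroup.normalizer (P : Set G)) = 11 * 5 := by
    rw [← hindex] at hmul
    generalize Nat.card (Subgroup.normalizer (P : Set G)) = n at hdvd hmul ⊢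
    generalize Nat.card (Sylow 11 G) = m at hmod hmul
    have hn : n ∈ Nat.divisors 110 := Nat.mem_divisors.2 ⟨hdvd, by norm_num⟩
    have hn' : n ∈ ({1, 2, 5, 10, 11, 22, 55, 110} : Finset ℕ) := by
      have : Nat.divisors 110 = {1, 2, 5, 10, 11, 22, 55, 110} := by decide +kernel
      rwa [this] at hn
    unfold Nat.ModEq at hmod
    simp only [Finset.mem_insert, Finset.mem_singleton] at hn'
    rcases hn' with h | h | h | h | h | h | h | h <;> subst h <;> omega
  exact ⟨Cfsg.Agent.SporadicA.SimpleCrit.isSimpleGroup_of_primitive (Ω := α) hprim 11 5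
    (by norm_num) (by rw [hΩ]) P hP hN (by rw [hcard]; norm_num), hcard⟩

end Cfsg.Agent.S0418
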