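import Cfsg.Statements.S0388
import Cfsg.Agent.S0384
import Cfsg.Agent.S0418

set_option autoImplicit false
open scoped Pointwise
open Cfsg

namespace Cfsg.Agent.S0388

theorem mem_iff {d : Finset Cfsg.GolayPt} {g : Cfsg.M24} (hg : g ∈ MulAction.stabilizer Cfsg.M24 d)
    (x : Cfsg.GolayPt) : (g : Equiv.Perm Cfsg.GolayPt) x ∈ d ↔ x ∈ d := by
  have h : (g : Equiv.Perm Cfsg.GolayPt) • d = d := hg
  have h2 := Finset.smul_mem_smul_finset_iff (s := d) (b := x) (g : Equiv.Perm Cfsg.GolayPt)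
  rw [h] at h2
  exact h2

theorem mem_erase_iff {d : Finset Cfsg.GolayPt} {p : Cfsg.GolayPt} {g : Cfsg.M24}
    (hg : g ∈ MulAction.stabilizer Cfsg.M24 d ⊓ MulAction.stabilizer Cfsg.M24 p)
    (x : Cfsg.GolayPt) : (g : Equiv.Perm Cfsg.GolayPt) x ∈ d.erase p ↔ x ∈ d.erase p := by
  have hp : (g : Equiv.Perm Cfsg.GolayPt) p = p := hg.2
  rw [Finset.mem_erase, Finset.mem_erase, mem_iff hg.1]
  constructor
  · rintro ⟨h1, h2⟩
    refine ⟨fun h => h1 ?_, h2⟩
    rw [h, hp]
  · rintro ⟨h1, h2⟩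
    refine ⟨fun h => h1 ?_, h2⟩
    exact (g : Equiv.Perm Cfsg.GolayPt).injective (h.trans hp.symm)

/-- The action of the stabiliser of `d` and `p` on the points of `d` other than `p`. -/
def act (d : Finset Cfsg.GolayPt) (p : Cfsg.GolayPt) :
    ↥(MulAction.stabilizer Cfsg.M24 d ⊓ MulAction.stabilizer Cfsg.M24 p) →*
      Equiv.Perm {q : Cfsg.GolayPt // q ∈ d.erase p} where
  toFun g := Equiv.Perm.subtypePerm ((g : Cfsg.M24) : Equiv.Perm Cfsg.GolayPt) (mem_erase_iff g.2)
  map_one' := rfl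
  map_mul' _ _ := rfl

/-- The stabiliser of a dodecad and a point on it is simple. -/
theorem result (d : Finset Cfsg.GolayPt) (hd : d ∈ Cfsg.dodecads) (p : Cfsg.GolayPt) (hp : p ∈ d) : IsSimpleGroup ↥(MulAction.stabilizer Cfsg.M24 d ⊓ MulAction.stabilizer Cfsg.M24 p) := by
  classical
  have hcard : Fintype.card {q : Cfsg.GolayPt // q ∈ d.erase p} = 11 := by
    rw [Fintype.card_coe, Finset.card_erase_of_mem hp, hd.2]
  have key : ∀ x y : Fin 4 ↪ {q : Cfsg.GolayPt // q ∈ d.erase p},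
      ∃! g : ↥(MulAction.stabilizer Cfsg.M24 d ⊓ MulAction.stabilizer Cfsg.M24 p),
        ∀ i, act d p g (x i) = y i := by
    intro x y
    -- extension of embeddings by `p`
    let ext : (Fin 4 ↪ {q // q ∈ d.erase p}) → (Fin 5 ↪ Cfsg.GolayPt) := fun y =>
      ⟨Fin.cons p (fun i => (y i : Cfsg.GolayPt)), by
        rw [Fin.cons_injective_iff]
        refine ⟨?_, Subtype.val_injective.comp y.injective⟩
        rintro ⟨i, hi⟩
        exact (Finset.mem_erase.mp (y i).2).1 hi⟩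
    have ext_mem : ∀ y i, ext y i ∈ d := by
      intro y i
      refine Fin.cases hp (fun j => (Finset.mem_erase.mp (y j).2).2) i
    obtain ⟨g, hg, hu⟩ := Cfsg.Agent.S0384.result d hd (ext x) (ext y) (ext_mem x) (ext_mem y)
    refine ⟨⟨(g : Cfsg.M24), g.2, hg 0⟩, fun i => Subtype.ext (hg i.succ), fun g' hg' => ?_⟩
    have := hu ⟨(g' : Cfsg.M24), g'.2.1⟩ (fun i => by
      refine Fin.cases ?_ (fun j => ?_) i
      · exact g'.2.2
      · exact congrArg Subtype.val (hg' j))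
    exact Subtype.ext (congrArg (fun z : MulAction.stabilizer Cfsg.M24 d => (z : Cfsg.M24)) this)
  obtain ⟨x₀⟩ : Nonempty (Fin 4 ↪ {q : Cfsg.GolayPt // q ∈ d.erase p}) := by
    apply Function.Embedding.nonempty_of_card_le
    rw [hcard]; simp
  have hinj : Function.Injective (act d p) := by
    rw [injective_iff_map_eq_one]
    intro g hg
    obtain ⟨g', _, hu⟩ := key x₀ x₀
    rw [hu g fun i => by rw [hg]; rfl, hu 1 fun i => by rw [map_one]; rfl]
  let G : Subgroup (Equiv.Perm {q : Cfsg.GolayPt // q ∈ d.erase p}) := (act d p).range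
  have hG : MulAction.IsMultiplyPretransitive G {q : Cfsg.GolayPt // q ∈ d.erase p} 4 := by
    refine ⟨fun x y => ?_⟩
    obtain ⟨g, hg, _⟩ := key x y
    refine ⟨⟨act d p g, g, rfl⟩, ?_⟩
    exact DFunLike.ext _ _ hg
  have hsharp : ∀ x : Fin 4 ↪ {q : Cfsg.GolayPt // q ∈ d.erase p},
      MulAction.stabilizer G x = ⊥ := by
    intro x
    rw [eq_bot_iff]
    rintro ⟨_, g, rfl⟩ hg
    rw [Subgroup.mem_bot]
    obtain ⟨g', _, hu⟩ := key x x
    have h1 : ∀ i, act d p g (x i) = x i := by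
      intro i
      have := DFunLike.congr_fun (MulAction.mem_stabilizer_iff.1 hg) i
      exact this
    have h2 : g = 1 := by
      rw [hu g h1, hu 1 fun i => by rw [map_one]; rfl]
    apply Subtype.ext
    show act d p g = 1
    rw [h2, map_one]
  have hM := Cfsg.Agent.S0418.result hcard G hsharp
  have e : ↥(MulAction.stabilizer Cfsg.M24 d ⊓ MulAction.stabilizer Cfsg.M24 p) ≃* G :=
    MonoidHom.ofInjective hinj
  have := hM.1
  exact e.isSimpleGroup

end Cfsg.Agent.S0388
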