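import Cfsg.Statements.S0370
import Cfsg.Agent.SporadicA.M24Mem

set_option autoImplicit false
open Cfsg

namespace Cfsg.Agent.S0370

/-- The permutation x ↦ x + 1 of the residues modulo 23, fixing the extra point, lies in the group of the length-24 code. -/
theorem result : Equiv.optionCongr (Equiv.addRight (1 : ZMod 23)) ∈ Cfsg.M24 := by
  open Cfsg.Agent.SporadicA.M24Mem in
  have : Fact (Nat.Prime 23) := ⟨by norm_num⟩
  refine mem_M24_of_qrWord _ fun t => ?_
  have h := qrWord_comp_affine (Equiv.optionCongr (Equiv.addRight (1 : ZMod 23))) 1 1 one_ne_zero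
    rfl (fun x => by simp) (t - 1)
  have e : (1 : ZMod 23) ^ 2 * (t - 1) + 1 = t := by ring
  rw [e] at h
  rw [h]
  exact qrWord_mem_golayCode _

end Cfsg.Agent.S0370
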