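import Cfsg.Statements.S0371
import Cfsg.Agent.SporadicA.M24Mem

set_option autoImplicit false
open Cfsg

namespace Cfsg.Agent.S0371

/-- Multiplication by a nonzero square residue modulo 23, fixing the extra point, lies in the group of the length-24 code. -/
theorem result (u : (ZMod 23)ˣ) (hu : IsSquare u) : Equiv.optionCongr (Units.mulLeft u) ∈ Cfsg.M24 := by
  open Cfsg.Agent.SporadicA.M24Mem in
  obtain ⟨s, rfl⟩ := hu
  have : Fact (Nat.Prime 23) := ⟨by norm_num⟩
  refine mem_M24_of_qrWord _ fun t => ?_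
  have h := qrWord_comp_affine (Equiv.optionCongr (Units.mulLeft (s * s))) (s : ZMod 23) 0 s.ne_zero
    rfl (fun x => by simp [pow_two]) (((s⁻¹ : (ZMod 23)ˣ) : ZMod 23) ^ 2 * t)
  have e : (s : ZMod 23) ^ 2 * (((s⁻¹ : (ZMod 23)ˣ) : ZMod 23) ^ 2 * t) + 0 = t := by
    rw [← mul_assoc, ← mul_pow, Units.mul_inv]
    ring
  rw [e] at h
  rw [h]
  exact qrWord_mem_golayCode _

end Cfsg.Agent.S0371
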