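import Cfsg.Statements.S1303
import Mathlib.GroupTheory.Sylow
import Mathlib.Data.Fintype.Pi
import Mathlib.LinearAlgebra.Matrix.Notation
-- import your own Cfsg.Agent.* helpers here

set_option autoImplicit false
open Cfsg

namespace Cfsg.Agent.S1303

abbrev G23 := Matrix.SpecialLinearGroup (Fin 2) (ZMod 3)

theorem A1 : ∀ t : G23, t * t = 1 → ∀ g : G23, g * t = t * g := by
  decide +kernel

theorem A2 : ∀ x y : G23, (x * x) * (x * x) = 1 → (y * y) * (y * y) = 1 →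
    ((x*y) * (x*y)) * ((x*y) * (x*y)) = 1 := by
  decide +kernel

theorem A3 : ∀ x : G23, (∀ y : G23, (y * y) * (y * y) = 1 → x * y = y * x) →
    (x * x) * (x * x) = 1  := by
  decide +kernel

theorem A4 : ∀ x : G23, (x * x) * (x * x) = 1 ∨
    ∃ g : G23, ((x * (g * x⁻¹ * g⁻¹)) * (x * (g * x⁻¹ * g⁻¹))) *
      ((x * (g * x⁻¹ * g⁻¹)) * (x * (g * x⁻¹ * g⁻¹))) = 1 ∧ x * (g * x⁻¹ * g⁻¹) ≠ 1 := by
  decide +kernel

theorem pow4 (x : G23) : x ^ 4 = (x * x) * (x * x) := by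
  rw [show (4 : ℕ) = 2 + 2 from rfl, pow_add, pow_two]

theorem eq_one_of_pow4 {N : Subgroup G23} (hN : (Nat.card N).Coprime 2) {y : G23}
    (hy : y ∈ N) (h4 : y ^ 4 = 1) : y = 1 := by
  have h1 : orderOf y ∣ Nat.card N := by
    have := orderOf_dvd_natCard (⟨y, hy⟩ : N)
    rwa [Subgroup.orderOf_mk] at this
  have h2 : orderOf y ∣ 4 := orderOf_dvd_of_pow_eq_one h4
  have h3 : (Nat.card N).Coprime 4 := by
    have := Nat.Coprime.pow_right 2 hN
    exact this
  have h5 : orderOf y ∣ 1 := by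
    rw [← h3.gcd_eq_one]
    exact Nat.dvd_gcd h1 h2
  exact orderOf_eq_one_iff.mp (Nat.dvd_one.mp h5)

theorem core_bot : Cfsg.pPrimeCore 2 G23 = ⊥ := by
  unfold Cfsg.pPrimeCore
  rw [sSup_eq_bot]
  rintro N ⟨hNn, hNc⟩
  rw [eq_bot_iff]
  intro x hx
  rw [Subgroup.mem_bot]
  rcases A4 x with h | ⟨g, h, hne⟩
  · exact eq_one_of_pow4 hNc hx (by rw [pow4]; exact h)
  · exfalso
    apply hne
    refine eq_one_of_pow4 hNc ?_ (by rw [pow4]; exact h)
    exact N.mul_mem hx (hNn.conj_mem _ (N.inv_mem hx) g)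

/-- The quaternion subgroup: all elements with fourth power one. -/
def Q8 : Subgroup G23 where
  carrier := {x | x ^ 4 = 1}
  one_mem' := one_pow 4
  mul_mem' := by
    intro x y hx hy
    have hx' : (x * x) * (x * x) = 1 := (pow4 x).symm.trans hx
    have hy' : (y * y) * (y * y) = 1 := (pow4 y).symm.trans hy
    exact (pow4 (x * y)).trans (A2 x y hx' hy')
  inv_mem' := by
    intro x hx
    have hx' : x ^ 4 = 1 := hx
    show x⁻¹ ^ 4 = 1
    rw [inv_pow, hx', inv_one]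

theorem mem_Q8 {x : G23} : x ∈ Q8 ↔ x ^ 4 = 1 := Iff.rfl

theorem Q8_normal : Q8.Normal := by
  refine ⟨fun x hx g => ?_⟩
  rw [mem_Q8] at hx ⊢
  rw [conj_pow, hx, mul_one, mul_inv_cancel]

theorem Q8_pGroup : IsPGroup 2 Q8 := by
  intro x
  refine ⟨2, ?_⟩
  apply Subtype.ext
  exact x.2

theorem Q8_le : Q8 ≤ Cfsg.pPrimePCore 2 G23 := by
  unfold Cfsg.pPrimePCore
  rw [← Subgroup.map_le_iff_le_comap]
  unfold Cfsg.pCore
  apply le_sSup
  refine ⟨?_, ?_⟩
  · have := Q8_normal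
    exact Subgroup.Normal.map this _ (QuotientGroup.mk'_surjective _)
  · exact Q8_pGroup.map _

theorem constrained : Cfsg.IsPConstrained 2 G23 := by
  have : Fact (Nat.Prime 2) := ⟨Nat.prime_two⟩
  intro P x hx
  have := Q8_normal
  have hN : IsPGroup 2 (Q8.subgroupOf (Cfsg.pPrimePCore 2 G23)) :=
    Q8_pGroup.comap_subtype
  have hsup : IsPGroup 2
      ((P : Subgroup (Cfsg.pPrimePCore 2 G23)) ⊔ (Q8.subgroupOf (Cfsg.pPrimePCore 2 G23)) :
        Subgroup (Cfsg.pPrimePCore 2 G23)) :=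
    IsPGroup.to_sup_of_normal_right P.isPGroup' hN
  have heq := P.is_maximal' hsup le_sup_left
  have hle : Q8.subgroupOf (Cfsg.pPrimePCore 2 G23) ≤ (P : Subgroup (Cfsg.pPrimePCore 2 G23)) := by
    rw [← heq]
    exact le_sup_right
  apply Q8_le
  rw [mem_Q8, pow4]
  apply A3
  intro y hy
  have hyQ : y ∈ Q8 := by
    rw [mem_Q8, pow4]; exact hy
  have hyP : y ∈ (((P : Subgroup ↥(Cfsg.pPrimePCore 2 G23)).map
      (Cfsg.pPrimePCore 2 G23).subtype : Subgroup G23) : Set G23) := by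
    refine ⟨⟨y, Q8_le hyQ⟩, hle ?_, rfl⟩
    rw [Subgroup.mem_subgroupOf]
    exact hyQ
  exact (Subgroup.mem_centralizer_iff.mp hx y hyP).symm

/-- A transvection. -/
def tv : G23 := ⟨!![1, 1; 0, 1], by decide +kernel⟩

theorem tv_order : orderOf tv = 3 := by
  have : Fact (Nat.Prime 3) := ⟨Nat.prime_three⟩
  apply orderOf_eq_prime
  · have h : tv * tv * tv = 1 := by decide +kernel
    rw [pow_succ, pow_two]
    exact h
  · decide +kernel

/-- The group X = SL(2, 3): it is 2-constrained, O_{2'}(X) = 1, its centre A = Z(X) contains every involution of X = C_X(A), and X has a subgroup of order 3 (normalized by A) not contained in O_{2'}(X). -/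
theorem result : Cfsg.IsPConstrained 2 (Matrix.SpecialLinearGroup (Fin 2) (ZMod 3)) ∧ Cfsg.pPrimeCore 2 (Matrix.SpecialLinearGroup (Fin 2) (ZMod 3)) = ⊥ ∧ (∀ t : Matrix.SpecialLinearGroup (Fin 2) (ZMod 3), orderOf t = 2 → t ∈ Subgroup.center (Matrix.SpecialLinearGroup (Fin 2) (ZMod 3))) ∧ ∃ Q : Subgroup (Matrix.SpecialLinearGroup (Fin 2) (ZMod 3)), Nat.card ↥Q = 3 ∧ ¬ (Q ≤ Cfsg.pPrimeCore 2 (Matrix.SpecialLinearGroup (Fin 2) (ZMod 3))) := by
  refine ⟨constrained, core_bot, ?_, Subgroup.zpowers tv, ?_, ?_⟩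
  · intro t ht
    rw [Subgroup.mem_center_iff]
    apply A1
    rw [← pow_two]
    exact orderOf_dvd_iff_pow_eq_one.mp (dvd_of_eq ht)
  · rw [Nat.card_zpowers]
    exact tv_order
  · intro hle
    rw [core_bot] at hle
    have h1 : tv = 1 := Subgroup.mem_bot.mp (hle (Subgroup.mem_zpowers tv))
    have h2 := tv_order
    rw [h1, orderOf_one] at h2
    exact absurd h2 (by decide)

end Cfsg.Agent.S1303
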