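import Cfsg.Statements.S0261
import Cfsg.Agent.LieClassical.SLTwoQuaternion

set_option autoImplicit false
open Cfsg

namespace Cfsg.Agent.S0261

/-- In a finite field of odd order `-1` is a sum of two squares. -/
theorem exists_sq_add_sq {F : Type*} [Field F] [Fintype F] (hF : Odd (Fintype.card F)) :
    ∃ x y : F, x ^ 2 + y ^ 2 = -1 := by
  have h := FiniteField.exists_root_sum_quadratic (R := F) (f := Polynomial.X ^ 2)
    (g := Polynomial.X ^ 2 - Polynomial.C (-1)) (Polynomial.degree_X_pow 2)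
    (Polynomial.degree_X_pow_sub_C (by decide) _) (Nat.odd_iff.mp hF)
  obtain ⟨a, b, hab⟩ := h
  refine ⟨a, b, ?_⟩
  simp only [Polynomial.eval_pow, Polynomial.eval_X, Polynomial.eval_sub, Polynomial.eval_C] at hab
  linear_combination hab

/-- For q odd, the Sylow 2-subgroups of SL_2(q) are generalised quaternion. -/
theorem result {F : Type*} [Field F] [Fintype F] (hF : Odd (Fintype.card F)) (P : Sylow 2 (Matrix.SpecialLinearGroup (Fin 2) F)) : ∃ k : ℕ, 1 ≤ k ∧ Nonempty ((P : Subgroup (Matrix.SpecialLinearGroup (Fin 2) F)) ≃* QuaternionGroup (2 ^ k)) := by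
  classical
  obtain ⟨p, hchar⟩ := CharP.exists F
  have hpp : p.Prime := (CharP.char_is_prime_or_zero F p).resolve_right (CharP.char_ne_zero_of_finite F p)
  haveI : Fact p.Prime := ⟨hpp⟩
  have hp2 : p ≠ 2 := by
    rintro rfl
    obtain ⟨n, -, hn⟩ := FiniteField.card F 2
    rw [hn] at hF
    have : Even (2 ^ (n : ℕ)) := (Nat.even_pow.mpr ⟨even_two, n.pos.ne'⟩)
    exact (Nat.not_even_iff_odd.mpr hF) this
  have h2 : (2 : F) ≠ 0 := by
    intro h
    have h' : ((2 : ℕ) : F) = 0 := by exact_mod_cast h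
    rw [CharP.cast_eq_zero_iff F p] at h'
    exact hp2 ((Nat.prime_dvd_prime_iff_eq hpp Nat.prime_two).mp h')
  have hP := P.isPGroup'
  refine LieClassical.SLTwoQuaternion.quaternion_of_not_comm p hp2
    (P : Subgroup (Matrix.SpecialLinearGroup (Fin 2) F)) hP ?_
  intro hcomm
  -- the quaternion group generated by `i` and `j`
  obtain ⟨x, y, hxy⟩ := exists_sq_add_sq hF
  let i : Matrix.SpecialLinearGroup (Fin 2) F := ⟨!![0, 1; -1, 0], by simp [Matrix.det_fin_two]⟩
  let j : Matrix.SpecialLinearGroup (Fin 2) F := ⟨!![x, y; y, -x], by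
    rw [Matrix.det_fin_two_of]; linear_combination -hxy⟩
  have hi2 : i * i = -1 := by
    apply Subtype.ext
    change (!![0, 1; -1, 0] * !![0, 1; -1, 0] : Matrix (Fin 2) (Fin 2) F) = -1
    rw [Matrix.mul_fin_two]
    ext a b
    fin_cases a <;> fin_cases b <;> simp
  have hj2 : j * j = -1 := by
    apply Subtype.ext
    change (!![x, y; y, -x] * !![x, y; y, -x] : Matrix (Fin 2) (Fin 2) F) = -1
    rw [Matrix.mul_fin_two]
    ext a b
    fin_cases a <;> fin_cases b <;> simp
    · linear_combination hxy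
    · ring
    · ring
    · linear_combination hxy
  have hij : i * j = -(j * i) := by
    apply Subtype.ext
    change (!![0, 1; -1, 0] * !![x, y; y, -x] : Matrix (Fin 2) (Fin 2) F) =
      -(!![x, y; y, -x] * !![0, 1; -1, 0])
    rw [Matrix.mul_fin_two, Matrix.mul_fin_two]
    ext a b
    fin_cases a <;> fin_cases b <;> simp
  have hneg : (-1 : Matrix.SpecialLinearGroup (Fin 2) F) ≠ 1 := by
    intro h
    have := congrArg (fun g : Matrix.SpecialLinearGroup (Fin 2) F =>
      (g : Matrix (Fin 2) (Fin 2) F) 0 0) h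
    simp at this
    apply h2
    linear_combination -this
  have hord : orderOf i = 2 * 2 := by
    have : orderOf i = 2 ^ (1 + 1) := by
      apply orderOf_eq_prime_pow
      · rw [pow_one, pow_two, hi2]
        exact hneg
      · rw [pow_succ, pow_one, pow_mul, pow_two i, hi2]
        simp
    simpa using this
  have hii : i⁻¹ = -i := by
    rw [inv_eq_iff_mul_eq_one, mul_neg, hi2, neg_neg]
  have hji : j * i * j⁻¹ = i⁻¹ := by
    rw [mul_inv_eq_iff_eq_mul, hii, neg_mul, hij, neg_neg]
  have hcomm_ij : i * j ≠ j * i := by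
    intro h
    have h1 : j * i * j⁻¹ = i := by rw [← h, mul_inv_cancel_right]
    rw [h1, hii] at hji
    have h3 : i * i = i * -i := congrArg (fun t => i * t) hji
    rw [mul_neg, hi2, neg_neg] at h3
    exact hneg h3
  have hns : j ∉ Subgroup.zpowers i := by
    rintro ⟨k, hk⟩
    apply hcomm_ij
    rw [← hk]
    exact ((Commute.refl i).zpow_right k).eq
  obtain ⟨e⟩ := Lib.DihedralRecog.closure_quaternion (m := 2) i j hord
    (by rw [hj2, pow_two, hi2]) hji hns
  have hcard : Nat.card (Subgroup.closure {i, j}) = 2 ^ 3 := by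
    rw [Nat.card_congr e.toEquiv, Lib.DihedralRecog.nat_card_quaternion]
    rfl
  have hQ : IsPGroup 2 (Subgroup.closure {i, j}) := IsPGroup.of_card hcard
  obtain ⟨Q, hQ⟩ := hQ.exists_le_sylow
  have eQP := Sylow.equiv Q P
  have hi : i ∈ (Q : Subgroup (Matrix.SpecialLinearGroup (Fin 2) F)) :=
    hQ (Subgroup.subset_closure (by simp))
  have hj : j ∈ (Q : Subgroup (Matrix.SpecialLinearGroup (Fin 2) F)) :=
    hQ (Subgroup.subset_closure (by simp))
  apply hcomm_ij
  have h1 := hcomm (eQP ⟨i, hi⟩) (eQP ⟨j, hj⟩)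
  rw [← map_mul, ← map_mul] at h1
  exact congrArg Subtype.val (eQP.injective h1)

end Cfsg.Agent.S0261
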