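import Cfsg.Statements.S1108
import Cfsg.Agent.ChevalleyStructure.D4Perfect

set_option autoImplicit false
open Cfsg

namespace Cfsg.Agent.S1108

/-- ³D₄(q) equals its derived subgroup. -/
theorem result {K : Type*} [Field K] [Fintype K] {q : ℕ} (hq : IsPrimePow q) (hK : Fintype.card K = q ^ 3) : commutator ↥(Cfsg.Lie.twistedD4 K q) = ⊤ := by
  obtain ⟨φ, hφ⟩ := Cfsg.Agent.ChevalleyStructure.D4Fixed.exists_frob hq hK
  have h := Cfsg.Agent.ChevalleyStructure.D4Perfect.le_C hq hK hφ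
  rw [eq_top_iff]
  intro g _
  have h1 : g.1 ∈ (commutator ↥(Cfsg.Lie.twistedD4 K q)).map (Cfsg.Lie.twistedD4 K q).subtype := by
    rw [Subgroup.map_subtype_commutator]
    exact h g.2
  obtain ⟨g', hg', e⟩ := h1
  have : g' = g := Subtype.ext e
  rwa [← this]

end Cfsg.Agent.S1108
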