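import Cfsg.Statements.S1109
import Cfsg.Agent.ChevalleyStructure.D4Tables

set_option autoImplicit false
open Cfsg

namespace Cfsg.Agent.S1109

open Cfsg.Lie Cfsg.Agent.ChevalleyStructure.SparseAct Cfsg.Agent.ChevalleyStructure.CoreCheck
  Cfsg.Agent.ChevalleyStructure.D4Tables

/-- x_{p₂}(1) -/
def w2 : List (ℕ × ℤ × ℤ) := [(14, 1, 0)]
/-- x_{−p₂}(1) -/
def w2m : List (ℕ × ℤ × ℤ) := [(9, 1, 0)]
/-- x_{−p₂}(−1) -/
def w2m' : List (ℕ × ℤ × ℤ) := [(9, -1, 0)]
/-- x_{p₁}(1) x_{p₃}(1) x_{p₄}(1) -/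
def w1 : List (ℕ × ℤ × ℤ) := [(18, 1, 0), (13, 1, 0), (12, 1, 0)]
/-- x_{−p₁}(1) x_{−p₃}(1) x_{−p₄}(1) -/
def w1m : List (ℕ × ℤ × ℤ) := [(5, 1, 0), (10, 1, 0), (11, 1, 0)]
/-- x_{−p₁}(−1) x_{−p₃}(−1) x_{−p₄}(−1) -/
def w1m' : List (ℕ × ℤ × ℤ) := [(5, -1, 0), (10, -1, 0), (11, -1, 0)]

/-- The longest element of the Weyl group. -/
def w0 : List (ℕ × ℤ × ℤ) :=
  let n2 := w2 ++ w2m' ++ w2
  let n1 := w1 ++ w1m' ++ w1
  let n := n2 ++ n1
  n ++ n ++ n

def opp (j : ℕ) : ℕ := if j < 4 then j else 31 - j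

def links : List (List (ℕ × ℤ × ℤ) × ℕ × ℕ) :=
  [(w2, 18, 0), (w1, 22, 1), (w1, 17, 1), (w1, 16, 1),
   (w1, 19, 18), (w1, 20, 18), (w1, 21, 18), (w1, 23, 18), (w1, 24, 18), (w1, 25, 18), (w1, 26, 18), (w2, 27, 26),
   (w2m, 13, 0), (w1m, 9, 1), (w1m, 14, 1), (w1m, 15, 1),
   (w1m, 12, 13), (w1m, 11, 13), (w1m, 10, 13), (w1m, 8, 13), (w1m, 7, 13), (w1m, 6, 13), (w1m, 5, 13), (w2m, 4, 5)]

theorem check_opp : (List.range (chevD4.rank + chevD4.nroots)).all (fun j =>
    decide (opp j < chevD4.rank + chevD4.nroots) && (opp (opp j) == j) && (d4Height (opp j) == - d4Height j) &&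
      isMonoCol chevD4 0 w0 j (opp j)) = true := by decide +kernel

theorem check_diag_w2 : (List.range (chevD4.rank + chevD4.nroots)).all (fun j => linkOK chevD4 0 w2 j j) = true := by
  decide +kernel
theorem check_diag_w2m : (List.range (chevD4.rank + chevD4.nroots)).all (fun j => linkOK chevD4 0 w2m j j) = true := by
  decide +kernel
theorem check_diag_w1 : (List.range (chevD4.rank + chevD4.nroots)).all (fun j => linkOK chevD4 0 w1 j j) = true := by
  decide +kernel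
theorem check_diag_w1m : (List.range (chevD4.rank + chevD4.nroots)).all (fun j => linkOK chevD4 0 w1m j j) = true := by
  decide +kernel

theorem check_reach : (List.range (chevD4.rank + chevD4.nroots)).all (fun j =>
      decide (j ∈ reach chevD4 0 (List.range chevD4.rank) links)) = true := by decide +kernel

theorem isOne_w2 : isOne chevD4 0 (w2 ++ [(14, -1, 0)]) = true := by decide +kernel
theorem isOne_w2m : isOne chevD4 0 (w2m ++ w2m') = true := by decide +kernel
theorem isOne_w1 : isOne chevD4 0 (w1 ++ [(18, -1, 0), (13, -1, 0), (12, -1, 0)]) = true := by decide +kernel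
theorem isOne_w1m : isOne chevD4 0 (w1m ++ w1m') = true := by decide +kernel

theorem links_words : ∀ l ∈ links, l.1 = w2 ∨ l.1 = w2m ∨ l.1 = w1 ∨ l.1 = w1m := by decide

/-- The normal core of `B¹ = G¹ ∩ B` in ³D₄(q) is trivial. -/
theorem result {K : Type*} [Field K] [Fintype K] {q : ℕ} (hq : IsPrimePow q) (hK : Fintype.card K = q ^ 3) :
    ((Cfsg.Lie.chevD4.borelSubgroup K ⊓ Cfsg.Lie.twistedD4 K q).subgroupOf (Cfsg.Lie.twistedD4 K q)).normalCore = ⊥ := by
  have hm : ((0 : ℤ) : K) = 0 := Int.cast_zero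
  have m2 : Mem chevD4 (twistedD4 K q) 1 w2 := by
    apply mem_genSubgroup chevD4 hm one_ne_zero isOne_w2
    left
    refine ⟨1, one_pow _, d4p2, by simp, ?_⟩
    simp [letters, w2, d4p2]
  have m2m : Mem chevD4 (twistedD4 K q) 1 w2m := by
    apply mem_genSubgroup chevD4 hm one_ne_zero isOne_w2m
    left
    refine ⟨1, one_pow _, d4m2, by simp, ?_⟩
    simp [letters, w2m, d4m2]
  have m1 : Mem chevD4 (twistedD4 K q) 1 w1 := by
    apply mem_genSubgroup chevD4 hm one_ne_zero isOne_w1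
    right
    refine ⟨1, (d4p1, d4p3, d4p4), by simp, ?_⟩
    simp [letters, w1, d4p1, d4p3, d4p4]
  have m1m : Mem chevD4 (twistedD4 K q) 1 w1m := by
    apply mem_genSubgroup chevD4 hm one_ne_zero isOne_w1m
    right
    refine ⟨1, (d4m1, d4m3, d4m4), by simp, ?_⟩
    simp [letters, w1m, d4m1, d4m3, d4m4]
  have m2m' : Mem chevD4 (twistedD4 K q) 1 w2m' := m2m.inv chevD4 hm one_ne_zero isOne_w2m
  have m1m' : Mem chevD4 (twistedD4 K q) 1 w1m' := m1m.inv chevD4 hm one_ne_zero isOne_w1m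
  have mn : Mem chevD4 (twistedD4 K q) 1 ((w2 ++ w2m' ++ w2) ++ (w1 ++ w1m' ++ w1)) :=
    ((m2.append chevD4 m2m').append chevD4 m2).append chevD4 ((m1.append chevD4 m1m').append chevD4 m1)
  refine core_eq_bot chevD4 hm d4Height opp (twistedD4 K q) d4_checkU d4_checkHRoot w0 ?_ check_opp links ?_ ?_
    check_reach
  · exact (mn.append chevD4 mn).append chevD4 mn
  · intro l hl
    rcases links_words l hl with h | h | h | h <;> rw [h]
    exacts [m2, m2m, m1, m1m]
  · intro l hl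
    rcases links_words l hl with h | h | h | h <;> rw [h]
    exacts [check_diag_w2, check_diag_w2m, check_diag_w1, check_diag_w1m]

end Cfsg.Agent.S1109
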