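import Cfsg.Statements.S1071
import Cfsg.Agent.ChevalleyStructure.D4Twisted
import Cfsg.Agent.ChevalleyStructure.TwSimple
import Cfsg.Agent.S1050
import Cfsg.Agent.S1088
import Cfsg.Agent.S1108
import Cfsg.Agent.S1109

set_option autoImplicit false
open Cfsg

namespace Cfsg.Agent.S1071

/-- ³D₄(q) is simple for every `q`. -/
theorem result {K : Type*} [Field K] [Fintype K] {q : ℕ} (hq : IsPrimePow q) (hK : Fintype.card K = q ^ 3) :
    IsSimpleGroup ↥(Cfsg.Lie.twistedD4 K q) ∧ ¬ IsMulCommutative ↥(Cfsg.Lie.twistedD4 K q) := by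
  obtain ⟨P, hB, _, hirr⟩ := Cfsg.Agent.ChevalleyStructure.D4Twisted.exists_bnPair (K := K) hq hK
  have hcard := Cfsg.Agent.S1088.result (K := K) hq hK
  have hnt : ∃ g ∈ Cfsg.Lie.twistedD4 K q, g ≠ 1 := by
    by_contra hcon
    push Not at hcon
    have hbot : Cfsg.Lie.chevD4.posUnipotent K ⊓ Cfsg.Lie.twistedD4 K q = ⊥ := by
      rw [eq_bot_iff]
      intro g hg
      exact Subgroup.mem_bot.2 (hcon g (Subgroup.mem_inf.1 hg).2)
    rw [hbot, Subgroup.card_bot] at hcard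
    have h2 : 1 < q ^ 12 := Nat.one_lt_pow (by norm_num) hq.one_lt
    omega
  exact Cfsg.Agent.ChevalleyStructure.TwSimple.simple_of_bn (Cfsg.Lie.twistedD4 K q)
    (Cfsg.Lie.chevD4.borelSubgroup K) P hB hirr
    (Cfsg.Agent.S1050.result Cfsg.Lie.chevD4 (by simp))
    (Cfsg.Agent.S1108.result hq hK) (Cfsg.Agent.S1109.result hq hK) hnt

end Cfsg.Agent.S1071
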