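import Cfsg.Statements.S1055
import Cfsg.Agent.ChevalleyStructure.TitsSimple
import Cfsg.Agent.ChevalleyStructure.RankTwoIrred

set_option autoImplicit false
open Cfsg

namespace Cfsg.Agent.S1055

open Cfsg.Lie Cfsg.Agent.ChevalleyStructure.Elts in
theorem irred {F : Type*} [Field F] (P : Cfsg.BNPair ↥(Cfsg.Lie.chevG2.group F))
    (hB : P.B = (chevG2.borelSubgroup F).subgroupOf (chevG2.group F))
    (hS : P.S = {n : ↥(chevG2.group F) | ∃ i < chevG2.rank,
        ((n : GL chevG2.Idx F) : Matrix chevG2.Idx chevG2.Idx F) = chevG2.nMat F (chevG2.simple i) 1}) :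
    P.Irreducible := by
  have hD : InList chevG2 := by simp [InList]
  have hneg : ∀ r : Fin chevG2.nroots, chevG2.IsPosRoot r →
      (11 : Fin 12).val ≠ chevG2.negIdx.getD r.val 0 := by decide
  have hchain : ∀ r : Fin chevG2.nroots, chevG2.IsPosRoot r → ∀ u : Fin chevG2.nroots,
      chevG2.chainCoeff r.val (11 : Fin 12).val u.val = [] := by decide
  refine Cfsg.Agent.ChevalleyStructure.RankTwoIrred.irreducible chevG2 hD rfl ?_ ?_ P hB hS
  · exact Cfsg.Agent.ChevalleyStructure.RankTwoIrred.comm_not_mem chevG2 hD (11 : Fin 12) hneg hchain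
      0 1 (by decide) (by decide) (6 : Fin 12) (10 : Fin 12) (5 : Fin 12) (1 : Fin 12)
      (by decide) (by decide) (by decide) (by decide) (fun h => absurd (congrArg Fin.val h) (by decide))
  · exact Cfsg.Agent.ChevalleyStructure.RankTwoIrred.comm_not_mem chevG2 hD (11 : Fin 12) hneg hchain
      1 0 (by decide) (by decide) (10 : Fin 12) (11 : Fin 12) (6 : Fin 12) (5 : Fin 12)
      (by decide) (by decide) (by decide) (by decide) (fun h => absurd (congrArg Fin.val h) (by decide))


/-- G₂(F) is simple for every field `F` other than the field with two elements. -/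
theorem result {F : Type*} [Field F] (hF : ∃ a : F, a ≠ 0 ∧ a ≠ 1) : IsSimpleGroup ↥(Cfsg.Lie.chevG2.group F) ∧ ¬ IsMulCommutative ↥(Cfsg.Lie.chevG2.group F) := by
  exact Cfsg.Agent.ChevalleyStructure.TitsSimple.simple_of_irreducible Cfsg.Lie.chevG2 (by simp)
    (fun _ => hF) (fun P hB _ hS => irred P hB hS)

end Cfsg.Agent.S1055
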