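-- Statement S1273: a p-component has no proper normal subgroup of index prime to p.
import Cfsg.Statements.S1273
import Mathlib.GroupTheory.Transfer
import Cfsg.Agent.Lib.Cores
import Cfsg.Agent.Lib.ComponentSolvable

set_option autoImplicit false
open Cfsg

namespace Cfsg.Agent.S1273

open Subgroup
open scoped IsMulCommutative

/-- A subnormal subgroup of order prime to `p` of a finite group lies in `O_{p'}`. -/
theorem subnormal_coprime_le_pPrimeCore {G : Type*} [Group G] [Finite G] (p : ℕ)
    {H : Subgroup G} (hH : H.IsSubnormal) (hp : (Nat.card H).Coprime p) :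
    H ≤ pPrimeCore p G := by
  rw [Subgroup.IsSubnormal.isSubnormal_iff] at hH
  obtain ⟨n, f, hmono, hnorm, h0, hn⟩ := hH
  have key : ∀ i, H ≤ (pPrimeCore p (f i)).map (f i).subtype := by
    intro i
    induction i with
    | zero =>
      rw [h0]
      have : pPrimeCore p H = ⊤ := (Cfsg.Agent.Lib.Cores.pPrimeCore_eq_top_iff p).2 hp
      rw [this]
      intro x hx
      exact ⟨⟨x, hx⟩, Subgroup.mem_top _, rfl⟩
    | succ i ih =>
      refine ih.trans ?_
      have hle := hmono (Nat.le_succ i)
      have hN : ((f i).subgroupOf (f (i+1))).Normal := hnorm i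
      have h1 := Cfsg.Agent.Lib.Cores.map_subtype_pPrimeCore p hN
      have h2 := Cfsg.Agent.Lib.Cores.map_equiv_pPrimeCore
        (Subgroup.subgroupOfEquivOfLe hle) p
      rw [← h2, Subgroup.map_map]
      have h3 : ((f i).subtype.comp (Subgroup.subgroupOfEquivOfLe hle).toMonoidHom) =
          (f (i+1)).subtype.comp ((f i).subgroupOf (f (i+1))).subtype := by
        ext x
        rfl
      rw [h3, ← Subgroup.map_map, h1]
      exact Subgroup.map_mono inf_le_right
  have := key n
  rw [hn] at this
  refine this.trans ?_
  have h2 := Cfsg.Agent.Lib.Cores.map_equiv_pPrimeCore (Subgroup.topEquiv (G := G)) p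
  rw [← h2]
  exact le_rfl

/-- A perfect finite group whose centre has index prime to `p` has order prime to `p`. -/
theorem card_coprime_of_perfect_of_center_index {C : Type*} [Group C] [Finite C] (p : ℕ)
    [hp : Fact p.Prime] (hC : Group.IsPerfect C) (h : (center C).index.Coprime p) :
    (Nat.card C).Coprime p := by
  rw [Nat.coprime_comm, hp.out.coprime_iff_not_dvd]
  intro hdvd
  obtain ⟨g, hg⟩ := exists_prime_orderOf_dvd_card' p hdvd
  have hker := Abelianization.commutator_subset_ker (A := center C) (MonoidHom.transferCenterPow C)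
  have h0 : g ∈ _root_.commutator C := by
    rw [hC.commutator_eq_top]
    exact Subgroup.mem_top g
  have h1 := hker h0
  rw [MonoidHom.mem_ker] at h1
  have h2 : g ^ (center C).index = 1 := by
    rw [← MonoidHom.transferCenterPow_apply, h1]
    rfl
  have h3 : p ∣ (center C).index := by
    rw [← hg]
    exact orderOf_dvd_of_pow_eq_one h2
  exact hp.out.one_lt.ne' (Nat.Coprime.eq_one_of_dvd h.symm h3)

/-- Let K be a p-component of the finite group X and N a normal subgroup of K whose index in K is prime to p. Then N = K. -/
theorem result {X : Type*} [Group X] [Finite X] (p : ℕ) [Fact p.Prime] (K : Subgroup X) (hK : Cfsg.IsPComponent p K) (N : Subgroup ↥K) [N.Normal] (hidx : (N.index).Coprime p) : N = ⊤ := by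
  obtain ⟨hsub, ⟨hcs, hcq⟩, hmin⟩ := hK
  set π := QuotientGroup.mk' (pPrimeCore p X) with hπ
  -- the homomorphism from K onto its image
  set φ : K →* K.map π := π.subgroupMap K with hφ
  have hφs : Function.Surjective φ := π.subgroupMap_surjective K
  have hDn : (N.map φ).Normal := (inferInstance : N.Normal).map φ hφs
  have hDmap : (N.map φ).map (K.map π).subtype = (N.map K.subtype).map π := by
    rw [Subgroup.map_map, Subgroup.map_map]
    rfl
  rcases Cfsg.Agent.Lib.ComponentSolvable.quasisimple_normal_cases hcq hDn with h | h
  · have h1 : (N.map K.subtype).map π = K.map π := by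
      rw [← hDmap, h, ← MonoidHom.range_eq_map, Subgroup.range_subtype]
    have hNs : (N.map K.subtype).IsSubnormal := by
      refine Subgroup.IsSubnormal.step _ K (Subgroup.map_subtype_le N) hsub ?_
      rw [Subgroup.subgroupOf, Subgroup.comap_map_eq_self_of_injective K.subtype_injective]
      infer_instance
    have h2 := hmin _ hNs (Subgroup.map_subtype_le N) h1
    apply Subgroup.map_injective K.subtype_injective
    rw [h2, ← MonoidHom.range_eq_map, Subgroup.range_subtype]
  · exfalso
    have h1 : (center (K.map π)).index.Coprime p := by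
      have h2 : (center (K.map π)).index ∣ (N.map φ).index := Subgroup.index_dvd_of_le h
      have h3 : (N.map φ).index ∣ N.index := Subgroup.index_map_dvd N hφs
      exact Nat.Coprime.coprime_dvd_left (h2.trans h3) hidx
    have h2 : (Nat.card (K.map π)).Coprime p :=
      card_coprime_of_perfect_of_center_index p hcq.1 h1
    have h3 := subnormal_coprime_le_pPrimeCore p hcs h2
    rw [Cfsg.Agent.Lib.Cores.pPrimeCore_quotient_pPrimeCore, le_bot_iff] at h3
    have h4 := Cfsg.Agent.Lib.ComponentSolvable.quasisimple_nontrivial hcq
    rw [h3] at h4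
    exact not_subsingleton _ (inferInstance : Subsingleton (⊥ : Subgroup (X ⧸ pPrimeCore p X)))

end Cfsg.Agent.S1273
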