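import Cfsg.Statements.S0484
import Cfsg.Agent.Classification.InvCent.GLSemi
import Cfsg.Agent.Classification.InvCent.WrEnd

set_option autoImplicit false
open Cfsg

namespace Cfsg.Agent.S0484

/-- If a finite simple group has an involution whose centralizer is isomorphic to the quotient of the general linear
group of dimension 2 over a finite field of odd order by a central subgroup of odd order, then it is isomorphic to the
projective special linear group of dimension 3 over that field, or is simple of order 7920. -/
theorem result {G : Type*} [Group G] [Finite G]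
    [IsSimpleGroup G] {F : Type*} [Field F] [Fintype F] (hF : Odd (Fintype.card F)) (Z : Subgroup (GL (Fin 2) F))
    [Z.Normal] (hZc : Z ≤ Subgroup.center (GL (Fin 2) F)) (hZo : Odd (Nat.card Z)) (t : G) (ht : orderOf t = 2)
    (hC : Nonempty (Subgroup.centralizer ({t} : Set G) ≃* (GL (Fin 2) F ⧸ Z))) :
    Nonempty (G ≃* Matrix.ProjectiveSpecialLinearGroup (Fin 3) F) ∨ Cfsg.IsM11 G := by
  have h4 : Fintype.card F % 4 = 1 ∨ Fintype.card F % 4 = 3 := by
    obtain ⟨m, hm⟩ := hF
    omega
  rcases h4 with h4 | h4
  · left
    obtain ⟨t', Z', T, T', U, s, s', u, r, b, ht', h, hD⟩ :=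
      Agent.Classification.InvCent.InstGL.exists_of_centralizer hF Z hZc hZo ht hC
    have hinv : ∀ s : G, orderOf s = 2 → ∃ g, g * t * g⁻¹ = s := fun s hs =>
      isConj_iff.1 (Agent.Classification.InvCent.Fusion.isConj ht' h s hs)
    have h1 := Fintype.one_lt_card (α := F)
    have hidx := Agent.Classification.InvCent.WrEnd.index_eq ht' h hD (by omega) (by omega)
    obtain ⟨e⟩ := hC
    refine Agent.Classification.IdL3.Final.psl3_of_index
      (Agent.Classification.InvCent.GLSemi.two_ne hF) Z hZc hZo ht e hinv ?_
    rw [Nat.card_eq_fintype_card]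
    rw [one_mul] at hidx
    exact_mod_cast hidx
  · exact Agent.Classification.InvCent.GLSemi.main hF h4 Z hZc hZo t ht hC

end Cfsg.Agent.S0484
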