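-- Statement S0485: PSU₃(q), q odd, from the centralizer of an involution.
import Cfsg.Statements.S0485
import Cfsg.Agent.Classification.InvCentU.Main
import Cfsg.Agent.Classification.InvCent.Wreathed
import Cfsg.Agent.Classification.IdU.Main

set_option autoImplicit false
open Cfsg

namespace Cfsg.Agent.S0485

open Cfsg.Agent.Classification Cfsg.Agent.Classification.InvCent

/-- The index of the centralizer, wreathed case `q ≡ 3 mod 4`. -/
theorem index_three {G : Type*} [Group G] [Finite G] [IsSimpleGroup G] {F : Type*}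
    [Field F] [Fintype F] (q : ℕ) (hq : q % 4 = 3) (hF : Fintype.card F = q ^ 2)
    (Z : Subgroup (Cfsg.GU 2 F q)) [Z.Normal] (hZc : Z ≤ Subgroup.center (Cfsg.GU 2 F q))
    (hZo : Odd (Nat.card Z)) (t : G) (ht : orderOf t = 2)
    (hC : Nonempty (Subgroup.centralizer ({t} : Set G) ≃* (Cfsg.GU 2 F q ⧸ Z))) :
    (Subgroup.centralizer ({t} : Set G)).index = q ^ 2 * (q ^ 2 - q + 1) := by
  have := Fintype.ofFinite G
  have := Fintype.ofFinite (Subgroup.centralizer ({t} : Set G))
  have hqo : Odd q := by rw [Nat.odd_iff]; omega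
  obtain ⟨t', Z', T, T', U, s, s', u, r, b, ht', hc, hD, hn⟩ :=
    InstGU.exists_of_centralizer hqo hF Z hZc hZo ht hC
  have hr : 4 ∣ r := by
    obtain ⟨m, hm, rfl⟩ := hD.r_pow
    obtain ⟨k, hk, hqk⟩ := hD.r_dvd
    by_cases hm1 : m = 1
    · subst hm1
      exfalso
      obtain ⟨j, rfl⟩ := hk
      push_cast at hqk
      omega
    · have hm2 : 2 ≤ m := by omega
      exact (by norm_num : 4 ∣ 2 ^ 2).trans (pow_dvd_pow 2 hm2)
  have h1 := Wreathed.index_eq' (SDEnd.hyp ht' hc) Function.injective_id hc hD hr (by omega)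
  have h2 : q ≤ q ^ 2 := by nlinarith
  zify [h2]
  rw [h1]
  ring

/-- If a finite simple group has an involution whose centralizer is isomorphic to the quotient of the general unitary
group of dimension 2 for an odd prime power q (realised over the field with q² elements) by a central subgroup of odd
order, then it is isomorphic to the projective special unitary group of dimension 3 for the same q. -/
theorem result {G : Type*} [Group G] [Finite G]
    [IsSimpleGroup G] {F : Type*} [Field F] [Fintype F] (q : ℕ) (hq : Odd q) (hF : Fintype.card F = q ^ 2)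
    (Z : Subgroup (Cfsg.GU 2 F q)) [Z.Normal] (hZc : Z ≤ Subgroup.center (Cfsg.GU 2 F q)) (hZo : Odd (Nat.card Z))
    (t : G) (ht : orderOf t = 2) (hC : Nonempty (Subgroup.centralizer ({t} : Set G) ≃* (Cfsg.GU 2 F q ⧸ Z))) :
    Nonempty (G ≃* Cfsg.PSU 3 F q) := by
  have hq1 : 1 < q := by
    have h1 : 1 < Fintype.card F := Fintype.one_lt_card
    rw [hF] at h1
    by_contra h2
    have h3 : q ≤ 1 := by omega
    have h4 : q ^ 2 ≤ 1 := Nat.pow_le_one_iff (by norm_num) |>.2 h3
    omega
  apply IdU.Main.nonempty_of_index hq hF Z hZc hZo ht hC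
  have h4 : q % 4 = 1 ∨ q % 4 = 3 := by
    rw [Nat.odd_iff] at hq
    omega
  rcases h4 with h4 | h4
  · exact InvCentU.Main.index_of_centralizer q h4 hq1 hF Z hZc hZo t ht hC
  · exact index_three q h4 hF Z hZc hZo t ht hC

end Cfsg.Agent.S0485
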