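-- S0493: simple groups of order at most 100.
import Cfsg.Statements.S0493
import Mathlib

set_option autoImplicit false
open Cfsg

namespace Cfsg.Agent.S0493

open Subgroup

/-- In a simple group that is not cyclic the order is not one. -/
theorem card_ne_one {G : Type*} [Group G] [Finite G] [IsSimpleGroup G] : Nat.card G ≠ 1 :=
  Finite.one_lt_card.ne'

/-- A commutative simple group is cyclic. -/
theorem isCyclic_of_comm {G : Type*} [Group G] [Finite G] [IsSimpleGroup G]
    (h : ∀ a b : G, a * b = b * a) : IsCyclic G := by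
  let _ : CommGroup G := { (inferInstance : Group G) with mul_comm := h }
  exact IsSimpleGroup.isCyclic

theorem not_isPGroup {G : Type*} [Group G] [Finite G] [IsSimpleGroup G]
    (hG : ¬ IsCyclic G) {p : ℕ} [Fact p.Prime] : ¬ IsPGroup p G := by
  intro h
  apply hG
  apply isCyclic_of_comm
  have h1 : Nontrivial (center G) := h.center_nontrivial
  have h2 : center G = ⊤ :=
    (IsSimpleGroup.eq_bot_or_eq_top_of_normal (center G) inferInstance).resolve_left
      ((Subgroup.nontrivial_iff_ne_bot _).1 h1)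
  intro a b
  have : a ∈ center G := h2 ▸ mem_top a
  exact (mem_center_iff.1 this b).symm

theorem card_sylow_ne_one {G : Type*} [Group G] [Finite G] [IsSimpleGroup G]
    (hG : ¬ IsCyclic G) {p : ℕ} [Fact p.Prime] (hp : p ∣ Nat.card G) :
    Nat.card (Sylow p G) ≠ 1 := by
  intro h
  obtain ⟨P⟩ := (Sylow.nonempty : Nonempty (Sylow p G))
  have h1 : (P : Subgroup G).Normal := by
    have : Subsingleton (Sylow p G) := (Nat.card_eq_one_iff_unique.1 h).1
    exact Sylow.normal_of_subsingleton P
  rcases IsSimpleGroup.eq_bot_or_eq_top_of_normal (P : Subgroup G) h1 with h2 | h2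
  · have h3 := P.dvd_card_of_dvd_card hp
    rw [h2] at h3
    have h4 : Nat.card (⊥ : Subgroup G) = 1 := Subgroup.card_bot
    rw [h4] at h3
    exact (Fact.out : p.Prime).one_lt.ne' (Nat.dvd_one.1 h3)
  · apply not_isPGroup hG (p := p)
    have h3 := P.isPGroup'
    rw [h2] at h3
    exact h3.of_equiv Subgroup.topEquiv

theorem card_dvd_factorial {G : Type*} [Group G] [Finite G] [IsSimpleGroup G]
    (H : Subgroup G) (hH : H ≠ ⊤) : Nat.card G ∣ (H.index).factorial := by
  have hf : Function.Injective (MulAction.toPermHom G (G ⧸ H)) := by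
    rw [← MonoidHom.ker_eq_bot_iff]
    refine (IsSimpleGroup.eq_bot_or_eq_top_of_normal _ (MonoidHom.normal_ker _)).resolve_right ?_
    intro h
    apply hH
    rw [eq_top_iff]
    intro g _
    have hg : g ∈ (MulAction.toPermHom G (G ⧸ H)).ker := h ▸ mem_top g
    have h1 : g • ((1 : G) : G ⧸ H) = ((1 : G) : G ⧸ H) := by
      have := MonoidHom.mem_ker.1 hg
      have h2 := congrArg (fun e : Equiv.Perm (G ⧸ H) => e ((1 : G) : G ⧸ H)) this
      simpa using h2
    have h3 : ((g * 1 : G) : G ⧸ H) = ((1 : G) : G ⧸ H) := h1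
    rw [QuotientGroup.eq] at h3
    simpa using h3
  have h2 := Subgroup.card_dvd_of_injective _ hf
  rwa [Nat.card_perm, ← Subgroup.index_eq_card] at h2

theorem card_dvd_factorial_sylow {G : Type*} [Group G] [Finite G] [IsSimpleGroup G]
    (hG : ¬ IsCyclic G) {p : ℕ} [Fact p.Prime] (hp : p ∣ Nat.card G) :
    Nat.card G ∣ (Nat.card (Sylow p G)).factorial := by
  obtain ⟨P⟩ := (Sylow.nonempty : Nonempty (Sylow p G))
  have h1 := card_sylow_ne_one hG hp
  rw [P.card_eq_index_normalizer] at h1 ⊢
  apply card_dvd_factorial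
  intro h
  rw [h] at h1
  exact h1 Subgroup.index_top

theorem card_sylow_dvd {G : Type*} [Group G] [Finite G]
    {p : ℕ} [Fact p.Prime] :
    Nat.card (Sylow p G) ∣ Nat.card G / p ^ (Nat.card G).factorization p := by
  obtain ⟨P⟩ := (Sylow.nonempty : Nonempty (Sylow p G))
  have h := P.card_dvd_index
  have h1 : (P : Subgroup G).index = Nat.card G / p ^ (Nat.card G).factorization p := by
    rw [← P.card_eq_multiplicity, ← Subgroup.index_mul_card (P : Subgroup G),
      Nat.mul_div_cancel _ Nat.card_pos]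
  rwa [h1] at h

/-- The Sylow subgroup of a nonabelian simple group is not contained in the centre of its normaliser. -/
theorem not_normalizer_le_centralizer {G : Type*} [Group G] [Finite G] [IsSimpleGroup G]
    (hG : ¬ IsCyclic G) {p : ℕ} [Fact p.Prime] (hp : p ∣ Nat.card G) (P : Sylow p G) :
    ¬ normalizer P ≤ centralizer (P : Set G) := by
  intro hP
  have h1 := MonoidHom.ker_transferSylow_isComplement' P hP
  rcases IsSimpleGroup.eq_bot_or_eq_top_of_normal _
    (MonoidHom.normal_ker (MonoidHom.transferSylow P hP)) with h2 | h2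
  · rw [h2] at h1
    have h3 : (P : Subgroup G) = ⊤ := Subgroup.isComplement'_bot_left.1 h1
    apply not_isPGroup hG (p := p)
    have h3' := P.isPGroup'
    rw [h3] at h3'
    exact h3'.of_equiv Subgroup.topEquiv
  · rw [h2] at h1
    have h3 : (P : Subgroup G) = ⊥ := Subgroup.isComplement'_top_left.1 h1
    have h3' := P.dvd_card_of_dvd_card hp
    rw [h3] at h3'
    have h4 : Nat.card (⊥ : Subgroup G) = 1 := Subgroup.card_bot
    rw [h4] at h3'
    exact (Fact.out : p.Prime).one_lt.ne' (Nat.dvd_one.1 h3')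

/-- The order of a noncyclic simple group is not twice an odd number. -/
theorem card_mod_four {G : Type*} [Group G] [Finite G] [IsSimpleGroup G]
    (hG : ¬ IsCyclic G) : Nat.card G % 4 ≠ 2 := by
  intro h
  haveI : Fact (Nat.Prime 2) := ⟨Nat.prime_two⟩
  obtain ⟨P⟩ := (Sylow.nonempty : Nonempty (Sylow 2 G))
  have h2 : 2 ∣ Nat.card G := by omega
  have hmin : (Nat.card G).minFac = 2 := (Nat.minFac_eq_two_iff _).2 h2
  have hcard : Nat.card P = 2 := by
    rw [P.card_eq_multiplicity]
    have : (Nat.card G).factorization 2 = 1 := by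
      have h3 : ¬ 2 ^ 2 ∣ Nat.card G := by omega
      have h4 : (Nat.card G).factorization 2 < 2 := by
        by_contra h5
        apply h3
        exact (Nat.Prime.pow_dvd_iff_le_factorization Nat.prime_two Nat.card_pos.ne').2 (by omega)
      have h6 : 1 ≤ (Nat.card G).factorization 2 :=
        (Nat.Prime.dvd_iff_one_le_factorization Nat.prime_two Nat.card_pos.ne').1 h2
      omega
    rw [this, pow_one]
  have hcyc : IsCyclic P := isCyclic_of_prime_card hcard
  exact not_normalizer_le_centralizer hG h2 P (hcyc.normalizer_le_centralizer hmin)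

/-- If a Sylow subgroup has prime order, it is not its own normaliser. -/
theorem card_sylow_ne_of_prime {G : Type*} [Group G] [Finite G] [IsSimpleGroup G]
    (hG : ¬ IsCyclic G) {p : ℕ} [Fact p.Prime] (hp : p ∣ Nat.card G)
    (hp2 : ¬ p ^ 2 ∣ Nat.card G) : p * Nat.card (Sylow p G) ≠ Nat.card G := by
  intro h
  obtain ⟨P⟩ := (Sylow.nonempty : Nonempty (Sylow p G))
  have hpp : p.Prime := Fact.out
  have hcard : Nat.card P = p := by
    rw [P.card_eq_multiplicity]
    have : (Nat.card G).factorization p = 1 := by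
      have h4 : (Nat.card G).factorization p < 2 := by
        by_contra h5
        apply hp2
        exact (Nat.Prime.pow_dvd_iff_le_factorization hpp Nat.card_pos.ne').2 (by omega)
      have h6 : 1 ≤ (Nat.card G).factorization p :=
        (Nat.Prime.dvd_iff_one_le_factorization hpp Nat.card_pos.ne').1 hp
      omega
    rw [this, pow_one]
  have hcyc : IsCyclic P := isCyclic_of_prime_card hcard
  have hN : Nat.card (normalizer (P : Set G)) = p := by
    have h1 := Subgroup.index_mul_card (normalizer (P : Set G))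
    rw [← P.card_eq_index_normalizer, ← h, mul_comm p] at h1
    exact Nat.eq_of_mul_eq_mul_left Nat.card_pos h1
  have hNP : (P : Subgroup G) = normalizer (P : Set G) := by
    apply Subgroup.eq_of_le_of_card_ge
    · exact Subgroup.le_normalizer
    · rw [hN, hcard]
  apply not_normalizer_le_centralizer hG hp P
  rw [← hNP]
  haveI : IsMulCommutative (P : Subgroup G) := by
    letI := IsCyclic.commGroup (α := P)
    exact ⟨⟨fun a b => mul_comm a b⟩⟩
  exact Subgroup.le_centralizer (P : Subgroup G)

/-- The possible values of the number of Sylow subgroups. -/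
theorem sylow_number {G : Type*} [Group G] [Finite G] [IsSimpleGroup G]
    (hG : ¬ IsCyclic G) {p a : ℕ} (hp : p.Prime) (ha : 1 ≤ a) (h1 : p ^ a ∣ Nat.card G)
    (h2 : ¬ p ^ (a + 1) ∣ Nat.card G) :
    ∃ k, k ≤ Nat.card G ∧ k ∣ Nat.card G / p ^ a ∧ k % p = 1 ∧ k ≠ 1 ∧
      Nat.card G ∣ k.factorial ∧ (a = 1 → p * k ≠ Nat.card G) := by
  haveI : Fact p.Prime := ⟨hp⟩
  have hpd : p ∣ Nat.card G := (dvd_pow_self p (by omega)).trans h1
  have hfac : (Nat.card G).factorization p = a := by
    have h4 : (Nat.card G).factorization p < a + 1 := by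
      by_contra h5
      apply h2
      exact (Nat.Prime.pow_dvd_iff_le_factorization hp Nat.card_pos.ne').2 (by omega)
    have h6 : a ≤ (Nat.card G).factorization p :=
      (Nat.Prime.pow_dvd_iff_le_factorization hp Nat.card_pos.ne').1 h1
    omega
  have hk := card_sylow_dvd (G := G) (p := p)
  rw [hfac] at hk
  refine ⟨Nat.card (Sylow p G), ?_, hk, ?_, card_sylow_ne_one hG hpd,
    card_dvd_factorial_sylow hG hpd, ?_⟩
  · exact (Nat.le_of_dvd (Nat.div_pos (Nat.le_of_dvd Nat.card_pos h1)
      (pow_pos hp.pos _)) hk).trans (Nat.div_le_self _ _)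
  · have := card_sylow_modEq_one p G
    unfold Nat.ModEq at this
    rw [this, Nat.mod_eq_of_lt hp.one_lt]
  · rintro rfl
    exact card_sylow_ne_of_prime hG hpd (by simpa using h2)

/-- The arithmetic check. -/
theorem check : ∀ n ∈ List.range 101, n = 0 ∨ n = 1 ∨ n = 60 ∨ n % 4 = 2 ∨
    ∃ p ∈ [2, 3, 5, 7, 11, 13, 17, 19, 23, 29, 31, 37, 41, 43, 47, 53, 59, 61, 67, 71, 73, 79,
      83, 89, 97], ∃ a ∈ [1, 2, 3, 4, 5, 6], p ^ a ∣ n ∧ ¬ p ^ (a + 1) ∣ n ∧
        ∀ k ∈ List.range (n + 1), k ∣ n / p ^ a → k % p = 1 → k = 1 ∨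
          ¬ n ∣ k.factorial ∨ (a = 1 ∧ p * k = n) := by
  decide +kernel

theorem primes : ∀ p ∈ [2, 3, 5, 7, 11, 13, 17, 19, 23, 29, 31, 37, 41, 43, 47, 53, 59, 61, 67,
    71, 73, 79, 83, 89, 97], Nat.Prime p := by
  decide +kernel

theorem pos_of_mem : ∀ a ∈ [1, 2, 3, 4, 5, 6], 1 ≤ a := by
  decide +kernel

/-- A finite simple group of order at most 100 that is not cyclic has order 60. -/
theorem result {G : Type*} [Group G] [Finite G] [IsSimpleGroup G]
    (hG : ¬ IsCyclic G) (h : Nat.card G ≤ 100) : Nat.card G = 60 := by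
  rcases check (Nat.card G) (List.mem_range.2 (by omega)) with h0 | h0 | h0 | h0 | h0
  · exact absurd h0 Nat.card_pos.ne'
  · exact absurd h0 card_ne_one
  · exact h0
  · exact absurd h0 (card_mod_four hG)
  · obtain ⟨p, hp, a, ha, h1, h2, h3⟩ := h0
    obtain ⟨k, hk1, hk2, hk3, hk4, hk5, hk6⟩ :=
      sylow_number hG (primes p hp) (pos_of_mem a ha) h1 h2
    rcases h3 k (List.mem_range.2 (by omega)) hk2 hk3 with h4 | h4 | ⟨h4, h5⟩
    · exact absurd h4 hk4
    · exact absurd hk5 h4
    · exact absurd h5 (hk6 h4)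

end Cfsg.Agent.S0493
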