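import Cfsg.Statements.S0806
import Cfsg.Agent.ClassicalGeometry.MinIndexFinal

set_option autoImplicit false
open Cfsg

namespace Cfsg.Agent.S0806

open Cfsg.Agent.ClassicalGeometry.SL2Line Cfsg.Agent.ClassicalGeometry.SL2Borel
open Cfsg.Agent.ClassicalGeometry.MinIndexPSL2

theorem neg_one_mem_center {F : Type*} [Field F] :
    (-1 : Matrix.SpecialLinearGroup (Fin 2) F) ∈
      Subgroup.center (Matrix.SpecialLinearGroup (Fin 2) F) := by
  rw [Subgroup.mem_center_iff]
  intro g
  rw [mul_neg, neg_mul, mul_one, one_mul]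

theorem center_upper {F : Type*} [Field F] (g : Matrix.SpecialLinearGroup (Fin 2) F)
    (hg : g ∈ Subgroup.center (Matrix.SpecialLinearGroup (Fin 2) F)) : g 1 0 = 0 := by
  rw [Subgroup.mem_center_iff] at hg
  have h := congrArg (fun m : Matrix.SpecialLinearGroup (Fin 2) F => m 0 0) (hg (uni 1))
  simp only [sl_mul_apply, uni, mk_00, mk_01, mk_10] at h
  linear_combination h

theorem main_le {F : Type*} [Field F] [Fintype F]
    (H : Subgroup (Matrix.ProjectiveSpecialLinearGroup (Fin 2) F)) (hH : H ≠ ⊤)
    (hidx : H.index ≤ Nat.card F) :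
    Nat.card F = 2 ∨ Nat.card F = 9 ∨ (Odd (Nat.card F) ∧ Nat.card F ≤ 11) := by
  classical
  set π : Matrix.SpecialLinearGroup (Fin 2) F →* Matrix.ProjectiveSpecialLinearGroup (Fin 2) F :=
    QuotientGroup.mk' (Subgroup.center (Matrix.SpecialLinearGroup (Fin 2) F)) with hπ
  have hsurj : Function.Surjective π := QuotientGroup.mk'_surjective _
  have hidx' : (H.comap π).index = H.index := Subgroup.index_comap_of_surjective _ hsurj
  obtain ⟨p, hp⟩ := CharP.exists F
  have : Fact (Nat.Prime p) := ⟨CharP.char_is_prime F p⟩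
  apply Cfsg.Agent.ClassicalGeometry.MinIndexFinal.main (F := F)
    (E := FiniteField.Extension F p 2) (H.comap π)
  · rw [Subgroup.mem_comap]
    have : π (-1) = 1 := by
      rw [hπ, QuotientGroup.mk'_apply, QuotientGroup.eq_one_iff]
      exact neg_one_mem_center
    rw [this]
    exact H.one_mem
  · intro h
    apply hH
    rw [← Subgroup.index_eq_one] at h ⊢
    rw [← hidx', h]
  · rw [hidx']
    exact hidx
  · exact FiniteField.natCard_extension F p 2

theorem exists_index {F : Type*} [Field F] [Fintype F] :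
    ∃ H : Subgroup (Matrix.ProjectiveSpecialLinearGroup (Fin 2) F), H.index = Nat.card F + 1 := by
  classical
  let _ := slLineAction (F := F)
  set π : Matrix.SpecialLinearGroup (Fin 2) F →* Matrix.ProjectiveSpecialLinearGroup (Fin 2) F :=
    QuotientGroup.mk' (Subgroup.center (Matrix.SpecialLinearGroup (Fin 2) F)) with hπ
  refine ⟨(MulAction.stabilizer (Matrix.SpecialLinearGroup (Fin 2) F)
    (OnePoint.infty : OnePoint F)).map π, ?_⟩
  rw [Subgroup.index_map_eq _ (QuotientGroup.mk'_surjective _), index_stabilizer_infty]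
  intro g hg
  rw [QuotientGroup.ker_mk'] at hg
  rw [MulAction.mem_stabilizer_iff, sl_smul_infty_eq_iff]
  exact center_upper g hg

/-- Minimal index (Galois): if q ∉ {2, 3, 5, 7, 9, 11} then every proper subgroup of PSL_2(q) has index ≥ q + 1, and some subgroup has index exactly q + 1. -/
theorem result {F : Type*} [Field F] [Fintype F] {q : ℕ} (hF : Fintype.card F = q) (hq : q ∉ ({2, 3, 5, 7, 9, 11} : Finset ℕ)) : (∀ H : Subgroup (Matrix.ProjectiveSpecialLinearGroup (Fin 2) F), H ≠ ⊤ → q + 1 ≤ H.index) ∧ ∃ H : Subgroup (Matrix.ProjectiveSpecialLinearGroup (Fin 2) F), H.index = q + 1 := by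
  have hF' : Nat.card F = q := by rw [Nat.card_eq_fintype_card, hF]
  have hq1 : 1 < Nat.card F := Finite.one_lt_card
  constructor
  · intro H hH
    by_contra hcon
    have h1 := main_le H hH (by omega)
    rw [hF'] at h1 hq1
    simp only [Finset.mem_insert, Finset.mem_singleton, not_or] at hq
    rcases h1 with h | h | ⟨hodd, h⟩
    · omega
    · omega
    · obtain ⟨m, hm⟩ := hodd
      omega
  · rw [← hF']
    exact exists_index

end Cfsg.Agent.S0806
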