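-- Statement S0420.
import Cfsg.Statements.S0420
import Cfsg.Agent.SporadicA.M11Final
import Cfsg.Agent.SporadicA.M11Iso
import Cfsg.Agent.SporadicA.M11Facts2

set_option autoImplicit false
open scoped Pointwise
open Cfsg

namespace Cfsg.Agent.S0420

/-- Simple groups of order 7920 are all isomorphic to the concrete smallest Mathieu group. -/
theorem result {G : Type*} [Group G] [Finite G] (hG : Cfsg.IsM11 G) (d : Finset Cfsg.GolayPt) (hd : d ∈ Cfsg.dodecads) (p : Cfsg.GolayPt) (hp : p ∈ d) : Nonempty (G ≃* ↥(MulAction.stabilizer Cfsg.M24 d ⊓ MulAction.stabilizer Cfsg.M24 p)) := by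
  have F : Cfsg.Agent.SporadicA.M11Final.Facts G :=
    { simple := hG.1
      card := hG.2
      two := fun x hx => Cfsg.Agent.SporadicA.M11Facts.card_centralizer_two hG hx
      three := fun x hx => Cfsg.Agent.SporadicA.M11Facts2.card_centralizer_three hG hx
      norm := fun P => Cfsg.Agent.SporadicA.M11Norm3.card_normalizer_three hG P
      irr := fun _ hχ hχ1 _ hy => Cfsg.Agent.SporadicA.M11Facts2.irr_five hG hχ hχ1 hy }
  obtain ⟨X, i1, i2, i3, hX, hs⟩ := F.exists_sharp4
  exact Cfsg.Agent.SporadicA.M11Iso.nonempty_mulEquiv_dodecad_point hX hs d hd p hp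

end Cfsg.Agent.S0420
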