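import Cfsg.Statements.S1181
import Cfsg.Agent.S1180

set_option autoImplicit false
open Cfsg

namespace Cfsg.Agent.S1181

/-- Let z be an isolated involution of the finite group G and N a normal subgroup with z ∉ N. Then the centralizer of zN in G/N is the image of C_G(z), and zN is an isolated involution of G/N. -/
theorem result {G : Type*} [Group G] [Finite G] (z : G) (hz : Cfsg.IsIsolatedInvolution z) (N : Subgroup G) [N.Normal] (hzN : z ∉ N) : Subgroup.centralizer ({(QuotientGroup.mk z : G ⧸ N)} : Set (G ⧸ N)) = (Subgroup.centralizer ({z} : Set G)).map (QuotientGroup.mk' N) ∧ Cfsg.IsIsolatedInvolution (QuotientGroup.mk z : G ⧸ N) := by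
  have key : ∀ g : G, (QuotientGroup.mk' N) (g * z * g⁻¹) * (QuotientGroup.mk' N) z
      = (QuotientGroup.mk' N) z * (QuotientGroup.mk' N) (g * z * g⁻¹) →
      (QuotientGroup.mk' N) (g * z * g⁻¹) = (QuotientGroup.mk' N) z := by
    intro g hcomm
    -- take `H` = preimage of `⟨zN, tN⟩`
    set φ := QuotientGroup.mk' N with hφ
    set H : Subgroup G := Subgroup.comap φ (Subgroup.closure {φ z, φ (g * z * g⁻¹)}) with hH
    have hzH : z ∈ H := Subgroup.mem_comap.mpr (Subgroup.subset_closure (by simp))
    have htH : g * z * g⁻¹ ∈ H := Subgroup.mem_comap.mpr (Subgroup.subset_closure (by simp))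
    obtain ⟨h, hh, heq⟩ := Cfsg.Agent.S1180.result z hz H hzH g htH
    have h1 : φ h ∈ Subgroup.centralizer ({φ z} : Set (G ⧸ N)) := by
      have hle : Subgroup.closure {φ z, φ (g * z * g⁻¹)} ≤
          Subgroup.centralizer ({φ z} : Set (G ⧸ N)) := by
        rw [Subgroup.closure_le]
        intro y hy
        simp only [Set.mem_insert_iff, Set.mem_singleton_iff] at hy
        rcases hy with rfl | rfl
        · exact Subgroup.mem_centralizer_singleton_iff.mpr rfl
        · exact Subgroup.mem_centralizer_singleton_iff.mpr hcomm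
      exact hle (Subgroup.mem_comap.mp hh)
    rw [Subgroup.mem_centralizer_singleton_iff] at h1
    rw [← heq, map_mul, map_mul, map_inv, h1, mul_assoc, mul_inv_cancel, mul_one]
  refine ⟨?_, ?_, ?_⟩
  · apply le_antisymm
    · intro y hy
      obtain ⟨x, rfl⟩ := QuotientGroup.mk'_surjective N y
      have hx : (QuotientGroup.mk' N) x * (QuotientGroup.mk' N) z
          = (QuotientGroup.mk' N) z * (QuotientGroup.mk' N) x :=
        Subgroup.mem_centralizer_singleton_iff.mp hy
      -- H = preimage of ⟨zN⟩
      set φ := QuotientGroup.mk' N with hφ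
      set H : Subgroup G := Subgroup.comap φ (Subgroup.zpowers (φ z)) with hH
      have hzH : z ∈ H := Subgroup.mem_comap.mpr (Subgroup.mem_zpowers _)
      have hxz : φ (x * z * x⁻¹) = φ z := by
        rw [map_mul, map_mul, map_inv, hx, mul_assoc, mul_inv_cancel, mul_one]
      have htH : x * z * x⁻¹ ∈ H := Subgroup.mem_comap.mpr (by rw [hxz]; exact Subgroup.mem_zpowers _)
      obtain ⟨h, hh, heq⟩ := Cfsg.Agent.S1180.result z hz H hzH x htH
      obtain ⟨k, hk⟩ := Subgroup.mem_zpowers_iff.mp (Subgroup.mem_comap.mp hh)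
      refine ⟨(z ^ k * h⁻¹ * x), ?_, ?_⟩
      · rw [SetLike.mem_coe, Subgroup.mem_centralizer_singleton_iff]
        have h2 : h⁻¹ * x * z = z * (h⁻¹ * x) := by
          have : h * z * h⁻¹ * x = x * z := by rw [heq]; group
          calc h⁻¹ * x * z = h⁻¹ * (x * z) := by group
            _ = h⁻¹ * (h * z * h⁻¹ * x) := by rw [this]
            _ = z * (h⁻¹ * x) := by group
        calc z ^ k * h⁻¹ * x * z = z ^ k * (h⁻¹ * x * z) := by group
          _ = z ^ k * (z * (h⁻¹ * x)) := by rw [h2]
          _ = z * (z ^ k * h⁻¹ * x) := by group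
      · rw [map_mul, map_mul, map_inv, map_zpow, hk, mul_inv_cancel, one_mul]
    · rintro _ ⟨x, hx, rfl⟩
      have hx' : x * z = z * x := Subgroup.mem_centralizer_singleton_iff.mp hx
      rw [Subgroup.mem_centralizer_singleton_iff]
      change (QuotientGroup.mk' N) x * (QuotientGroup.mk' N) z
          = (QuotientGroup.mk' N) z * (QuotientGroup.mk' N) x
      rw [← map_mul, hx', map_mul]
  · rw [orderOf_eq_prime_iff]
    constructor
    · have : z ^ 2 = 1 := by rw [← hz.1]; exact pow_orderOf_eq_one z
      rw [← QuotientGroup.mk_pow, this, QuotientGroup.mk_one]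
    · intro h
      exact hzN ((QuotientGroup.eq_one_iff z).mp h)
  · intro y hy
    obtain ⟨g, rfl⟩ := QuotientGroup.mk'_surjective N y
    have := key g (by
      have h := hy.eq
      rw [map_mul, map_mul, map_inv]
      exact h.symm)
    rw [map_mul, map_mul, map_inv] at this
    exact this

end Cfsg.Agent.S1181
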