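import Cfsg.Statements.S1186
import Cfsg.Agent.TwoFusion.Isolated

set_option autoImplicit false
open Cfsg

namespace Cfsg.Agent.S1186

open Cfsg.Agent.TwoFusion

/-- if `s` is an involution and `t` an isolated involution, then some conjugate `z'` of `t` commutes
with `s`, and `s z'` commutes with `t`. -/
theorem exists_conj_commute {G : Type*} [Group G] [Finite G] {t s : G}
    (ht : Cfsg.IsIsolatedInvolution t) (hs : s * s = 1) :
    ∃ g : G, Commute (g * t * g⁻¹) s ∧ Commute (s * (g * t * g⁻¹)) t := by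
  have htt : t * t = 1 := Isolated.mul_self ht
  have hti : t⁻¹ = t := Isolated.inv_eq ht
  have hsi : s⁻¹ = s := inv_eq_of_mul_eq_one_left hs
  have hodd := Isolated.odd_orderOf_conj_mul ht s
  rw [hsi] at hodd
  obtain ⟨m, hm⟩ := hodd
  -- `x = s t`
  have hx2 : s * t * s * t = (s * t) ^ 2 := by rw [pow_two]; group
  rw [hx2] at hm
  have hx : ((s * t) ^ 2) ^ (2 * m + 1) = 1 := by rw [← hm]; exact pow_orderOf_eq_one _
  -- the central involution `i = (s t)^(2m+1)`
  have hii : (s * t) ^ (2 * m + 1) * (s * t) ^ (2 * m + 1) = 1 := by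
    rw [← pow_add, ← two_mul, pow_mul]; exact hx
  have hii' : ((s * t) ^ (2 * m + 1))⁻¹ = (s * t) ^ (2 * m + 1) :=
    inv_eq_of_mul_eq_one_left hii
  have hsx : s * (s * t) * s⁻¹ = (s * t)⁻¹ := by
    rw [mul_inv_rev, hsi, hti, ← mul_assoc, hs, one_mul]
  have htx : t * (s * t) * t⁻¹ = (s * t)⁻¹ := by
    rw [mul_inv_rev, hsi, hti, ← mul_assoc, mul_assoc (t * s), htt, mul_one]
  have hsc : Commute s ((s * t) ^ (2 * m + 1)) := by
    have h1 : s * (s * t) ^ (2 * m + 1) * s⁻¹ = (s * t) ^ (2 * m + 1) := by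
      rw [← conj_pow, hsx, inv_pow, hii']
    show s * _ = _ * s
    nth_rewrite 2 [← h1]
    group
  have htc : Commute t ((s * t) ^ (2 * m + 1)) := by
    have h1 : t * (s * t) ^ (2 * m + 1) * t⁻¹ = (s * t) ^ (2 * m + 1) := by
      rw [← conj_pow, htx, inv_pow, hii']
    show t * _ = _ * t
    nth_rewrite 2 [← h1]
    group
  have hconj : ((s * t) ^ m)⁻¹ * t * (((s * t) ^ m)⁻¹)⁻¹ = s * (s * t) ^ (2 * m + 1) := by
    have h1 : t * (s * t) ^ m * t⁻¹ = ((s * t) ^ m)⁻¹ := by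
      rw [← conj_pow, htx, inv_pow]
    rw [inv_inv, ← h1]
    rw [two_mul, pow_succ', pow_add]
    generalize (s * t) ^ m = y
    calc t * y * t⁻¹ * t * y
        = t * (y * y) := by group
      _ = s * s * t * (y * y) := by rw [hs, one_mul]
      _ = s * (s * t * (y * y)) := by simp only [mul_assoc]
  refine ⟨((s * t) ^ m)⁻¹, ?_, ?_⟩
  · rw [hconj]
    exact (Commute.refl s).mul_left hsc.symm
  · rw [hconj, ← mul_assoc, hs, one_mul]
    exact htc.symm

/-- Let z be an isolated involution of the finite group G, C = C_G(z), K the set of elements of odd order inverted by z, and s an involution of C. Then |G| = |C| · |C_K(sz)| · |C_K(s)|. -/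
theorem result {G : Type*} [Group G] [Finite G] (z : G) (hz : Cfsg.IsIsolatedInvolution z) (s : G) (hs : orderOf s = 2) (hsz : Commute s z) : Nat.card G = Nat.card (Subgroup.centralizer ({z} : Set G)) * Nat.card {k : G // Odd (orderOf k) ∧ z * k * z⁻¹ = k⁻¹ ∧ Commute k (s * z)} * Nat.card {k : G // Odd (orderOf k) ∧ z * k * z⁻¹ = k⁻¹ ∧ Commute k s} := by
  classical
  have hzz : z * z = 1 := Isolated.mul_self hz
  have hzi : z⁻¹ = z := Isolated.inv_eq hz
  have hss : s * s = 1 := by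
    have := pow_orderOf_eq_one s
    rw [hs, pow_two] at this
    exact this
  have hsi : s⁻¹ = s := inv_eq_of_mul_eq_one_left hss
  let f : {k : G // Odd (orderOf k) ∧ z * k * z⁻¹ = k⁻¹ ∧ Commute k (s * z)} ×
      {k : G // Odd (orderOf k) ∧ z * k * z⁻¹ = k⁻¹ ∧ Commute k s} →
      G ⧸ (Subgroup.centralizer ({z} : Set G)) :=
    fun p => QuotientGroup.mk ((p.2 : G) * (p.1 : G))
  have hf : Function.Bijective f := by
    constructor
    · rintro ⟨⟨b, hb1, hb2, hb3⟩, ⟨a, ha1, ha2, ha3⟩⟩ ⟨⟨b', hb1', hb2', hb3'⟩, ⟨a', ha1', ha2', ha3'⟩⟩ h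
      have h1 : (QuotientGroup.mk (a * b) : G ⧸ (Subgroup.centralizer ({z} : Set G))) =
        QuotientGroup.mk (a' * b') := h
      rw [QuotientGroup.eq, Isolated.inv_mul_mem_centralizer_iff] at h1
      -- formula for conjugates
      have key : ∀ a b : G, z * a * z⁻¹ = a⁻¹ → z * b * z⁻¹ = b⁻¹ →
          (a * b) * z * (a * b)⁻¹ = a * b ^ 2 * a * z := by
        intro a b ha hb
        have e1 := Isolated.conj_zpow_of_inverts hb 1
        rw [zpow_one, mul_one] at e1
        have e1' : b * z * b⁻¹ = b ^ 2 * z := by exact_mod_cast e1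
        have e2 : z * a⁻¹ = a * z := by
          have := Isolated.mul_zpow_of_inverts ha (-1)
          simpa using this
        calc (a * b) * z * (a * b)⁻¹ = a * (b * z * b⁻¹) * a⁻¹ := by group
          _ = a * (b ^ 2 * z) * a⁻¹ := by rw [e1']
          _ = a * b ^ 2 * (z * a⁻¹) := by group
          _ = a * b ^ 2 * (a * z) := by rw [e2]
          _ = a * b ^ 2 * a * z := by group
      rw [key a b ha2 hb2, key a' b' ha2' hb2'] at h1
      have h2 : a * b ^ 2 * a = a' * b' ^ 2 * a' := (mul_right_cancel h1).symm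
      -- `s` inverts `b` and `b'` and centralises `a`, `a'`
      have hsb : ∀ b : G, z * b * z⁻¹ = b⁻¹ → Commute b (s * z) → s * b * s⁻¹ = b⁻¹ := by
        intro b hb hc
        have e1 : s * z * b = b * (s * z) := hc.eq.symm
        calc s * b * s⁻¹ = s * (z * (z⁻¹ * b * z) * z⁻¹) * s⁻¹ := by group
          _ = (s * z) * (z * b * z⁻¹) * (s * z)⁻¹ := by
            rw [show z⁻¹ * b * z = z * b * z⁻¹ by rw [hzi]]; group
          _ = (s * z) * b⁻¹ * (s * z)⁻¹ := by rw [hb]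
          _ = (s * z * b * (s * z)⁻¹)⁻¹ := by group
          _ = b⁻¹ := by rw [e1, mul_inv_cancel_right]
      have hsa : ∀ a : G, Commute a s → s * a * s⁻¹ = a := by
        intro a ha
        rw [ha.eq.symm, mul_inv_cancel_right]
      have h3 : a * (b ^ 2)⁻¹ * a = a' * (b' ^ 2)⁻¹ * a' := by
        have e : ∀ a b : G, s * a * s⁻¹ = a → s * b * s⁻¹ = b⁻¹ →
            s * (a * b ^ 2 * a) * s⁻¹ = a * (b ^ 2)⁻¹ * a := by
          intro a b ha hb
          calc s * (a * b ^ 2 * a) * s⁻¹ = (s * a * s⁻¹) * (s * b * s⁻¹) ^ 2 * (s * a * s⁻¹) := by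
                rw [conj_pow]; group
            _ = a * (b ^ 2)⁻¹ * a := by rw [ha, hb, inv_pow]
        rw [← e a b (hsa a ha3) (hsb b hb2 hb3), h2, e a' b' (hsa a' ha3') (hsb b' hb2' hb3')]
      -- `u = a * a'⁻² * a`
      have h4 : b ^ 2 * (a * a'⁻¹ * (a'⁻¹ * a)) * (b ^ 2)⁻¹ = (a * a'⁻¹ * (a'⁻¹ * a))⁻¹ := by
        have e1 : a'⁻¹ * a * b ^ 2 * (a * a'⁻¹) = b' ^ 2 := by
          calc a'⁻¹ * a * b ^ 2 * (a * a'⁻¹) = a'⁻¹ * (a * b ^ 2 * a) * a'⁻¹ := by group
            _ = a'⁻¹ * (a' * b' ^ 2 * a') * a'⁻¹ := by rw [h2]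
            _ = b' ^ 2 := by group
        have e2 : (a * a'⁻¹)⁻¹ * b ^ 2 * (a'⁻¹ * a)⁻¹ = b' ^ 2 := by
          calc (a * a'⁻¹)⁻¹ * b ^ 2 * (a'⁻¹ * a)⁻¹ = a' * (a * (b ^ 2)⁻¹ * a)⁻¹ * a' := by group
            _ = a' * (a' * (b' ^ 2)⁻¹ * a')⁻¹ * a' := by rw [h3]
            _ = b' ^ 2 := by group
        have e3 : b ^ 2 * (a * a'⁻¹ * (a'⁻¹ * a)) * (b ^ 2)⁻¹
            = (a'⁻¹ * a)⁻¹ * (a'⁻¹ * a * b ^ 2 * (a * a'⁻¹)) * (a'⁻¹ * a) * (b ^ 2)⁻¹ := by group
        rw [e3, e1, ← e2]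
        simp only [mul_inv_rev, inv_inv, mul_assoc, inv_mul_cancel_left, mul_inv_cancel_left,
          mul_inv_cancel, mul_one]
      have h5 : Odd (orderOf (b ^ 2)) := Odd.of_dvd_nat hb1 (orderOf_pow_dvd 2)
      have h6 := Isolated.inv_eq_of_odd_inverts h5 h4
      -- `u` has odd order
      have h7 : Odd (orderOf (a * a'⁻¹ * (a'⁻¹ * a))) := by
        have e1 : orderOf (a * (a * a'⁻¹ * (a'⁻¹ * a)) * a⁻¹) =
            orderOf (a * a'⁻¹ * (a'⁻¹ * a)) := by
          have := orderOf_injective (MulAut.conj a).toMonoidHom (MulAut.conj a).injective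
            (a * a'⁻¹ * (a'⁻¹ * a))
          simpa using this
        have e2 := Isolated.odd_orderOf_conj_mul (Isolated.conj hz a') (a * a'⁻¹)
        have e3 : a * a'⁻¹ * (a' * z * a'⁻¹) * (a * a'⁻¹)⁻¹ * (a' * z * a'⁻¹) =
            a * (a * a'⁻¹ * (a'⁻¹ * a)) * a⁻¹ := by
          have f1 : z * a'⁻¹ = a' * z := by
            have := Isolated.mul_zpow_of_inverts ha2' (-1)
            simpa using this
          have f2 : a' * z = z * a'⁻¹ := f1.symm
          have f3 : z * a⁻¹ = a * z := by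
            have := Isolated.mul_zpow_of_inverts ha2 (-1)
            simpa using this
          calc a * a'⁻¹ * (a' * z * a'⁻¹) * (a * a'⁻¹)⁻¹ * (a' * z * a'⁻¹)
              = a * (z * a⁻¹) * (a' * z) * a'⁻¹ := by group
            _ = a * (a * z) * (z * a'⁻¹) * a'⁻¹ := by rw [f3, f2]
            _ = a * a * (z * z) * a'⁻¹ * a'⁻¹ := by group
            _ = a * a * a'⁻¹ * a'⁻¹ := by rw [hzz, mul_one]
            _ = a * (a * a'⁻¹ * (a'⁻¹ * a)) * a⁻¹ := by group
        rw [e3, e1] at e2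
        exact e2
      have h8 : (a * a'⁻¹ * (a'⁻¹ * a)) ^ 2 = 1 ^ 2 := by
        rw [one_pow, pow_two]
        nth_rewrite 1 [← h6]
        exact inv_mul_cancel _
      have h9 : a * a'⁻¹ * (a'⁻¹ * a) = 1 := Isolated.eq_of_sq_eq_of_odd h7 (by simp) h8
      have h10 : a ^ 2 = a' ^ 2 := by
        have e1 : a * (a * a'⁻¹ * (a'⁻¹ * a)) * a⁻¹ = a ^ 2 * (a' ^ 2)⁻¹ := by
          rw [pow_two, pow_two]; group
        rw [h9, mul_one, mul_inv_cancel] at e1
        exact (mul_inv_eq_one.mp e1.symm)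
      have h11 : a = a' := Isolated.eq_of_sq_eq_of_odd ha1 ha1' h10
      subst h11
      have h12 : b ^ 2 = b' ^ 2 := by
        have := mul_right_cancel h2
        exact mul_left_cancel this
      have h13 : b = b' := Isolated.eq_of_sq_eq_of_odd hb1 hb1' h12
      subst h13
      rfl
    · intro q
      obtain ⟨g, rfl⟩ := QuotientGroup.mk_surjective q
      -- `t = g z g⁻¹`
      have ht := Isolated.conj hz g
      obtain ⟨h, hh1, hh2⟩ := exists_conj_commute ht hss
      -- `z' = h t h⁻¹ = (h g) z (h g)⁻¹`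
      have e1 : h * (g * z * g⁻¹) * h⁻¹ = (h * g) * z * (h * g)⁻¹ := by group
      rw [e1] at hh1 hh2
      obtain ⟨a, ha0, ha1, ha2, ha3⟩ := Isolated.exists_inverted hz (h * g)
      have has : Commute a s := by
        have h1 : Commute (h * g * z * (h * g)⁻¹ * z) s := hh1.mul_left hsz.symm
        obtain ⟨n, rfl⟩ := Subgroup.mem_zpowers_iff.mp ha0
        exact h1.zpow_left n
      -- `t' = a⁻¹ t a` commutes with `s z`
      obtain ⟨b, hb0, hb1, hb2, hb3⟩ := Isolated.exists_inverted hz (a⁻¹ * g)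
      have hbsz : Commute b (s * z) := by
        have h1 : Commute (a⁻¹ * g * z * (a⁻¹ * g)⁻¹) (s * z) := by
          rw [← ha3] at hh2
          have f1 : s * z = a⁻¹ * (s * (a * z * a⁻¹)) * a := by
            have : s * a = a * s := has.eq.symm
            calc s * z = a⁻¹ * (a * s) * z := by group
              _ = a⁻¹ * (s * a) * z := by rw [this]
              _ = a⁻¹ * (s * (a * z * a⁻¹)) * a := by group
          have f2 : a⁻¹ * g * z * (a⁻¹ * g)⁻¹ = a⁻¹ * (g * z * g⁻¹) * a := by group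
          rw [f1, f2]
          show a⁻¹ * (g * z * g⁻¹) * a * (a⁻¹ * (s * (a * z * a⁻¹)) * a) =
            a⁻¹ * (s * (a * z * a⁻¹)) * a * (a⁻¹ * (g * z * g⁻¹) * a)
          have f3 : (g * z * g⁻¹) * (s * (a * z * a⁻¹)) = (s * (a * z * a⁻¹)) * (g * z * g⁻¹) :=
            hh2.eq.symm
          calc a⁻¹ * (g * z * g⁻¹) * a * (a⁻¹ * (s * (a * z * a⁻¹)) * a)
              = a⁻¹ * ((g * z * g⁻¹) * (s * (a * z * a⁻¹))) * a := by group
            _ = a⁻¹ * ((s * (a * z * a⁻¹)) * (g * z * g⁻¹)) * a := by rw [f3]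
            _ = _ := by group
        have h2 : Commute (a⁻¹ * g * z * (a⁻¹ * g)⁻¹ * z) (s * z) := by
          refine h1.mul_left ?_
          exact hsz.symm.mul_right (Commute.refl z)
        obtain ⟨n, rfl⟩ := Subgroup.mem_zpowers_iff.mp hb0
        exact h2.zpow_left n
      refine ⟨⟨⟨b, hb1, hb2, hbsz⟩, ⟨a, ha1, ha2, has⟩⟩, ?_⟩
      show (QuotientGroup.mk (a * b) : G ⧸ (Subgroup.centralizer ({z} : Set G))) =
        QuotientGroup.mk g
      rw [QuotientGroup.eq, Isolated.inv_mul_mem_centralizer_iff]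
      calc g * z * g⁻¹ = a * (a⁻¹ * g * z * (a⁻¹ * g)⁻¹) * a⁻¹ := by group
        _ = a * (b * z * b⁻¹) * a⁻¹ := by rw [hb3]
        _ = a * b * z * (a * b)⁻¹ := by group
  have hcard := Nat.card_congr (Equiv.ofBijective f hf)
  rw [Nat.card_prod] at hcard
  rw [Subgroup.card_eq_card_quotient_mul_card_subgroup (Subgroup.centralizer ({z} : Set G)), ← hcard]
  ring

end Cfsg.Agent.S1186
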