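import Cfsg.Statements.S0989
import Mathlib

set_option autoImplicit false
open Cfsg

namespace Cfsg.Agent.S0989

open Subgroup

/-- If `P` has prime order `p`, `g ∈ P`, `g ≠ 1`, and all non-identity elements of `P` are
conjugate to `g`, then the normalizer has order `(p - 1) * |C(g)|`. -/
theorem card_normalizer_of_all_conj {G : Type*} [Group G] [Finite G] (p : ℕ) (hp : p.Prime)
    (P : Subgroup G) (hP : Nat.card P = p) (g : G) (hg : g ∈ P) (hg1 : g ≠ 1)
    (hconj : ∀ x ∈ P, x ≠ 1 → IsConj g x) :
    Nat.card ↥(Subgroup.normalizer (P : Set G)) = (p - 1) * Nat.card ↥(Subgroup.centralizer {g}) := by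
  classical
  have hz : ∀ x ∈ P, x ≠ 1 → Subgroup.zpowers x = P := by
    intro x hx hx1
    have hle : Subgroup.zpowers x ≤ P := (Subgroup.zpowers_le).2 hx
    apply Subgroup.eq_of_le_of_card_ge hle
    rw [hP, Nat.card_zpowers]
    have h1 : orderOf x ∣ p := by
      have := Subgroup.orderOf_dvd_natCard P hx
      rwa [hP] at this
    rcases (Nat.dvd_prime hp).1 h1 with h | h
    · exact absurd (orderOf_eq_one_iff.1 h) hx1
    · exact h.ge
  have hmem : ∀ c : G, c * g * c⁻¹ ∈ P → c ∈ Subgroup.normalizer (P : Set G) := by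
    intro c hc
    rw [Subgroup.mem_normalizer_iff_map_conj_eq]
    conv_lhs => rw [← hz g hg hg1]
    rw [MonoidHom.map_zpowers]
    apply hz
    · simpa using hc
    · simpa using hg1
  let N : Subgroup G := Subgroup.normalizer (P : Set G)
  let act : MulAction N G := MulAction.compHom G ((MulAut.conj : G →* MulAut G).comp N.subtype)
  have hsmul : ∀ (n : N) (x : G), n • x = (n : G) * x * (n : G)⁻¹ := fun n x => rfl
  have horb : MulAction.orbit N g = {x : G | x ∈ P ∧ x ≠ 1} := by
    ext x
    constructor
    · rintro ⟨n, rfl⟩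
      refine ⟨?_, ?_⟩
      · show n • g ∈ P
        rw [hsmul]
        exact (Subgroup.mem_normalizer_iff.1 n.2 g).1 hg
      · show n • g ≠ 1
        rw [hsmul]
        simpa using hg1
    · rintro ⟨hx, hx1⟩
      obtain ⟨c, hc⟩ := isConj_iff.1 (hconj x hx hx1)
      refine ⟨⟨c, hmem c (by rw [hc]; exact hx)⟩, ?_⟩
      show c * g * c⁻¹ = x
      exact hc
  have hstab : Nat.card (MulAction.stabilizer N g) = Nat.card ↥(Subgroup.centralizer {g}) := by
    refine Nat.card_congr ⟨fun n => ⟨(n : N), ?_⟩, fun c => ⟨⟨c, hmem c ?_⟩, ?_⟩, ?_, ?_⟩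
    · have := n.2
      rw [MulAction.mem_stabilizer_iff, hsmul] at this
      rw [Subgroup.mem_centralizer_singleton_iff]
      exact mul_inv_eq_iff_eq_mul.1 this
    · have := Subgroup.mem_centralizer_singleton_iff.1 c.2
      rw [this]
      simpa using hg
    · rw [MulAction.mem_stabilizer_iff, hsmul]
      have := Subgroup.mem_centralizer_singleton_iff.1 c.2
      exact mul_inv_eq_iff_eq_mul.2 this
    · intro n; rfl
    · intro c; rfl
  have hcount : Nat.card (MulAction.orbit N g) * Nat.card (MulAction.stabilizer N g) =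
      Nat.card N := by
    rw [← Nat.card_prod]
    exact Nat.card_congr (MulAction.orbitProdStabilizerEquivGroup N g)
  have horbc : Nat.card (MulAction.orbit N g) = p - 1 := by
    rw [horb]
    have h1 : {x : G | x ∈ P ∧ x ≠ 1} = (P : Set G) \ {1} := by
      ext x; simp
    rw [h1, Nat.card_coe_set_eq, Set.ncard_sdiff_singleton_of_mem (by exact P.one_mem)]
    rw [← Nat.card_coe_set_eq]
    show Nat.card P - 1 = p - 1
    rw [hP]
  rw [← hcount, horbc, hstab]

theorem factorization_factorial_self (p : ℕ) (hp : p.Prime) : (p.factorial).factorization p = 1 := by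
  have h : p.factorial = p * (p-1).factorial := (Nat.mul_factorial_pred hp.ne_zero).symm
  rw [h, Nat.factorization_mul hp.ne_zero (Nat.factorial_ne_zero _)]
  rw [Finsupp.add_apply, hp.factorization_self]
  rw [Nat.factorization_eq_zero_of_not_dvd]
  rw [hp.dvd_factorial]
  have := hp.two_le
  omega

theorem card_sylow {α : Type*} [Fintype α] [DecidableEq α] (p : ℕ) [Fact p.Prime]
    (hα : Fintype.card α = p ∨ Fintype.card α = p + 1) (P : Sylow p (Equiv.Perm α)) :
    Nat.card (P : Subgroup (Equiv.Perm α)) = p := by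
  have hp : p.Prime := Fact.out
  have h1 := P.card_eq_multiplicity
  have h2 : (Nat.card (Equiv.Perm α)).factorization p = 1 := by
    rw [Nat.card_eq_fintype_card, Fintype.card_perm]
    rcases hα with h | h
    · rw [h, factorization_factorial_self p hp]
    · rw [h, Nat.factorial_succ, Nat.factorization_mul (by omega) (Nat.factorial_ne_zero _),
        Finsupp.add_apply, factorization_factorial_self p hp,
        Nat.factorization_eq_zero_of_not_dvd]
      intro hd
      have : p ∣ 1 := (Nat.dvd_add_right (dvd_refl p)).1 hd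
      exact hp.one_lt.ne' (Nat.dvd_one.1 this)
  rw [h2, pow_one] at h1
  exact h1

/-- In the symmetric group on p or p + 1 letters, p a prime, the normalizer of a Sylow p-subgroup has order p * (p - 1). -/
theorem result {α : Type*} [Fintype α] [DecidableEq α] (p : ℕ) [Fact p.Prime] (hα : Fintype.card α = p ∨ Fintype.card α = p + 1) (P : Sylow p (Equiv.Perm α)) : Nat.card ↥(Subgroup.normalizer ((P : Subgroup (Equiv.Perm α)) : Set (Equiv.Perm α))) = p * (p - 1) := by
  have hp : p.Prime := Fact.out
  have hP := card_sylow p hα P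
  have hord : ∀ x ∈ (P : Subgroup (Equiv.Perm α)), x ≠ 1 → orderOf x = p := by
    intro x hx hx1
    have h1 : orderOf x ∣ p := by
      have := Subgroup.orderOf_dvd_natCard (P : Subgroup (Equiv.Perm α)) hx
      rwa [hP] at this
    rcases (Nat.dvd_prime hp).1 h1 with h | h
    · exact absurd (orderOf_eq_one_iff.1 h) hx1
    · exact h
  have hcyc : ∀ x ∈ (P : Subgroup (Equiv.Perm α)), x ≠ 1 → x.cycleType = {p} := by
    intro x hx hx1
    have h1 := hord x hx hx1
    have h2 : x.IsCycle := Equiv.Perm.isCycle_of_prime_order' (by rw [h1]; exact hp) (by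
      rw [h1]
      have := hp.two_le
      omega)
    rw [h2.cycleType, ← h2.orderOf, h1]
  have hnt : Nontrivial (P : Subgroup (Equiv.Perm α)) := by
    rw [← Finite.one_lt_card_iff_nontrivial, hP]
    exact hp.one_lt
  obtain ⟨⟨g, hg⟩, hg1⟩ := exists_ne (1 : (P : Subgroup (Equiv.Perm α)))
  have hg1' : g ≠ 1 := fun h => hg1 (Subtype.ext h)
  have hmain := card_normalizer_of_all_conj p hp (P : Subgroup (Equiv.Perm α)) hP g hg hg1'
    (fun x hx hx1 => Equiv.Perm.isConj_iff_cycleType_eq.2 (by rw [hcyc x hx hx1, hcyc g hg hg1']))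
  rw [hmain, Equiv.Perm.nat_card_centralizer, hcyc g hg hg1']
  have : (Fintype.card α - p).factorial = 1 := by
    rcases hα with h | h
    · rw [h, Nat.sub_self, Nat.factorial_zero]
    · rw [h, Nat.add_sub_cancel_left, Nat.factorial_one]
  simp [this, mul_comm]

end Cfsg.Agent.S0989
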