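import Cfsg.Statements.S0990
import Mathlib

set_option autoImplicit false
open Cfsg

namespace Cfsg.Agent.S0990

theorem mem_alt_of_odd_pow {α : Type*} [Fintype α] [DecidableEq α] (g : Equiv.Perm α) (n : ℕ)
    (hn : Odd n) (hg : g ^ n = 1) : g ∈ alternatingGroup α := by
  rw [Equiv.Perm.mem_alternatingGroup]
  have h1 : (Equiv.Perm.sign g) ^ n = 1 := by rw [← map_pow, hg, map_one]
  rcases Int.units_eq_one_or (Equiv.Perm.sign g) with h | h
  · exact h
  · rw [h, hn.neg_one_pow] at h1
    rw [h, h1]

theorem card_normalizer_subgroupOf {G : Type*} [Group G] (P A : Subgroup G) (hPA : P ≤ A) :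
    Nat.card ↥(Subgroup.normalizer ((P.subgroupOf A : Subgroup ↥A) : Set ↥A)) *
      A.relIndex (Subgroup.normalizer (P : Set G)) =
      Nat.card ↥(Subgroup.normalizer (P : Set G)) := by
  have h1 : Subgroup.normalizer ((P.subgroupOf A : Subgroup ↥A) : Set ↥A) =
      (Subgroup.normalizer (P : Set G)).subgroupOf A :=
    (Subgroup.subgroupOf_normalizer_eq hPA).symm
  have h2 : Nat.card ↥((Subgroup.normalizer (P : Set G)).subgroupOf A) =
      Nat.card ↥(A ⊓ Subgroup.normalizer (P : Set G)) := by
    rw [inf_comm, ← Subgroup.subgroupOf_map_subtype]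
    exact Nat.card_congr
      (Subgroup.equivMapOfInjective _ _ (Subgroup.subtype_injective A)).toEquiv
  rw [h1, h2, ← Subgroup.inf_relIndex_right A, ← Subgroup.relIndex_bot_left,
    ← Subgroup.relIndex_bot_left (Subgroup.normalizer (P : Set G))]
  exact Subgroup.relIndex_mul_relIndex _ _ _ bot_le inf_le_right

/-- Let p be an odd prime and P a Sylow p-subgroup of the symmetric group on a finite set with at least two elements. Then P is contained in the alternating group, and twice the order of the normalizer of P inside the alternating group equals the order of the normalizer of P in the symmetric group. -/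
theorem result {α : Type*} [Fintype α] [DecidableEq α] (hα : 2 ≤ Fintype.card α) (p : ℕ) [Fact p.Prime] (hp : p ≠ 2) (P : Sylow p (Equiv.Perm α)) : (P : Subgroup (Equiv.Perm α)) ≤ alternatingGroup α ∧ 2 * Nat.card ↥(Subgroup.normalizer ((((P : Subgroup (Equiv.Perm α)).subgroupOf (alternatingGroup α) : Subgroup ↥(alternatingGroup α)) : Set ↥(alternatingGroup α)))) = Nat.card ↥(Subgroup.normalizer ((P : Subgroup (Equiv.Perm α)) : Set (Equiv.Perm α))) := by
  have hodd : Odd p := (Fact.out : p.Prime).odd_of_ne_two hp
  have hPA : (P : Subgroup (Equiv.Perm α)) ≤ alternatingGroup α := by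
    intro g hg
    obtain ⟨k, hk⟩ := P.isPGroup' ⟨g, hg⟩
    refine mem_alt_of_odd_pow g (p ^ k) hodd.pow ?_
    exact congrArg Subtype.val hk
  refine ⟨hPA, ?_⟩
  have : Nontrivial α := Fintype.one_lt_card_iff_nontrivial.1 (by omega)
  have h1 := card_normalizer_subgroupOf (P : Subgroup (Equiv.Perm α)) (alternatingGroup α) hPA
  have h2 : (alternatingGroup α).relIndex
      (Subgroup.normalizer ((P : Subgroup (Equiv.Perm α)) : Set (Equiv.Perm α))) = 2 := by
    rw [← Subgroup.relIndex_sup_right]
    have h3 : Subgroup.normalizer ((P : Subgroup (Equiv.Perm α)) : Set (Equiv.Perm α)) ⊔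
        alternatingGroup α = ⊤ := Sylow.normalizer_sup_eq_top' P hPA
    rw [h3, Subgroup.relIndex_top_right, alternatingGroup.index_eq_two]
  rw [h2] at h1
  rw [← h1, mul_comm]

end Cfsg.Agent.S0990
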