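import Cfsg.Statements.S0382
import Cfsg.Agent.S0361
import Cfsg.Agent.S0364
import Cfsg.Agent.S0368

set_option autoImplicit false
open scoped Pointwise
open Cfsg

namespace Cfsg.Agent.S0382

/-- Elements of `M24` preserve the family of dodecads. -/
theorem smul_mem_dodecads (g : Cfsg.M24) {d : Finset Cfsg.GolayPt} (hd : d ∈ Cfsg.dodecads) :
    g • d ∈ Cfsg.dodecads := by
  obtain ⟨h1, h2⟩ := hd
  have hg : (g : Equiv.Perm Cfsg.GolayPt) •
      (supports (golayCode : Set (GolayPt → ZMod 2))) = supports (golayCode : Set (GolayPt → ZMod 2)) :=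
    g.2
  refine ⟨?_, ?_⟩
  · have h3 : (g : Equiv.Perm Cfsg.GolayPt) • d ∈ (g : Equiv.Perm Cfsg.GolayPt) •
      (supports (golayCode : Set (GolayPt → ZMod 2))) := Set.smul_mem_smul_set h1
    rw [hg] at h3
    exact h3
  · have : (g • d).card = d.card := Finset.card_smul_finset (g : Equiv.Perm Cfsg.GolayPt) d
    rw [this, h2]

/-- A dodecad stabiliser in the group of the length-24 code has order 95040 = 2^6·3^3·5·11. -/
theorem result (d : Finset Cfsg.GolayPt) (hd : d ∈ Cfsg.dodecads) : Nat.card (MulAction.stabilizer Cfsg.M24 d) = 95040 := by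
  have horb : MulAction.orbit Cfsg.M24 d = Cfsg.dodecads := by
    ext e
    constructor
    · rintro ⟨g, rfl⟩
      exact smul_mem_dodecads g hd
    · intro he
      obtain ⟨g, hg⟩ := Cfsg.Agent.S0368.result d e hd he
      exact ⟨g, hg⟩
  have h1 := Cfsg.Agent.S0361.result
  have h2 := Cfsg.Agent.S0364.result
  have h3 : Nat.card (MulAction.orbit Cfsg.M24 d) * Nat.card (MulAction.stabilizer Cfsg.M24 d) =
      Nat.card Cfsg.M24 := by
    rw [← Nat.card_prod]
    exact Nat.card_congr (MulAction.orbitProdStabilizerEquivGroup Cfsg.M24 d)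
  rw [horb, Nat.card_coe_set_eq, h1, h2] at h3
  omega

end Cfsg.Agent.S0382
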