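import Cfsg.Statements.S0419
import Cfsg.Agent.SporadicA.SharpSimple

set_option autoImplicit false
open Cfsg

namespace Cfsg.Agent.S0419

open Cfsg.Agent.SporadicA.SharpSimple

/-- A sharply 5-transitive group of degree 12 is simple of order 95040. -/
theorem result {α : Type*} [Fintype α] [DecidableEq α] (hα : Fintype.card α = 12) (G : Subgroup (Equiv.Perm α)) [MulAction.IsMultiplyPretransitive G α 5] (hsharp : ∀ x : Fin 5 ↪ α, MulAction.stabilizer G x = ⊥) : Cfsg.IsM12 G := by
  have hcard : Nat.card G = 95040 := by
    rw [card_of_sharp G 5 (by rw [hα]; norm_num) hsharp, hα]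
    rfl
  refine ⟨?_, hcard⟩
  have hf11 : Fact (Nat.Prime 11) := ⟨by norm_num⟩
  obtain ⟨P⟩ : Nonempty (Sylow 11 G) := inferInstance
  have h5 : MulAction.IsMultiplyPretransitive G α 5 := inferInstance
  have h3 : MulAction.IsMultiplyPretransitive G α 3 :=
    MulAction.isMultiplyPretransitive_of_le (n := 5) (by norm_num)
      (by rw [Nat.card_eq_fintype_card, hα]; norm_num)
  have hPcard : Nat.card (P : Subgroup G) = 11 :=
    card_sylow_eq P (by rw [hcard]; norm_num) (by rw [hcard]; norm_num)
  have hdvd : Nat.card (Subgroup.normalizer ((P : Subgroup G) : Set G)) ∣ 11 * (11 - 1) :=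
    card_normalizer_dvd (by norm_num) (Or.inr (by rw [hα])) G P hPcard
  have hmul := card_sylow_mul P
  have hmod := card_sylow_modEq_one 11 G
  rw [hcard] at hmul
  have hN : Nat.card (Subgroup.normalizer ((P : Subgroup G) : Set G)) = 11 * 5 := by
    have hmem : Nat.card (Subgroup.normalizer ((P : Subgroup G) : Set G)) ∈ Nat.divisors 110 := by
      rw [Nat.mem_divisors]
      exact ⟨hdvd, by norm_num⟩
    have hdiv : Nat.divisors 110 = {1, 2, 5, 10, 11, 22, 55, 110} := by decide
    rw [hdiv] at hmem
    generalize Nat.card (Subgroup.normalizer ((P : Subgroup G) : Set G)) = d at hmem hmul ⊢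
    generalize Nat.card (Sylow 11 G) = n at hmul hmod
    simp only [Finset.mem_insert, Finset.mem_singleton] at hmem
    unfold Nat.ModEq at hmod
    rcases hmem with h | h | h | h | h | h | h | h <;> subst h <;> omega
  apply isSimple_of_sylow (q := 5) (by norm_num) P hPcard hN
  · intro N hNn hNb
    exact dvd_card_of_normal h3 (r := 2) (s := 3) (p := 11)
      (by rw [Nat.card_eq_fintype_card, hα]) (by norm_num) (by norm_num) (by norm_num)
      (by norm_num) (by norm_num) (by norm_num) N hNn hNb
  · intro h
    rw [Subgroup.normalizer_eq_top_iff.2 h, Subgroup.card_top, hcard] at hN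
    omega

end Cfsg.Agent.S0419
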