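import Cfsg.Statements.S0383
import Cfsg.Agent.S0384
import Cfsg.Agent.S0419

set_option autoImplicit false
open scoped Pointwise
open Cfsg

namespace Cfsg.Agent.S0383

/-- An element of the stabiliser of `d` permutes the points of `d`. -/
theorem mem_iff {d : Finset Cfsg.GolayPt} (g : MulAction.stabilizer Cfsg.M24 d) (x : Cfsg.GolayPt) :
    ((g : Cfsg.M24) : Equiv.Perm Cfsg.GolayPt) x ∈ d ↔ x ∈ d := by
  have h : ((g : Cfsg.M24) : Equiv.Perm Cfsg.GolayPt) • d = d := g.2
  have h2 := Finset.smul_mem_smul_finset_iff (s := d) (b := x)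
    ((g : Cfsg.M24) : Equiv.Perm Cfsg.GolayPt)
  rw [h] at h2
  exact h2

/-- The action of the stabiliser of `d` on the points of `d`. -/
def act (d : Finset Cfsg.GolayPt) :
    MulAction.stabilizer Cfsg.M24 d →* Equiv.Perm {p : Cfsg.GolayPt // p ∈ d} where
  toFun g := Equiv.Perm.subtypePerm ((g : Cfsg.M24) : Equiv.Perm Cfsg.GolayPt) (mem_iff g)
  map_one' := rfl
  map_mul' _ _ := rfl

theorem act_apply {d : Finset Cfsg.GolayPt} (g : MulAction.stabilizer Cfsg.M24 d)
    (x : {p : Cfsg.GolayPt // p ∈ d}) :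
    ((act d g x : {p : Cfsg.GolayPt // p ∈ d}) : Cfsg.GolayPt) =
      ((g : Cfsg.M24) : Equiv.Perm Cfsg.GolayPt) x := rfl

/-- A dodecad stabiliser in the group of the length-24 code is simple. -/
theorem result (d : Finset Cfsg.GolayPt) (hd : d ∈ Cfsg.dodecads) : IsSimpleGroup (MulAction.stabilizer Cfsg.M24 d) := by
  classical
  have hcard : Fintype.card {p : Cfsg.GolayPt // p ∈ d} = 12 := by
    rw [Fintype.card_coe]; exact hd.2
  have key : ∀ x y : Fin 5 ↪ {p : Cfsg.GolayPt // p ∈ d},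
      ∃! g : MulAction.stabilizer Cfsg.M24 d, ∀ i, act d g (x i) = y i := by
    intro x y
    obtain ⟨g, hg, hu⟩ := Cfsg.Agent.S0384.result d hd
      (x.trans (Function.Embedding.subtype _)) (y.trans (Function.Embedding.subtype _))
      (fun i => (x i).2) (fun i => (y i).2)
    refine ⟨g, fun i => Subtype.ext (hg i), fun g' hg' => hu g' fun i => ?_⟩
    exact congrArg Subtype.val (hg' i)
  obtain ⟨x₀⟩ : Nonempty (Fin 5 ↪ {p : Cfsg.GolayPt // p ∈ d}) := by
    apply Function.Embedding.nonempty_of_card_le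
    rw [hcard]; simp
  have hinj : Function.Injective (act d) := by
    rw [injective_iff_map_eq_one]
    intro g hg
    obtain ⟨g', _, hu⟩ := key x₀ x₀
    rw [hu g fun i => by rw [hg]; rfl, hu 1 fun i => by rw [map_one]; rfl]
  let G : Subgroup (Equiv.Perm {p : Cfsg.GolayPt // p ∈ d}) := (act d).range
  have hG : MulAction.IsMultiplyPretransitive G {p : Cfsg.GolayPt // p ∈ d} 5 := by
    refine ⟨fun x y => ?_⟩
    obtain ⟨g, hg, _⟩ := key x y
    refine ⟨⟨act d g, g, rfl⟩, ?_⟩
    exact DFunLike.ext _ _ hg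
  have hsharp : ∀ x : Fin 5 ↪ {p : Cfsg.GolayPt // p ∈ d}, MulAction.stabilizer G x = ⊥ := by
    intro x
    rw [eq_bot_iff]
    rintro ⟨_, g, rfl⟩ hg
    rw [Subgroup.mem_bot]
    obtain ⟨g', _, hu⟩ := key x x
    have h1 : ∀ i, act d g (x i) = x i := by
      intro i
      have := DFunLike.congr_fun (MulAction.mem_stabilizer_iff.1 hg) i
      exact this
    have h2 : g = 1 := by
      rw [hu g h1, hu 1 fun i => by rw [map_one]; rfl]
    apply Subtype.ext
    show act d g = 1
    rw [h2, map_one]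
  have hM := Cfsg.Agent.S0419.result hcard G hsharp
  have e : MulAction.stabilizer Cfsg.M24 d ≃* G := MonoidHom.ofInjective hinj
  have := hM.1
  exact e.isSimpleGroup

end Cfsg.Agent.S0383
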