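import Cfsg.Statements.S0421
import Cfsg.Agent.MTwelve.Final
import Cfsg.Agent.MTwelve.SylowEleven
import Cfsg.Agent.MTwelve.DegreeElevenMain
import Cfsg.Agent.SporadicA.M12OfIndex

set_option autoImplicit false
open scoped Pointwise
open Cfsg

namespace Cfsg.Agent.S0421

/-- Simple groups of order 95040 are all isomorphic to the concrete Mathieu group of degree 12. -/
theorem result {G : Type*} [Group G] [Finite G] (hG : Cfsg.IsM12 G) (d : Finset Cfsg.GolayPt) (hd : d ∈ Cfsg.dodecads) : Nonempty (G ≃* ↥(MulAction.stabilizer Cfsg.M24 d)) := by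
  have hsimple : IsSimpleGroup G := hG.1
  have hc : Nat.card G = 95040 := hG.2
  have := Fintype.ofFinite G
  have h11 : ∀ P : Sylow 11 G, Subgroup.centralizer (P : Set G) = (P : Subgroup G) := fun P =>
    Cfsg.Agent.MTwelve.SylowEleven.centralizer_sylow11 hc P
  have hN : ∀ P : Sylow 11 G, Nat.card (Subgroup.normalizer (P : Set G)) = 55 := fun P =>
    Cfsg.Agent.MTwelve.SylowEleven.card_normalizer_sylow11 hc P
  obtain ⟨H, hH⟩ := Cfsg.Agent.MTwelve.Final.exists_index hc h11 hN
    (Cfsg.Agent.MTwelve.DegreeElevenMain.exists_real_eleven hc h11 hN)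
  exact Cfsg.Agent.SporadicA.M12OfIndex.mulEquiv_of_index_twelve hsimple hc H hH d hd

end Cfsg.Agent.S0421
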