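import Cfsg.Statements.S1294
import Mathlib
import Cfsg.Agent.S0217
import Cfsg.Agent.S0058

set_option autoImplicit false
open Cfsg

namespace Cfsg.Agent.S1294

/-- the join of the values of `θ` on the nonidentity elements of `E`. -/
def W {G : Type*} [Group G] (θ : G → Subgroup G) (E : Subgroup G) : Subgroup G :=
  ⨆ a : {a : G // a ∈ E ∧ a ≠ 1}, θ a

theorem W_def {G : Type*} [Group G] (θ : G → Subgroup G) (E : Subgroup G) :
    W θ E = ⨆ a : {a : G // a ∈ E ∧ a ≠ 1}, θ a := rfl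

theorem le_W {G : Type*} [Group G] (θ : G → Subgroup G) (E : Subgroup G) {a : G} (ha : a ∈ E)
    (ha1 : a ≠ 1) : θ a ≤ W θ E :=
  le_iSup (fun a : {a : G // a ∈ E ∧ a ≠ 1} => θ a) ⟨a, ha, ha1⟩

theorem orderOf_of_mem {G : Type*} [Group G] (p : ℕ) [Fact p.Prime] {E : Subgroup G}
    (hE : IsElementaryAbelian p E) {a : G} (ha : a ∈ E) (ha1 : a ≠ 1) : orderOf a = p :=
  orderOf_eq_prime (hE.2 a ha) ha1

/-- the order of an elementary abelian `p`-group is a power of `p` -/
theorem isPGroup_of_elem {G : Type*} [Group G] (p : ℕ) {E : Subgroup G}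
    (hE : IsElementaryAbelian p E) : IsPGroup p E := by
  intro x
  refine ⟨1, ?_⟩
  have := hE.2 x x.2
  ext
  simpa using this

theorem card_ge {G : Type*} [Group G] [Finite G] (p : ℕ) [hp : Fact p.Prime] {E : Subgroup G}
    (hE : IsElementaryAbelian p E) {k : ℕ} (h : p ^ k < Nat.card E) : p ^ (k + 1) ≤ Nat.card E := by
  obtain ⟨n, hn⟩ := (IsPGroup.iff_card (p := p)).1 (isPGroup_of_elem p hE)
  rw [hn] at h ⊢
  have := (Nat.pow_lt_pow_iff_right hp.out.one_lt).1 h
  exact Nat.pow_le_pow_right hp.out.pos this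

theorem elem_comm {G : Type*} [Group G] {p : ℕ} {A : Subgroup G}
    (hA : IsElementaryAbelian p A) : ∀ a ∈ A, ∀ b ∈ A, a * b = b * a := by
  intro a ha b hb
  have := hA.1
  exact Subgroup.mul_comm_of_mem_isMulCommutative A ha hb

/-- join of commuting elementary abelian subgroups -/
theorem elem_sup {G : Type*} [Group G] (p : ℕ) {A B : Subgroup G}
    (hA : IsElementaryAbelian p A) (hB : IsElementaryAbelian p B)
    (hAB : ∀ a ∈ A, ∀ b ∈ B, a * b = b * a) : IsElementaryAbelian p (A ⊔ B) := by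
  have hAc := elem_comm hA
  have hBc := elem_comm hB
  have hcl : Subgroup.closure ((A : Set G) ∪ B) = A ⊔ B := by
    rw [Subgroup.closure_union, Subgroup.closure_eq, Subgroup.closure_eq]
  have hmc : IsMulCommutative (A ⊔ B : Subgroup G) := by
    rw [← hcl]
    refine Subgroup.isMulCommutative_closure ?_
    rintro x (hx | hx) y (hy | hy)
    · exact hAc x hx y hy
    · exact hAB x hx y hy
    · exact (hAB y hy x hx).symm
    · exact hBc x hx y hy
  refine ⟨hmc, ?_⟩
  have key : ∀ x ∈ Subgroup.closure ((A : Set G) ∪ B), x ^ p = 1 := by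
    intro x hx
    induction hx using Subgroup.closure_induction with
    | mem x hx =>
      rcases hx with hx | hx
      · exact hA.2 x hx
      · exact hB.2 x hx
    | one => exact one_pow p
    | mul x y hx hy hx1 hy1 =>
      rw [hcl] at hx hy
      have hc : Commute x y := Subgroup.mul_comm_of_mem_isMulCommutative (A ⊔ B) hx hy
      rw [hc.mul_pow, hx1, hy1, one_mul]
    | inv x hx hx1 => rw [inv_pow, hx1, inv_one]
  intro x hx
  rw [← hcl] at hx
  exact key x hx

/-- from rank of a centraliser of a subgroup, one gets an elementary abelian subgroup -/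
theorem exists_elem_of_not_rankLE {G : Type*} [Group G] [Finite G] (p : ℕ) [hp : Fact p.Prime]
    {C : Subgroup G} (h : ¬ PRankLE p 2 C) :
    ∃ B : Subgroup G, B ≤ C ∧ IsElementaryAbelian p B ∧ p ^ 3 ≤ Nat.card B := by
  unfold PRankLE at h
  push Not at h
  obtain ⟨B, hB1, hB2, hB3⟩ := h
  have hE : IsElementaryAbelian p (B.map C.subtype) := by
    refine ⟨inferInstance, ?_⟩
    rintro _ ⟨b, hb, rfl⟩
    have := hB2 b hb
    rw [← map_pow, this, map_one]
  have hcard : Nat.card (B.map C.subtype) = Nat.card B :=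
    Nat.card_congr (B.equivMapOfInjective C.subtype C.subtype_injective).symm.toEquiv
  refine ⟨B.map C.subtype, Subgroup.map_subtype_le B, hE, card_ge p hE ?_⟩
  rw [hcard]; exact hB3

/-- conversely -/
theorem not_rankLE_of_elem {G : Type*} [Group G] [Finite G] (p : ℕ) [hp : Fact p.Prime]
    {C B : Subgroup G} (hBC : B ≤ C) (hB : IsElementaryAbelian p B) (h3 : p ^ 3 ≤ Nat.card B) :
    ¬ PRankLE p 2 C := by
  intro h
  have h1 := h (B.subgroupOf C) (by
      have := hB.1
      infer_instance) (by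
      intro a ha
      ext
      simpa using hB.2 a ha)
  have hcard : Nat.card (B.subgroupOf C) = Nat.card B :=
    Nat.card_congr (Subgroup.subgroupOfEquivOfLe hBC).toEquiv
  rw [hcard] at h1
  have h2 : p ^ 2 < p ^ 3 := Nat.pow_lt_pow_right hp.out.one_lt (by norm_num)
  omega

/-- an elementary abelian subgroup of order at least `p ^ 3` gives rank > 2 for all centralisers of its
subsets -/
theorem elem_le_centralizer {G : Type*} [Group G] {p : ℕ}
    {A E : Subgroup G} (hA : IsElementaryAbelian p A) (hEA : E ≤ A) :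
    A ≤ Subgroup.centralizer (E : Set G) := by
  intro a ha
  rw [Subgroup.mem_centralizer_iff]
  intro e he
  exact elem_comm hA e (hEA he) a ha

theorem elem_le_centralizer_singleton {G : Type*} [Group G] {p : ℕ}
    {A : Subgroup G} (hA : IsElementaryAbelian p A) {a : G} (ha : a ∈ A) :
    A ≤ Subgroup.centralizer ({a} : Set G) := by
  intro b hb
  rw [Subgroup.mem_centralizer_singleton_iff]
  exact elem_comm hA b hb a ha

theorem vertex_of_big {G : Type*} [Group G] [Finite G] (p : ℕ) [hp : Fact p.Prime]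
    {A : Subgroup G} (hA : IsElementaryAbelian p A) (hA3 : p ^ 3 ≤ Nat.card A) :
    IsRankGraphVertex p 2 A :=
  ⟨hA, le_trans (Nat.pow_le_pow_right hp.out.pos (by norm_num)) hA3,
    not_rankLE_of_elem p (elem_le_centralizer hA le_rfl) hA hA3⟩

theorem exists_big_of_vertex {G : Type*} [Group G] [Finite G] (p : ℕ) [hp : Fact p.Prime]
    {E : Subgroup G} (hE : IsRankGraphVertex p 2 E) :
    ∃ A : Subgroup G, E ≤ A ∧ IsElementaryAbelian p A ∧ p ^ 3 ≤ Nat.card A := by
  obtain ⟨B, hBC, hB, hB3⟩ := exists_elem_of_not_rankLE p hE.2.2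
  refine ⟨E ⊔ B, le_sup_left, elem_sup p hE.1 hB ?_, ?_⟩
  · intro a ha b hb
    exact (Subgroup.mem_centralizer_iff.1 (hBC hb)) a ha
  · exact le_trans hB3 (Subgroup.card_le_of_le le_sup_right)

theorem IsElementaryAbelian_map {G : Type*} [Group G] {p : ℕ} {A : Subgroup G}
    (hA : IsElementaryAbelian p A) (f : G →* G) : IsElementaryAbelian p (A.map f) := by
  have := hA.1
  refine ⟨inferInstance, ?_⟩
  rintro _ ⟨b, hb, rfl⟩
  rw [← map_pow, hA.2 b hb, map_one]

theorem big_conj {G : Type*} [Group G] [Finite G] (p : ℕ) [hp : Fact p.Prime]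
    {A : Subgroup G} (hA : IsElementaryAbelian p A) (hA3 : p ^ 3 ≤ Nat.card A) (g : G) :
    IsElementaryAbelian p (A.map (MulAut.conj g).toMonoidHom) ∧
      p ^ 3 ≤ Nat.card (A.map (MulAut.conj g).toMonoidHom) := by
  refine ⟨IsElementaryAbelian_map hA _, ?_⟩
  rwa [Nat.card_congr (A.equivMapOfInjective _ (MulAut.conj g).injective).symm.toEquiv]

section main

variable {G : Type*} [Group G] [Finite G] (p : ℕ) [Fact p.Prime] (θ : G → Subgroup G)
  (hC : ∀ a : G, (orderOf a = p ∧ ¬ Cfsg.PRankLE p 2 ↥(Subgroup.centralizer ({a} : Set G))) →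
    θ a ≤ Subgroup.centralizer ({a} : Set G) ∧ ¬ p ∣ Nat.card ↥(θ a) ∧ Group.IsSolvable ↥(θ a))
  (heq : ∀ a g : G, (orderOf a = p ∧ ¬ Cfsg.PRankLE p 2 ↥(Subgroup.centralizer ({a} : Set G))) →
    θ (g * a * g⁻¹) = (θ a).map (MulAut.conj g).toMonoidHom)
  (hbal : ∀ a b : G, (orderOf a = p ∧ ¬ Cfsg.PRankLE p 2 ↥(Subgroup.centralizer ({a} : Set G))) →
    (orderOf b = p ∧ ¬ Cfsg.PRankLE p 2 ↥(Subgroup.centralizer ({b} : Set G))) → a * b = b * a →
    θ a ⊓ Subgroup.centralizer {b} ≤ θ b)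

include hC heq hbal

theorem good_of_mem {A : Subgroup G} (hA : IsElementaryAbelian p A) (hA3 : p ^ 3 ≤ Nat.card A)
    {a : G} (ha : a ∈ A) (ha1 : a ≠ 1) :
    orderOf a = p ∧ ¬ Cfsg.PRankLE p 2 ↥(Subgroup.centralizer ({a} : Set G)) :=
  ⟨orderOf_of_mem p hA ha ha1, not_rankLE_of_elem p (elem_le_centralizer_singleton hA ha) hA hA3⟩

theorem functor_complete {A : Subgroup G} (hA : IsElementaryAbelian p A)
    (hA3 : p ^ 3 ≤ Nat.card A) :
    ¬ p ∣ Nat.card (W θ A) ∧ ∀ a ∈ A, a ≠ 1 → W θ A ⊓ Subgroup.centralizer {a} = θ a := by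
  have hg : ∀ a ∈ A, a ≠ 1 →
      orderOf a = p ∧ ¬ Cfsg.PRankLE p 2 ↥(Subgroup.centralizer ({a} : Set G)) :=
    fun a ha ha1 => good_of_mem p θ hC heq hbal hA hA3 ha ha1
  refine Cfsg.Agent.S0217.result A (elem_comm hA) hA.2 hA3 θ
    (fun a ha ha1 => (hC a (hg a ha ha1)).1) (fun a ha ha1 => (hC a (hg a ha ha1)).2.1)
    ?_ (fun a ha ha1 => (hC a (hg a ha ha1)).2.2) ?_
  · intro a ha ha1 b hb x hx
    have h1 := heq a b (hg a ha ha1)
    have h2 : b * a * b⁻¹ = a := by
      rw [elem_comm hA b hb a ha, mul_inv_cancel_right]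
    rw [h2] at h1
    rw [h1]
    exact ⟨x, hx, rfl⟩
  · intro a ha ha1 b hb hb1
    exact hbal a b (hg a ha ha1) (hg b hb hb1) (elem_comm hA a ha b hb)

/-- the closure on `A` is normalised by `A` -/
theorem le_normalizer_W {A : Subgroup G} (hA : IsElementaryAbelian p A)
    (hA3 : p ^ 3 ≤ Nat.card A) : A ≤ Subgroup.normalizer (W θ A : Set G) := by
  have hle : ∀ b ∈ A, (W θ A).map (MulAut.conj b).toMonoidHom ≤ W θ A := by
    intro b hb
    rw [W_def, Subgroup.map_iSup]
    refine iSup_le ?_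
    rintro ⟨a, ha, ha1⟩
    have h1 := heq a b (good_of_mem p θ hC heq hbal hA hA3 ha ha1)
    have h2 : b * a * b⁻¹ = a := by
      rw [elem_comm hA b hb a ha, mul_inv_cancel_right]
    rw [h2] at h1
    rw [← h1]
    exact le_W θ A ha ha1
  intro b hb
  rw [Subgroup.mem_normalizer_iff]
  intro x
  constructor
  · intro hx
    exact hle b hb ⟨x, hx, rfl⟩
  · intro hx
    have := hle b⁻¹ (inv_mem hb) ⟨_, hx, rfl⟩
    simpa [mul_assoc] using this

theorem W_eq_of_le {A E : Subgroup G} (hA : IsElementaryAbelian p A)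
    (hA3 : p ^ 3 ≤ Nat.card A) (hEA : E ≤ A) (hE2 : p ^ 2 ≤ Nat.card E) : W θ E = W θ A := by
  have hp : p.Prime := Fact.out
  obtain ⟨h1, h2⟩ := functor_complete p θ hC heq hbal hA hA3
  have hE : IsElementaryAbelian p E := by
    refine ⟨?_, fun a ha => hA.2 a (hEA ha)⟩
    refine IsMulCommutative.of_setLike_mul_comm ?_
    intro a ha b hb
    exact elem_comm hA a (hEA ha) b (hEA hb)
  haveI := hE.1
  have hncyc : ¬ IsCyclic E := by
    intro hcyc
    obtain ⟨g, hg⟩ := IsCyclic.exists_generator (α := E)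
    have h3 : orderOf g = Nat.card E := orderOf_eq_card_of_forall_mem_zpowers hg
    have h4 : g ^ p = 1 := by
      ext
      simpa using hE.2 g g.2
    have h5 : orderOf g ≤ p := orderOf_le_of_pow_eq_one hp.pos h4
    have h6 : p < p ^ 2 := by
      have := hp.one_lt
      nlinarith
    omega
  have hcop : (Nat.card E).Coprime (Nat.card (W θ A)) := by
    obtain ⟨n, hn⟩ := (IsPGroup.iff_card (p := p)).1 (isPGroup_of_elem p hE)
    rw [hn]
    exact Nat.Coprime.pow_left n ((Nat.Prime.coprime_iff_not_dvd hp).2 h1)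
  have h7 := Cfsg.Agent.S0058.result E (W θ A) hncyc
    (hEA.trans (le_normalizer_W p θ hC heq hbal hA hA3)) hcop
  apply le_antisymm
  · rw [W_def]
    refine iSup_le ?_
    rintro ⟨a, ha, ha1⟩
    exact le_W θ A (hEA ha) ha1
  · rw [← h7]
    refine iSup₂_le ?_
    rintro a ⟨ha, ha1⟩
    rw [h2 a (hEA ha) ha1]
    exact le_W θ E ha ha1

theorem W_eq_of_adj {E E' : Subgroup G} (hE : IsRankGraphVertex p 2 E)
    (hE' : IsRankGraphVertex p 2 E') (hcomm : ∀ a ∈ E, ∀ b ∈ E', a * b = b * a) :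
    W θ E = W θ E' := by
  have hD : IsElementaryAbelian p (E ⊔ E') := elem_sup p hE.1 hE'.1 hcomm
  by_cases h3 : p ^ 3 ≤ Nat.card (E ⊔ E' : Subgroup G)
  · rw [W_eq_of_le p θ hC heq hbal hD h3 le_sup_left hE.2.1,
      W_eq_of_le p θ hC heq hbal hD h3 le_sup_right hE'.2.1]
  · have hle : Nat.card (E ⊔ E' : Subgroup G) ≤ p ^ 2 := by
      by_contra hlt
      exact h3 (card_ge p hD (by omega))
    have h1 : E = E ⊔ E' := Subgroup.eq_of_le_of_card_ge le_sup_left (hle.trans hE.2.1)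
    have h2 : E' = E ⊔ E' := Subgroup.eq_of_le_of_card_ge le_sup_right (hle.trans hE'.2.1)
    rw [h1.trans h2.symm]

theorem W_eq_of_connected (hconn : Cfsg.IsRankGraphConnected p 2 G) {E E' : Subgroup G}
    (hE : IsRankGraphVertex p 2 E)
    (hE' : IsRankGraphVertex p 2 E') : W θ E = W θ E' := by
  have h := hconn E E' hE hE'
  clear hE hE'
  induction h with
  | refl => rfl
  | tail _ hbc ih =>
    rw [ih]
    exact W_eq_of_adj p θ hC heq hbal hbc.1 hbc.2.1 hbc.2.2

theorem W_conj {A : Subgroup G} (hA : IsElementaryAbelian p A) (hA3 : p ^ 3 ≤ Nat.card A) (g : G) :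
    (W θ A).map (MulAut.conj g).toMonoidHom ≤ W θ (A.map (MulAut.conj g).toMonoidHom) := by
  rw [W_def, Subgroup.map_iSup]
  refine iSup_le ?_
  rintro ⟨a, ha, ha1⟩
  have h1 := heq a g (good_of_mem p θ hC heq hbal hA hA3 ha ha1)
  rw [← h1]
  refine le_W θ _ ⟨a, ha, rfl⟩ ?_
  intro h
  apply ha1
  have := congrArg (fun x => g⁻¹ * x * g) h
  simpa [mul_assoc] using this

end main

/-- Let G be finite with O_{p'}(G) = 1 and p-rank at least 3, whose reduced rank-2 commuting graph for p is connected. Let θ assign to every element a of order p with m_p(C_G(a)) ≥ 3 a solvable subgroup θ a ≤ C_G(a) of order prime to p, so that θ (g a g⁻¹) = g (θ a) g⁻¹ for all g and θ a ∩ C_G(b) ≤ θ b for commuting such a, b. Then θ a = 1 for every such a. -/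
theorem result {G : Type*} [Group G] [Finite G] (p : ℕ) [Fact p.Prime] (hO : Cfsg.pPrimeCore p G = ⊥) (hrk : ¬ Cfsg.PRankLE p 2 G) (hconn : Cfsg.IsRankGraphConnected p 2 G) (θ : G → Subgroup G) (hC : ∀ a : G, (orderOf a = p ∧ ¬ Cfsg.PRankLE p 2 ↥(Subgroup.centralizer ({a} : Set G))) → θ a ≤ Subgroup.centralizer ({a} : Set G) ∧ ¬ p ∣ Nat.card ↥(θ a) ∧ Group.IsSolvable ↥(θ a)) (heq : ∀ a g : G, (orderOf a = p ∧ ¬ Cfsg.PRankLE p 2 ↥(Subgroup.centralizer ({a} : Set G))) → θ (g * a * g⁻¹) = (θ a).map (MulAut.conj g).toMonoidHom) (hbal : ∀ a b : G, (orderOf a = p ∧ ¬ Cfsg.PRankLE p 2 ↥(Subgroup.centralizer ({a} : Set G))) → (orderOf b = p ∧ ¬ Cfsg.PRankLE p 2 ↥(Subgroup.centralizer ({b} : Set G))) → a * b = b * a → θ a ⊓ Subgroup.centralizer {b} ≤ θ b) (a : G) (ha : (orderOf a = p ∧ ¬ Cfsg.PRankLE p 2 ↥(Subgroup.centralizer ({a} : Set G)))) : θ a = ⊥ := by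
  have hp : p.Prime := Fact.out
  -- an elementary abelian subgroup of rank at least 3 containing a
  obtain ⟨A, haA, hA, hA3⟩ : ∃ A : Subgroup G, a ∈ A ∧ IsElementaryAbelian p A ∧
      p ^ 3 ≤ Nat.card A := by
    obtain ⟨B, hBC, hB, hB3⟩ := exists_elem_of_not_rankLE p ha.2
    have hz : IsElementaryAbelian p (Subgroup.zpowers a) := by
      refine ⟨inferInstance, ?_⟩
      rintro _ ⟨k, rfl⟩
      show (a ^ k) ^ p = 1
      rw [← zpow_natCast, ← zpow_mul, mul_comm, zpow_mul, zpow_natCast, ← ha.1, pow_orderOf_eq_one,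
        one_zpow]
    refine ⟨Subgroup.zpowers a ⊔ B, Subgroup.mem_sup_left (Subgroup.mem_zpowers a),
      elem_sup p hz hB ?_, le_trans hB3 (Subgroup.card_le_of_le le_sup_right)⟩
    rintro _ ⟨k, rfl⟩ b hb
    have h1 : Commute a b := ((Subgroup.mem_centralizer_singleton_iff.1 (hBC hb))).symm
    exact h1.zpow_left k
  have ha1 : a ≠ 1 := by
    rintro rfl
    have := ha.1
    rw [orderOf_one] at this
    exact hp.one_lt.ne this
  have hAv := vertex_of_big p hA hA3
  have hnorm : (W θ A).Normal := by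
    refine ⟨fun x hx g => ?_⟩
    have h1 : g * x * g⁻¹ ∈ W θ (A.map (MulAut.conj g).toMonoidHom) :=
      W_conj p θ hC heq hbal hA hA3 g ⟨x, hx, rfl⟩
    obtain ⟨h2, h3⟩ := big_conj p hA hA3 g
    rwa [W_eq_of_connected p θ hC heq hbal hconn (vertex_of_big p h2 h3) hAv] at h1
  have hle : W θ A ≤ pPrimeCore p G := by
    refine le_sSup ⟨hnorm, ?_⟩
    exact Nat.Coprime.symm ((Nat.Prime.coprime_iff_not_dvd hp).2
      (functor_complete p θ hC heq hbal hA hA3).1)
  rw [hO] at hle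
  exact le_bot_iff.1 ((le_W θ A haA ha1).trans hle)

end Cfsg.Agent.S1294
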