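import Cfsg.Statements.S1295
import Mathlib
import Cfsg.Agent.S1294
import Cfsg.Agent.S1293
import Cfsg.Agent.Lib.Cores
import Cfsg.Agent.SignalizersComponents.Components

set_option autoImplicit false
open Cfsg

namespace Cfsg.Agent.S1295

section core

variable {G : Type*} [Group G] [Finite G] (p : ℕ) [hp : Fact p.Prime]

theorem core_le (a : G) : centralizerPPrimeCore p a ≤ Subgroup.centralizer ({a} : Set G) :=
  Subgroup.map_subtype_le _

theorem core_card (a : G) : ¬ p ∣ Nat.card (centralizerPPrimeCore p a) := by
  unfold centralizerPPrimeCore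
  rw [Subgroup.card_map_of_injective (Subgroup.subtype_injective _)]
  exact (Nat.Prime.coprime_iff_not_dvd hp.out).1 (Lib.Cores.pPrimeCore_coprime p).symm

/-- `O_{p'}(C_G(a))` contains every `p'`-subgroup of `C_G(a)` normalised by `C_G(a)`. -/
theorem le_core (a : G) {N : Subgroup G} (hN : N ≤ Subgroup.centralizer ({a} : Set G))
    (hnorm : Subgroup.centralizer ({a} : Set G) ≤ Subgroup.normalizer (N : Set G))
    (hcard : ¬ p ∣ Nat.card N) : N ≤ centralizerPPrimeCore p a := by
  have h1 : (N.subgroupOf (Subgroup.centralizer ({a} : Set G))).Normal :=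
    (Subgroup.normal_subgroupOf_iff_le_normalizer hN).2 hnorm
  have h2 : N.subgroupOf (Subgroup.centralizer ({a} : Set G)) ≤
      pPrimeCore p (Subgroup.centralizer ({a} : Set G)) := by
    refine Lib.Cores.le_pPrimeCore h1 ?_
    rw [Nat.card_congr (Subgroup.subgroupOfEquivOfLe hN).toEquiv]
    exact ((Nat.Prime.coprime_iff_not_dvd hp.out).2 hcard).symm
  have h3 := Subgroup.map_mono (f := (Subgroup.centralizer ({a} : Set G)).subtype) h2
  rwa [Subgroup.subgroupOf_map_subtype, inf_eq_left.2 hN] at h3

theorem core_normalized (a : G) :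
    Subgroup.centralizer ({a} : Set G) ≤
      Subgroup.normalizer (centralizerPPrimeCore p a : Set G) := by
  have h1 : (centralizerPPrimeCore p a).subgroupOf (Subgroup.centralizer ({a} : Set G)) =
      pPrimeCore p (Subgroup.centralizer ({a} : Set G)) := by
    unfold centralizerPPrimeCore
    rw [Subgroup.subgroupOf, Subgroup.comap_map_eq_self_of_injective
      (Subgroup.subtype_injective _)]
  refine (Subgroup.normal_subgroupOf_iff_le_normalizer (core_le p a)).1 ?_
  rw [h1]
  infer_instance

/-- if `g` carries `C_G(a)` onto `C_G(b)`, it carries `O_{p'}(C_G(a))` into `O_{p'}(C_G(b))` -/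
theorem core_map_le (a b g : G)
    (h : (Subgroup.centralizer ({a} : Set G)).map (MulAut.conj g).toMonoidHom =
      Subgroup.centralizer ({b} : Set G)) :
    (centralizerPPrimeCore p a).map (MulAut.conj g).toMonoidHom ≤ centralizerPPrimeCore p b := by
  refine le_core p b ?_ ?_ ?_
  · rw [← h]
    exact Subgroup.map_mono (core_le p a)
  · rw [← h]
    rintro _ ⟨c, hc, rfl⟩
    have hcn := core_normalized p a hc
    rw [Subgroup.mem_normalizer_iff] at hcn
    rw [Subgroup.mem_normalizer_iff]
    intro x
    constructor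
    · rintro ⟨y, hy, rfl⟩
      refine ⟨c * y * c⁻¹, (hcn y).1 hy, ?_⟩
      simp [mul_assoc]
    · rintro ⟨y, hy, hyx⟩
      refine ⟨c⁻¹ * y * c, (hcn _).2 (by simpa [mul_assoc] using hy), ?_⟩
      have hx : x = (MulAut.conj g).toMonoidHom c⁻¹ * (MulAut.conj g).toMonoidHom y *
          (MulAut.conj g).toMonoidHom c := by
        rw [hyx]
        simp [mul_assoc]
      rw [hx, map_mul, map_mul]
  · rw [Subgroup.card_map_of_injective (MulAut.conj g).injective]
    exact core_card p a

omit [Finite G] in
theorem centralizer_conj (a g : G) :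
    (Subgroup.centralizer ({a} : Set G)).map (MulAut.conj g).toMonoidHom =
      Subgroup.centralizer ({g * a * g⁻¹} : Set G) := by
  ext x
  rw [Subgroup.mem_centralizer_singleton_iff]
  constructor
  · rintro ⟨y, hy, rfl⟩
    have hy' : y * a = a * y := Subgroup.mem_centralizer_singleton_iff.1 hy
    have := congrArg (fun z => g * z * g⁻¹) hy'
    simpa [mul_assoc] using this
  · intro hx
    refine ⟨g⁻¹ * x * g, ?_, by simp [mul_assoc]⟩
    refine Subgroup.mem_centralizer_singleton_iff.2 ?_
    have := congrArg (fun z => g⁻¹ * z * g) hx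
    simpa [mul_assoc] using this

theorem core_conj (a g : G) :
    centralizerPPrimeCore p (g * a * g⁻¹) =
      (centralizerPPrimeCore p a).map (MulAut.conj g).toMonoidHom := by
  apply le_antisymm
  · have h1 := core_map_le p (g * a * g⁻¹) a g⁻¹ (by
      rw [centralizer_conj]; congr 2; group)
    intro x hx
    refine ⟨g⁻¹ * x * g, ?_, by simp [mul_assoc]⟩
    have := h1 ⟨x, hx, rfl⟩
    simpa [mul_assoc] using this
  · exact core_map_le p a (g * a * g⁻¹) g (centralizer_conj a g)

end core

section main

variable {G : Type*} [Group G] [Finite G] (p : ℕ) [hp : Fact p.Prime]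

/-- balance -/
theorem balance {a b : G} (ha : orderOf a = p)
    (hL : pLayer p ↥(Subgroup.centralizer ({b} : Set G)) = ⊥) (hab : a * b = b * a) :
    centralizerPPrimeCore p a ⊓ Subgroup.centralizer ({b} : Set G) ≤
      centralizerPPrimeCore p b := by
  set X := Subgroup.centralizer ({b} : Set G) with hX
  have haX : a ∈ X := Subgroup.mem_centralizer_singleton_iff.2 hab
  set a' : X := ⟨a, haX⟩ with ha'
  have ho : orderOf a' = p := by rw [← ha, ← Subgroup.orderOf_coe]
  set P : Subgroup X := Subgroup.zpowers a' with hP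
  have hPp : IsPGroup p P := by
    refine IsPGroup.of_card (n := 1) ?_
    rw [Nat.card_zpowers, ho, pow_one]
  have hP1 : P ≠ ⊥ := by
    rw [hP, Ne, Subgroup.zpowers_eq_bot]
    intro h
    rw [h, orderOf_one] at ho
    exact hp.out.one_lt.ne ho
  have h1 := (Cfsg.Agent.S1293.result p hL P hPp hP1).2
  -- elements of `X` normalising `P` normalise the core of `C(a)`
  have key : ∀ n : X, n ∈ Subgroup.normalizer (P : Set X) →
      (centralizerPPrimeCore p a).map (MulAut.conj (n : G)).toMonoidHom ≤
        centralizerPPrimeCore p a := by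
    intro n hn
    refine core_map_le p a a n ?_
    rw [centralizer_conj]
    have hmem : n * a' * n⁻¹ ∈ P := (Subgroup.mem_normalizer_iff.1 hn a').1
      (Subgroup.mem_zpowers a')
    have hmem' : n⁻¹ * a' * n ∈ P := by
      have := (Subgroup.mem_normalizer_iff.1 (inv_mem hn) a').1 (Subgroup.mem_zpowers a')
      simpa using this
    obtain ⟨k, hk⟩ := hmem
    obtain ⟨l, hl⟩ := hmem'
    have hk' : a ^ k = n * a * (n : G)⁻¹ := by
      have := congrArg (Subtype.val) hk
      simpa using this
    have hl' : a ^ l = (n : G)⁻¹ * a * n := by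
      have := congrArg (Subtype.val) hl
      simpa using this
    ext x
    rw [Subgroup.mem_centralizer_singleton_iff, Subgroup.mem_centralizer_singleton_iff]
    constructor
    · intro hx
      have hx' : Commute x (n * a * (n : G)⁻¹) := hx
      have h2 : (n * a * (n : G)⁻¹) ^ l = a := by
        have : (n * a * (n : G)⁻¹) ^ l = n * a ^ l * (n : G)⁻¹ := by
          rw [conj_zpow]
        rw [this, hl']
        group
      have h3 := hx'.zpow_right l
      rw [h2] at h3
      exact h3
    · intro hx
      rw [← hk']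
      have hx' : Commute x a := hx
      exact hx'.zpow_right k
  -- the subgroup of X
  set D : Subgroup X := (centralizerPPrimeCore p a).subgroupOf X with hD
  have hDN : D ≤ Subgroup.normalizer (P : Set X) := by
    intro x hx
    have hx1 : (x : G) ∈ centralizerPPrimeCore p a := hx
    have hx2 := Subgroup.mem_centralizer_singleton_iff.1 (core_le p a hx1)
    have hx3 : x * a' = a' * x := Subtype.ext hx2
    have hcen : x ∈ Subgroup.centralizer (P : Set X) := by
      rw [Subgroup.mem_centralizer_iff]
      rintro _ ⟨k, rfl⟩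
      have : Commute x a' := hx3
      exact (this.zpow_right k).eq.symm
    exact Subgroup.centralizer_le_normalizer (P : Set X) hcen
  have hDnorm : Subgroup.normalizer (P : Set X) ≤ Subgroup.normalizer (D : Set X) := by
    intro n hn
    rw [Subgroup.mem_normalizer_iff]
    intro x
    constructor
    · intro hx
      have hx1 : (x : G) ∈ centralizerPPrimeCore p a := hx
      show ((n * x * n⁻¹ : X) : G) ∈ centralizerPPrimeCore p a
      exact key n hn ⟨x, hx1, rfl⟩
    · intro hx
      have hx1 : ((n * x * n⁻¹ : X) : G) ∈ centralizerPPrimeCore p a := hx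
      show (x : G) ∈ centralizerPPrimeCore p a
      have := key n⁻¹ (inv_mem hn) ⟨_, hx1, rfl⟩
      simpa [mul_assoc] using this
  have hDcard : (Nat.card D).Coprime p := by
    have h6 : Nat.card D ∣ Nat.card (centralizerPPrimeCore p a) := by
      have h5 : Nat.card ((centralizerPPrimeCore p a).subgroupOf X) =
        Nat.card (((centralizerPPrimeCore p a).subgroupOf X).map X.subtype) :=
        (Subgroup.card_map_of_injective (Subgroup.subtype_injective X)).symm
      rw [hD, h5, Subgroup.subgroupOf_map_subtype]
      exact Subgroup.card_dvd_of_le inf_le_left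
    exact ((Nat.Prime.coprime_iff_not_dvd hp.out).2 fun h => core_card p a (h.trans h6)).symm
  have h2 : D.subgroupOf (Subgroup.normalizer (P : Set X)) ≤
      pPrimeCore p (Subgroup.normalizer (P : Set X)) := by
    refine Lib.Cores.le_pPrimeCore
      ((Subgroup.normal_subgroupOf_iff_le_normalizer hDN).2 hDnorm) ?_
    rwa [Nat.card_congr (Subgroup.subgroupOfEquivOfLe hDN).toEquiv]
  have h3 := Subgroup.map_mono (f := (Subgroup.normalizer (P : Set X)).subtype) h2
  rw [Subgroup.subgroupOf_map_subtype, inf_eq_left.2 hDN] at h3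
  have h4 := Subgroup.map_mono (f := X.subtype) (h3.trans h1)
  rwa [hD, Subgroup.subgroupOf_map_subtype] at h4

/-- a group with trivial `p`-layer and trivial `p'`-core has no component -/
theorem layer_eq_bot (hO : pPrimeCore p G = ⊥) (hL : pLayer p G = ⊥) : layer G = ⊥ := by
  have hinj : Function.Injective (QuotientGroup.mk' (pPrimeCore p G)) := by
    rw [← MonoidHom.ker_eq_bot_iff, QuotientGroup.ker_mk', hO]
  have hbij : Function.Bijective (QuotientGroup.mk' (pPrimeCore p G)) :=
    ⟨hinj, QuotientGroup.mk'_surjective _⟩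
  unfold layer
  rw [sSup_eq_bot]
  intro K hK
  have hK' : IsPComponent p K := by
    refine ⟨hK.1, ?_, ?_⟩
    · exact SignalizersComponents.Components.isComponent_map_equiv
        (MulEquiv.ofBijective _ hbij) hK
    · intro H _ _ hH
      exact Subgroup.map_injective hinj hH
  have h1 : K ≤ pLayer p G := le_sSup hK'
  rw [hL] at h1
  exact le_bot_iff.1 h1

/-- a group with trivial `p`-layer and trivial `p'`-core has `F* = O_p`. -/
theorem genFitting_eq_pCore (hO : pPrimeCore p G = ⊥) (hL : pLayer p G = ⊥) :
    generalizedFittingSubgroup G = pCore p G := by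
  unfold generalizedFittingSubgroup
  rw [layer_eq_bot p hO hL, bot_sup_eq]
  apply le_antisymm
  · rw [Lib.Cores.fittingSubgroup_eq_iSup_pCore]
    refine iSup_le ?_
    rintro ⟨q, hq⟩
    by_cases hqp : q = p
    · subst hqp; exact le_rfl
    · have h1 : pCore q G ≤ pPrimeCore p G := by
        refine Lib.Cores.le_pPrimeCore inferInstance ?_
        haveI : Fact q.Prime := ⟨hq⟩
        obtain ⟨n, hn⟩ := (IsPGroup.iff_card (p := q)).1 (Lib.Cores.pCore_isPGroup (G := G) q)
        rw [hn]
        exact Nat.Coprime.pow_left n ((Nat.coprime_primes hq hp.out).2 hqp)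
      rw [hO] at h1
      exact h1.trans bot_le
  · exact Lib.Cores.pCore_le_fittingSubgroup p

end main

/-- Let G be finite with O_{p'}(G) = 1 and p-rank at least 3, whose reduced rank-2 commuting graph for p is connected. Suppose that for every element a of order p with m_p(C_G(a)) ≥ 3 the p-layer of C_G(a) is trivial and O_{p'}(C_G(a)) is solvable. Then F*(C_G(a)) = O_p(C_G(a)) for every such a. -/
theorem result {G : Type*} [Group G] [Finite G] (p : ℕ) [Fact p.Prime] (hO : Cfsg.pPrimeCore p G = ⊥) (hrk : ¬ Cfsg.PRankLE p 2 G) (hconn : Cfsg.IsRankGraphConnected p 2 G) (hL : ∀ a : G, (orderOf a = p ∧ ¬ Cfsg.PRankLE p 2 ↥(Subgroup.centralizer ({a} : Set G))) → Cfsg.pLayer p ↥(Subgroup.centralizer ({a} : Set G)) = ⊥ ∧ Group.IsSolvable ↥(Cfsg.centralizerPPrimeCore p a)) (a : G) (ha : (orderOf a = p ∧ ¬ Cfsg.PRankLE p 2 ↥(Subgroup.centralizer ({a} : Set G)))) : Cfsg.generalizedFittingSubgroup ↥(Subgroup.centralizer ({a} : Set G)) = Cfsg.pCore p ↥(Subgroup.centralizer ({a} : Set G)) := by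
  have h1 := Cfsg.Agent.S1294.result p hO hrk hconn (fun a => centralizerPPrimeCore p a)
    (fun a ha => ⟨core_le p a, core_card p a, (hL a ha).2⟩)
    (fun a g _ => core_conj p a g)
    (fun a b ha hb hab => balance p ha.1 (hL b hb).1 hab) a ha
  refine genFitting_eq_pCore p ?_ (hL a ha).1
  have h2 : (pPrimeCore p ↥(Subgroup.centralizer ({a} : Set G))).map
      (Subgroup.centralizer ({a} : Set G)).subtype = ⊥ := h1
  exact (Subgroup.map_eq_bot_iff_of_injective _ (Subgroup.subtype_injective _)).1 h2

end Cfsg.Agent.S1295
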