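import Cfsg.Statements.S0213
import Cfsg.Agent.Involutions.PairCount
-- import your own Cfsg.Agent.* helpers here

set_option autoImplicit false
open Cfsg

namespace Cfsg.Agent.S0213

open Cfsg.Agent.Involutions.PairCount

/-- The number of pairs `(u, v)` with `u ~ x₁`, `v ~ x₂`, `z ∈ ⟨uv⟩` only depends on the class
of `z`. -/
theorem card_pairs_eq_of_isConj {G : Type*} [Group G] (x₁ x₂ z z' : G) (h : IsConj z z') :
    Nat.card {p : G × G // IsConj x₁ p.1 ∧ IsConj x₂ p.2 ∧ z ∈ Subgroup.zpowers (p.1 * p.2)} =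
    Nat.card {p : G × G // IsConj x₁ p.1 ∧ IsConj x₂ p.2 ∧ z' ∈ Subgroup.zpowers (p.1 * p.2)} := by
  obtain ⟨g, rfl⟩ := isConj_iff.mp h
  apply Nat.card_congr
  refine Equiv.subtypeEquiv
    (Equiv.prodCongr (MulAut.conj g).toEquiv (MulAut.conj g).toEquiv) ?_
  rintro ⟨u, v⟩
  have key : ∀ x y : G, IsConj x (g * y * g⁻¹) ↔ IsConj x y := by
    intro x y
    have hy : IsConj y (g * y * g⁻¹) := isConj_iff.mpr ⟨g, rfl⟩
    exact ⟨fun h => h.trans hy.symm, fun h => h.trans hy⟩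
  have e : g * u * g⁻¹ * (g * v * g⁻¹) = MulAut.conj g (u * v) := by simp
  simp only [Equiv.prodCongr_apply, Prod.map, MulEquiv.toEquiv_eq_coe, EquivLike.coe_coe,
    MulAut.conj_apply, key]
  rw [e]
  have hz : z ∈ Subgroup.zpowers (u * v) ↔
      g * z * g⁻¹ ∈ Subgroup.zpowers (MulAut.conj g (u * v)) := by
    have h1 : Subgroup.zpowers (MulAut.conj g (u * v)) =
        (Subgroup.zpowers (u * v)).map (MulAut.conj g).toMonoidHom := by
      rw [MonoidHom.map_zpowers]; rfl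
    rw [h1]
    have h2 : g * z * g⁻¹ = (MulAut.conj g).toMonoidHom z := rfl
    rw [h2, Subgroup.mem_map_iff_mem (MulAut.conj g).injective]
  rw [hz]

/-- Thompson Order Formula, two-class case: if every involution of the finite group G is conjugate to exactly one of the non-conjugate involutions x₁, x₂, and nᵢ is the number of pairs (u, v) with u conjugate to x₁, v conjugate to x₂ and xᵢ in the cyclic group generated by uv, then |G| = |C(x₂)| n₁ + |C(x₁)| n₂. -/
theorem result {G : Type*} [Group G] [Finite G] (x₁ x₂ : G) (h₁ : orderOf x₁ = 2) (h₂ : orderOf x₂ = 2) (hnc : ¬ IsConj x₁ x₂) (hall : ∀ t : G, orderOf t = 2 → IsConj x₁ t ∨ IsConj x₂ t) : Nat.card G = Nat.card (Subgroup.centralizer ({x₂} : Set G)) * Nat.card {p : G × G // IsConj x₁ p.1 ∧ IsConj x₂ p.2 ∧ x₁ ∈ Subgroup.zpowers (p.1 * p.2)} + Nat.card (Subgroup.centralizer ({x₁} : Set G)) * Nat.card {p : G × G // IsConj x₁ p.1 ∧ IsConj x₂ p.2 ∧ x₂ ∈ Subgroup.zpowers (p.1 * p.2)} := by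
  classical
  have : Fintype G := Fintype.ofFinite G
  -- notation
  set a₁ := Nat.card {p : G × G // IsConj x₁ p.1 ∧ IsConj x₂ p.2 ∧ x₁ ∈ Subgroup.zpowers (p.1 * p.2)} with ha₁
  set a₂ := Nat.card {p : G × G // IsConj x₁ p.1 ∧ IsConj x₂ p.2 ∧ x₂ ∈ Subgroup.zpowers (p.1 * p.2)} with ha₂
  set c₁ := Nat.card (Subgroup.centralizer ({x₁} : Set G)) with hc₁
  set c₂ := Nat.card (Subgroup.centralizer ({x₂} : Set G)) with hc₂
  have k₁ := card_class_mul_card_centralizer x₁
  have k₂ := card_class_mul_card_centralizer x₂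
  set m₁ := Nat.card {u : G // IsConj x₁ u} with hm₁
  set m₂ := Nat.card {u : G // IsConj x₂ u} with hm₂
  have hord : ∀ x y : G, orderOf x = 2 → IsConj x y → orderOf y = 2 := by
    intro x y hx hxy
    obtain ⟨g, rfl⟩ := isConj_iff.mp hxy
    rw [← hx]
    exact MulEquiv.orderOf_eq (MulAut.conj g) x
  -- the set of pairs
  let s : Finset (G × G) := Finset.univ.filter (fun p => IsConj x₁ p.1 ∧ IsConj x₂ p.2)
  let K₁ : Finset G := Finset.univ.filter (fun z => IsConj x₁ z)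
  let K₂ : Finset G := Finset.univ.filter (fun z => IsConj x₂ z)
  have hK₁ : K₁.card = m₁ := by
    rw [hm₁, Nat.card_eq_fintype_card, Fintype.card_subtype]
  have hK₂ : K₂.card = m₂ := by
    rw [hm₂, Nat.card_eq_fintype_card, Fintype.card_subtype]
  have hs : s.card = m₁ * m₂ := by
    rw [← hK₁, ← hK₂, ← Finset.card_product]
    congr 1
    ext ⟨u, v⟩
    simp [s, K₁, K₂]
  let f : G × G → G := fun p => (p.1 * p.2) ^ (orderOf (p.1 * p.2) / 2)
  have heven : ∀ p ∈ s, Even (orderOf (p.1 * p.2)) := by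
    rintro ⟨u, v⟩ hp
    simp only [s, Finset.mem_filter, Finset.mem_univ, true_and] at hp
    by_contra hodd
    rw [Nat.not_even_iff_odd] at hodd
    have hu := hord _ _ h₁ hp.1
    have hv := hord _ _ h₂ hp.2
    have := isConj_of_odd_orderOf_mul (mul_self_of_orderOf_two hu) (mul_self_of_orderOf_two hv) hodd
    exact hnc ((hp.1.trans this).trans hp.2.symm)
  have hmaps : ∀ p ∈ s, f p ∈ K₁ ∪ K₂ := by
    intro p hp
    have := hall _ (orderOf_pow_half (heven p hp))
    simpa [K₁, K₂, f] using this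
  have hdisj : Disjoint K₁ K₂ := by
    rw [Finset.disjoint_left]
    intro z hz₁ hz₂
    simp only [K₁, K₂, Finset.mem_filter, Finset.mem_univ, true_and] at hz₁ hz₂
    exact hnc (hz₁.trans hz₂.symm)
  have hfib : ∀ z, orderOf z = 2 → (s.filter (fun p => f p = z)).card =
      Nat.card {p : G × G // IsConj x₁ p.1 ∧ IsConj x₂ p.2 ∧ z ∈ Subgroup.zpowers (p.1 * p.2)} := by
    intro z hz
    rw [Nat.card_eq_fintype_card, Fintype.card_subtype]
    congr 1
    ext p
    simp only [Finset.mem_filter, Finset.mem_univ, true_and]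
    constructor
    · rintro ⟨hp, hfz⟩
      have he := heven p hp
      simp only [s, Finset.mem_filter, Finset.mem_univ, true_and] at hp
      exact ⟨hp.1, hp.2, (mem_zpowers_iff_pow_half he hz).mpr hfz⟩
    · rintro ⟨hp1, hp2, hfz⟩
      have hp : p ∈ s := Finset.mem_filter.mpr ⟨Finset.mem_univ _, hp1, hp2⟩
      exact ⟨hp, (mem_zpowers_iff_pow_half (heven p hp) hz).mp hfz⟩
  have hcount := Finset.card_eq_sum_card_fiberwise hmaps
  rw [Finset.sum_union hdisj] at hcount
  have hsum₁ : ∑ z ∈ K₁, (s.filter (fun p => f p = z)).card = m₁ * a₁ := by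
    rw [Finset.sum_congr rfl (g := fun _ => a₁), Finset.sum_const, hK₁, smul_eq_mul]
    intro z hz
    simp only [K₁, Finset.mem_filter, Finset.mem_univ, true_and] at hz
    rw [hfib z (hord _ _ h₁ hz), ha₁]
    exact card_pairs_eq_of_isConj x₁ x₂ z x₁ hz.symm
  have hsum₂ : ∑ z ∈ K₂, (s.filter (fun p => f p = z)).card = m₂ * a₂ := by
    rw [Finset.sum_congr rfl (g := fun _ => a₂), Finset.sum_const, hK₂, smul_eq_mul]
    intro z hz
    simp only [K₂, Finset.mem_filter, Finset.mem_univ, true_and] at hz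
    rw [hfib z (hord _ _ h₂ hz), ha₂]
    exact card_pairs_eq_of_isConj x₁ x₂ z x₂ hz.symm
  rw [hsum₁, hsum₂, hs] at hcount
  -- m₁ m₂ = m₁ a₁ + m₂ a₂,  mᵢ cᵢ = |G|
  have hG : 0 < Nat.card G := Nat.card_pos
  have : Nat.card G * Nat.card G = Nat.card G * (c₂ * a₁ + c₁ * a₂) := by
    calc Nat.card G * Nat.card G = (m₁ * c₁) * (m₂ * c₂) := by rw [k₁, k₂]
      _ = (m₁ * m₂) * (c₁ * c₂) := by ring
      _ = (m₁ * a₁ + m₂ * a₂) * (c₁ * c₂) := by rw [hcount]
      _ = (m₁ * c₁) * (c₂ * a₁) + (m₂ * c₂) * (c₁ * a₂) := by ring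
      _ = Nat.card G * (c₂ * a₁ + c₁ * a₂) := by rw [k₁, k₂]; ring
  exact Nat.eq_of_mul_eq_mul_left hG this

end Cfsg.Agent.S0213
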