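import Cfsg.Statements.S0227
import Cfsg.Agent.Involutions.RigidAut
import Cfsg.Agent.S0205
import Cfsg.Agent.S0215

set_option autoImplicit false
open Cfsg

namespace Cfsg.Agent.S0227

open Cfsg.Agent.Involutions.RigidAut

/-- The derived subgroup of the group of automorphisms fixing a Sylow `2`-subgroup pointwise has odd
order. -/
theorem odd_commutator {G : Type*} [Group G] [Finite G]
    (hO : ∀ N : Subgroup G, N.Normal → Odd (Nat.card N) → N = ⊥) (S : Sylow 2 G)
    (C : Subgroup (MulAut G)) (hC : ∀ φ : MulAut G, φ ∈ C ↔ ∀ s : G, s ∈ S → φ s = s) :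
    Odd (Nat.card (commutator C)) := by
  have hp : Fact (Nat.Prime 2) := ⟨Nat.prime_two⟩
  rw [← Nat.not_even_iff_odd, even_iff_two_dvd]
  intro h2
  obtain ⟨φ, hφ⟩ := exists_prime_orderOf_dvd_card' (G := commutator C) 2 h2
  set ψ : MulAut G := ((φ : C) : MulAut G) with hψ
  have hord : orderOf ψ = 2 := by rw [hψ, Subgroup.orderOf_coe, Subgroup.orderOf_coe, hφ]
  have hψC : ψ ∈ C := (φ : C).2
  have hS : ∀ s ∈ S, ψ s = s := (hC _).mp hψC
  have hψp : IsPGroup 2 (Subgroup.zpowers ψ) := by
    apply IsPGroup.of_card (n := 1)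
    rw [Nat.card_zpowers, hord, pow_one]
  obtain ⟨P, hP⟩ := exists_sylow S ψ hS hψp
  have hiso := isolated S C (fun φ hφ => (hC φ).mp hφ) ψ hψC φ.2 P hP
  have := finite_SD ψ
  have hx2 : orderOf (sx ψ) = 2 := by
    have h1 : orderOf (sx ψ) = orderOf (⟨ψ, Subgroup.mem_zpowers ψ⟩ : Subgroup.zpowers ψ) :=
      orderOf_injective (SemidirectProduct.inr : Subgroup.zpowers ψ →* SD ψ)
        SemidirectProduct.inr_injective _
    rw [h1, ← Subgroup.orderOf_coe]
    exact hord
  have hxP : sx ψ ∈ P := (hP _).mpr (S : Subgroup G).one_mem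
  obtain ⟨N, hN, hNodd, hNc⟩ := Cfsg.Agent.S0215.result P (sx ψ) hx2 hxP hiso
  -- the intersection with `G`
  have hN₀ : N.comap (SemidirectProduct.inl : G →* SD ψ) = ⊥ := by
    apply hO _ inferInstance
    refine Odd.of_dvd_nat hNodd ?_
    exact Subgroup.card_comap_dvd_of_injective N _ SemidirectProduct.inl_injective
  have hone : ∀ g : G, ψ g = g := by
    intro g
    have h1 := hNc (SemidirectProduct.inl g)
    have h2 : sx ψ * SemidirectProduct.inl g * (sx ψ)⁻¹ * (SemidirectProduct.inl g)⁻¹ =
        SemidirectProduct.inl (ψ g * g⁻¹) := by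
      rw [← map_inv SemidirectProduct.inr, ← SemidirectProduct.inl_aut, map_mul, map_inv]
      rfl
    rw [h2] at h1
    have h3 : ψ g * g⁻¹ ∈ N.comap (SemidirectProduct.inl : G →* SD ψ) := h1
    rw [hN₀, Subgroup.mem_bot, mul_inv_eq_one] at h3
    exact h3
  have h1 : ψ = 1 := MulEquiv.ext hone
  rw [h1, orderOf_one] at hord
  exact absurd hord (by norm_num)

/-- Let G be a finite group with no nontrivial normal subgroup of odd order, S a Sylow 2-subgroup, and C the group of automorphisms of G that fix every element of S. Then every Sylow 2-subgroup of C is abelian and has a normal complement in C; in particular C is solvable. -/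
theorem result {G : Type*} [Group G] [Finite G] (hO : ∀ N : Subgroup G, N.Normal → Odd (Nat.card N) → N = ⊥) (S : Sylow 2 G) (C : Subgroup (MulAut G)) (hC : ∀ φ : MulAut G, φ ∈ C ↔ ∀ s : G, s ∈ S → φ s = s) : (∀ T : Sylow 2 ↥C, (∀ a b : ↥T, a * b = b * a) ∧ ∃ N : Subgroup ↥C, N.Normal ∧ Subgroup.IsComplement' N (T : Subgroup ↥C)) ∧ Group.IsSolvable ↥C := by
  have hp : Fact (Nat.Prime 2) := ⟨Nat.prime_two⟩
  have hodd := odd_commutator hO S C hC
  refine ⟨fun T => ?_, ?_⟩
  · -- elements of `T` in the derived group are trivial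
    have hT : ∀ c : C, c ∈ T → c ∈ commutator C → c = 1 := by
      intro c hcT hc
      obtain ⟨n, hn⟩ := T.isPGroup' ⟨c, hcT⟩
      have h1 : c ^ 2 ^ n = 1 := congrArg Subtype.val hn
      have h2 : c ^ Nat.card (commutator C) = 1 := by
        have := pow_card_eq_one' (x := (⟨c, hc⟩ : commutator C))
        exact congrArg Subtype.val this
      have h3 := Nat.dvd_gcd (orderOf_dvd_of_pow_eq_one h1) (orderOf_dvd_of_pow_eq_one h2)
      have h4 : Nat.Coprime (2 ^ n) (Nat.card (commutator C)) :=
        Nat.Coprime.pow_left n (Nat.coprime_two_left.mpr hodd)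
      rw [Nat.Coprime.gcd_eq_one h4, Nat.dvd_one, orderOf_eq_one_iff] at h3
      exact h3
    refine ⟨?_, ?_⟩
    · rintro ⟨a, ha⟩ ⟨b, hb⟩
      apply Subtype.ext
      change a * b = b * a
      have h1 : a * b * a⁻¹ * b⁻¹ = 1 := by
        apply hT
        · exact T.mul_mem (T.mul_mem (T.mul_mem ha hb) (T.inv_mem ha)) (T.inv_mem hb)
        · exact Subgroup.commutator_mem_commutator (Subgroup.mem_top a) (Subgroup.mem_top b)
      rw [mul_inv_eq_one, mul_inv_eq_iff_eq_mul] at h1
      exact h1
    · have hNC : (Subgroup.normalizer (T : Set C)) ≤ Subgroup.centralizer (T : Set C) := by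
        intro c hc
        rw [Subgroup.mem_centralizer_iff]
        intro t ht
        have h1 : c * t * c⁻¹ * t⁻¹ = 1 := by
          apply hT
          · exact T.mul_mem ((Subgroup.mem_normalizer_iff.mp hc t).mp ht) (T.inv_mem ht)
          · exact Subgroup.commutator_mem_commutator (Subgroup.mem_top c) (Subgroup.mem_top t)
        rw [mul_inv_eq_one, mul_inv_eq_iff_eq_mul] at h1
        exact h1.symm
      exact ⟨_, inferInstance, MonoidHom.ker_transferSylow_isComplement' T hNC⟩
  · have h1 : Group.IsSolvable (commutator C) := Cfsg.Agent.S0205.result hodd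
    have h2 : Group.IsSolvable (C ⧸ commutator C) := by
      change Group.IsSolvable (Abelianization C)
      infer_instance
    exact Group.isSolvable_of_ker_le_range (commutator C).subtype (QuotientGroup.mk' (commutator C))
      (by simp)

end Cfsg.Agent.S0227
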