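import Cfsg.Statements.S1173
import Cfsg.Agent.TwoFusion.CentEnd
import Cfsg.Agent.TwoFusion.CentEndBender
import Cfsg.Agent.TwoFusion.CentSimple
import Cfsg.Agent.TwoFusion.ClosedCommutator
import Cfsg.Agent.StrongEmb.Main
import Cfsg.Agent.S0205
import Cfsg.Agent.S0227
import Cfsg.Agent.S1169

set_option autoImplicit false
open Cfsg

namespace Cfsg.Agent.S1173

/-- Let G be a finite group with no nontrivial normal subgroup of odd order, S a Sylow 2-subgroup and T a subgroup of S strongly closed in S. Then the intersection of the derived series of C_G(T) (its perfect core), viewed in G, is a normal subgroup of G. -/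
theorem result {G : Type*} [Group G] [Finite G] (hO : Cfsg.oddCore G = ⊥) (S : Sylow 2 G) (T : Subgroup G) (hT : Cfsg.IsStronglyClosed T (S : Subgroup G)) : ((⨅ n : ℕ, derivedSeries ↥(Subgroup.centralizer (T : Set G)) n).map (Subgroup.centralizer (T : Set G)).subtype).Normal := by
  refine Cfsg.Agent.TwoFusion.CentResidual.normal_of_good
    (Cfsg.Agent.TwoFusion.CentResidual.good_of_end ?_ ?_ ?_ G) hO S T hT
  · intro K _ _ hK
    exact Cfsg.Agent.S0205.result hK
  · intro K _ _ 𝒜 ℬ h
    exact Cfsg.Agent.TwoFusion.ClosedCommutator.fam_commutator_le h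
  · intro K _ _ S X T A hX hXs hTX hT hT1 hT2 hA hAT _ _ hCX
    refine Cfsg.Agent.TwoFusion.CentEnd.end_theorem ?_ ?_ ?_ ?_ ?_ S X T A hX hXs hTX hT hT1 hT2
      hA hAT hCX
    · intro K _ _ hK
      exact Cfsg.Agent.S0205.result hK
    · intro K _ _ hO S C hC
      exact (Cfsg.Agent.S0227.result hO S C hC).2
    · intro K _ _ S A B hAB hA hB
      exact Cfsg.Agent.TwoFusion.ClosedCommutator.commutator_le S A B hAB hA hB
    · intro K _ _ _ S A hA hAc hsc
      exact Cfsg.Agent.S1169.result S A hA hAc hsc
    · intro K _ _ _ hna H hH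
      exact Cfsg.Agent.TwoFusion.CentEndBender.hasQ
        (Cfsg.Agent.StrongEmb.Main.bender K) hna H hH

end Cfsg.Agent.S1173
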