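import Cfsg.Statements.S0352
import Cfsg.Agent.SporadicA.SteinerCount

set_option autoImplicit false
open Cfsg

namespace Cfsg.Agent.S0352

open Finset Cfsg.Agent.SporadicA.SteinerCount

set_option linter.unusedSectionVars false

variable {α : Type*} [Fintype α] [DecidableEq α]

/-- The blocks other than `b` containing a subset `s` of `b` with at most 5 points. -/
theorem card_erase_containing (hα : Fintype.card α = 24) {B : Set (Finset α)}
    (hB : Cfsg.IsSteinerSystem 5 8 B) (F : Finset (Finset α)) (hF : ∀ b, b ∈ F ↔ b ∈ B)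
    {b : Finset α} (hb : b ∈ B) (s : Finset α) (hsb : s ⊆ b) (hs : s.card ≤ 5) :
    (((F.filter (fun d => s ⊆ d)).erase b).card + 1) * (8 - s.card).choose (5 - s.card) =
      (24 - s.card).choose (5 - s.card) := by
  have h := card_blocks_containing hB F hF s hs
  rw [hα] at h
  have hmem : b ∈ F.filter (fun d => s ⊆ d) := by
    rw [mem_filter, hF]; exact ⟨hb, hsb⟩
  rw [card_erase_add_one hmem]
  exact h

theorem filter_mem_erase (F : Finset (Finset α)) (b s : Finset α) (x : α) :
    (((F.filter (fun d => s ⊆ d)).erase b).filter (fun d => x ∈ d)) =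
      (F.filter (fun d => insert x s ⊆ d)).erase b := by
  ext d
  simp only [mem_filter, mem_erase, insert_subset_iff]
  tauto

theorem filter_mem_mem_erase (F : Finset (Finset α)) (b s : Finset α) (x y : α) :
    (((F.filter (fun d => s ⊆ d)).erase b).filter (fun d => x ∈ d ∧ y ∈ d)) =
      (F.filter (fun d => insert x (insert y s) ⊆ d)).erase b := by
  ext d
  simp only [mem_filter, mem_erase, insert_subset_iff]
  tauto

/-- No two distinct blocks meet in exactly three points. -/
theorem card_inter_ne_three (hα : Fintype.card α = 24) {B : Set (Finset α)}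
    (hB : Cfsg.IsSteinerSystem 5 8 B) {b c : Finset α} (hb : b ∈ B) (hc : c ∈ B) :
    (b ∩ c).card ≠ 3 := by
  intro h3
  have hbc : b ≠ c := by
    rintro rfl
    rw [inter_self, hB.1 b hb] at h3
    omega
  set F : Finset (Finset α) := (Set.toFinite B).toFinset with hFdef
  have hF : ∀ b, b ∈ F ↔ b ∈ B := fun b => by rw [hFdef, Set.Finite.mem_toFinset]
  set s := b ∩ c with hs
  have hsb : s ⊆ b := inter_subset_left
  set G := (F.filter (fun d => s ⊆ d)).erase b with hG
  have hGcard : G.card = 20 := by
    have := card_erase_containing hα hB F hF hb s hsb (by omega)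
    rw [h3] at this
    norm_num [Nat.choose] at this
    rw [hG]; omega
  have hsum := sum_inter G (b \ s)
  have hx : ∀ x ∈ b \ s, (G.filter (fun d => x ∈ d)).card = 4 := by
    intro x hx
    rw [mem_sdiff] at hx
    rw [hG, filter_mem_erase]
    have hcard : (insert x s).card = 4 := by
      rw [card_insert_of_notMem hx.2, h3]
    have := card_erase_containing hα hB F hF hb (insert x s)
      (insert_subset hx.1 hsb) (by omega)
    rw [hcard] at this
    norm_num [Nat.choose] at this
    omega
  rw [sum_congr rfl hx, sum_const, card_sdiff_of_subset hsb, hB.1 b hb, h3] at hsum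
  have hle : ∀ d ∈ G, (d ∩ (b \ s)).card ≤ 1 := by
    intro d hd
    rw [hG, mem_erase, mem_filter, hF] at hd
    have h5 := card_inter_lt hB hd.2.1 hb hd.1
    have hsub : s ∪ (d ∩ (b \ s)) ⊆ d ∩ b := by
      apply union_subset
      · exact subset_inter hd.2.2 hsb
      · exact inter_subset_inter_left sdiff_subset
    have hdisj : Disjoint s (d ∩ (b \ s)) := by
      apply Disjoint.mono_right inter_subset_right
      exact disjoint_sdiff
    have := card_le_card hsub
    rw [card_union_of_disjoint hdisj] at this
    omega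
  have hcG : c ∈ G := by
    rw [hG, mem_erase, mem_filter, hF]
    exact ⟨hbc.symm, hc, inter_subset_right⟩
  have hc0 : (c ∩ (b \ s)).card = 0 := by
    rw [card_eq_zero]
    ext x
    simp only [mem_inter, mem_sdiff, hs, notMem_empty, iff_false]
    tauto
  have hlt : ∑ d ∈ G, (d ∩ (b \ s)).card < ∑ d ∈ G, 1 :=
    sum_lt_sum hle ⟨c, hcG, by omega⟩
  rw [sum_const, hGcard] at hlt
  simp only [smul_eq_mul] at hlt hsum
  omega

/-- No two distinct blocks meet in exactly one point. -/
theorem card_inter_ne_one (hα : Fintype.card α = 24) {B : Set (Finset α)}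
    (hB : Cfsg.IsSteinerSystem 5 8 B) {b c : Finset α} (hb : b ∈ B) (hc : c ∈ B) :
    (b ∩ c).card ≠ 1 := by
  intro h1
  have hbc : b ≠ c := by
    rintro rfl
    rw [inter_self, hB.1 b hb] at h1
    omega
  set F : Finset (Finset α) := (Set.toFinite B).toFinset with hFdef
  have hF : ∀ b, b ∈ F ↔ b ∈ B := fun b => by rw [hFdef, Set.Finite.mem_toFinset]
  set s := b ∩ c with hs
  have hsb : s ⊆ b := inter_subset_left
  set G := (F.filter (fun d => s ⊆ d)).erase b with hG
  have hGcard : G.card = 252 := by
    have := card_erase_containing hα hB F hF hb s hsb (by omega)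
    rw [h1] at this
    norm_num [Nat.choose] at this
    rw [hG]; omega
  have hsum := sum_inter G (b \ s)
  have hsum2 := sum_inter_mul G (b \ s) (b \ s)
  have hx : ∀ x ∈ b \ s, (G.filter (fun d => x ∈ d)).card = 76 := by
    intro x hx
    rw [mem_sdiff] at hx
    rw [hG, filter_mem_erase]
    have hcard : (insert x s).card = 2 := by
      rw [card_insert_of_notMem hx.2, h1]
    have := card_erase_containing hα hB F hF hb (insert x s)
      (insert_subset hx.1 hsb) (by omega)
    rw [hcard] at this
    norm_num [Nat.choose] at this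
    omega
  have hxy : ∀ x ∈ b \ s, ∀ y ∈ b \ s,
      (G.filter (fun d => x ∈ d ∧ y ∈ d)).card = if x = y then 76 else 20 := by
    intro x hx' y hy'
    by_cases hxy : x = y
    · subst hxy
      rw [if_pos rfl]
      simpa only [and_self] using hx x hx'
    · rw [if_neg hxy]
      rw [mem_sdiff] at hx' hy'
      rw [hG, filter_mem_mem_erase]
      have hcard : (insert x (insert y s)).card = 3 := by
        rw [card_insert_of_notMem, card_insert_of_notMem hy'.2, h1]
        rw [mem_insert]
        rintro (h | h)
        · exact hxy h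
        · exact hx'.2 h
      have := card_erase_containing hα hB F hF hb (insert x (insert y s))
        (insert_subset hx'.1 (insert_subset hy'.1 hsb)) (by omega)
      rw [hcard] at this
      norm_num [Nat.choose] at this
      omega
  have hcard7 : (b \ s).card = 7 := by
    rw [card_sdiff_of_subset hsb, hB.1 b hb, h1]
  rw [sum_congr rfl hx, sum_const, hcard7] at hsum
  have hinner : ∀ x ∈ b \ s, ∑ y ∈ b \ s, (G.filter (fun d => x ∈ d ∧ y ∈ d)).card = 196 := by
    intro x hx'
    rw [sum_congr rfl (hxy x hx'), ← add_sum_erase _ _ hx', if_pos rfl]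
    have : ∀ y ∈ (b \ s).erase x, (if x = y then 76 else 20) = 20 := by
      intro y hy
      rw [mem_erase] at hy
      rw [if_neg (Ne.symm hy.1)]
    rw [sum_congr rfl this, sum_const, card_erase_of_mem hx', hcard7]
    rfl
  rw [sum_congr rfl hinner, sum_const, hcard7] at hsum2
  have hle : ∀ d ∈ G, 4 * (d ∩ (b \ s)).card ≤ (d ∩ (b \ s)).card * (d ∩ (b \ s)).card + 3 := by
    intro d hd
    rw [hG, mem_erase, mem_filter, hF] at hd
    have h5 := card_inter_lt hB hd.2.1 hb hd.1
    have h3 := card_inter_ne_three hα hB hd.2.1 hb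
    have heq : s ∪ (d ∩ (b \ s)) = d ∩ b := by
      ext x
      simp only [mem_union, mem_inter, mem_sdiff]
      constructor
      · rintro (h | h)
        · exact ⟨hd.2.2 h, hsb h⟩
        · exact ⟨h.1, h.2.1⟩
      · rintro ⟨h, h'⟩
        by_cases hxs : x ∈ s
        · exact Or.inl hxs
        · exact Or.inr ⟨h, h', hxs⟩
    have hdisj : Disjoint s (d ∩ (b \ s)) := by
      apply Disjoint.mono_right inter_subset_right
      exact disjoint_sdiff
    have := card_union_of_disjoint hdisj
    rw [heq] at this
    generalize (d ∩ (b \ s)).card = i at *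
    have hi : i < 4 := by omega
    have hi2 : i ≠ 2 := by omega
    interval_cases i <;> simp at hi2 ⊢
  have hcG : c ∈ G := by
    rw [hG, mem_erase, mem_filter, hF]
    exact ⟨hbc.symm, hc, inter_subset_right⟩
  have hc0 : (c ∩ (b \ s)).card = 0 := by
    rw [card_eq_zero]
    ext x
    simp only [mem_inter, mem_sdiff, hs, notMem_empty, iff_false]
    tauto
  have hlt : ∑ d ∈ G, 4 * (d ∩ (b \ s)).card <
      ∑ d ∈ G, ((d ∩ (b \ s)).card * (d ∩ (b \ s)).card + 3) :=
    sum_lt_sum hle ⟨c, hcG, by rw [hc0]; norm_num⟩
  rw [← mul_sum, sum_add_distrib, hsum, hsum2, sum_const, hGcard] at hlt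
  simp only [smul_eq_mul] at hlt
  omega

/-- In a Steiner system S(5, 8, 24), two distinct blocks intersect in 0, 2 or 4 points. -/
theorem result {α : Type*} [Fintype α] [DecidableEq α] (hα : Fintype.card α = 24) {B : Set (Finset α)} (hB : Cfsg.IsSteinerSystem 5 8 B) {b c : Finset α} (hb : b ∈ B) (hc : c ∈ B) (hbc : b ≠ c) : (b ∩ c).card = 0 ∨ (b ∩ c).card = 2 ∨ (b ∩ c).card = 4 := by
  have h5 := card_inter_lt hB hb hc hbc
  have h3 := card_inter_ne_three hα hB hb hc
  have h1 := card_inter_ne_one hα hB hb hc
  omega

end Cfsg.Agent.S0352
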