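import Cfsg.Statements.S0363
import Cfsg.Agent.SporadicA.GolayMask

set_option autoImplicit false
open Cfsg

namespace Cfsg.Agent.S0363

open Cfsg.Agent.SporadicA.GolayMask

theorem octad_eq_of_five {b c : Finset GolayPt} (hb : b ∈ octads) (hc : c ∈ octads)
    {s : Finset GolayPt} (hs : s.card = 5) (hsb : s ⊆ b) (hsc : s ⊆ c) : b = c := by
  obtain ⟨⟨v, hv, rfl⟩, hb8⟩ := hb
  obtain ⟨⟨w, hw, rfl⟩, hc8⟩ := hc
  have hsub : support₂ (v - w) ⊆
      (support₂ v ∪ support₂ w) \ s := by
    intro p hp
    simp only [support₂, Finset.mem_filter, Finset.mem_univ, true_and, Pi.sub_apply,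
      Finset.mem_sdiff, Finset.mem_union] at hp ⊢
    refine ⟨?_, ?_⟩
    · by_contra hcon
      push Not at hcon
      rw [hcon.1, hcon.2] at hp
      exact hp (sub_zero 0)
    · intro hps
      have h1 := hsb hps
      have h2 := hsc hps
      simp only [support₂, Finset.mem_filter, Finset.mem_univ, true_and] at h1 h2
      generalize v p = a at *
      generalize w p = b at *
      revert a b
      decide
  have hcard : (support₂ (v - w)).card < 8 := by
    have h1 := Finset.card_le_card hsub
    have h2 : s ⊆ support₂ v ∪ support₂ w := fun x hx => Finset.mem_union_left _ (hsb hx)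
    rw [Finset.card_sdiff_of_subset h2] at h1
    have h3 := Finset.card_union_add_card_inter (support₂ v) (support₂ w)
    have h4 : s.card ≤ (support₂ v ∩ support₂ w).card :=
      Finset.card_le_card (Finset.subset_inter hsb hsc)
    omega
  have h0 := eq_zero_of_card_lt (Submodule.sub_mem _ hv hw) hcard
  rw [sub_eq_zero.mp h0]

theorem exists_octad (F : Finset (Finset GolayPt)) (hF : ∀ b, b ∈ F ↔ b ∈ octads)
    (hF' : F.card = 759) (s : Finset GolayPt) (hs : s.card = 5) : ∃ b ∈ octads, s ⊆ b := by
  have hdisj : ∀ b ∈ F, ∀ c ∈ F, b ≠ c →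
      Disjoint (Finset.powersetCard 5 b) (Finset.powersetCard 5 c) := by
    intro b hb c hc hbc
    rw [Finset.disjoint_left]
    intro s hs1 hs2
    rw [Finset.mem_powersetCard] at hs1 hs2
    exact hbc (octad_eq_of_five ((hF b).mp hb) ((hF c).mp hc) hs1.2 hs1.1 hs2.1)
  obtain ⟨n, hn⟩ : ∃ n, n = (Finset.univ : Finset GolayPt).card.choose 5 := ⟨_, rfl⟩
  have hn' : n = 759 * 56 := by
    have : (Finset.univ : Finset GolayPt).card = 24 := by
      rw [Finset.card_univ]
      rfl
    rw [hn, this]
    decide +kernel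
  have hcard : (F.biUnion (fun b => Finset.powersetCard 5 b)).card = n := by
    have h56 : ∀ b ∈ F, (Finset.powersetCard 5 b).card = 56 := by
      intro b hb
      rw [Finset.card_powersetCard, ((hF b).mp hb).2]
      decide +kernel
    rw [Finset.card_biUnion hdisj, Finset.sum_congr rfl h56, Finset.sum_const, hF',
      smul_eq_mul, hn']
  have huniv : F.biUnion (fun b => Finset.powersetCard 5 b) =
      Finset.powersetCard 5 (Finset.univ : Finset GolayPt) := by
    apply Finset.eq_of_subset_of_card_le
    · intro s hs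
      obtain ⟨b, -, hs⟩ := Finset.mem_biUnion.mp hs
      exact Finset.mem_powersetCard_univ.mpr (Finset.mem_powersetCard.mp hs).2
    · rw [hcard, Finset.card_powersetCard, hn]
  have hmem : s ∈ F.biUnion (fun b => Finset.powersetCard 5 b) := by
    rw [huniv]
    exact Finset.mem_powersetCard_univ.mpr hs
  obtain ⟨b, hb, hsb⟩ := Finset.mem_biUnion.mp hmem
  exact ⟨b, (hF b).mp hb, (Finset.mem_powersetCard.mp hsb).1⟩

/-- The octads of the length-24 code form a Steiner system S(5, 8, 24) on the 24 points. -/
theorem result : Cfsg.IsSteinerSystem 5 8 Cfsg.octads := by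
  refine ⟨fun b hb => hb.2, ?_⟩
  intro s hs
  obtain ⟨b, hb, hsb⟩ := exists_octad octadFinset mem_octadFinset octadFinset_card s hs
  exact ⟨b, ⟨hb, hsb⟩, fun c hc => octad_eq_of_five hc.1 hb hs hc.2 hsb⟩

end Cfsg.Agent.S0363
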