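import Cfsg.Statements.S0366
-- import your own Cfsg.Agent.* helpers here
import Cfsg.Agent.SporadicStructure.DodecadM12

set_option autoImplicit false
open Cfsg

namespace Cfsg.Agent.S0366

/-- The permutation group preserving the length-24 code is 5-transitive on the 24 points. -/
theorem result : MulAction.IsMultiplyPretransitive Cfsg.M24 Cfsg.GolayPt 5 := by
  rw [MulAction.isMultiplyPretransitive_iff]
  intro x y
  obtain ⟨g, hg, hgx⟩ := Cfsg.Agent.SporadicStructure.DodecadM12.exists_map_base x x.injective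
  obtain ⟨h, hh, hhy⟩ := Cfsg.Agent.SporadicStructure.DodecadM12.exists_map_base y y.injective
  refine ⟨⟨h, hh⟩ * (⟨g, hg⟩)⁻¹, ?_⟩
  ext i : 1
  have h1 : g⁻¹ (x i) = Cfsg.Agent.SporadicStructure.DodecadM12.base i := by
    rw [Equiv.Perm.inv_eq_iff_eq, hgx]
  change h (g⁻¹ (x i)) = y i
  rw [h1, hhy i]

end Cfsg.Agent.S0366
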