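import Cfsg.Statements.S0376
import Cfsg.Agent.S0364
import Cfsg.Agent.S0366

set_option autoImplicit false
open Cfsg

namespace Cfsg.Agent.S0376

/-- A point stabiliser in the group of the length-24 code has order 10200960 = 2^7·3^2·5·7·11·23. -/
theorem result (p : Cfsg.GolayPt) : Nat.card (MulAction.stabilizer Cfsg.M24 p) = 10200960 := by
  have hcard : Nat.card GolayPt = 24 := by
    rw [Nat.card_eq_fintype_card]; rfl
  have h5 : MulAction.IsMultiplyPretransitive Cfsg.M24 Cfsg.GolayPt 5 := Cfsg.Agent.S0366.result
  have h1 : MulAction.IsMultiplyPretransitive Cfsg.M24 Cfsg.GolayPt 1 :=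
    MulAction.isMultiplyPretransitive_of_le (n := 5) (by norm_num) (by rw [hcard]; norm_num)
  have htr : MulAction.IsPretransitive Cfsg.M24 Cfsg.GolayPt :=
    MulAction.is_one_pretransitive_iff.1 h1
  have hidx : (MulAction.stabilizer Cfsg.M24 p).index = 24 := by
    rw [MulAction.index_stabilizer_of_transitive, hcard]
  have h := Subgroup.card_mul_index (MulAction.stabilizer Cfsg.M24 p)
  rw [hidx, Cfsg.Agent.S0364.result] at h
  omega

end Cfsg.Agent.S0376
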