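import Cfsg.Statements.S0378
-- import your own Cfsg.Agent.* helpers here
import Cfsg.Agent.S0364
import Cfsg.Agent.S0366
import Cfsg.Agent.SporadicA.TwoPointStab

set_option autoImplicit false
open Cfsg

namespace Cfsg.Agent.S0378

/-- A two-point stabiliser in the group of the length-24 code has order 443520 = 2^7·3^2·5·7·11. -/
theorem result (p q : Cfsg.GolayPt) (hpq : p ≠ q) : Nat.card ↥(MulAction.stabilizer Cfsg.M24 p ⊓ MulAction.stabilizer Cfsg.M24 q) = 443520 := by
  have hcard : Nat.card GolayPt = 24 := by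
    rw [Nat.card_eq_fintype_card]; rfl
  have h5 : MulAction.IsMultiplyPretransitive Cfsg.M24 Cfsg.GolayPt 5 := Cfsg.Agent.S0366.result
  have h2 : MulAction.IsMultiplyPretransitive Cfsg.M24 Cfsg.GolayPt 2 :=
    MulAction.isMultiplyPretransitive_of_le (n := 5) (by norm_num) (by rw [hcard]; norm_num)
  have h := Cfsg.Agent.SporadicA.TwoPointStab.card_two_stab_mul h2 hpq
  rw [hcard, Cfsg.Agent.S0364.result] at h
  have e : (24 : ℕ).factorial = 24 * (23 * (22 : ℕ).factorial) := by
    simp only [Nat.factorial_succ]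
  have e2 : (24 - 2 : ℕ).factorial = (22 : ℕ).factorial := rfl
  rw [e, e2] at h
  have hp : 0 < (22 : ℕ).factorial := Nat.factorial_pos _
  have : (Nat.card ↥(MulAction.stabilizer Cfsg.M24 p ⊓ MulAction.stabilizer Cfsg.M24 q) * 552) * (22 : ℕ).factorial
      = 244823040 * (22 : ℕ).factorial := by
    rw [← h]; ring
  have := Nat.eq_of_mul_eq_mul_right hp this
  omega

end Cfsg.Agent.S0378
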