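import Cfsg.Statements.S0380
-- import your own Cfsg.Agent.* helpers here
import Cfsg.Agent.S0243
import Cfsg.Agent.S0364
import Cfsg.Agent.S0366
import Cfsg.Agent.SporadicA.TwoPointStab
import Cfsg.Agent.SporadicA.PlaneFour

set_option autoImplicit false
open Cfsg

namespace Cfsg.Agent.S0380

open MulAction Cfsg.Agent.SporadicA.FieldFour Cfsg.Agent.SporadicA.PlaneFour
open scoped Pointwise

theorem fixingSubgroup_triple {G α : Type*} [Group G] [MulAction G α] (p q r : α) :
    fixingSubgroup G ({p, q, r} : Set α) = stabilizer G p ⊓ stabilizer G q ⊓ stabilizer G r := by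
  ext g
  simp [mem_fixingSubgroup_iff, Subgroup.mem_inf, mem_stabilizer_iff, and_assoc]

theorem ncard_triple {α : Type*} {p q r : α} (hpq : p ≠ q) (hpr : p ≠ r) (hqr : q ≠ r) :
    ({p, q, r} : Set α).ncard = 3 := Set.ncard_eq_three.2 ⟨p, q, r, hpq, hpr, hqr, rfl⟩

theorem three_transitive : IsMultiplyPretransitive M24 GolayPt 3 := by
  have h5 : MulAction.IsMultiplyPretransitive Cfsg.M24 Cfsg.GolayPt 5 := Cfsg.Agent.S0366.result
  have hcard : Nat.card GolayPt = 24 := by rw [Nat.card_eq_fintype_card]; rfl
  exact MulAction.isMultiplyPretransitive_of_le (n := 5) (by norm_num) (by rw [hcard]; norm_num)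

/-- The pointwise stabiliser of three points has order 20160. -/
theorem card_fixing {s : Set GolayPt} (hs : s.ncard = 3) :
    Nat.card (fixingSubgroup M24 s) = 20160 := by
  have hcard : Nat.card GolayPt = 24 := by rw [Nat.card_eq_fintype_card]; rfl
  have h := Cfsg.Agent.SporadicA.TwoPointStab.card_fixingSubgroup_mul three_transitive hs
  rw [hcard, Cfsg.Agent.S0364.result] at h
  have e : (24 : ℕ).factorial = 12144 * (21 : ℕ).factorial := by
    simp only [Nat.factorial_succ, ← mul_assoc]
    norm_num
  have e2 : (24 - 3 : ℕ).factorial = (21 : ℕ).factorial := rfl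
  rw [e, e2] at h
  have hp : 0 < (21 : ℕ).factorial := Nat.factorial_pos _
  have h3 : (Nat.card (fixingSubgroup M24 s) * 12144) * (21 : ℕ).factorial
      = 244823040 * (21 : ℕ).factorial := by
    rw [← h]; ring
  have := Nat.eq_of_mul_eq_mul_right hp h3
  omega

theorem card_psl : Nat.card (Matrix.ProjectiveSpecialLinearGroup (Fin 3) F4) = 20160 := by
  have h := Cfsg.Agent.S0243.result F4.card_eq 3 (by norm_num)
  have e : (∏ i : Fin 3, (4 ^ 3 - 4 ^ (i : ℕ)) : ℕ) = 181440 := by
    simp [Fin.prod_univ_three]
  rw [e] at h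
  have h3 : Nat.gcd 3 (4 - 1) = 3 := by norm_num
  rw [h3] at h
  omega

theorem pslHom_mem_fixing (g : Matrix.ProjectiveSpecialLinearGroup (Fin 3) F4) :
    (⟨pslHom g, pslHom_mem_M24 g⟩ : M24) ∈
      fixingSubgroup M24 ({none, some 0, some 1} : Set GolayPt) := by
  rw [mem_fixingSubgroup_iff]
  intro x hx
  show pslHom g x = x
  apply permHom_apply_of_not
  rintro ⟨h1, h2, h3⟩
  rcases hx with rfl | rfl | rfl
  · exact h1 rfl
  · exact h2 rfl
  · exact h3 rfl

/-- The action of `PSL(3, 4)` as a homomorphism to the pointwise stabiliser of the three points. -/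
noncomputable def psl21 : Matrix.ProjectiveSpecialLinearGroup (Fin 3) F4 →*
    fixingSubgroup M24 ({none, some 0, some 1} : Set GolayPt) where
  toFun g := ⟨⟨pslHom g, pslHom_mem_M24 g⟩, pslHom_mem_fixing g⟩
  map_one' := Subtype.ext (Subtype.ext (map_one pslHom))
  map_mul' a b := Subtype.ext (Subtype.ext (map_mul pslHom a b))

theorem psl21_injective : Function.Injective psl21 := by
  intro a b h
  apply pslHom_injective
  exact congrArg Subtype.val (congrArg Subtype.val h)

theorem psl21_bijective : Function.Bijective psl21 := by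
  have h1 : Nat.card (fixingSubgroup M24 ({none, some 0, some 1} : Set GolayPt)) = 20160 :=
    card_fixing (ncard_triple (by decide) (by decide) (by decide))
  have : Finite (fixingSubgroup M24 ({none, some 0, some 1} : Set GolayPt)) :=
    Nat.finite_of_card_ne_zero (by rw [h1]; norm_num)
  exact (Nat.bijective_iff_injective_and_card _).2 ⟨psl21_injective, by rw [h1, card_psl]⟩

/-- A three-point stabiliser in the group of the length-24 code is isomorphic to PSL(3, F) for the field F with 4 elements. -/
theorem result (p q r : Cfsg.GolayPt) (hpq : p ≠ q) (hpr : p ≠ r) (hqr : q ≠ r) (F : Type) [Field F] [Fintype F] (hF : Fintype.card F = 4) : Nonempty (↥(MulAction.stabilizer Cfsg.M24 p ⊓ MulAction.stabilizer Cfsg.M24 q ⊓ MulAction.stabilizer Cfsg.M24 r) ≃* Matrix.ProjectiveSpecialLinearGroup (Fin 3) F) := by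
  obtain ⟨eF⟩ := nonempty_psl_equiv (n := Fin 3) F hF
  have h3 := three_transitive
  rw [isMultiplyPretransitive_iff] at h3
  have hx : Function.Injective ![(none : GolayPt), some 0, some 1] := by decide
  have hy : Function.Injective ![p, q, r] := by
    intro i j hij
    fin_cases i <;> fin_cases j <;> simp_all
  obtain ⟨g, hg⟩ := h3 (x := ⟨_, hx⟩) (y := ⟨_, hy⟩)
  have hg0 : g • (none : GolayPt) = p := by simpa using DFunLike.congr_fun hg 0
  have hg1 : g • (some 0 : GolayPt) = q := by simpa using DFunLike.congr_fun hg 1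
  have hg2 : g • (some 1 : GolayPt) = r := by simpa using DFunLike.congr_fun hg 2
  have hset : g • ({none, some 0, some 1} : Set GolayPt) = {p, q, r} := by
    rw [Set.smul_set_insert, Set.smul_set_insert, Set.smul_set_singleton, hg0, hg1, hg2]
  have e1 := SubMulAction.fixingSubgroupEquivFixingSubgroup hset
  have e2 := MulEquiv.ofBijective psl21 psl21_bijective
  rw [← fixingSubgroup_triple]
  exact ⟨e1.symm.trans (e2.symm.trans eF)⟩

end Cfsg.Agent.S0380
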