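import Cfsg.Statements.S0379
-- import your own Cfsg.Agent.* helpers here
import Cfsg.Agent.S0249
import Cfsg.Agent.S0366
import Cfsg.Agent.S0380
import Cfsg.Agent.SporadicA.SimpleExt
import Cfsg.Agent.SporadicA.TwoPointStab

set_option autoImplicit false
open Cfsg

namespace Cfsg.Agent.S0379

open MulAction Cfsg.Agent.SporadicA.FieldFour

/-- The stabiliser, in the pointwise stabiliser of `p, q`, of a further point. -/
noncomputable def stabEquiv {G α : Type*} [Group G] [MulAction G α] (p q : α)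
    (r : SubMulAction.ofFixingSubgroup G ({p, q} : Set α)) :
    stabilizer (fixingSubgroup G ({p, q} : Set α)) r ≃*
      ↥(stabilizer G p ⊓ stabilizer G q ⊓ stabilizer G (r : α)) where
  toFun g := ⟨((g : fixingSubgroup G ({p, q} : Set α)) : G), by
    have h1 := (mem_fixingSubgroup_iff G).1 g.1.2
    refine ⟨⟨h1 p (by simp), h1 q (by simp)⟩, ?_⟩
    exact congrArg Subtype.val g.2⟩
  invFun g := ⟨⟨(g : G), by
    rw [mem_fixingSubgroup_iff]
    rintro y (rfl | rfl)
    · exact g.2.1.1
    · exact g.2.1.2⟩, Subtype.ext g.2.2⟩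
  left_inv g := rfl
  right_inv g := rfl
  map_mul' g h := rfl

/-- A two-point stabiliser in the group of the length-24 code is simple. -/
theorem result (p q : Cfsg.GolayPt) (hpq : p ≠ q) : IsSimpleGroup ↥(MulAction.stabilizer Cfsg.M24 p ⊓ MulAction.stabilizer Cfsg.M24 q) := by
  rw [← Cfsg.Agent.SporadicA.TwoPointStab.fixingSubgroup_pair]
  have h5 : IsMultiplyPretransitive M24 GolayPt 5 := Cfsg.Agent.S0366.result
  have hncard : ({p, q} : Set GolayPt).ncard = 2 := Set.ncard_pair hpq
  have h3 : IsMultiplyPretransitive (fixingSubgroup M24 ({p, q} : Set GolayPt))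
      (SubMulAction.ofFixingSubgroup M24 ({p, q} : Set GolayPt)) 3 :=
    SubMulAction.ofFixingSubgroup.isMultiplyPretransitive (n := 5) M24 ({p, q} : Set GolayPt)
      (by rw [hncard])
  have hcard : Nat.card (SubMulAction.ofFixingSubgroup M24 ({p, q} : Set GolayPt)) = 22 := by
    have h1 : Nat.card (SubMulAction.ofFixingSubgroup M24 ({p, q} : Set GolayPt)) =
        (({p, q} : Set GolayPt)ᶜ).ncard := rfl
    have h2 : Nat.card GolayPt = 24 := by rw [Nat.card_eq_fintype_card]; rfl
    rw [h1, Set.ncard_compl, hncard, h2]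
  have hfaith : FaithfulSMul (fixingSubgroup M24 ({p, q} : Set GolayPt))
      (SubMulAction.ofFixingSubgroup M24 ({p, q} : Set GolayPt)) := by
    refine ⟨fun {g h} hgh => ?_⟩
    apply Subtype.ext
    apply Subtype.ext
    apply Equiv.ext
    intro x
    by_cases hx : x ∈ ({p, q} : Set GolayPt)
    · have hg := (mem_fixingSubgroup_iff M24).1 g.2 x hx
      have hh := (mem_fixingSubgroup_iff M24).1 h.2 x hx
      exact hg.trans hh.symm
    · exact congrArg Subtype.val (hgh ⟨x, hx⟩)
  obtain ⟨r, hr⟩ : ∃ r : GolayPt, r ∉ ({p, q} : Set GolayPt) := by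
    have hex : ∀ p q : GolayPt, ∃ r : GolayPt, r ≠ p ∧ r ≠ q := by decide
    obtain ⟨r, h1, h2⟩ := hex p q
    exact ⟨r, by rintro (h | h); exacts [h1 h, h2 h]⟩
  have hr' := hr
  simp only [Set.mem_insert_iff, Set.mem_singleton_iff, not_or] at hr'
  obtain ⟨e⟩ := Cfsg.Agent.S0380.result p q r hpq (Ne.symm hr'.1) (Ne.symm hr'.2) F4 F4.card_eq
  have hsimple : IsSimpleGroup (Matrix.ProjectiveSpecialLinearGroup (Fin 3) F4) :=
    Cfsg.Agent.S0249.result 3 le_rfl
  have hs1 : IsSimpleGroup ↥(stabilizer M24 p ⊓ stabilizer M24 q ⊓ stabilizer M24 r) :=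
    e.isSimpleGroup
  have hs2 : IsSimpleGroup (stabilizer (fixingSubgroup M24 ({p, q} : Set GolayPt))
      (⟨r, hr⟩ : SubMulAction.ofFixingSubgroup M24 ({p, q} : Set GolayPt))) :=
    (stabEquiv p q ⟨r, hr⟩).isSimpleGroup
  refine Cfsg.Agent.SporadicA.SimpleExt.isSimpleGroup_of_three_transitive h3
    (by rw [hcard]; norm_num) ?_ ⟨r, hr⟩ hs2
  intro k
  rw [hcard]
  intro hk
  have hk5 : k < 5 := by
    by_contra hcon
    have := Nat.pow_le_pow_right (n := 2) (by norm_num) (not_lt.1 hcon)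
    omega
  interval_cases k <;> omega

end Cfsg.Agent.S0379
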