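import Cfsg.Statements.S0407
import Cfsg.Agent.SporadicA.Steiner24Frame

set_option autoImplicit false
open Cfsg

namespace Cfsg.Agent.S0407

/-- Every `S(5,8,24)` has a frame. -/
theorem exists_frame {α : Type*} [Fintype α] [DecidableEq α] (hα : Fintype.card α = 24)
    {B : Set (Finset α)} (hB : Cfsg.IsSteinerSystem 5 8 B) :
    Nonempty (Cfsg.Agent.SporadicA.Steiner24Label.Frame B) := by
  obtain ⟨s, -, hs⟩ := Finset.exists_subset_card_eq
    (show 5 ≤ (Finset.univ : Finset α).card by rw [Finset.card_univ, hα]; norm_num)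
  obtain ⟨O, ⟨hO, -⟩, -⟩ := hB.2 s hs
  have hO8 : O.card = 8 := hB.1 O hO
  obtain ⟨p, hp⟩ : ∃ p, p ∉ O := by
    by_contra h
    push Not at h
    have : O = Finset.univ := Finset.eq_univ_iff_forall.2 h
    rw [this, Finset.card_univ, hα] at hO8
    norm_num at hO8
  have e : Fin 8 ≃ O := (Fintype.equivFinOfCardEq (by simpa using hO8)).symm
  refine ⟨⟨fun i => (e (Fin.castLE (by norm_num) i) : α), ?_, O, hO, fun i => (e _).2, p, hp⟩⟩
  intro i j hij
  have := e.injective (Subtype.ext hij)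
  exact Fin.castLE_injective _ this

/-- Uniqueness of the Steiner system S(5, 8, 24) up to isomorphism. -/
theorem result {α β : Type*} [Fintype α] [DecidableEq α] [Fintype β] [DecidableEq β] (hα : Fintype.card α = 24) (hβ : Fintype.card β = 24) {B : Set (Finset α)} {B' : Set (Finset β)} (hB : Cfsg.IsSteinerSystem 5 8 B) (hB' : Cfsg.IsSteinerSystem 5 8 B') : Cfsg.SetSystemIso B B' := by
  obtain ⟨F⟩ := exists_frame hα hB
  obtain ⟨F'⟩ := exists_frame hβ hB'
  obtain ⟨e, he, -⟩ := Cfsg.Agent.SporadicA.Steiner24Frame.exists_iso hα hβ hB hB' F F'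
  exact ⟨e, he⟩

end Cfsg.Agent.S0407
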