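import Cfsg.Statements.S0409
import Cfsg.Agent.SporadicA.Extend23
import Cfsg.Agent.SporadicA.Steiner24Frame

set_option autoImplicit false
open Cfsg

namespace Cfsg.Agent.S0409

open Cfsg.Agent.SporadicA

/-- A frame of the extended system whose first point is `none`. -/
theorem exists_frame {α : Type*} [Fintype α] [DecidableEq α] (hα : Fintype.card α = 23)
    {B : Set (Finset α)} (hB : Cfsg.IsSteinerSystem 4 7 B) {O : Set (Finset (Option α))}
    (hO : ∀ b : Finset α, b ∈ B ↔ Finset.insertNone b ∈ O) :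
    ∃ F : Steiner24Label.Frame O, F.x 0 = none := by
  -- a block
  obtain ⟨s, _, hs⟩ := Finset.exists_subset_card_eq (s := (Finset.univ : Finset α)) (n := 4)
    (by rw [Finset.card_univ, hα]; decide)
  obtain ⟨b, ⟨hbB, _⟩, _⟩ := hB.2 s hs
  have hb7 : b.card = 7 := hB.1 b hbB
  -- a point outside the block
  obtain ⟨p, hp⟩ : ∃ p, p ∉ b := by
    by_contra hcon
    push Not at hcon
    have : b = Finset.univ := by
      ext y
      simp [hcon y]
    rw [this, Finset.card_univ, hα] at hb7
    omega
  let f : Fin 5 → α := fun i => (b.equivFin.symm ⟨i.1, by rw [hb7]; have := i.2; omega⟩ : b).1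
  have hfinj : Function.Injective f := by
    intro i j hij
    have h := b.equivFin.symm.injective (Subtype.ext hij)
    exact Fin.ext (by simpa using h)
  have hfmem : ∀ i, f i ∈ b := fun i => (b.equivFin.symm _ : b).2
  refine ⟨⟨Fin.cons none (fun i => some (f i)), ?_, Finset.insertNone b, (hO b).1 hbB, ?_,
    some p, ?_⟩, ?_⟩
  · rw [Fin.cons_injective_iff]
    refine ⟨?_, fun i j hij => hfinj (Option.some.inj hij)⟩
    rintro ⟨i, hi⟩
    cases hi
  · intro i
    refine Fin.cases ?_ (fun j => ?_) i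
    · simp
    · simp [hfmem]
  · simpa using hp
  · rfl

/-- Uniqueness of the Steiner system S(4, 7, 23) up to isomorphism. -/
theorem result {α β : Type*} [Fintype α] [DecidableEq α] [Fintype β] [DecidableEq β] (hα : Fintype.card α = 23) (hβ : Fintype.card β = 23) {B : Set (Finset α)} {B' : Set (Finset β)} (hB : Cfsg.IsSteinerSystem 4 7 B) (hB' : Cfsg.IsSteinerSystem 4 7 B') : Cfsg.SetSystemIso B B' := by
  obtain ⟨O, hOs, hO⟩ := Extend23.exists_extension hα hB
  obtain ⟨O', hOs', hO'⟩ := Extend23.exists_extension hβ hB'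
  obtain ⟨F, hF⟩ := exists_frame hα hB hO
  obtain ⟨F', hF'⟩ := exists_frame hβ hB' hO'
  obtain ⟨e, he, hx, _⟩ := Steiner24Frame.exists_iso
    (by rw [Fintype.card_option, hα]) (by rw [Fintype.card_option, hβ]) hOs hOs' F F'
  have hn : e none = none := by
    have h := hx 0
    rwa [hF, hF'] at h
  obtain ⟨f, _, hf⟩ := Extend23.iso_of_extension hO hO' e he hn
  exact ⟨f, hf⟩

end Cfsg.Agent.S0409
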