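import Cfsg.Statements.S0356
import Cfsg.Agent.SporadicA.SteinerInter

set_option autoImplicit false
open Cfsg

namespace Cfsg.Agent.S0356

/-- In a Steiner system S(3, 6, 22), two distinct blocks intersect in 0 or 2 points. -/
theorem result {α : Type*} [Fintype α] [DecidableEq α] (hα : Fintype.card α = 22) {B : Set (Finset α)} (hB : Cfsg.IsSteinerSystem 3 6 B) {b c : Finset α} (hb : b ∈ B) (hc : c ∈ B) (hbc : b ≠ c) : (b ∩ c).card = 0 ∨ (b ∩ c).card = 2 := by
  have hlt := Agent.SporadicA.SteinerCount.card_inter_lt hB hb hc hbc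
  have h1 : (b ∩ c).card ≠ 1 := by
    refine Agent.SporadicA.SteinerInter.inter_ne_of_sum_eq_zero hB (by norm_num)
      (fun i => if i = 0 then 77 else if i = 1 then 21 else if i = 2 then 5 else 1)
      ?_ ?_ 1 ?_ hc hb
    · intro j hj
      rw [hα]
      interval_cases j <;> decide
    · intro j hj1 hj2
      interval_cases j <;> rfl
    · decide
  omega

end Cfsg.Agent.S0356
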