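import Cfsg.Statements.S0410
import Cfsg.Agent.S0356
import Cfsg.Agent.SporadicA.Steiner22Search

set_option autoImplicit false
open Cfsg

namespace Cfsg.Agent.S0410

open Cfsg.Agent.SporadicA.SteinerMask Cfsg.Agent.SporadicA.Steiner22
  Cfsg.Agent.SporadicA.Steiner22Search

/-- every system can be labelled so that its blocks are those of the list `L` -/
theorem exists_standard_label {α : Type*} [Fintype α] [DecidableEq α] (hα : Fintype.card α = 22)
    {B : Set (Finset α)} (hB : Cfsg.IsSteinerSystem 3 6 B) :
    ∃ e : Fin 22 ≃ α, ∀ s : Finset (Fin 22), s.map e.toEmbedding ∈ B ↔ mask s ∈ L := by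
  -- a block and a point outside
  obtain ⟨T, -, hT⟩ := Finset.exists_subset_card_eq (s := (Finset.univ : Finset α)) (n := 3)
    (by rw [Finset.card_univ, hα]; norm_num)
  obtain ⟨b, ⟨hb, -⟩, -⟩ := hB.2 T hT
  have hb6 := hB.1 b hb
  let h : Fin 6 → α := fun i => ((b.equivFinOfCardEq hb6).symm i : α)
  have hinj : Function.Injective h := Subtype.val_injective.comp (b.equivFinOfCardEq hb6).symm.injective
  have himg : Finset.univ.image h = b := by
    ext x
    simp only [Finset.mem_image, Finset.mem_univ, true_and, h]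
    constructor
    · rintro ⟨i, rfl⟩
      exact ((b.equivFinOfCardEq hb6).symm i).2
    · intro hx
      exact ⟨b.equivFinOfCardEq hb6 ⟨x, hx⟩, by rw [Equiv.symm_apply_apply]⟩
  obtain ⟨q, hq⟩ : ∃ q, q ∉ b := by
    by_contra hcon
    push Not at hcon
    have := Finset.card_le_card (fun x _ => hcon x : (Finset.univ : Finset α) ⊆ b)
    rw [Finset.card_univ, hα, hb6] at this
    omega
  have F : Frame B h q :=
    { st := hB
      inter := fun b hb c hc hbc => Cfsg.Agent.S0356.result hα hB hb hc hbc
      inj := hinj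
      hb := himg.symm ▸ hb
      hq := by
        rintro i rfl
        apply hq
        rw [← himg]
        exact Finset.mem_image_of_mem _ (Finset.mem_univ _) }
  obtain ⟨e, he1, he2⟩ := exists_label hα F
  refine ⟨e, ?_⟩
  have hS := steiner_pull hB e
  have hSinter : ∀ s ∈ {s : Finset (Fin 22) | s.map e.toEmbedding ∈ B},
      ∀ k ∈ {s : Finset (Fin 22) | s.map e.toEmbedding ∈ B}, s = k ∨ (s ∩ k).card = 0 ∨
        (s ∩ k).card = 2 := by
    intro s hs k hk
    by_cases hsk : s = k
    · exact Or.inl hsk
    · right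
      exact Cfsg.Agent.S0356.result (by simp) hS hs hk hsk
  have hK : ∀ k ∈ K, (ofMask 22 k) ∈ {s : Finset (Fin 22) | s.map e.toEmbedding ∈ B} ∧
      k < 2 ^ 22 := by
    intro k hk
    obtain ⟨h1, h2⟩ := mem_K k hk
    refine ⟨?_, h1⟩
    rcases h2 with rfl | ⟨i, j, hij, rfl⟩
    · exact he1
    · exact he2 i j hij
  refine mem_iff_of_subset hS ?_ L_spec L_apart
  intro s hs
  apply mem_L (mask_lt s)
  · rw [popc_mask, hS.1 s hs]
  · intro k hk
    obtain ⟨h1, h2⟩ := hK k hk
    have e1 := mask_ofMask h2
    rcases hSinter s hs _ h1 with h3 | h3 | h3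
    · left
      rw [h3, e1]
    · right; left
      rw [← e1, popc_mask_and, h3]
    · right; right
      rw [← e1, popc_mask_and, h3]

/-- Uniqueness of the Steiner system S(3, 6, 22) up to isomorphism. -/
theorem result {α β : Type*} [Fintype α] [DecidableEq α] [Fintype β] [DecidableEq β] (hα : Fintype.card α = 22) (hβ : Fintype.card β = 22) {B : Set (Finset α)} {B' : Set (Finset β)} (hB : Cfsg.IsSteinerSystem 3 6 B) (hB' : Cfsg.IsSteinerSystem 3 6 B') : Cfsg.SetSystemIso B B' := by
  obtain ⟨e, he⟩ := exists_standard_label hα hB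
  obtain ⟨e', he'⟩ := exists_standard_label hβ hB'
  exact setSystemIso_of_label e e' (fun s => by rw [he, he'])

end Cfsg.Agent.S0410
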