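import Cfsg.Statements.S0412
import Cfsg.Agent.SporadicA.Steiner24Aut
import Cfsg.Agent.SporadicA.DegreePrime

set_option autoImplicit false
open Cfsg

namespace Cfsg.Agent.S0412

/-- Aut of an S(5, 8, 24) is simple of order 244823040 and 5-transitive on points. -/
theorem result {α : Type*} [Fintype α] [DecidableEq α] (hα : Fintype.card α = 24) {B : Set (Finset α)} (hB : Cfsg.IsSteinerSystem 5 8 B) : Cfsg.IsM24 (Cfsg.setSystemAut B) ∧ MulAction.IsMultiplyPretransitive (Cfsg.setSystemAut B) α 5 := by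
  have h5 := Cfsg.Agent.SporadicA.Steiner24Aut.pretransitive5 hα hB
  have hc := Cfsg.Agent.SporadicA.Steiner24Aut.card_aut hα hB
  refine ⟨⟨?_, hc⟩, h5⟩
  have h2 : MulAction.IsMultiplyPretransitive (Cfsg.setSystemAut B) α 2 :=
    MulAction.isMultiplyPretransitive_of_le (n := 5) (by norm_num) (by
      rw [Nat.card_eq_fintype_card, hα]; norm_num)
  exact Cfsg.Agent.SporadicA.DegreePrime.isSimpleGroup_of_card_degree24 (Ω := α)
    (by rw [Nat.card_eq_fintype_card, hα]) h2 hc

end Cfsg.Agent.S0412
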