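import Cfsg.Statements.S1663
-- import your own Cfsg.Agent.* helpers here
import Cfsg.Agent.M22.Final
import Cfsg.Agent.M22.Sylow7Core
import Cfsg.Agent.M22.SevenThreeEight
import Cfsg.Agent.M22.SevenSixFour
import Cfsg.Agent.M22.SylowFive

set_option autoImplicit false
open Cfsg

namespace Cfsg.Agent.S1663

/-- The Mathieu group of degree 22 is determined by its order: a finite simple group of order 443520 is isomorphic to the concrete M₂₂ (a two-point stabiliser in the group of the length-24 Golay code). -/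
theorem result {G : Type*} [Group G] [Finite G] (hG : Cfsg.IsM22 G) : Cfsg.Spor.IsoM22 G := by
  obtain ⟨hs, hcard⟩ := hG
  have f11 : Fact (Nat.Prime 11) := ⟨by norm_num⟩
  have f7 : Fact (Nat.Prime 7) := ⟨by norm_num⟩
  have f5 : Fact (Nat.Prime 5) := ⟨by norm_num⟩
  have h11 : ∀ Q : Sylow 11 G, Subgroup.centralizer (Q : Set G) = (Q : Subgroup G) :=
    fun Q => (Cfsg.Agent.M22.Sylow11.sylow_eleven hcard Q).1
  have h7 : ∀ P : Sylow 7 G, Subgroup.centralizer (P : Set G) = (P : Subgroup G) ∧
      (Subgroup.centralizer (P : Set G)).relIndex (Subgroup.normalizer (P : Set G)) = 3 :=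
    fun P => Cfsg.Agent.M22.Sylow7Core.sylow_seven_core hcard h11 P
      (fun _ hK h8 => Cfsg.Agent.M22.SevenThreeEight.false_three_eight hcard h11 P hK h8)
      (fun _ hK h4 => Cfsg.Agent.M22.SevenSixFour.false_six_four hcard h11 P hK h4)
  obtain ⟨P11⟩ : Nonempty (Sylow 11 G) := inferInstance
  obtain ⟨P7⟩ : Nonempty (Sylow 7 G) := inferInstance
  exact Cfsg.Agent.M22.Final.isoM22_of_sylow hcard h7
    (fun P => Cfsg.Agent.M22.SylowFive.sylow_five hcard P11 P7 (h11 P11) (h7 P7).1
      (Cfsg.Agent.M22.Sylow11.sylow_eleven hcard P11).2 (h7 P7).2 P)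

end Cfsg.Agent.S1663
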