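import Cfsg.Statements.S1664
import Cfsg.Agent.M23.ElevenSeven
import Cfsg.Agent.M23.ElevenTen
import Cfsg.Agent.M23.ElevenTwoFinal
import Cfsg.Agent.M23.ElevenFive
import Cfsg.Agent.M23Order.Endgame

set_option autoImplicit false
open Cfsg

namespace Cfsg.Agent.S1664

open Subgroup
open Cfsg.Agent.SmallSimple Cfsg.Agent.SmallSimple.PrimeLocal Cfsg.Agent.SmallSimple.LocalData
open Cfsg.Agent.M23 Cfsg.Agent.M23.ElevenCommon Cfsg.Agent.M23.ElevenSeven

universe u

/-- The Sylow 11-subgroups are self-centralising with `|N(P) : P| = 5`. -/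
theorem eleven {G : Type u} [Group G] [Finite G] [IsSimpleGroup G]
    (hcard : Nat.card G = 10200960) (P : Sylow 11 G) :
    centralizer (P : Set G) = (P : Subgroup G) ∧
      (centralizer (P : Set G)).relIndex (normalizer (P : Set G)) = 5 := by
  have hp : Fact (Nat.Prime 11) := ⟨by norm_num⟩
  obtain ⟨e, K, h⟩ := exists_local (Sylow23.not_comm hcard) (p := 11)
    (by rw [hcard]; norm_num) (by rw [hcard]; norm_num) P
  have h1 := mem_cand hcard h
  rw [cand] at h1
  have h23 := not_dvd_card_K hcard h
  have h7 := not_seven_dvd hcard h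
  simp only [List.mem_cons, Prod.mk.injEq, List.not_mem_nil, or_false] at h1
  have key : e = 5 ∧ Nat.card K = 1 := by
    have he : e = 2 ∨ e = 5 ∨ e = 10 := by omega
    rcases he with rfl | rfl | rfl
    · exact (ElevenTwoFinal.two_false hcard h (by omega)).elim
    · have hk : Nat.card K = 144 ∨ Nat.card K = 12 ∨ Nat.card K = 1 := by omega
      rcases hk with hk | hk | hk
      · exact (ElevenFive.five_false hcard h (Or.inl hk)).elim
      · exact (ElevenFive.five_false hcard h (Or.inr hk)).elim
      · exact ⟨rfl, hk⟩
    · exact (ElevenTen.ten_false hcard h (by omega)).elim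
  obtain ⟨rfl, hK⟩ := key
  refine ⟨?_, relIndex_eq (by norm_num) h⟩
  have hP : Nat.card (P : Subgroup G) = 11 := card_of_not_sq_dvd
    (by rw [hcard]; norm_num) (by rw [hcard]; norm_num) P
  have hle : (P : Subgroup G) ≤ centralizer (P : Set G) := by
    intro x hx
    rw [mem_centralizer_iff]
    intro y hy
    exact comm_of_card_prime (by norm_num) (P : Subgroup G) hP y hy x hx
  refine (Subgroup.eq_of_le_of_card_ge hle ?_).symm
  rw [h.card_centralizer, hK, hP]

/-- The Mathieu group of degree 23 is determined by its order: a finite simple group of order 10200960 is isomorphic to the concrete M₂₃ (a point stabiliser in the group of the length-24 Golay code). -/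
theorem result {G : Type*} [Group G] [Finite G] (hG : Cfsg.IsM23 G) : Cfsg.Spor.IsoM23 G := by
  have hs : IsSimpleGroup G := hG.1
  have hcard : Nat.card G = 10200960 := hG.2
  have hp11 : Fact (Nat.Prime 11) := ⟨by norm_num⟩
  have hp23 : Fact (Nat.Prime 23) := ⟨by norm_num⟩
  obtain ⟨h1, h2⟩ := eleven hcard default
  exact M23Order.Endgame.isoM23_of_sylow hcard default (Sylow23.centralizer_eq hcard default)
    (Sylow23.relIndex_eq hcard default) default h1 h2

end Cfsg.Agent.S1664
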