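import Cfsg.Statements.S1073
import Cfsg.Agent.ChevalleyStructure.Ree.Simple

set_option autoImplicit false
open Cfsg

namespace Cfsg.Agent.S1073

/-- ²G₂(3^(2m+1)) is simple for `m ≥ 1`. -/
theorem result {K : Type*} [Field K] [Fintype K] {m : ℕ} (hm : 1 ≤ m) (hK : Fintype.card K = 3 ^ (2 * m + 1)) :
    IsSimpleGroup ↥(Cfsg.Lie.twistedG2 K (3 ^ m)) ∧ ¬ IsMulCommutative ↥(Cfsg.Lie.twistedG2 K (3 ^ m)) := by
  obtain ⟨U, h, n, D⟩ := ChevalleyStructure.Ree.Data.exists_data (K := K) hK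
  have hperf := ChevalleyStructure.Ree.Perfect.commutator_eq_top (K := K) hK hm
  have hs := ChevalleyStructure.Ree.Simple.isSimple D hK hperf
  refine ⟨hs, fun hcomm => ?_⟩
  have hsol : Group.IsSolvable ↥(Cfsg.Lie.twistedG2 K (3 ^ m)) :=
    Group.isSolvable_of_comm fun a b => hcomm.is_comm.comm a b
  exact absurd hperf (Group.IsSolvable.commutator_lt_top_of_nontrivial (G := ↥(Cfsg.Lie.twistedG2 K (3 ^ m)))).ne

end Cfsg.Agent.S1073
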