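import Cfsg.Statements.S1150
-- import your own Cfsg.Agent.* helpers here
import Cfsg.Agent.ChevalleyStructure.ReeFixed
import Cfsg.Agent.ChevalleyStructure.HDiagG2

set_option autoImplicit false
open Cfsg

namespace Cfsg.Agent.S1150

open Cfsg.Lie Cfsg.Agent.ChevalleyStructure

/-- coefficient of the short simple root -/
def ca : Fin 12 → ℤ := ![-3, -3, -2, -1, -1, 0, 0, 1, 1, 2, 3, 3]

/-- coefficient of the long simple root -/
def cb : Fin 12 → ℤ := ![-2, -1, -1, -1, 0, -1, 1, 0, 1, 1, 1, 2]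

/-- diagonal entries of a torus element -/
def dvec {K : Type*} [Field K] (α β : Kˣ) : chevG2.Idx → K
  | Sum.inl _ => 1
  | Sum.inr s => ((α ^ ca s * β ^ cb s : Kˣ) : K)

theorem cartanRS_split : ∀ r : Fin 12, ∀ s : Fin 12,
    SparseHDiag.cartanRS chevG2 r.val s.val =
      SparseHDiag.cartanRS chevG2 r.val 7 * ca s + SparseHDiag.cartanRS chevG2 r.val 6 * cb s := by
  decide +kernel

theorem exists_dvec {K : Type*} [Field K] {g : GL chevG2.Idx K} (hg : g ∈ chevG2.diagonalSubgroup K) :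
    ∃ α β : Kˣ, (g : Matrix chevG2.Idx chevG2.Idx K) = Matrix.diagonal (dvec α β) := by
  have hmul : ∀ α β α' β' : Kˣ, Matrix.diagonal (dvec α β) * Matrix.diagonal (dvec α' β') =
      Matrix.diagonal (dvec (α * α') (β * β')) := by
    intro α β α' β'
    rw [Matrix.diagonal_mul_diagonal]
    congr 1
    ext s
    rcases s with i | s
    · simp [dvec]
    · simp only [dvec]
      rw [← Units.val_mul]
      congr 1
      rw [mul_zpow, mul_zpow]
      exact mul_mul_mul_comm _ _ _ _
  have hone : Matrix.diagonal (dvec (1 : Kˣ) 1) = (1 : Matrix chevG2.Idx chevG2.Idx K) := by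
    rw [← Matrix.diagonal_one]
    congr 1
    ext s
    rcases s with i | s
    · simp [dvec]
    · simp [dvec]
  induction hg using Subgroup.closure_induction with
  | mem x hx =>
    obtain ⟨r, t, hr, ht, hx⟩ := hx
    rw [HDiagG2.hMat_chevG2 hr ht] at hx
    refine ⟨(Units.mk0 t ht) ^ SparseHDiag.cartanRS chevG2 r 7, (Units.mk0 t ht) ^ SparseHDiag.cartanRS chevG2 r 6, ?_⟩
    rw [hx]
    congr 1
    ext s
    rcases s with i | s
    · rfl
    · rw [SparseHDiag.hVal_inr]
      simp only [dvec]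
      have := cartanRS_split ⟨r, hr⟩ s
      simp only at this
      rw [← zpow_mul, ← zpow_mul, ← zpow_add, this]
      simp
  | one => exact ⟨1, 1, by rw [hone]; rfl⟩
  | mul x y _ _ hx hy =>
    obtain ⟨α, β, hx⟩ := hx
    obtain ⟨α', β', hy⟩ := hy
    exact ⟨α * α', β * β', by rw [Units.val_mul, hx, hy, hmul]⟩
  | inv x _ hx =>
    obtain ⟨α, β, hx⟩ := hx
    refine ⟨α⁻¹, β⁻¹, ?_⟩
    have h1 : (x : Matrix chevG2.Idx chevG2.Idx K) * Matrix.diagonal (dvec α⁻¹ β⁻¹) = 1 := by
      rw [hx, hmul, mul_inv_cancel, mul_inv_cancel, hone]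
    calc ((x⁻¹ : GL chevG2.Idx K) : Matrix chevG2.Idx chevG2.Idx K)
        = ((x⁻¹ : GL chevG2.Idx K) : Matrix chevG2.Idx chevG2.Idx K) * ((x : Matrix chevG2.Idx chevG2.Idx K) * Matrix.diagonal (dvec α⁻¹ β⁻¹)) := by
          rw [h1, mul_one]
      _ = _ := by rw [← mul_assoc, ← Units.val_mul, inv_mul_cancel, Units.val_one, one_mul]

/-- In the small Ree group ²G₂(q), q = 3^(2m+1), realised as G¹ inside the Chevalley group G₂ over the field with q elements (θ the 3^m-th power map), with H¹ = G¹ ∩ H and U¹ = G¹ ∩ U the intersections with the ambient diagonal and positive unipotent subgroups: `H¹` is cyclic. -/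
theorem result {K : Type*} [Field K] [Fintype K] {m : ℕ} (hK : Fintype.card K = 3 ^ (2 * m + 1)) :
    IsCyclic ↥(Cfsg.Lie.chevG2.diagonalSubgroup K ⊓ Cfsg.Lie.twistedG2 K (3 ^ m)) := by
  classical
  obtain ⟨h3, θ, hθ⟩ := ReeFixed.exists_theta (m := m) hK
  let b : chevG2.Idx := Sum.inr (6 : Fin 12)
  let a : chevG2.Idx := Sum.inr (7 : Fin 12)
  have hdiag : ∀ g : ↥(Cfsg.Lie.chevG2.diagonalSubgroup K ⊓ Cfsg.Lie.twistedG2 K (3 ^ m)), ∃ α β : Kˣ,
      ((g : GL chevG2.Idx K) : Matrix chevG2.Idx chevG2.Idx K) = Matrix.diagonal (dvec α β) :=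
    fun g => exists_dvec g.2.1
  let f : ↥(Cfsg.Lie.chevG2.diagonalSubgroup K ⊓ Cfsg.Lie.twistedG2 K (3 ^ m)) →* K :=
  { toFun := fun g => ((g : GL chevG2.Idx K) : Matrix chevG2.Idx chevG2.Idx K) b b
    map_one' := by
      change (1 : Matrix chevG2.Idx chevG2.Idx K) b b = 1
      simp
    map_mul' := by
      intro g h
      obtain ⟨α, β, hg⟩ := hdiag g
      obtain ⟨α', β', hh⟩ := hdiag h
      change (((g : GL chevG2.Idx K) : Matrix chevG2.Idx chevG2.Idx K) * ((h : GL chevG2.Idx K) : Matrix chevG2.Idx chevG2.Idx K)) b b = _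
      rw [hg, hh, Matrix.diagonal_mul_diagonal, Matrix.diagonal_apply_eq, Matrix.diagonal_apply_eq,
        Matrix.diagonal_apply_eq] }
  have hf : Function.Injective f := by
    rw [injective_iff_map_eq_one]
    intro g hg
    obtain ⟨α, β, hgd⟩ := hdiag g
    have hβ : β = 1 := by
      have h1 : ((g : GL chevG2.Idx K) : Matrix chevG2.Idx chevG2.Idx K) b b = 1 := hg
      rw [hgd, Matrix.diagonal_apply_eq] at h1
      apply Units.ext
      have h2 : dvec α β b = β := by
        change ((α ^ (0 : ℤ) * β ^ (1 : ℤ) : Kˣ) : K) = β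
        simp
      rw [h2] at h1
      simpa using h1
    have hα : α = 1 := by
      have h1 := (ReeFixed.fixed_of_mem_twistedG2 h3 hθ g.2.2).2 4 4
      have e1 : ReeFixed.lg 4 = b := rfl
      have e2 : ReeFixed.sh 4 = a := rfl
      rw [e1, e2, hgd, Matrix.diagonal_apply_eq, Matrix.diagonal_apply_eq] at h1
      have h2 : dvec α β b = β := by
        change ((α ^ (0 : ℤ) * β ^ (1 : ℤ) : Kˣ) : K) = β
        simp
      have h4 : dvec α β a = α := by
        change ((α ^ (1 : ℤ) * β ^ (0 : ℤ) : Kˣ) : K) = α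
        simp
      rw [h2, h4, hβ, Units.val_one, map_one] at h1
      apply Units.ext
      simpa using h1.symm
    subst hα hβ
    apply Subtype.ext
    apply Units.ext
    rw [hgd]
    change _ = (1 : Matrix chevG2.Idx chevG2.Idx K)
    rw [← Matrix.diagonal_one]
    congr 1
    ext s
    rcases s with i | s
    · simp [dvec]
    · simp [dvec]
  exact isCyclic_of_injective_ringHom f hf

end Cfsg.Agent.S1150
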