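import Cfsg.Statements.S1114
import Cfsg.Agent.ChevalleyStructure.G2Torus
import Cfsg.Agent.ChevalleyStructure.HDiagG2
import Cfsg.Agent.S1150

set_option autoImplicit false
open Cfsg

namespace Cfsg.Agent.S1114

open Cfsg.Lie Cfsg.Agent.ChevalleyStructure Cfsg.Agent.S1150 Cfsg.Agent.ChevalleyStructure.Elts

/-- the coordinate of the long fundamental root `b` -/
abbrev ib : chevG2.Idx := Sum.inr (6 : Fin 12)

/-- the coordinate of the short fundamental root `a` -/
abbrev ia : chevG2.Idx := Sum.inr (7 : Fin 12)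

/-- the value of the character on `b` -/
noncomputable def chi0 (K : Type*) [Field K] (m : ℕ) :
    ↥(chevG2.diagonalSubgroup K ⊓ twistedG2 K (3 ^ m)) →* K where
  toFun g := ((g : GL chevG2.Idx K) : Matrix chevG2.Idx chevG2.Idx K) ib ib
  map_one' := by
    change (1 : Matrix chevG2.Idx chevG2.Idx K) ib ib = 1
    simp
  map_mul' := by
    intro g h
    obtain ⟨α, β, hg⟩ := exists_dvec g.2.1
    obtain ⟨α', β', hh⟩ := exists_dvec h.2.1
    change (((g : GL chevG2.Idx K) : Matrix chevG2.Idx chevG2.Idx K) * ((h : GL chevG2.Idx K) : Matrix chevG2.Idx chevG2.Idx K)) ib ib = _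
    rw [hg, hh, Matrix.diagonal_mul_diagonal, Matrix.diagonal_apply_eq, Matrix.diagonal_apply_eq,
      Matrix.diagonal_apply_eq]

theorem chi0_apply {K : Type*} [Field K] {m : ℕ} (g : ↥(chevG2.diagonalSubgroup K ⊓ twistedG2 K (3 ^ m))) :
    chi0 K m g = ((g : GL chevG2.Idx K) : Matrix chevG2.Idx chevG2.Idx K) ib ib := rfl

theorem dvec_b {K : Type*} [Field K] (α β : Kˣ) : dvec α β ib = β := by
  change ((α ^ (0 : ℤ) * β ^ (1 : ℤ) : Kˣ) : K) = β
  simp

theorem chi0_injective {K : Type*} [Field K] [Fintype K] {m : ℕ} (hK : Fintype.card K = 3 ^ (2 * m + 1)) :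
    Function.Injective (chi0 K m) := by
  classical
  obtain ⟨h3, θ, hθ⟩ := ReeFixed.exists_theta (m := m) hK
  rw [injective_iff_map_eq_one]
  intro g hg
  obtain ⟨α, β, hgd⟩ := exists_dvec g.2.1
  have hβ : β = 1 := by
    rw [chi0_apply, hgd, Matrix.diagonal_apply_eq, dvec_b] at hg
    apply Units.ext
    simpa using hg
  have hα : α = 1 := by
    have h1 := (ReeFixed.fixed_of_mem_twistedG2 h3 hθ g.2.2).2 4 4
    have e1 : ReeFixed.lg 4 = ib := rfl
    have e2 : ReeFixed.sh 4 = ia := rfl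
    have h4 : dvec α β ia = α := by
      change ((α ^ (1 : ℤ) * β ^ (0 : ℤ) : Kˣ) : K) = α
      simp
    rw [e1, e2, hgd, Matrix.diagonal_apply_eq, Matrix.diagonal_apply_eq] at h1
    rw [dvec_b, h4, hβ, Units.val_one, map_one] at h1
    apply Units.ext
    simpa using h1.symm
  subst hα hβ
  apply Subtype.ext
  apply Units.ext
  rw [hgd]
  change _ = (1 : Matrix chevG2.Idx chevG2.Idx K)
  rw [← Matrix.diagonal_one]
  congr 1
  ext s
  rcases s with i | s
  · simp [dvec]
  · simp [dvec]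

/-- the character with values in the units -/
noncomputable def chi (K : Type*) [Field K] (m : ℕ) :
    ↥(chevG2.diagonalSubgroup K ⊓ twistedG2 K (3 ^ m)) →* Kˣ := (chi0 K m).toHomUnits

theorem coe_chi {K : Type*} [Field K] {m : ℕ} (g : ↥(chevG2.diagonalSubgroup K ⊓ twistedG2 K (3 ^ m))) :
    ((chi K m g : Kˣ) : K) = chi0 K m g := rfl

theorem chi_injective {K : Type*} [Field K] [Fintype K] {m : ℕ} (hK : Fintype.card K = 3 ^ (2 * m + 1)) :
    Function.Injective (chi K m) := by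
  intro g h hgh
  apply chi0_injective hK
  rw [← coe_chi, ← coe_chi, hgh]

theorem cart86 : SparseHDiag.cartanRS chevG2 8 6 = 3 := by decide +kernel
theorem cart106 : SparseHDiag.cartanRS chevG2 10 6 = -1 := by decide +kernel

theorem odd_pow (m : ℕ) : Odd (3 ^ m) := Odd.pow (by decide)

theorem hG_diag {K : Type*} [Field K] {r : ℕ} (hr : r < 12) {t : K} (ht : t ≠ 0) :
    ((hG G2Torus.inList r t : GL chevG2.Idx K) : Matrix chevG2.Idx chevG2.Idx K) =
      Matrix.diagonal (SparseHDiag.hVal chevG2 r t) := by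
  rw [coe_hG]
  exact HDiagG2.hMat_chevG2 hr ht

theorem hVal_b {K : Type*} [Field K] (r : ℕ) (t : K) :
    SparseHDiag.hVal chevG2 r t ib = t ^ SparseHDiag.cartanRS chevG2 r 6 := rfl

/-- the values `t ^ (3θ - 1)` are attained -/
theorem pow_mem_range {K : Type*} [Field K] {m : ℕ} (t : Kˣ) :
    t ^ (3 * 3 ^ m - 1) ∈ (chi K m).range := by
  have ht : (t : K) ≠ 0 := t.ne_zero
  have hs : (t : K) ^ (3 ^ m) ≠ 0 := pow_ne_zero _ ht
  refine ⟨⟨hG G2Torus.inList 8 ((t : K) ^ (3 ^ m)) * hG G2Torus.inList 10 (t : K), ?_, ?_⟩, ?_⟩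
  · exact Subgroup.mul_mem _ (hG_mem_diagonal G2Torus.inList (by show 8 < 12; omega) hs)
      (hG_mem_diagonal G2Torus.inList (by show 10 < 12; omega) ht)
  · exact G2Torus.torus_mem (odd_pow m) ht
  · apply Units.ext
    rw [coe_chi, chi0_apply, Units.val_mul, hG_diag (by omega) hs, hG_diag (by omega) ht,
      Matrix.diagonal_mul_diagonal, Matrix.diagonal_apply_eq, hVal_b, hVal_b, cart86, cart106, Units.val_pow_eq_pow_val]
    have h1 : 1 ≤ 3 * 3 ^ m := by have := Nat.one_le_pow m 3 (by omega); omega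
    rw [pow_sub₀ _ ht h1, zpow_neg_one, pow_one]
    congr 1
    rw [← zpow_natCast, ← zpow_natCast, ← zpow_mul]
    congr 1
    push_cast
    ring

theorem neg_one_mem_range {K : Type*} [Field K] {m : ℕ} (h3 : ((3 : ℤ) : K) = 0) :
    (-1 : Kˣ) ∈ (chi K m).range := by
  have ht : (-1 : K) ≠ 0 := neg_ne_zero.2 one_ne_zero
  refine ⟨⟨hG G2Torus.inList 8 (-1 : K), ?_, ?_⟩, ?_⟩
  · exact hG_mem_diagonal G2Torus.inList (by show 8 < 12; omega) ht
  · exact G2Torus.involution_mem h3 (odd_pow m)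
  · apply Units.ext
    rw [coe_chi, chi0_apply, hG_diag (by omega) ht, Matrix.diagonal_apply_eq, hVal_b, cart86]
    norm_num

/-- the kernel of `t ↦ t ^ (3θ - 1)` is `{1, -1}` -/
theorem eq_one_or_neg_one {K : Type*} [Field K] [Fintype K] {m : ℕ} (hK : Fintype.card K = 3 ^ (2 * m + 1))
    (t : Kˣ) (h : t ^ (3 * 3 ^ m - 1) = 1) : t = 1 ∨ t = -1 := by
  have h1 : 1 ≤ 3 * 3 ^ m := by have := Nat.one_le_pow m 3 (by omega); omega
  have h2 : t ^ (3 * 3 ^ m) = t := by
    have : 3 * 3 ^ m = (3 * 3 ^ m - 1) + 1 := by omega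
    rw [this, pow_succ, h, one_mul]
  have h3 : t ^ (3 ^ m) = t := by
    have h4 : (t ^ (3 * 3 ^ m)) ^ (3 ^ m) = t ^ (3 ^ m) := by rw [h2]
    rw [← pow_mul] at h4
    have h5 : 3 * 3 ^ m * 3 ^ m = Fintype.card K := by rw [hK]; ring
    rw [h5] at h4
    have h6 : t ^ Fintype.card K = t := by
      apply Units.ext
      rw [Units.val_pow_eq_pow_val]
      exact FiniteField.pow_card (t : K)
    rw [h6] at h4
    exact h4.symm
  have h4 : t ^ 3 = t := by
    have : t ^ (3 * 3 ^ m) = (t ^ (3 ^ m)) ^ 3 := by rw [← pow_mul, mul_comm]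
    rw [h3, h2] at this
    exact this.symm
  have h5 : (t : K) * (t : K) = 1 := by
    have h6 : t * t = 1 := by
      have : t ^ 3 = t * (t * t) := by rw [pow_succ, pow_succ, pow_one, mul_assoc]
      rw [this] at h4
      exact mul_left_cancel (a := t) (by rw [h4, mul_one])
    have := congrArg (Units.val) h6
    simpa using this
  rcases mul_self_eq_one_iff.1 h5 with h | h
  · left; exact Units.ext h
  · right; exact Units.ext (by rw [h]; simp)

/-- `|H¹| = |G¹ ∩ H|`: `|H¹| = 3 ^ (2 * m + 1) - 1` for ²G₂(3^(2m+1)). -/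
theorem result {K : Type*} [Field K] [Fintype K] {m : ℕ} (hK : Fintype.card K = 3 ^ (2 * m + 1)) :
    Nat.card ↥(Cfsg.Lie.chevG2.diagonalSubgroup K ⊓ Cfsg.Lie.twistedG2 K (3 ^ m)) = 3 ^ (2 * m + 1) - 1 := by
  obtain ⟨h3n, -⟩ := ReeFixed.exists_theta (m := m) hK
  have h3 : ((3 : ℤ) : K) = 0 := by exact_mod_cast h3n
  have hne : (-1 : Kˣ) ≠ 1 := by
    intro h
    have h1 : (-1 : K) = 1 := by
      have := congrArg Units.val h
      simpa using this
    have h2 : (2 : K) = 0 := by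
      have : (2 : K) = 1 - (-1) := by norm_num
      rw [this, h1, sub_self]
    have h4 : (1 : K) = 0 := by
      have h5 : (3 : K) = 0 := by exact_mod_cast h3n
      have : (1 : K) = 3 - 2 := by norm_num
      rw [this, h5, h2, sub_zero]
    exact one_ne_zero h4
  -- the map `t ↦ t ^ (3θ - 1)`
  let φ : Kˣ →* Kˣ := powMonoidHom (3 * 3 ^ m - 1)
  have hker : Nat.card φ.ker = 2 := by
    rw [Nat.card_eq_two_iff]
    have hm1 : (-1 : Kˣ) ∈ φ.ker := by
      rw [MonoidHom.mem_ker]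
      show (-1 : Kˣ) ^ (3 * 3 ^ m - 1) = 1
      have : Even (3 * 3 ^ m - 1) := by
        have h5 : Odd (3 * 3 ^ m) := Odd.mul (by decide) (odd_pow m)
        obtain ⟨k, hk⟩ := h5
        exact ⟨k, by omega⟩
      exact this.neg_one_pow
    refine ⟨1, ⟨-1, hm1⟩, ?_, ?_⟩
    · intro h
      exact hne (congrArg Subtype.val h).symm
    · apply Set.eq_univ_of_forall
      rintro ⟨t, ht⟩
      rw [MonoidHom.mem_ker] at ht
      rcases eq_one_or_neg_one hK t ht with h | h
      · left; exact Subtype.ext h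
      · right; exact Subtype.ext h
  have hcard : Nat.card Kˣ = 3 ^ (2 * m + 1) - 1 := by
    rw [Nat.card_units, Nat.card_eq_fintype_card, hK]
  have hφ : Nat.card φ.range * 2 = 3 ^ (2 * m + 1) - 1 := by
    rw [← hcard, ← Subgroup.index_ker, ← hker]
    exact Subgroup.index_mul_card _
  have hodd : Odd (Nat.card φ.range) := by
    by_contra hev
    rw [Nat.not_odd_iff_even] at hev
    obtain ⟨k, hk⟩ := hev
    have h9 : 3 ^ (2 * m + 1) % 4 = 3 := by
      rw [pow_succ, pow_mul, Nat.mul_mod, Nat.pow_mod]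
      norm_num
    omega
  have hle : φ.range ≤ (chi K m).range := by
    rintro _ ⟨t, rfl⟩
    exact pow_mem_range t
  have hd1 : Nat.card φ.range ∣ Nat.card (chi K m).range := Subgroup.card_dvd_of_le hle
  have hd2 : 2 ∣ Nat.card (chi K m).range := by
    have h1 : orderOf (-1 : Kˣ) = 2 := by
      apply orderOf_eq_prime
      · simp
      · exact hne
    rw [← h1]
    exact Subgroup.orderOf_dvd_natCard _ (neg_one_mem_range h3)
  have hd3 : 3 ^ (2 * m + 1) - 1 ∣ Nat.card (chi K m).range := by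
    rw [← hφ]
    exact Nat.Coprime.mul_dvd_of_dvd_of_dvd (Nat.Coprime.symm (Nat.coprime_two_left.2 hodd)) hd1 hd2
  have hd4 : Nat.card (chi K m).range ∣ 3 ^ (2 * m + 1) - 1 := by
    rw [← hcard]
    exact Subgroup.card_subgroup_dvd_card _
  have hr : Nat.card ↥(chevG2.diagonalSubgroup K ⊓ twistedG2 K (3 ^ m)) = Nat.card (chi K m).range :=
    Nat.card_congr (MonoidHom.ofInjective (chi_injective hK)).toEquiv
  rw [hr]
  exact Nat.dvd_antisymm hd4 hd3

end Cfsg.Agent.S1114
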