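import Cfsg.Statements.S1157
import Cfsg.Agent.S1114
import Cfsg.Agent.S1116
import Cfsg.Agent.S1152
import Cfsg.Agent.LieRecognition.ReeCent
import Cfsg.Agent.LieRecognition.ReePSL

set_option autoImplicit false
open Cfsg

namespace Cfsg.Agent.S1157

open Cfsg.Agent.LieRecognition

/-- characteristic of the field -/
theorem charP_three {K : Type*} [Field K] [Fintype K] {m : ℕ}
    (hK : Fintype.card K = 3 ^ (2 * m + 1)) : CharP K 3 := by
  have : Fact (Nat.Prime 3) := ⟨Nat.prime_three⟩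
  exact charP_of_card_eq_prime_pow (f := 2 * m + 1) hK

theorem mod_four {m : ℕ} : 3 ^ (2 * m + 1) % 4 = 3 := by
  rw [pow_succ, pow_mul, Nat.mul_mod, Nat.pow_mod]
  norm_num

/-- existence of an involution in the diagonal subgroup -/
theorem exists_involution {K : Type*} [Field K] [Fintype K] {m : ℕ}
    (hK : Fintype.card K = 3 ^ (2 * m + 1)) :
    ∃ a : ↥(Cfsg.Lie.twistedG2 K (3 ^ m)),
      (a : GL Cfsg.Lie.chevG2.Idx K) ∈ Cfsg.Lie.chevG2.diagonalSubgroup K ∧ a ≠ 1 ∧ a * a = 1 := by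
  have hcard := Cfsg.Agent.S1114.result hK
  have hfin : Finite ↥(Cfsg.Lie.chevG2.diagonalSubgroup K ⊓ Cfsg.Lie.twistedG2 K (3 ^ m)) := by
    apply Nat.finite_of_card_ne_zero
    rw [hcard]
    have := mod_four (m := m)
    omega
  have h2 : 2 ∣ Nat.card ↥(Cfsg.Lie.chevG2.diagonalSubgroup K ⊓ Cfsg.Lie.twistedG2 K (3 ^ m)) := by
    rw [hcard]
    have := mod_four (m := m)
    omega
  have : Fact (Nat.Prime 2) := ⟨Nat.prime_two⟩
  obtain ⟨x, hx⟩ := exists_prime_orderOf_dvd_card' 2 h2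
  refine ⟨⟨x.1, x.2.2⟩, x.2.1, ?_, ?_⟩
  · intro h
    have h0 : (x : GL Cfsg.Lie.chevG2.Idx K) = 1 :=
      congrArg (fun y : ↥(Cfsg.Lie.twistedG2 K (3 ^ m)) => (y : GL Cfsg.Lie.chevG2.Idx K)) h
    have h1 : x = 1 := Subtype.ext h0
    rw [h1, orderOf_one] at hx
    omega
  · have h1 : x * x = 1 := by rw [← pow_two, ← hx, pow_orderOf_eq_one]
    have h0 : (x : GL Cfsg.Lie.chevG2.Idx K) * x = 1 := congrArg Subtype.val h1
    exact Subtype.ext h0

/-- In the small Ree group ²G₂(q), q = 3^(2m+1) with m ≥ 1, realised as G¹ inside the Chevalley group G₂ over the field with q elements (θ the 3^m-th power map): a Sylow 2-subgroup `S` of `G¹` satisfies `C(S) = S` and `|N(S)| = 168`. -/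
theorem result {K : Type*} [Field K] [Fintype K] {m : ℕ} (hm : 1 ≤ m) (hK : Fintype.card K = 3 ^ (2 * m + 1))
    (S : Sylow 2 ↥(Cfsg.Lie.twistedG2 K (3 ^ m))) :
    Subgroup.centralizer ((S : Subgroup ↥(Cfsg.Lie.twistedG2 K (3 ^ m))) : Set ↥(Cfsg.Lie.twistedG2 K (3 ^ m))) = S ∧
      Nat.card (Subgroup.normalizer ((S : Subgroup ↥(Cfsg.Lie.twistedG2 K (3 ^ m))) : Set ↥(Cfsg.Lie.twistedG2 K (3 ^ m)))) = 168 := by
  have hchar := charP_three hK
  obtain ⟨a, haH, ha1, ha2⟩ := exists_involution hK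
  obtain ⟨⟨e⟩, hS⟩ := Cfsg.Agent.S1152.result hK a haH ha1 ha2
  have hc := ReeCent.centData ha1 ha2 e ReePSL.klein
  exact ReeInv.sylow_two hc ReePSL.klein (Cfsg.Agent.S1116.result hK hm) hS S

end Cfsg.Agent.S1157
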