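import Cfsg.Statements.S1054
import Cfsg.Agent.S0319
import Cfsg.Agent.S1042
import Cfsg.Agent.S1050
import Cfsg.Agent.S1051
import Cfsg.Agent.S1052
import Cfsg.Agent.ChevalleyStructure.Irreducible

set_option autoImplicit false
open Cfsg

namespace Cfsg.Agent.S1054

/-- The Chevalley groups of types D₄, F₄, E₆, E₇, E₈ are simple over every field. -/
theorem result {F : Type*} [Field F] (D : Cfsg.Lie.ChevalleyDatum)
    (hD : D ∈ [Cfsg.Lie.chevD4, Cfsg.Lie.chevF4, Cfsg.Lie.chevE6, Cfsg.Lie.chevE7, Cfsg.Lie.chevE8]) :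
    IsSimpleGroup ↥(D.group F) ∧ ¬ IsMulCommutative ↥(D.group F) := by
  have hL : D ∈ [Cfsg.Lie.chevG2, Cfsg.Lie.chevB2, Cfsg.Lie.chevD4, Cfsg.Lie.chevF4, Cfsg.Lie.chevE6,
      Cfsg.Lie.chevE7, Cfsg.Lie.chevE8] := List.mem_cons_of_mem _ (List.mem_cons_of_mem _ hD)
  have hr : 2 < D.rank := by
    simp only [List.mem_cons, List.not_mem_nil, or_false] at hD
    rcases hD with h | h | h | h | h <;> subst h <;> decide
  have h2 : D = Cfsg.Lie.chevG2 ∨ D = Cfsg.Lie.chevB2 → ∃ a : F, a ≠ 0 ∧ a ≠ 1 := by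
    rintro (h | h) <;> subst h <;> exact absurd hr (by decide)
  have hn : 0 < D.nroots := by
    simp only [List.mem_cons, List.not_mem_nil, or_false] at hD
    rcases hD with h | h | h | h | h <;> subst h <;> decide
  obtain ⟨P, hB, -, hS⟩ := Cfsg.Agent.S1042.result (F := F) D hL
  have hirr := Cfsg.Agent.ChevalleyStructure.Irreducible.irreducible hL P hB hS
  have hsol : Group.IsSolvable ↥P.B := by
    have := Cfsg.Agent.S1050.result (F := F) D hL
    rw [hB]
    exact Group.isSolvable_of_isSolvable_injective (f := (D.group F).subtype.subgroupComap (D.borelSubgroup F))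
      (fun a b hab => Subtype.ext (Subtype.ext (by
        have := congrArg Subtype.val hab
        exact this)))
  have hperf := Cfsg.Agent.S1052.result (F := F) D hL h2
  have hcore : P.B.normalCore = ⊥ := by
    rw [hB]; exact Cfsg.Agent.S1051.result (F := F) D hL
  have hnt : Nontrivial ↥(D.group F) := by
    refine ⟨⟨⟨Cfsg.Agent.ChevalleyStructure.Elts.xG hL 0 1,
      Cfsg.Agent.ChevalleyStructure.Elts.xG_mem_group hL _ _⟩, 1, ?_⟩⟩
    intro h
    have h' := congrArg Subtype.val h
    exact one_ne_zero ((Cfsg.Agent.ChevalleyStructure.Elts.xG_eq_one_iff hL hn (1 : F)).1 h')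
  refine ⟨Cfsg.Agent.S0319.result P hirr hsol hperf hcore, ?_⟩
  intro hc
  have h1 : commutator ↥(D.group F) = ⊥ := by
    rw [commutator_eq_bot_iff_center_eq_top]
    rw [Subgroup.eq_top_iff']
    intro g
    rw [Subgroup.mem_center_iff]
    intro h
    exact hc.is_comm.comm h g
  rw [hperf] at h1
  exact top_ne_bot h1

end Cfsg.Agent.S1054
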