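import Cfsg.Statements.S1082
import Cfsg.Agent.ChevalleyStructure.OrthD4Tab

set_option autoImplicit false
open Cfsg

namespace Cfsg.Agent.S1082

/-- D₄(F) ≅ PΩ₈⁺(F), the commutator subgroup of the orthogonal group of `Σ xᵢ yᵢ` modulo its centre. -/
theorem result {F : Type*} [Field F] : Nonempty (↥(Cfsg.Lie.chevD4.group F) ≃* Cfsg.POmega F (Cfsg.quadFormPlus 4 F)) := by
  exact ChevalleyStructure.OrthLie.Tab.main (ChevalleyStructure.OrthD4Tab.compat F)
    ChevalleyStructure.OrthD4Tab.ok ChevalleyStructure.OrthD4Tab.span ChevalleyStructure.OrthD4Tab.min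
    ChevalleyStructure.OrthD4Tab.third (k := .inl 0) (l := .inl 1)
    (Set.mem_univ _) (Set.mem_univ _)
    (by simp) (by simp [ChevalleyStructure.OrthHyp.plusForm])
    (ChevalleyStructure.OrthHyp.omega_plus 4 (by norm_num) F)

end Cfsg.Agent.S1082
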