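import Cfsg.Statements.S0502
import Mathlib

set_option autoImplicit false
open Cfsg

namespace Cfsg.Agent.S0502

/-- Two distinct commuting involutions generate a Klein four-group. -/
theorem exists_klein {P : Type*} [Group P] {a b : P} (ha : a ^ 2 = 1) (hb : b ^ 2 = 1)
    (ha1 : a ≠ 1) (hb1 : b ≠ 1) (hab : a ≠ b) (hc : a * b = b * a) :
    ∃ W : Subgroup P, IsKleinFour W ∧ ∀ w, w ∈ W ↔ (w = 1 ∨ w = a ∨ w = b ∨ w = a * b) := by
  have ha' : a * a = 1 := by rw [← pow_two]; exact ha
  have hb' : b * b = 1 := by rw [← pow_two]; exact hb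
  have hai : a⁻¹ = a := by rw [inv_eq_iff_mul_eq_one]; exact ha'
  have hbi : b⁻¹ = b := by rw [inv_eq_iff_mul_eq_one]; exact hb'
  have hab1 : a * b ≠ 1 := by
    intro h
    apply hab
    rw [mul_eq_one_iff_eq_inv, hbi] at h
    exact h
  have h1 : a * (a * b) = b := by rw [← mul_assoc, ha', one_mul]
  have h2 : b * (a * b) = a := by rw [hc, ← mul_assoc, hb', one_mul]
  have h3 : (a * b) * a = b := by rw [hc, mul_assoc, ha', mul_one]
  have h4 : (a * b) * b = a := by rw [mul_assoc, hb', mul_one]
  have h5 : (a * b) * (a * b) = 1 := by rw [mul_assoc, h2, ha']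
  let W : Subgroup P :=
    { carrier := {w | w = 1 ∨ w = a ∨ w = b ∨ w = a * b}
      mul_mem' := by
        rintro x y hx hy
        change x * y = 1 ∨ x * y = a ∨ x * y = b ∨ x * y = a * b
        rcases hx with rfl | rfl | rfl | rfl <;> rcases hy with rfl | rfl | rfl | rfl <;>
          simp [ha', hb', h1, h2, h3, h4, h5, ← hc]
      one_mem' := Or.inl rfl
      inv_mem' := by
        rintro x hx
        change x⁻¹ = 1 ∨ x⁻¹ = a ∨ x⁻¹ = b ∨ x⁻¹ = a * b
        rcases hx with rfl | rfl | rfl | rfl
        · simp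
        · right; left; exact hai
        · right; right; left; exact hbi
        · right; right; right; rw [mul_inv_rev, hai, hbi, hc] }
  have hW : ∀ w, w ∈ W ↔ (w = 1 ∨ w = a ∨ w = b ∨ w = a * b) := fun w => Iff.rfl
  refine ⟨W, ?_, hW⟩
  have hcard : Nat.card W = 4 := by
    have : (W : Set P) = {1, a, b, a * b} := by
      ext w; simp only [SetLike.mem_coe, hW]; simp
    classical
    have h6 : Nat.card W = Set.ncard (W : Set P) := rfl
    rw [h6, this]
    rw [Set.ncard_insert_of_notMem, Set.ncard_insert_of_notMem, Set.ncard_pair]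
    · intro h; apply ha1
      have : a * b = b := h.symm
      exact mul_eq_right.mp this
    · simp only [Set.mem_insert_iff, Set.mem_singleton_iff, not_or]
      refine ⟨hab, ?_⟩
      intro h; apply hb1
      exact (left_eq_mul.mp h)
    · simp only [Set.mem_insert_iff, Set.mem_singleton_iff, not_or]
      exact ⟨ha1.symm, hb1.symm, hab1.symm⟩
  refine ⟨hcard, ?_⟩
  have hexp : ∀ w : W, w ^ 2 = 1 := by
    rintro ⟨w, hw⟩
    apply Subtype.ext
    rw [hW] at hw
    show w ^ 2 = 1
    rcases hw with rfl | rfl | rfl | rfl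
    · simp
    · exact ha
    · exact hb
    · rw [pow_two]; exact h5
  have hdvd : Monoid.exponent W ∣ 2 := Monoid.exponent_dvd_of_forall_pow_eq_one hexp
  rcases (Nat.dvd_prime Nat.prime_two).mp hdvd with h | h
  · exfalso
    rw [Monoid.exp_eq_one_iff] at h
    have := @Nat.card_of_subsingleton W 1 h
    omega
  · exact h

/-- In a Klein four-group every element has square one. -/
theorem sq_of_klein {P : Type*} [Group P] {U : Subgroup P} (hU : IsKleinFour U) {u : P} (hu : u ∈ U) :
    u ^ 2 = 1 := by
  have h := Monoid.pow_exponent_eq_one (⟨u, hu⟩ : U)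
  rw [hU.exponent_two] at h
  exact congrArg Subtype.val h

theorem comm_of_sq {P : Type*} [Group P] {a b : P} (ha : a ^ 2 = 1) (hb : b ^ 2 = 1)
    (hab : (a * b) ^ 2 = 1) : a * b = b * a := by
  have ha' : a⁻¹ = a := by rw [inv_eq_iff_mul_eq_one, ← pow_two]; exact ha
  have hb' : b⁻¹ = b := by rw [inv_eq_iff_mul_eq_one, ← pow_two]; exact hb
  have hab' : (a * b)⁻¹ = a * b := by rw [inv_eq_iff_mul_eq_one, ← pow_two]; exact hab
  rw [← hab', mul_inv_rev, ha', hb']

theorem comm_of_klein {P : Type*} [Group P] {U : Subgroup P} (hU : IsKleinFour U) {a b : P}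
    (ha : a ∈ U) (hb : b ∈ U) : a * b = b * a :=
  comm_of_sq (sq_of_klein hU ha) (sq_of_klein hU hb) (sq_of_klein hU (U.mul_mem ha hb))

/-- A nontrivial normal subgroup of a finite 2-group contains a nontrivial central element. -/
theorem exists_central {P : Type*} [Group P] [Finite P] (hP : IsPGroup 2 P)
    (E : Subgroup P) [E.Normal] (hE8 : 2 ≤ Nat.card E) :
    ∃ z ∈ E, z ≠ 1 ∧ ∀ g : P, z * g = g * z := by
  have : Fact (Nat.Prime 2) := ⟨Nat.prime_two⟩
  have hcP : IsPGroup 2 (ConjAct P) := hP
  obtain ⟨k, hk⟩ := (IsPGroup.iff_card.mp (hP.to_subgroup E))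
  have hk2 : 2 ∣ Nat.card E := by
    rw [hk]; apply dvd_pow_self; rintro rfl; rw [hk] at hE8; omega
  have := IsPGroup.exists_fixed_point_of_prime_dvd_card_of_fixed_point (p := 2) (G := ConjAct P) hcP E
    hk2 (a := 1) (by intro g; simp)
  obtain ⟨b, hb, hb1⟩ := this
  refine ⟨b, b.2, ?_, ?_⟩
  · intro h; apply hb1; exact (Subtype.ext h).symm
  · intro g
    have h := hb (ConjAct.toConjAct g)
    have h' : g * (b : P) * g⁻¹ = b := by
      have h2 := congrArg Subtype.val h
      rw [ConjAct.Subgroup.val_conj_smul, ConjAct.smul_def, ConjAct.ofConjAct_toConjAct] at h2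
      exact h2
    rw [mul_inv_eq_iff_eq_mul] at h'
    exact h'.symm

/-- If `u` is an element of square one, normalising an elementary abelian 2-group `E` of order at least 8 and
`z` is an element of `E`, then there is an element of `C_E(u)` outside `{1, z}`. -/
theorem exists_third {P : Type*} [Group P] [Finite P]
    (E : Subgroup P) [E.Normal] (hE2 : ∀ e ∈ E, e ^ 2 = 1) (hE8 : 8 ≤ Nat.card E) {u : P} (hu : u ^ 2 = 1)
    (z : P) : ∃ w ∈ E, w ≠ 1 ∧ w ≠ z ∧ w * u = u * w := by
  have hEc : ∀ a ∈ E, ∀ b ∈ E, a * b = b * a := by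
    intro a ha b hb
    exact comm_of_sq (hE2 a ha) (hE2 b hb) (hE2 _ (E.mul_mem ha hb))
  have huu : u * u = 1 := by rw [← pow_two]; exact hu
  have hui : u⁻¹ = u := by rw [inv_eq_iff_mul_eq_one]; exact huu
  have hinv : ∀ e ∈ E, e⁻¹ = e := by
    intro e he; rw [inv_eq_iff_mul_eq_one, ← pow_two]; exact hE2 e he
  have hconj : ∀ e ∈ E, u * e * u ∈ E := by
    intro e he
    have := (inferInstance : E.Normal).conj_mem e he u
    rwa [hui] at this
  by_contra hcon
  push Not at hcon
  -- so C_E(u) ⊆ {1, z}
  -- map e ↦ e * (u e u), with image in C_E(u)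
  let f : E → E := fun e => ⟨(e : P) * (u * e * u), E.mul_mem e.2 (hconj e e.2)⟩
  have hf1 : ∀ e : E, (f e : P) * u = u * (f e : P) := by
    intro e
    have hc := hEc e e.2 _ (hconj e e.2)
    show (e : P) * (u * e * u) * u = u * ((e : P) * (u * e * u))
    have h1 : u * ((e : P) * (u * e * u)) = (u * e * u) * e * u := by simp only [mul_assoc]
    rw [h1, hc]

  have hf2 : ∀ e : E, (f e : P) = 1 ∨ (f e : P) = z := by
    intro e
    by_contra h
    push Not at h
    exact hcon _ (f e).2 h.1 h.2 (hf1 e)
  -- fibers of f: f e = f e' iff e⁻¹ e' ∈ C_E(u)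
  have hfib : ∀ e e' : E, f e = f e' → ((e : P) * e' = 1 ∨ (e : P) * e' = z) := by
    intro e e' h
    by_contra h'
    push Not at h'
    refine hcon _ (E.mul_mem e.2 e'.2) h'.1 h'.2 ?_
    have h2 : (e : P) * (u * e * u) = (e' : P) * (u * e' * u) := congrArg Subtype.val h
    have he : (e:P) * e = 1 := by rw [← pow_two]; exact hE2 e e.2
    have he' : (e':P) * e' = 1 := by rw [← pow_two]; exact hE2 e' e'.2
    have h3 : (e' : P) * e = (u * e' * u) * (u * e * u) := by
      have h4 : (e' : P) * ((e : P) * (u * e * u)) * (u * e * u) =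
          (e' : P) * ((e' : P) * (u * e' * u)) * (u * e * u) := by rw [h2]
      have h5 : (u * (e : P) * u) * (u * e * u) = 1 := by
        rw [← pow_two]; exact hE2 _ (hconj e e.2)
      calc (e' : P) * e = (e' : P) * ((e : P) * ((u * e * u) * (u * e * u))) := by rw [h5, mul_one]
        _ = (e' : P) * ((e : P) * (u * e * u)) * (u * e * u) := by simp only [mul_assoc]
        _ = (e' : P) * ((e' : P) * (u * e' * u)) * (u * e * u) := h4
        _ = ((e' : P) * e') * ((u * e' * u) * (u * e * u)) := by simp only [mul_assoc]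
        _ = _ := by rw [he', one_mul]
    have h6 : (u * (e' : P) * u) * (u * e * u) = u * (e' * e) * u := by
      calc (u * (e' : P) * u) * (u * e * u) = u * e' * (u * u) * e * u := by simp only [mul_assoc]
        _ = u * (e' * e) * u := by rw [huu, mul_one]; simp only [mul_assoc]
    rw [h6] at h3
    rw [hEc e e.2 e' e'.2]
    calc (e' : P) * e * u = u * (e' * e) * u * u := by rw [← h3]
      _ = u * (e' * e) := by rw [mul_assoc, huu, mul_one]
  -- count
  classical
  let _ : Fintype E := Fintype.ofFinite E
  have h1 : (Finset.univ : Finset E).card ≤ 2 * ((Finset.univ : Finset E).image f).card := by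
    apply Finset.card_le_mul_card_image
    intro x hx
    obtain ⟨e, -, rfl⟩ := Finset.mem_image.mp hx
    have hsub : ((Finset.univ : Finset E).filter (fun a => f a = f e)).image (fun a : E => (a : P)) ⊆
        ({(e : P), z * e} : Finset P) := by
      intro y hy
      obtain ⟨a, ha, rfl⟩ := Finset.mem_image.mp hy
      have ha' := (Finset.mem_filter.mp ha).2
      have he : (e:P) * e = 1 := by rw [← pow_two]; exact hE2 e e.2
      rw [Finset.mem_insert, Finset.mem_singleton]
      rcases hfib a e ha' with h | h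
      · left
        rw [mul_eq_one_iff_eq_inv, hinv e e.2] at h
        exact h
      · right
        rw [← h, mul_assoc, he, mul_one]
    have h2 := (Finset.card_le_card hsub).trans Finset.card_le_two
    rwa [Finset.card_image_of_injective _ Subtype.val_injective] at h2
  have h2 : ((Finset.univ : Finset E).image f).card ≤ 2 := by
    have hsub : ((Finset.univ : Finset E).image f).image (fun a : E => (a : P)) ⊆
        ({(1 : P), z} : Finset P) := by
      intro y hy
      obtain ⟨a, ha, rfl⟩ := Finset.mem_image.mp hy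
      obtain ⟨e, -, rfl⟩ := Finset.mem_image.mp ha
      rw [Finset.mem_insert, Finset.mem_singleton]
      exact hf2 e
    have h2 := (Finset.card_le_card hsub).trans Finset.card_le_two
    rwa [Finset.card_image_of_injective _ Subtype.val_injective] at h2
  have h3 : Nat.card E = (Finset.univ : Finset E).card := by
    rw [Nat.card_eq_fintype_card, Finset.card_univ]
  omega

/-- If a finite 2-group has a normal elementary abelian subgroup of order at least 8, then any two of its Klein
four-subgroups are joined by a chain of Klein four-subgroups with consecutive members commuting elementwise. -/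
theorem result {P : Type*} [Group P] [Finite P] (hP : IsPGroup 2 P)
    (E : Subgroup P) [E.Normal] (hE : IsMulCommutative E) (hE2 : ∀ e ∈ E, e ^ 2 = 1) (hE8 : 8 ≤ Nat.card E) :
    Cfsg.IsFourConnected P := by
  have hEc : ∀ a ∈ E, ∀ b ∈ E, a * b = b * a := by
    intro a ha b hb
    exact comm_of_sq (hE2 a ha) (hE2 b hb) (hE2 _ (E.mul_mem ha hb))
  -- a nontrivial element of E central in P
  obtain ⟨z, hzE, hz1, hzc⟩ := exists_central hP E (by omega)
  -- each four-subgroup is joined to a four-subgroup inside E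
  have key : ∀ U : Subgroup P, IsKleinFour U → ∃ W : Subgroup P, W ≤ E ∧ IsKleinFour W ∧
      Relation.ReflTransGen
      (fun A B : Subgroup P => IsKleinFour A ∧ IsKleinFour B ∧ ∀ a ∈ A, ∀ b ∈ B, a * b = b * a) U W := by
    intro U hU
    by_cases hUE : U ≤ E
    · exact ⟨U, hUE, hU, Relation.ReflTransGen.refl⟩
    · obtain ⟨u, huU, huE⟩ := SetLike.not_le_iff_exists.mp hUE
      have hu2 := sq_of_klein hU huU
      have hu1 : u ≠ 1 := fun h => huE (h ▸ E.one_mem)
      have huz : u ≠ z := fun h => huE (h ▸ hzE)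
      obtain ⟨w, hwE, hw1, hwz, hwu⟩ := exists_third E hE2 hE8 hu2 z
      obtain ⟨X, hX, hXm⟩ := exists_klein hu2 (hE2 z hzE) hu1 hz1 huz (hzc u).symm
      obtain ⟨W, hW, hWm⟩ := exists_klein (hE2 w hwE) (hE2 z hzE) hw1 hz1 hwz (hzc w).symm
      refine ⟨W, ?_, hW, ?_⟩
      · intro x hx
        rcases (hWm x).mp hx with rfl | rfl | rfl | rfl
        · exact E.one_mem
        · exact hwE
        · exact hzE
        · exact E.mul_mem hwE hzE
      · refine Relation.ReflTransGen.tail (Relation.ReflTransGen.single ⟨hU, hX, ?_⟩) ⟨hX, hW, ?_⟩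
        · intro a ha b hb
          have hau : a * u = u * a := comm_of_klein hU ha huU
          have haz : a * z = z * a := (hzc a).symm
          rcases (hXm b).mp hb with rfl | rfl | rfl | rfl
          · simp
          · exact hau
          · exact haz
          · rw [← mul_assoc, hau, mul_assoc, haz, mul_assoc]
        · intro a ha b hb
          have hau : Commute w u := hwu
          have hzw : Commute z w := hzc w
          have hzu : Commute z u := hzc u
          have hall : ∀ x, (x = 1 ∨ x = w ∨ x = z ∨ x = w * z) → Commute u x ∧ Commute z x := by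
            rintro x (rfl | rfl | rfl | rfl)
            · exact ⟨Commute.one_right _, Commute.one_right _⟩
            · exact ⟨hau.symm, hzw⟩
            · exact ⟨hzu.symm, Commute.refl _⟩
            · exact ⟨hau.symm.mul_right hzu.symm, hzw.mul_right (Commute.refl _)⟩
          have hb' := hall b ((hWm b).mp hb)
          rcases (hXm a).mp ha with rfl | rfl | rfl | rfl
          · simp
          · exact hb'.1
          · exact hb'.2
          · exact hb'.1.mul_left hb'.2
  have hsymm : ∀ A B : Subgroup P, Relation.ReflTransGen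
      (fun A B : Subgroup P => IsKleinFour A ∧ IsKleinFour B ∧ ∀ a ∈ A, ∀ b ∈ B, a * b = b * a) A B →
      Relation.ReflTransGen
      (fun A B : Subgroup P => IsKleinFour A ∧ IsKleinFour B ∧ ∀ a ∈ A, ∀ b ∈ B, a * b = b * a) B A := by
    intro A B h
    induction h with
    | refl => exact Relation.ReflTransGen.refl
    | tail _ h ih =>
      exact Relation.ReflTransGen.head ⟨h.2.1, h.1, fun a ha b hb => (h.2.2 b hb a ha).symm⟩ ih
  intro U V hU hV
  obtain ⟨W, hWE, hW, hUW⟩ := key U hU
  obtain ⟨W', hWE', hW', hVW⟩ := key V hV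
  exact (hUW.tail ⟨hW, hW', fun a ha b hb => hEc a (hWE ha) b (hWE' hb)⟩).trans (hsymm _ _ hVW)

end Cfsg.Agent.S0502
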