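import Mathlib
import Cfsg.Statements.S0520

set_option autoImplicit false
open Cfsg

namespace Cfsg.Agent.S0520

open scoped Pointwise

/-- A rank bound passes down along an injective homomorphism. -/
theorem pRankLE_of_injective {p k : ℕ} {H H' : Type*} [Group H] [Group H'] (f : H →* H')
    (hf : Function.Injective f) (h : PRankLE p k H') : PRankLE p k H := by
  intro A hA hAp
  have h1 := h (A.map f) ?_ ?_
  · rwa [Subgroup.card_map_of_injective hf] at h1
  · refine ⟨⟨?_⟩⟩
    rintro ⟨_, a, ha, rfl⟩ ⟨_, b, hb, rfl⟩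
    apply Subtype.ext
    have := hA.is_comm.comm ⟨a, ha⟩ ⟨b, hb⟩
    have h2 : a * b = b * a := congrArg Subtype.val this
    change f a * f b = f b * f a
    rw [← map_mul, ← map_mul, h2]
  · rintro _ ⟨a, ha, rfl⟩
    rw [← map_pow, hAp a ha, map_one]

theorem not_rank_mono {p k : ℕ} {G : Type*} [Group G] {Q R : Subgroup G} (h : Q ≤ R)
    (hQ : ¬ PRankLE p k Q) : ¬ PRankLE p k R := fun hR =>
  hQ (pRankLE_of_injective (Subgroup.inclusion h) (Subgroup.inclusion_injective h) hR)

theorem not_rank_smul {p k : ℕ} {G : Type*} [Group G] {Q : Subgroup G} (g : G)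
    (hQ : ¬ PRankLE p k Q) : ¬ PRankLE p k (MulAut.conj g • Q : Subgroup G) := fun hR =>
  hQ (pRankLE_of_injective (Subgroup.equivSMul (MulAut.conj g) Q).toMonoidHom
    (Subgroup.equivSMul (MulAut.conj g) Q).injective hR)

theorem not_rank_of_kleinFour {G : Type*} [Group G] {U Q : Subgroup G} (hU : IsKleinFour U)
    (hUQ : U ≤ Q) : ¬ PRankLE 2 1 Q := by
  apply not_rank_mono hUQ
  intro h
  have h1 := h ⊤ ?_ ?_
  · rw [Subgroup.card_top, hU.card_four] at h1
    norm_num at h1
  · have := @IsKleinFour.isMulCommutative U _ hU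
    refine ⟨⟨?_⟩⟩
    rintro ⟨a, ha⟩ ⟨b, hb⟩
    apply Subtype.ext
    exact this.is_comm.comm a b
  · intro a _
    have := Monoid.pow_exponent_eq_one a
    rwa [hU.exponent_two] at this

theorem exists_kleinFour {G : Type*} [Group G] [Finite G] {Q : Subgroup G}
    (hQ : ¬ PRankLE 2 1 Q) : ∃ U : Subgroup G, U ≤ Q ∧ IsKleinFour U := by
  unfold PRankLE at hQ
  push Not at hQ
  obtain ⟨A, hA, hA2, hcard⟩ := hQ
  have hp : IsPGroup 2 A := by
    intro a
    refine ⟨1, ?_⟩
    apply Subtype.ext
    simpa using hA2 a a.2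
  obtain ⟨n, hn⟩ := IsPGroup.iff_card.mp hp
  have hn2 : 2 ≤ n := by
    by_contra hlt
    have : n ≤ 1 := by omega
    have : (2:ℕ) ^ n ≤ 2 ^ 1 := Nat.pow_le_pow_right (by norm_num) this
    rw [hn] at hcard
    exact absurd hcard (not_lt.mpr this)
  have : Fact (Nat.Prime 2) := ⟨Nat.prime_two⟩
  obtain ⟨B, hB⟩ := Sylow.exists_subgroup_card_pow_prime (G := A) 2 (n := 2)
    (by rw [hn]; exact pow_dvd_pow 2 hn2)
  refine ⟨(B.map A.subtype).map Q.subtype, Subgroup.map_subtype_le _, ?_⟩
  have hc : Nat.card ((B.map A.subtype).map Q.subtype : Subgroup G) = 4 := by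
    rw [Subgroup.card_map_of_injective Q.subtype_injective,
      Subgroup.card_map_of_injective A.subtype_injective, hB]
    norm_num
  refine ⟨hc, ?_⟩
  have hexp : Monoid.exponent ((B.map A.subtype).map Q.subtype : Subgroup G) ∣ 2 := by
    apply Monoid.exponent_dvd_of_forall_pow_eq_one
    rintro ⟨_, _, ⟨b, hb, rfl⟩, rfl⟩
    apply Subtype.ext
    have := hA2 b b.2
    have h3 := congrArg Subtype.val this
    simpa using h3
  rcases (Nat.dvd_prime Nat.prime_two).mp hexp with h | h
  · exfalso
    rw [Monoid.exp_eq_one_iff] at h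
    have : Nat.card ((B.map A.subtype).map Q.subtype : Subgroup G) = 1 := by
      have := h
      exact Nat.card_unique
    omega
  · exact h

/-- Proper subgroups of a finite `p`-subgroup grow in their normalizer. -/
theorem lt_inf_normalizer {p : ℕ} [Fact p.Prime] {G : Type*} [Group G] [Finite G]
    {P Q : Subgroup G} (hP : IsPGroup p P) (hQ : Q < P) :
    Q < P ⊓ Subgroup.normalizer (Q : Set G) := by
  have : Group.IsNilpotent P := hP.isNilpotent
  have hnc := Group.normalizerCondition_of_isNilpotent (G := P)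
  have h1 : Q.subgroupOf P < ⊤ := by
    rw [lt_top_iff_ne_top]
    intro h
    rw [Subgroup.subgroupOf_eq_top] at h
    exact absurd h (not_le_of_gt hQ)
  have h2 := hnc _ h1
  obtain ⟨x, hx, hx'⟩ := SetLike.exists_of_lt h2
  refine lt_of_le_of_ne (le_inf hQ.le Subgroup.le_normalizer) ?_
  intro heq
  apply hx'
  rw [Subgroup.mem_subgroupOf, heq]
  refine Subgroup.mem_inf.mpr ⟨x.2, ?_⟩
  rw [Subgroup.mem_normalizer_iff] at hx ⊢
  intro h
  constructor
  · intro hh
    have := (hx ⟨h, hQ.le hh⟩).mp (by simpa [Subgroup.mem_subgroupOf] using hh)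
    simpa [Subgroup.mem_subgroupOf] using this
  · intro hh
    have hP' : h ∈ P := by
      have h4 : (x : G) * h * (x : G)⁻¹ ∈ P := hQ.le hh
      have h5 : (x:G)⁻¹ * ((x : G) * h * (x : G)⁻¹) * x ∈ P :=
        P.mul_mem (P.mul_mem (P.inv_mem x.2) h4) x.2
      simpa [mul_assoc] using h5
    have := (hx ⟨h, hP'⟩).mpr (by simpa [Subgroup.mem_subgroupOf] using hh)
    simpa [Subgroup.mem_subgroupOf] using this


theorem card_lt_card_of_lt {G : Type*} [Group G] [Finite G] {Q R : Subgroup G} (h : Q < R) :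
    Nat.card Q < Nat.card R :=
  lt_of_le_of_ne (Subgroup.card_le_of_le h.le)
    fun hc => h.ne (Subgroup.eq_of_le_of_card_ge h.le hc.ge)

/-- The 2-generated core. -/
def core {G : Type*} [Group G] (S : Subgroup G) : Subgroup G :=
  ⨆ Q : {Q : Subgroup G // Q ≤ S ∧ ¬ Cfsg.PRankLE 2 1 Q},
    Subgroup.normalizer ((Q : Subgroup G) : Set G)

theorem normalizer_le_core {G : Type*} [Group G] {S Q : Subgroup G} (h : Q ≤ S)
    (hQ : ¬ Cfsg.PRankLE 2 1 Q) : Subgroup.normalizer (Q : Set G) ≤ core S :=
  le_iSup (fun Q : {Q : Subgroup G // Q ≤ S ∧ ¬ Cfsg.PRankLE 2 1 Q} =>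
    Subgroup.normalizer ((Q : Subgroup G) : Set G)) ⟨Q, h, hQ⟩

/-- Conjugate a subgroup inclusion. -/
theorem conj_le_conj {G : Type*} [Group G] {Q R : Subgroup G} (g : G) (h : Q ≤ R) :
    MulAut.conj g • Q ≤ MulAut.conj g • R :=
  Subgroup.pointwise_smul_le_pointwise_smul_iff.mpr h

theorem mem_core_of_le {G : Type*} [Group G] [Finite G] (S : Sylow 2 G) (n : ℕ) :
    ∀ (Q : Subgroup G) (y : G), ¬ PRankLE 2 1 Q → Q ≤ (S : Subgroup G) →
      Q ≤ ((y • S : Sylow 2 G) : Subgroup G) → Nat.card S < Nat.card Q + n →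
      y ∈ core (S : Subgroup G) := by
  have h2 : Fact (Nat.Prime 2) := ⟨Nat.prime_two⟩
  induction n with
  | zero =>
    intro Q y _ hQS _ hc
    exact absurd (Subgroup.card_le_of_le hQS) (by simpa using hc)
  | succ n ih =>
    intro Q y hQ hQS hQy hc
    by_cases hQeq : Q = (S : Subgroup G)
    · -- `Q = S`, so `S = y • S`
      apply normalizer_le_core le_rfl (by rwa [hQeq] at hQ)
      have : y • S = S := by
        apply Sylow.ext
        refine (Subgroup.eq_of_le_of_card_ge (hQeq ▸ hQy) ?_).symm
        exact (Nat.card_congr (Sylow.equiv (y • S) S).toEquiv).le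
      exact (Sylow.smul_eq_iff_mem_normalizer).mp this
    · have hlt : Q < (S : Subgroup G) := lt_of_le_of_ne hQS hQeq
      have hlty : Q < ((y • S : Sylow 2 G) : Subgroup G) := by
        refine lt_of_le_of_ne hQy ?_
        intro h
        apply hQeq
        refine Subgroup.eq_of_le_of_card_ge hQS ?_
        rw [h]
        exact (Nat.card_congr (Sylow.equiv S (y • S)).toEquiv).le
      have hN1 := lt_inf_normalizer S.2 hlt
      have hN2 := lt_inf_normalizer (y • S : Sylow 2 G).2 hlty
      set N := Subgroup.normalizer (Q : Set G) with hN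
      -- Sylow subgroups of `N` above the two normalizers
      have hp1 : IsPGroup 2 (((S : Subgroup G) ⊓ N).subgroupOf N) :=
        (S.2.to_le inf_le_left).comap_of_injective N.subtype N.subtype_injective
      have hp2 : IsPGroup 2 ((((y • S : Sylow 2 G) : Subgroup G) ⊓ N).subgroupOf N) :=
        ((y • S : Sylow 2 G).2.to_le inf_le_left).comap_of_injective N.subtype N.subtype_injective
      obtain ⟨T, hT⟩ := hp1.exists_le_sylow
      obtain ⟨T1, hT1⟩ := hp2.exists_le_sylow
      obtain ⟨m, hm⟩ := MulAction.exists_smul_eq N T T1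
      obtain ⟨P', hP'⟩ := (T.2.map N.subtype).exists_le_sylow
      obtain ⟨z, hz⟩ := MulAction.exists_smul_eq G S P'
      have hle1 : (S : Subgroup G) ⊓ N ≤ (T : Subgroup N).map N.subtype := by
        have := Subgroup.map_mono (f := N.subtype) hT
        rwa [Subgroup.subgroupOf_map_subtype, inf_assoc, inf_idem] at this
      have hle2 : ((y • S : Sylow 2 G) : Subgroup G) ⊓ N ≤ (T1 : Subgroup N).map N.subtype := by
        have := Subgroup.map_mono (f := N.subtype) hT1
        rwa [Subgroup.subgroupOf_map_subtype, inf_assoc, inf_idem] at this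
      have hzS : (T : Subgroup N).map N.subtype ≤ ((z • S : Sylow 2 G) : Subgroup G) := by
        rw [hz]; exact hP'
      have hz_mem : z ∈ core (S : Subgroup G) := by
        apply ih ((S : Subgroup G) ⊓ N) z (not_rank_mono hN1.le hQ) inf_le_left
          (hle1.trans hzS)
        have : Nat.card Q < Nat.card ((S : Subgroup G) ⊓ N : Subgroup G) :=
          card_lt_card_of_lt hN1
        omega
      have hNK : N ≤ core (S : Subgroup G) := normalizer_le_core hQS hQ
      have hm_mem : (m : G) ∈ core (S : Subgroup G) := hNK m.2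
      have hT1' : (T1 : Subgroup N).map N.subtype ≤
          (((m : G) * z) • S : Sylow 2 G) := by
        rw [← hm, mul_smul]
        rintro _ ⟨t, ht, rfl⟩
        obtain ⟨s, hs, rfl⟩ := ht
        refine ⟨(s : G), hzS ⟨s, hs, rfl⟩, ?_⟩
        simp [MulAut.conj_apply, MulAut.smul_def]
      have hw : (((m : G) * z)⁻¹ * y) ∈ core (S : Subgroup G) := by
        apply ih (MulAut.conj ((m : G) * z)⁻¹ •
          (((y • S : Sylow 2 G) : Subgroup G) ⊓ N)) _
          (not_rank_smul _ (not_rank_mono hN2.le hQ))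
        · have := conj_le_conj ((m : G) * z)⁻¹ (hle2.trans hT1')
          rwa [← Sylow.coe_subgroup_smul, inv_smul_smul] at this
        · have := conj_le_conj ((m : G) * z)⁻¹
            (inf_le_left : ((y • S : Sylow 2 G) : Subgroup G) ⊓ N ≤ (y • S : Sylow 2 G))
          rwa [← Sylow.coe_subgroup_smul, ← mul_smul] at this
        · have h3 : Nat.card Q < Nat.card (((y • S : Sylow 2 G) : Subgroup G) ⊓ N : Subgroup G) :=
            card_lt_card_of_lt hN2
          have h4 : Nat.card (MulAut.conj ((m : G) * z)⁻¹ •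
            (((y • S : Sylow 2 G) : Subgroup G) ⊓ N) : Subgroup G) =
              Nat.card (((y • S : Sylow 2 G) : Subgroup G) ⊓ N : Subgroup G) :=
            (Nat.card_congr (Subgroup.equivSMul _ _).toEquiv).symm
          omega
      have : y = ((m : G) * z) * (((m : G) * z)⁻¹ * y) := by group
      rw [this]
      exact mul_mem (mul_mem hm_mem hz_mem) hw


/-- The adjacency relation of the commuting graph of four-subgroups. -/
def Adj {G : Type*} [Group G] (A B : Subgroup G) : Prop :=
  IsKleinFour A ∧ IsKleinFour B ∧ ∀ a ∈ A, ∀ b ∈ B, a * b = b * a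

theorem Adj.symm {G : Type*} [Group G] {A B : Subgroup G} (h : Adj A B) : Adj B A :=
  ⟨h.2.1, h.1, fun b hb a ha => (h.2.2 a ha b hb).symm⟩

theorem isKleinFour_map {G H : Type*} [Group G] [Group H] {f : G →* H}
    (hf : Function.Injective f) {A : Subgroup G} (h : IsKleinFour A) : IsKleinFour (A.map f) := by
  refine ⟨?_, ?_⟩
  · rw [Subgroup.card_map_of_injective hf, h.card_four]
  · rw [← h.exponent_two]
    exact (Monoid.exponent_eq_of_mulEquiv (A.equivMapOfInjective f hf)).symm

theorem Adj.map {G H : Type*} [Group G] [Group H] {f : G →* H}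
    (hf : Function.Injective f) {A B : Subgroup G} (h : Adj A B) : Adj (A.map f) (B.map f) := by
  refine ⟨isKleinFour_map hf h.1, isKleinFour_map hf h.2.1, ?_⟩
  rintro _ ⟨a, ha, rfl⟩ _ ⟨b, hb, rfl⟩
  rw [← map_mul, ← map_mul, h.2.2 a ha b hb]

theorem adj_comm_sup {G : Type*} [Group G] {A B : Subgroup G} (h : Adj A B) :
    IsPGroup 2 (A ⊔ B : Subgroup G) := by
  have hA : IsPGroup 2 A := by
    apply IsPGroup.of_card (n := 2)
    rw [h.1.card_four]; norm_num
  have hB : IsPGroup 2 B := by
    apply IsPGroup.of_card (n := 2)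
    rw [h.2.1.card_four]; norm_num
  refine hA.to_sup_of_normal_right' hB ?_
  intro a ha
  rw [Subgroup.mem_normalizer_iff]
  intro b
  have key : ∀ x ∈ A, ∀ b ∈ B, x * b * x⁻¹ = b := by
    intro x hx b hb
    rw [h.2.2 x hx b hb, mul_inv_cancel_right]
  constructor
  · intro hb
    rwa [key a ha b hb]
  · intro hb
    have h1 := key a⁻¹ (A.inv_mem ha) _ hb
    have : a⁻¹ * (a * b * a⁻¹) * a⁻¹⁻¹ = b := by group
    rw [this] at h1
    rwa [h1]

/-- Every group reachable from a four-subgroup of `S` lies in a `core`-conjugate of `S`. -/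
theorem reachable_le {G : Type*} [Group G] [Finite G] (S : Sylow 2 G) {U V : Subgroup G}
    (hUS : U ≤ (S : Subgroup G)) (h : Relation.ReflTransGen Adj U V) :
    ∃ k ∈ core (S : Subgroup G), V ≤ ((k • S : Sylow 2 G) : Subgroup G) := by
  have h2 : Fact (Nat.Prime 2) := ⟨Nat.prime_two⟩
  induction h with
  | refl => exact ⟨1, one_mem _, by rwa [one_smul]⟩
  | tail _ hadj ih =>
    obtain ⟨k, hk, hle⟩ := ih
    obtain ⟨P', hP'⟩ := (adj_comm_sup hadj).exists_le_sylow
    obtain ⟨z, hz⟩ := MulAction.exists_smul_eq G S P'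
    rename_i V1 V2 _
    refine ⟨z, ?_, by rw [hz]; exact le_sup_right.trans hP'⟩
    have h1 : (k⁻¹ * z) ∈ core (S : Subgroup G) := by
      apply mem_core_of_le S (Nat.card S + 1) (MulAut.conj k⁻¹ • V1)
      · exact not_rank_smul _ (not_rank_of_kleinFour hadj.1 le_rfl)
      · have := conj_le_conj k⁻¹ hle
        rwa [← Sylow.coe_subgroup_smul, inv_smul_smul] at this
      · have h4 : V1 ≤ ((z • S : Sylow 2 G) : Subgroup G) := by
          rw [hz]; exact le_sup_left.trans hP'
        have := conj_le_conj k⁻¹ h4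
        rwa [← Sylow.coe_subgroup_smul, ← mul_smul] at this
      · omega
    have : z = k * (k⁻¹ * z) := by group
    rw [this]
    exact mul_mem hk h1

theorem rel_symm {G : Type*} [Group G] {U V : Subgroup G} (h : Relation.ReflTransGen Adj U V) :
    Relation.ReflTransGen Adj V U := by
  induction h with
  | refl => exact Relation.ReflTransGen.refl
  | tail _ h ih => exact Relation.ReflTransGen.head h.symm ih

theorem rel_map {G H : Type*} [Group G] [Group H] {f : G →* H}
    (hf : Function.Injective f) {U V : Subgroup G} (h : Relation.ReflTransGen Adj U V) :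
    Relation.ReflTransGen Adj (U.map f) (V.map f) := by
  induction h with
  | refl => exact Relation.ReflTransGen.refl
  | tail _ h ih => exact Relation.ReflTransGen.tail ih (h.map hf)

theorem rel_smul {G : Type*} [Group G] (g : G) {U V : Subgroup G}
    (h : Relation.ReflTransGen Adj U V) :
    Relation.ReflTransGen Adj (MulAut.conj g • U) (MulAut.conj g • V) :=
  rel_map (f := (MulAut.conj g).toMonoidHom) (MulAut.conj g).injective h

/-- The stabilizer of the connected component of `U`. -/
def stab {G : Type*} [Group G] (U : Subgroup G) : Subgroup G where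
  carrier := {g | Relation.ReflTransGen Adj U (MulAut.conj g • U)}
  one_mem' := by
    change Relation.ReflTransGen Adj U (MulAut.conj (1 : G) • U)
    rw [map_one, one_smul]
  mul_mem' := by
    intro a b ha hb
    change Relation.ReflTransGen Adj U (MulAut.conj (a * b) • U)
    rw [map_mul, mul_smul]
    exact ha.trans (rel_smul a hb)
  inv_mem' := by
    intro a ha
    change Relation.ReflTransGen Adj U (MulAut.conj a⁻¹ • U)
    have := rel_smul a⁻¹ ha
    rw [← mul_smul, ← map_mul, inv_mul_cancel, map_one, one_smul] at this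
    exact rel_symm this

theorem mem_stab {G : Type*} [Group G] {U : Subgroup G} {g : G} :
    g ∈ stab U ↔ Relation.ReflTransGen Adj U (MulAut.conj g • U) := Iff.rfl

/-- all four-subgroups of `S` lie in one component -/
theorem rel_of_le {G : Type*} [Group G] {S : Subgroup G} (hS : Cfsg.IsFourConnected S)
    {U V : Subgroup G} (hU : IsKleinFour U) (hV : IsKleinFour V) (hUS : U ≤ S) (hVS : V ≤ S) :
    Relation.ReflTransGen Adj U V := by
  have h1 : ∀ W : Subgroup G, W ≤ S → IsKleinFour W → IsKleinFour (W.subgroupOf S) := by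
    intro W hW hWK
    refine ⟨?_, ?_⟩
    · rw [← hWK.card_four]
      exact Nat.card_congr (Subgroup.subgroupOfEquivOfLe hW).toEquiv
    · rw [← hWK.exponent_two]
      exact Monoid.exponent_eq_of_mulEquiv (Subgroup.subgroupOfEquivOfLe hW)
  have h2 : Relation.ReflTransGen Adj (U.subgroupOf S) (V.subgroupOf S) :=
    hS _ _ (h1 U hUS hU) (h1 V hVS hV)
  have h3 := rel_map S.subtype_injective h2
  rwa [Subgroup.subgroupOf_map_subtype, Subgroup.subgroupOf_map_subtype,
    inf_eq_left.mpr hUS, inf_eq_left.mpr hVS] at h3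

theorem core_le_stab {G : Type*} [Group G] [Finite G] {S : Subgroup G}
    (hS : Cfsg.IsFourConnected S)
    {U : Subgroup G} (hU : IsKleinFour U) (hUS : U ≤ S) : core S ≤ stab U := by
  refine iSup_le ?_
  rintro ⟨Q, hQS, hQ⟩ g hg
  obtain ⟨V, hVQ, hV⟩ := exists_kleinFour hQ
  rw [mem_stab]
  have hgV : MulAut.conj g • V ≤ Q := by
    rintro _ ⟨v, hv, rfl⟩
    have := (Subgroup.mem_normalizer_iff.mp hg v).mp (hVQ hv)
    simpa [MulAut.conj_apply] using this
  have hgVK : IsKleinFour (MulAut.conj g • V : Subgroup G) :=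
    isKleinFour_map (f := (MulAut.conj g).toMonoidHom) (MulAut.conj g).injective hV
  have h1 : Relation.ReflTransGen Adj U V := rel_of_le hS hU hV hUS (hVQ.trans hQS)
  have h2 : Relation.ReflTransGen Adj U (MulAut.conj g • V) :=
    rel_of_le hS hU hgVK hUS (hgV.trans hQS)
  exact h2.trans (rel_smul g (rel_symm h1))

theorem connected_iff {G : Type*} [Group G] [Finite G] (h2 : ¬ Cfsg.PRankLE 2 1 G)
    (S : Sylow 2 G) (hS : Cfsg.IsFourConnected (S : Subgroup G)) :
    Cfsg.IsFourConnected G ↔ core (S : Subgroup G) = ⊤ := by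
  have hp2 : Fact (Nat.Prime 2) := ⟨Nat.prime_two⟩
  -- a four-subgroup of `S`
  have hmove : ∀ V : Subgroup G, IsKleinFour V →
      ∃ g : G, MulAut.conj g • V ≤ (S : Subgroup G) := by
    intro V hV
    have hVp : IsPGroup 2 V := by
      apply IsPGroup.of_card (n := 2)
      rw [hV.card_four]; norm_num
    obtain ⟨P', hP'⟩ := hVp.exists_le_sylow
    obtain ⟨z, hz⟩ := MulAction.exists_smul_eq G P' S
    refine ⟨z, ?_⟩
    have := conj_le_conj z hP'
    rwa [← Sylow.coe_subgroup_smul, hz] at this
  have hsm : ∀ (V : Subgroup G) (g : G), IsKleinFour V → IsKleinFour (MulAut.conj g • V : Subgroup G) :=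
    fun V g hV => isKleinFour_map (f := (MulAut.conj g).toMonoidHom) (MulAut.conj g).injective hV
  obtain ⟨U, hU, hUS⟩ : ∃ U : Subgroup G, IsKleinFour U ∧ U ≤ (S : Subgroup G) := by
    have h3 : ¬ Cfsg.PRankLE 2 1 (⊤ : Subgroup G) := fun h =>
      h2 (pRankLE_of_injective (Subgroup.topEquiv (G := G)).symm.toMonoidHom
        (Subgroup.topEquiv (G := G)).symm.injective h)
    obtain ⟨V, -, hV⟩ := exists_kleinFour h3
    obtain ⟨g, hg⟩ := hmove V hV
    exact ⟨_, hsm V g hV, hg⟩
  constructor
  · intro hconn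
    rw [eq_top_iff]
    intro g _
    have h1 : Relation.ReflTransGen Adj U (MulAut.conj g • U) := hconn _ _ hU (hsm U g hU)
    obtain ⟨k, hk, hle⟩ := reachable_le S hUS h1
    have h4 : k⁻¹ * g ∈ core (S : Subgroup G) := by
      apply mem_core_of_le S (Nat.card S + 1) (MulAut.conj k⁻¹ • (MulAut.conj g • U))
      · exact not_rank_smul _ (not_rank_smul _ (not_rank_of_kleinFour hU le_rfl))
      · have := conj_le_conj k⁻¹ hle
        rwa [← Sylow.coe_subgroup_smul, inv_smul_smul] at this
      · rw [← mul_smul, ← map_mul]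
        exact conj_le_conj _ hUS
      · omega
    have : g = k * (k⁻¹ * g) := by group
    rw [this]
    exact mul_mem hk h4
  · intro htop
    have hst : ∀ g : G, Relation.ReflTransGen Adj U (MulAut.conj g • U) := by
      intro g
      rw [← mem_stab]
      exact core_le_stab hS hU hUS (htop ▸ Subgroup.mem_top g)
    have key : ∀ V : Subgroup G, IsKleinFour V → Relation.ReflTransGen Adj U V := by
      intro V hV
      obtain ⟨g, hg⟩ := hmove V hV
      have h1 := rel_of_le hS hU (hsm V g hV) hUS hg
      have h3 := rel_smul g⁻¹ h1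
      rw [← mul_smul (MulAut.conj g⁻¹) (MulAut.conj g), ← map_mul, inv_mul_cancel, map_one,
        one_smul] at h3
      exact (hst g⁻¹).trans h3
    intro V W hV hW
    exact (rel_symm (key V hV)).trans (key W hW)

/-- Let G be a finite group of 2-rank at least 2 and S a Sylow 2-subgroup whose commuting graph of Klein four-subgroups is
connected. Then the commuting graph of Klein four-subgroups of G is disconnected if and only if the 2-generated core — the
subgroup generated by the normalizers N_G(Q) of the subgroups Q of S that contain a Klein four-group — is a proper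
subgroup of G. -/
theorem result {G : Type*} [Group G] [Finite G] (h2 : ¬ Cfsg.PRankLE 2 1 G)
    (S : Sylow 2 G) (hS : Cfsg.IsFourConnected (S : Subgroup G)) :
    ¬ Cfsg.IsFourConnected G ↔
      (⨆ Q : {Q : Subgroup G // Q ≤ (S : Subgroup G) ∧ ¬ Cfsg.PRankLE 2 1 Q},
          Subgroup.normalizer ((Q : Subgroup G) : Set G)) ≠ ⊤ := by
  exact not_congr (connected_iff h2 S hS)

end Cfsg.Agent.S0520
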