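import Cfsg.Statements.S1306
import Cfsg.Agent.SignalizersComponents.DistinctComponents

set_option autoImplicit false
open Cfsg

namespace Cfsg.Agent.S1306

open Cfsg.Agent.SignalizersComponents.DistinctComponents

theorem mem_normalizer_iff_map {G : Type*} [Group G] (L : Subgroup G) (g : G) :
    g ∈ Subgroup.normalizer (L : Set G) ↔ L.map (MulAut.conj g).toMonoidHom = L := by
  rw [Subgroup.mem_normalizer_iff]
  constructor
  · intro h
    ext x
    simp only [Subgroup.mem_map, MulEquiv.coe_toMonoidHom, MulAut.conj_apply]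
    constructor
    · rintro ⟨y, hy, rfl⟩
      exact (h y).mp hy
    · intro hx
      refine ⟨g⁻¹ * x * g, ?_, by group⟩
      apply (h _).mpr
      have : g * (g⁻¹ * x * g) * g⁻¹ = x := by group
      rw [this]; exact hx
  · intro h x
    constructor
    · intro hx
      have : g * x * g⁻¹ ∈ L.map (MulAut.conj g).toMonoidHom := ⟨x, hx, rfl⟩
      rw [h] at this; exact this
    · intro hx
      have hx' : g * x * g⁻¹ ∈ L.map (MulAut.conj g).toMonoidHom := by
        rw [h]; exact hx
      obtain ⟨y, hy, hyx⟩ := hx'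
      have h2 : g * y * g⁻¹ = g * x * g⁻¹ := hyx
      have : y = x := by simpa using h2
      rw [← this]; exact hy

theorem map_centralizer_of_map_eq {G : Type*} [Group G] (L : Subgroup G) (g : G)
    (h : L.map (MulAut.conj g).toMonoidHom = L) :
    (Subgroup.centralizer (L : Set G)).map (MulAut.conj g).toMonoidHom
      ≤ Subgroup.centralizer (L : Set G) := by
  rintro _ ⟨z, hz, rfl⟩
  intro l hl
  have hl' : l ∈ L.map (MulAut.conj g).toMonoidHom := by rw [h]; exact hl
  obtain ⟨m, hm, hml⟩ := hl'
  have h1 : g * m * g⁻¹ = l := hml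
  have h2 : m * z = z * m := hz m hm
  show l * (g * z * g⁻¹) = (g * z * g⁻¹) * l
  rw [← h1]
  calc g * m * g⁻¹ * (g * z * g⁻¹) = g * (m * z) * g⁻¹ := by group
    _ = g * (z * m) * g⁻¹ := by rw [h2]
    _ = g * z * g⁻¹ * (g * m * g⁻¹) := by group

theorem normalizer_le_centralizer_normalizer {G : Type*} [Group G] (L : Subgroup G) :
    Subgroup.normalizer (L : Set G) ≤
      Subgroup.normalizer (Subgroup.centralizer (L : Set G) : Set G) := by
  intro g hg
  rw [mem_normalizer_iff_map]
  apply le_antisymm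
  · exact map_centralizer_of_map_eq L g ((mem_normalizer_iff_map L g).mp hg)
  · intro x hx
    have hg' : g⁻¹ ∈ Subgroup.normalizer (L : Set G) := Subgroup.inv_mem _ hg
    have h1 := map_centralizer_of_map_eq L g⁻¹ ((mem_normalizer_iff_map L g⁻¹).mp hg')
    have h2 : g⁻¹ * x * g⁻¹⁻¹ ∈ Subgroup.centralizer (L : Set G) := h1 ⟨x, hx, rfl⟩
    refine ⟨g⁻¹ * x * g⁻¹⁻¹, h2, ?_⟩
    show g * (g⁻¹ * x * g⁻¹⁻¹) * g⁻¹ = x
    group

/-- Let G be finite, x an involution and L ≤ C_G(x) a component of C_G(x). Suppose L is a component of C_G(y) for every involution y ∈ C_G(L), and ⁅L, g L g⁻¹⁆ ≠ 1 whenever g L g⁻¹ ≠ L. Then L is a standard subgroup of G. -/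
theorem result {G : Type*} [Group G] [Finite G] (x : G) (hx : orderOf x = 2) (L : Subgroup G) (hLx : L ≤ Subgroup.centralizer ({x} : Set G)) (hL : Cfsg.IsComponent (L.subgroupOf (Subgroup.centralizer ({x} : Set G)))) (hne : ∀ y : G, orderOf y = 2 → y ∈ Subgroup.centralizer (L : Set G) → L ≤ Subgroup.centralizer ({y} : Set G) ∧ Cfsg.IsComponent (L.subgroupOf (Subgroup.centralizer ({y} : Set G)))) (hnc : ∀ g : G, L.map (MulAut.conj g).toMonoidHom ≠ L → ⁅L, L.map (MulAut.conj g).toMonoidHom⁆ ≠ ⊥) : Cfsg.IsStandardSubgroup L := by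
  have hxC : x ∈ Subgroup.centralizer (L : Set G) := by
    intro l hl
    exact Subgroup.mem_centralizer_singleton_iff.mp (hLx hl)
  -- the key claim
  have key : ∀ g y : G, orderOf y = 2 → y ∈ Subgroup.centralizer (L : Set G) →
      y ∈ (Subgroup.centralizer (L : Set G)).map (MulAut.conj g).toMonoidHom →
      L.map (MulAut.conj g).toMonoidHom = L := by
    rintro g y hy hyL ⟨z, hz, hzy⟩
    have hzy' : g * z * g⁻¹ = y := hzy
    have hoz : orderOf z = 2 := by
      have h1 : orderOf ((MulAut.conj g) z) = orderOf z :=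
        orderOf_injective (MulAut.conj g).toMonoidHom (MulAut.conj g).injective z
      rw [← h1, ← hy]
      exact congrArg orderOf hzy
    obtain ⟨hLy, hcy⟩ := hne y hy hyL
    obtain ⟨hLz, hcz⟩ := hne z hoz hz
    have h3 := isComponent_subgroupOf_conj hLz hcz g
    have h4 : L.map (MulAut.conj g).toMonoidHom ≤
        (Subgroup.centralizer ({z} : Set G)).map (MulAut.conj g).toMonoidHom :=
      Subgroup.map_mono hLz
    rw [map_conj_centralizer_singleton, hzy'] at h3 h4
    by_contra hneq
    have hne2 : L.subgroupOf (Subgroup.centralizer ({y} : Set G)) ≠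
        (L.map (MulAut.conj g).toMonoidHom).subgroupOf (Subgroup.centralizer ({y} : Set G)) := by
      intro h
      apply hneq
      have := congrArg (Subgroup.map (Subgroup.centralizer ({y} : Set G)).subtype) h
      rw [Subgroup.subgroupOf_map_subtype, Subgroup.subgroupOf_map_subtype, inf_of_le_left hLy,
        inf_of_le_left h4] at this
      exact this.symm
    have h5 := distinct_components_commute hcy h3 hne2
    have h6 := commutator_subgroupOf_eq_bot hLy h5
    rw [inf_of_le_left h4] at h6
    exact hnc g hneq h6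
  refine ⟨quasisimple_congr (Subgroup.subgroupOfEquivOfLe hLx) hL.2, ⟨?_, ?_⟩, hnc, ?_⟩
  · -- even order
    have h1 : orderOf (⟨x, hxC⟩ : Subgroup.centralizer (L : Set G)) ∣
        Nat.card (Subgroup.centralizer (L : Set G)) := orderOf_dvd_natCard _
    rw [Subgroup.orderOf_mk, hx] at h1
    exact even_iff_two_dvd.mpr h1
  · intro g hg
    by_contra hodd
    rw [Nat.not_odd_iff_even, even_iff_two_dvd] at hodd
    obtain ⟨y, hy⟩ := exists_prime_orderOf_dvd_card' 2 hodd
    have hy' : orderOf (y : G) = 2 := by rw [Subgroup.orderOf_coe]; exact hy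
    have := key g (y : G) hy' (Subgroup.mem_inf.mp y.2).1 (Subgroup.mem_inf.mp y.2).2
    exact hg (normalizer_le_centralizer_normalizer L ((mem_normalizer_iff_map L g).mpr this))
  · apply le_antisymm (normalizer_le_centralizer_normalizer L)
    intro g hg
    rw [mem_normalizer_iff_map] at hg ⊢
    exact key g x hx hxC (by rw [hg]; exact hxC)

end Cfsg.Agent.S1306
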