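import Cfsg.Statements.S1614
import Cfsg.Agent.S1615
import Cfsg.Agent.SporadicStructure.FSolTwo
import Cfsg.Agent.SporadicStructure.FSolNineEnd

set_option autoImplicit false
open Cfsg

namespace Cfsg.Agent.S1614

open Cfsg.Agent.SporadicStructure.FischerSpace Cfsg.Agent.SporadicStructure.FischerPrimitive
open Cfsg.Agent.SporadicStructure.FischerRank3 Cfsg.Agent.SporadicStructure.FSolBase
open Cfsg.Agent.SporadicStructure.FSolLines Cfsg.Agent.SporadicStructure.FSolPlane
open Cfsg.Agent.SporadicStructure.FSolTrans Cfsg.Agent.SporadicStructure.FSolReduce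
open Cfsg.Agent.SporadicStructure.FSolCtx
open Cfsg.Agent.Lib.FieldFour

/-- two members of `T D x y` -/
theorem exists_two {G : Type*} [Group G] {D : Set G} {x y : G} (K : Ctx D x y) :
    ∃ c0 ∈ T D x y, ∃ c1 ∈ T D x y, c0 ≠ c1 := by
  have := K.fin
  obtain ⟨a, ha⟩ := exists_In K.h K.hτ K.hx
  obtain ⟨b, hb, hab⟩ := exists_nc K.h K.hsol K.hperf K.hx ha
  obtain ⟨c, hc, hac, -⟩ := K.exists_c ha
  obtain ⟨d, hd, hbd, -⟩ := K.exists_c hb
  refine ⟨c, hc, d, hd, ?_⟩
  rintro rfl
  exact hab (V_comm_V hac hbd)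

/-- If the commuting transpositions of one transposition generate a solvable group, a Fischer 3-transposition group is S5, S6, PSU(4, 2) or PSU(5, 2). -/
theorem result {G : Type*} [Group G] [Finite G] (hsol : ∀ N : Subgroup G, N.Normal → Group.IsSolvable ↥N → N = ⊥) (hperf : ⁅commutator G, commutator G⁆ = commutator G) {D : Set G} (hD : Cfsg.IsThreeTranspositionClass D) (x : G) (hx : x ∈ D) (hs : Group.IsSolvable ↥(Subgroup.closure {y : G | y ∈ D ∧ y ≠ x ∧ Commute x y})) : Nonempty (G ≃* Equiv.Perm (Fin 5)) ∨ Nonempty (G ≃* Equiv.Perm (Fin 6)) ∨ ∃ (F : Type) (_ : Field F) (_ : Fintype F), Fintype.card F = 4 ∧ (Nonempty (G ≃* Cfsg.PSU 4 F 2) ∨ Nonempty (G ≃* Cfsg.PSU 5 F 2)) := by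
  have h := fdata_of_class hD
  rcases tau_or_core h hsol hperf hx hs with hτ | hcore
  · right
    obtain ⟨y, hy, hxy⟩ := exists_col h hsol x hx
    have K : Ctx D x y := ⟨inferInstance, h, hsol, hperf, hτ,
      fun x' a b hx' ha hb hab => rank_one h hsol hperf hτ hx hs hx' ha hb hab, hx, hy, hxy⟩
    obtain ⟨a0, ha0⟩ := exists_In h hτ hx
    rcases ncard_V h hsol hperf hτ hx ha0 with h2 | h4
    · left
      exact SporadicStructure.FSolTwo.symm_six_of_two K
        (fun a ha => (card_V h hsol hperf hx ha hx ha0).trans h2)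
    · right
      refine ⟨F4, inferInstance, inferInstance, F4.card, ?_⟩
      have h4' : ∀ a, In D x a → (V D x a).ncard = 4 :=
        fun a ha => (card_V h hsol hperf hx ha hx ha0).trans h4
      obtain ⟨c0, h0, c1, h1, hne⟩ := exists_two K
      by_cases hT : ∀ c ∈ T D x y, c = c0 ∨ c = c1 ∨ c = cc c1 c0
      · left
        exact SporadicStructure.FSolThree.three K h4' h0 h1 hne hT
      · right
        push Not at hT
        obtain ⟨c2, h2, h20, h21, h23⟩ := hT
        exact SporadicStructure.FSolNineEnd.nine K h4' h0 h1 h2 hne h20.symm h21.symm h23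
  · left
    exact Cfsg.Agent.S1615.result hsol hperf hD x hx hcore

end Cfsg.Agent.S1614
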