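import Cfsg.Statements.S0486
import Cfsg.Agent.S0222
import Cfsg.Agent.S1169
import Cfsg.Agent.S1225
import Cfsg.Agent.S1248
import Cfsg.Agent.Classification.PSLTwoEvenSylow
import Cfsg.Agent.LieRecognition.PSUThreeSylow
import Cfsg.Agent.SporadicStructure.PsuMatch

set_option autoImplicit false
open Cfsg

namespace Cfsg.Agent.S0486

/-- A finite simple group whose Sylow 2-subgroups are isomorphic to a Sylow 2-subgroup of the projective special
unitary group of dimension 3 over the field with 16 elements is isomorphic to that unitary group. -/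
theorem result {G : Type*} [Group G] [Finite G] [IsSimpleGroup G]
    {F : Type*} [Field F] [Fintype F] (hF : Fintype.card F = 16) (S : Sylow 2 G) (P : Sylow 2 (Cfsg.PSU 3 F 4))
    (hS : Nonempty ((S : Subgroup G) ≃* (P : Subgroup (Cfsg.PSU 3 F 4)))) :
    Nonempty (G ≃* Cfsg.PSU 3 F 4) := by
  have hfact : Fact (Nat.Prime 2) := ⟨Nat.prime_two⟩
  obtain ⟨e⟩ := hS
  obtain ⟨h64, hK4, hZ1, hZ2, -, -⟩ := Cfsg.Agent.S1248.result hF P
  have hcardS : Nat.card S = 64 := (Nat.card_congr e.toEquiv).trans h64
  -- centre of `S`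
  have hcen : ∀ x : (S : Subgroup G), x ∈ Subgroup.center (S : Subgroup G) ↔
      e x ∈ Subgroup.center (P : Subgroup (Cfsg.PSU 3 F 4)) := by
    intro x
    rw [Subgroup.mem_center_iff, Subgroup.mem_center_iff]
    constructor
    · intro h g
      obtain ⟨y, rfl⟩ := e.surjective g
      rw [← map_mul, ← map_mul, h y]
    · intro h g
      apply e.injective
      rw [map_mul, map_mul, h (e g)]
  have hinv : ∀ x : (S : Subgroup G), orderOf x = 2 → x ∈ Subgroup.center (S : Subgroup G) := by
    intro x hx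
    rw [hcen, hZ1]
    apply Subgroup.subset_closure
    show orderOf (e x) = 2
    exact (orderOf_injective e.toMonoidHom e.injective x).trans hx
  have hsq : ∀ x ∈ Subgroup.center (S : Subgroup G), x * x = 1 := by
    intro x hx
    have h1 := (hcen x).mp hx
    have h2 : (⟨e x, h1⟩ : Subgroup.center (P : Subgroup (Cfsg.PSU 3 F 4))) * ⟨e x, h1⟩ = 1 :=
      IsKleinFour.mul_self _
    have h3 : e x * e x = 1 := congrArg Subtype.val h2
    apply e.injective
    rw [map_mul, h3, map_one]
  have hZcard : Nat.card (Subgroup.center (S : Subgroup G)) = 4 := by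
    rw [← IsKleinFour.card_four (G := Subgroup.center (P : Subgroup (Cfsg.PSU 3 F 4)))]
    exact Nat.card_congr (Subgroup.centerCongr e).toEquiv
  have hSnc : ¬ IsMulCommutative (S : Subgroup G) := by
    intro h
    have h1 : IsMulCommutative (P : Subgroup (Cfsg.PSU 3 F 4)) := ⟨⟨fun a b => by
      obtain ⟨x, rfl⟩ := e.surjective a
      obtain ⟨y, rfl⟩ := e.surjective b
      rw [← map_mul, ← map_mul, h.1.1 x y]⟩⟩
    have h2 : commutator (P : Subgroup (Cfsg.PSU 3 F 4)) = ⊥ := by
      rw [commutator_def, Subgroup.commutator_eq_bot_iff_le_centralizer]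
      intro x _
      rw [Subgroup.mem_centralizer_iff]
      intro y _
      exact h1.1.1 y x
    have h3 : Nat.card (Subgroup.center (P : Subgroup (Cfsg.PSU 3 F 4))) = 1 := by
      rw [hZ2, h2]; exact Subgroup.card_bot
    rw [IsKleinFour.card_four] at h3
    omega
  -- the centre of `S`, as a subgroup of `G`
  let A : Subgroup G := (Subgroup.center (S : Subgroup G)).map (S : Subgroup G).subtype
  have hAcard : Nat.card A = 4 := by
    rw [← hZcard]
    exact (Nat.card_congr ((Subgroup.center (S : Subgroup G)).equivMapOfInjective _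
      (S : Subgroup G).subtype_injective).toEquiv).symm
  have hAne : A ≠ ⊥ := by
    intro h
    rw [h, Subgroup.card_bot] at hAcard
    omega
  have hAS : A ≤ (S : Subgroup G) := Subgroup.map_subtype_le _
  have hAmem : ∀ x, x ∈ A ↔ ∃ hx : x ∈ (S : Subgroup G),
      (⟨x, hx⟩ : (S : Subgroup G)) ∈ Subgroup.center (S : Subgroup G) := by
    intro x
    constructor
    · rintro ⟨y, hy, rfl⟩
      exact ⟨y.2, hy⟩
    · rintro ⟨hx, h⟩
      exact ⟨⟨x, hx⟩, h, rfl⟩
  have hAsq : ∀ x ∈ A, x * x = 1 := by
    intro x hx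
    obtain ⟨hxS, h⟩ := (hAmem x).mp hx
    exact congrArg Subtype.val (hsq _ h)
  have hAinv : ∀ x ∈ (S : Subgroup G), orderOf x = 2 → x ∈ A := by
    intro x hx h
    refine (hAmem x).mpr ⟨hx, hinv _ ?_⟩
    exact (orderOf_injective (S : Subgroup G).subtype
      (S : Subgroup G).subtype_injective ⟨x, hx⟩).symm.trans h
  have hAcomm : IsMulCommutative A := by
    refine ⟨⟨fun a b => ?_⟩⟩
    obtain ⟨haS, ha⟩ := (hAmem _).mp a.2
    obtain ⟨hbS, hb⟩ := (hAmem _).mp b.2
    have h := congrArg (Subtype.val : ↥(S : Subgroup G) → G)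
      ((Subgroup.mem_center_iff.mp hb) ⟨a.1, haS⟩)
    exact Subtype.ext h
  have hord : ∀ x : G, x * x = 1 → x ≠ 1 → orderOf x = 2 := by
    intro x hx h1
    exact orderOf_eq_prime (by rw [pow_two, hx]) h1
  have hsc : Cfsg.IsStronglyClosed A (S : Subgroup G) := by
    refine ⟨hAS, fun x hx g hg => ?_⟩
    by_cases h1 : x = 1
    · rw [h1]; simp [A.one_mem]
    · apply hAinv _ hg
      exact (orderOf_injective (MulAut.conj g).toMonoidHom (MulAut.conj g).injective x).trans
        (hord x (hAsq x hx) h1)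
  have hna : ∃ a b : G, a * b ≠ b * a := by
    by_contra h
    push Not at h
    exact hSnc ⟨⟨fun a b => Subtype.ext (h a b)⟩⟩
  rcases Cfsg.Agent.S1169.result S A hAne hAcomm hsc with h | ⟨H, hH⟩
  · exact absurd h hSnc
  rcases Cfsg.Agent.S0222.result hna H hH with ⟨K, _, _, _, -, ⟨f⟩⟩ | hSz | ⟨K, _, _, q, hK, hqe, hq4, ⟨f⟩⟩
  · exact absurd (Cfsg.Agent.Classification.PSLTwoEvenSylow.sylow_comm f S) hSnc
  · -- Suzuki order: `q = 8`, and `3` does not divide `29120`
    exfalso
    obtain ⟨-, m, hm, hcard⟩ := hSz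
    set Q := 2 ^ (2 * m + 1) with hQdef
    have hQ2 : 2 ≤ Q := by
      rw [hQdef]; exact le_self_pow₀ (by norm_num) (by omega)
    -- the 2-part of the order is `64`
    have hidx : ¬ 2 ∣ (S : Subgroup G).index := S.not_dvd_index
    have hmul : Nat.card G = 64 * (S : Subgroup G).index := by
      rw [← hcardS]; exact ((S : Subgroup G).card_mul_index).symm
    have h2Q : 2 ∣ Q := by rw [hQdef]; exact dvd_pow_self 2 (by omega)
    have hodd : ¬ 2 ∣ (Q ^ 2 + 1) * (Q - 1) := by
      rw [Nat.prime_two.dvd_mul]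
      rintro (h | h)
      · have : 2 ∣ Q ^ 2 := dvd_pow h2Q (by norm_num)
        omega
      · omega
    have hQ64 : Q ^ 2 = 64 := by
      have e1 : Q ^ 2 * ((Q ^ 2 + 1) * (Q - 1)) = 64 * (S : Subgroup G).index := by
        rw [← hmul, hcard]; ring
      have hQ2pow : Q ^ 2 = 2 ^ ((2 * m + 1) * 2) := by rw [hQdef, ← pow_mul]
      have h64p : (64 : ℕ) = 2 ^ 6 := by norm_num
      apply Nat.dvd_antisymm
      · have : Q ^ 2 ∣ 64 * (S : Subgroup G).index := ⟨_, e1.symm⟩
        refine Nat.Coprime.dvd_of_dvd_mul_right ?_ this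
        rw [hQ2pow]
        exact Nat.Coprime.pow_left _ ((Nat.Prime.coprime_iff_not_dvd Nat.prime_two).mpr hidx)
      · have : 64 ∣ Q ^ 2 * ((Q ^ 2 + 1) * (Q - 1)) := ⟨_, e1⟩
        refine Nat.Coprime.dvd_of_dvd_mul_right ?_ this
        rw [h64p]
        exact Nat.Coprime.pow_left _ ((Nat.Prime.coprime_iff_not_dvd Nat.prime_two).mpr hodd)
    have hQ8 : Q = 8 := by nlinarith
    have h3 : 3 ∣ Nat.card G := by
      -- all involutions are conjugate
      obtain ⟨hHne, hHe, hHodd⟩ := hH
      have hHs : ∃ s : H, orderOf s = 2 :=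
        exists_prime_orderOf_dvd_card' 2 (even_iff_two_dvd.mp hHe)
      obtain ⟨s, hs⟩ := hHs
      have hsG : orderOf (s : G) = 2 :=
        (orderOf_injective H.subtype H.subtype_injective s).trans hs
      obtain ⟨g, hg⟩ : ∃ g : G, g ∉ H := by
        by_contra h
        push Not at h
        exact hHne ((Subgroup.eq_top_iff' H).mpr h)
      have hu : orderOf (g * s * g⁻¹) = 2 :=
        (orderOf_injective (MulAut.conj g).toMonoidHom (MulAut.conj g).injective (s : G)).trans hsG
      have huH : g * s * g⁻¹ ∉ H := by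
        intro hin
        have hmem : g * s * g⁻¹ ∈ H ⊓ H.map (MulAut.conj g).toMonoidHom :=
          ⟨hin, ⟨s, s.2, rfl⟩⟩
        have h1 : orderOf (⟨g * s * g⁻¹, hmem⟩ : ↥(H ⊓ H.map (MulAut.conj g).toMonoidHom)) = 2 := by
          exact (orderOf_injective (Subgroup.subtype _) (Subgroup.subtype_injective _)
            (⟨g * s * g⁻¹, hmem⟩ : ↥(H ⊓ H.map (MulAut.conj g).toMonoidHom))).symm.trans hu
        have h2 : 2 ∣ Nat.card ↥(H ⊓ H.map (MulAut.conj g).toMonoidHom) := by
          conv_lhs => rw [← h1]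
          exact orderOf_dvd_natCard _
        exact (Nat.not_even_iff_odd.mpr (hHodd g hg)) (even_iff_two_dvd.mpr h2)
      have hconj := (Cfsg.Agent.S1225.result H ⟨hHne, hHe, hHodd⟩ _ hu huH s s hsG s.2 hsG s.2).2
      -- `N_G(S)` acts transitively on the involutions of `A`
      let N := Subgroup.normalizer ((S : Subgroup G) : Set G)
      have hNA : ∀ n ∈ N, ∀ x ∈ A, x ≠ 1 → n * x * n⁻¹ ∈ A ∧ n * x * n⁻¹ ≠ 1 := by
        intro n hn x hx h1
        have ho : orderOf (n * x * n⁻¹) = 2 :=
          (orderOf_injective (MulAut.conj n).toMonoidHom (MulAut.conj n).injective x).trans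
            (hord x (hAsq x hx) h1)
        refine ⟨hAinv _ ((Subgroup.mem_normalizer_iff.mp hn x).mp (hAS hx)) ho, ?_⟩
        intro h
        rw [h, orderOf_one] at ho
        omega
      let X := {x : G // x ∈ A ∧ x ≠ 1}
      let _ : MulAction N X :=
        { smul := fun n x => ⟨(n : G) * x.1 * (n : G)⁻¹, hNA n n.2 x.1 x.2.1 x.2.2⟩
          one_smul := fun x => Subtype.ext (by show (1 : G) * x.1 * (1 : G)⁻¹ = x.1; simp)
          mul_smul := fun a b x => Subtype.ext (by
            show ((a * b : N) : G) * x.1 * ((a * b : N) : G)⁻¹ =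
              (a : G) * ((b : G) * x.1 * (b : G)⁻¹) * (a : G)⁻¹
            rw [Subgroup.coe_mul]; group) }
      have hX : Nat.card X = 3 := by
        have h1 : Nat.card A = Nat.card X + 1 := by
          classical
          have e1 : A ≃ Option X :=
            { toFun := fun a => if h : (a : G) = 1 then none else some ⟨a, a.2, h⟩
              invFun := fun o => o.elim 1 (fun x => ⟨x.1, x.2.1⟩)
              left_inv := fun a => by
                by_cases h : (a : G) = 1
                · simp only [h, dite_true]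
                  exact (Subtype.ext h).symm
                · simp only [h, dite_false]
                  rfl
              right_inv := fun o => by
                rcases o with _ | x
                · simp
                · have : ((⟨x.1, x.2.1⟩ : A) : G) ≠ 1 := x.2.2
                  simp [x.2.2] }
          rw [Nat.card_congr e1, Finite.card_option]
        omega
      have hXne : Nonempty X := by
        by_contra h
        rw [not_nonempty_iff] at h
        rw [Nat.card_of_isEmpty] at hX
        omega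
      obtain ⟨x0⟩ := hXne
      have htrans : MulAction.IsPretransitive N X := by
        refine ⟨fun x y => ?_⟩
        have hox := hord x.1 (hAsq _ x.2.1) x.2.2
        have hoy := hord y.1 (hAsq _ y.2.1) y.2.2
        obtain ⟨c, hc⟩ := isConj_iff.mp (hconj x.1 y.1 hox hoy)
        have hcenS : ∀ z ∈ A, z ∈ Subgroup.centralizer ((S : Subgroup G) : Set G) := by
          intro z hz
          obtain ⟨hzS, h⟩ := (hAmem z).mp hz
          rw [Subgroup.mem_centralizer_iff]
          intro w hw
          exact congrArg Subtype.val ((Subgroup.mem_center_iff.mp h) ⟨w, hw⟩)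
        have hy' : (c⁻¹)⁻¹ * x.1 * c⁻¹ ∈ Subgroup.centralizer ((S : Subgroup G) : Set G) := by
          rw [inv_inv, hc]; exact hcenS _ y.2.1
        obtain ⟨n, hn, hn'⟩ := Sylow.conj_eq_normalizer_conj_of_mem_centralizer S x.1 c⁻¹
          (hcenS _ x.2.1) hy'
        refine ⟨⟨n⁻¹, inv_mem hn⟩, Subtype.ext ?_⟩
        show n⁻¹ * x.1 * (n⁻¹)⁻¹ = y.1
        rw [inv_inv, ← hn', inv_inv, hc]
      have h3 : (MulAction.stabilizer N x0).index = 3 := by
        rw [MulAction.index_stabilizer_of_transitive, hX]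
      have h4 : 3 ∣ Nat.card N := by rw [← h3]; exact Subgroup.index_dvd_card _
      exact h4.trans (Subgroup.card_subgroup_dvd_card N)
    rw [hcard, hQ8] at h3
    norm_num at h3
  · -- `PSU₃(q)`
    have hq0 : 2 ∣ Fintype.card K := by
      rw [hK]; exact dvd_pow hqe.two_dvd (by norm_num)
    obtain ⟨p, hp⟩ := CharP.exists K
    have hpp : p.Prime := (CharP.char_is_prime_or_zero K p).resolve_right
      (CharP.char_ne_zero_of_finite K p)
    obtain ⟨k, _, hk⟩ := FiniteField.card K p
    have hp2 : 2 = p := by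
      rw [hk] at hq0
      exact (Nat.prime_dvd_prime_iff_eq Nat.prime_two hpp).mp (Nat.prime_two.dvd_of_dvd_pow hq0)
    subst hp2
    obtain ⟨n, hn, rfl⟩ : ∃ n ≤ (k : ℕ), q = 2 ^ n := by
      refine (Nat.dvd_prime_pow Nat.prime_two).mp ?_
      rw [← hk, hK]; exact dvd_pow_self q (by norm_num)
    have hn1 : 1 ≤ n := by
      rcases Nat.eq_zero_or_pos n with h | h
      · subst h; norm_num at hq4
      · exact h
    obtain ⟨_, σ, hσ, hs, -, hT⟩ := Cfsg.Agent.LieRecognition.PSUThreeSylow.exists_heis_equiv K hn1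
      (by rw [Nat.card_eq_fintype_card, hK])
    let T : Sylow 2 (Cfsg.PSU 3 K (2 ^ n)) := S.mapSurjective (f := f.toMonoidHom) f.surjective
    obtain ⟨t⟩ := hT T
    have hTcard : Nat.card T = 64 := by
      rw [← hcardS]
      exact (Nat.card_congr ((S : Subgroup G).equivMapOfInjective f.toMonoidHom
        f.injective).toEquiv).symm
    have hH3 := Cfsg.Agent.LieRecognition.HermHeis.card_heis (σ := σ)
      (Nat.one_lt_two_pow (by omega)) hs (by rw [Nat.card_eq_fintype_card, hK])
    have hq3 : (2 ^ n) ^ 3 = 64 := by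
      rw [← hH3, ← hTcard]; exact Nat.card_congr t.toEquiv
    have hn2 : n = 2 := by
      rw [← pow_mul] at hq3
      have h1 : (64 : ℕ) = 2 ^ 6 := by norm_num
      rw [h1] at hq3
      have := Nat.pow_right_injective (le_refl 2) hq3
      omega
    subst hn2
    have hK16 : Fintype.card K = Fintype.card F := by rw [hK, hF]; norm_num
    obtain ⟨i⟩ := Cfsg.Agent.SporadicStructure.PsuMatch.psu_iso_of_card hK16 3 4
    exact ⟨f.trans i⟩

end Cfsg.Agent.S0486
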