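import Cfsg.Statements.S0509
import Cfsg.Agent.S0483
import Cfsg.Agent.S1169
import Cfsg.Agent.TwoFusion.FullProductMain
import Cfsg.Agent.SylowSp4.Plug
import Cfsg.Agent.SylowSp4.AltFin
import Cfsg.Agent.SylowSp4.TwoMain

set_option autoImplicit false
open Cfsg

namespace Cfsg.Agent.S0509

universe u

theorem productThm : SylowSp4.Hyps.ProductThm.{u} := fun _ _ _ hO P S₁ S₂ hcomm hdisj h₁ h₂ hprod =>
  TwoFusion.FullProduct.product hO P S₁ S₂ hcomm hdisj h₁ h₂ hprod

theorem gw : SylowSp4.Hyps.GW.{u} := fun _ _ _ _ S n hn hS => Cfsg.Agent.S0483.result S n hn hS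

theorem gold : SylowSp4.TwoGold.Gold.{u} := fun _ _ _ _ S A hA hAcomm hsc =>
  Cfsg.Agent.S1169.result S A hA hAcomm hsc

/-- A finite simple group whose Sylow 2-subgroups are isomorphic to a Sylow 2-subgroup of a projective symplectic
group of dimension 4 over a field of odd order is isomorphic to such a symplectic group (possibly over a different field
of odd order) or to the alternating group of degree 8 or 9. -/
theorem result {G : Type*} [Group G] [Finite G] [IsSimpleGroup G]
    {F : Type*} [Field F] [Fintype F] (hF : Odd (Fintype.card F)) (S : Sylow 2 G) (P : Sylow 2 (Cfsg.PSp 2 F))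
    (hS : Nonempty ((S : Subgroup G) ≃* (P : Subgroup (Cfsg.PSp 2 F)))) :
    (∃ (K : Type) (_ : Field K) (_ : Fintype K), Odd (Fintype.card K) ∧ Nonempty (G ≃* Cfsg.PSp 2 K)) ∨
      Nonempty (G ≃* alternatingGroup (Fin 8)) ∨ Nonempty (G ≃* alternatingGroup (Fin 9)) :=
  SylowSp4.Assembly.main productThm gw (SylowSp4.CentOne.centOne productThm gw) SylowSp4.Plug.coreBot
    SylowSp4.Plug.recogPSp (fun G _ _ _ P f s h => SylowSp4.TwoMain.main productThm gold G P f s h)
    (fun _ _ _ _ _ _ p => SylowSp4.AltFin.iso p) hF S P hS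

end Cfsg.Agent.S0509
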