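import Cfsg.Statements.S0257
import Mathlib
import Cfsg.Agent.LieClassical.SLTwoThree

set_option autoImplicit false
open Cfsg

namespace Cfsg.Agent.S0257

/-- SL_2(3) has a normal subgroup of index 3 isomorphic to the quaternion group of order 8, and its centre has order 2. -/
theorem result {F : Type*} [Field F] [Fintype F] (hF : Fintype.card F = 3) : (∃ Q : Subgroup (Matrix.SpecialLinearGroup (Fin 2) F), Q.Normal ∧ Q.index = 3 ∧ Nonempty (Q ≃* QuaternionGroup 2)) ∧ Nat.card (Subgroup.center (Matrix.SpecialLinearGroup (Fin 2) F)) = 2 := by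
  classical
  let e : ZMod 3 ≃+* F := ZMod.ringEquivOfPrime F Nat.prime_three hF
  let e' : Matrix.SpecialLinearGroup (Fin 2) (ZMod 3) ≃* Matrix.SpecialLinearGroup (Fin 2) F :=
    { toFun := Matrix.SpecialLinearGroup.map (e : ZMod 3 →+* F)
      invFun := Matrix.SpecialLinearGroup.map (e.symm : F →+* ZMod 3)
      left_inv := fun A => by
        ext i j
        simp
      right_inv := fun A => by
        ext i j
        simp
      map_mul' := map_mul _ }
  let Q0 := Cfsg.Agent.LieClassical.SLTwoThree.qhom.range
  have hQ0 : Q0.Normal := Cfsg.Agent.LieClassical.SLTwoThree.range_normal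
  refine ⟨⟨Q0.map e'.toMonoidHom, hQ0.map _ e'.surjective, ?_, ⟨?_⟩⟩, ?_⟩
  · have h := Subgroup.index_map_equiv Q0 e'
    exact h.trans Cfsg.Agent.LieClassical.SLTwoThree.index_range
  · exact (((MonoidHom.ofInjective
      Cfsg.Agent.LieClassical.SLTwoThree.qhom_injective).trans
      (Q0.equivMapOfInjective e'.toMonoidHom e'.injective))).symm
  · have h1 : Nat.card (Subgroup.center (Matrix.SpecialLinearGroup (Fin 2) (ZMod 3))) = 2 := by
      rw [Nat.card_eq_fintype_card]
      exact Cfsg.Agent.LieClassical.SLTwoThree.card_center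
    exact (Nat.card_congr (Subgroup.centerCongr e').toEquiv).symm.trans h1

end Cfsg.Agent.S0257
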