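import Cfsg.Statements.S1738
import Cfsg.Agent.Intrinsic.Ext
import Cfsg.Agent.Intrinsic.AssembleLy

set_option autoImplicit false
open Cfsg

namespace Cfsg.Agent.S1738

/-- Let G be a finite group with no nontrivial normal subgroup of odd order whose generalized Fitting subgroup is quasisimple. Suppose that for some involution t, the centralizer C of t has a 2-component K containing t such that K modulo its largest normal odd-order subgroup is a non-split double cover of the alternating group of degree n, with n ≥ 8. Then the generalized Fitting subgroup of G is a non-split double cover of the alternating group of degree n, or n = 8 and it is isomorphic to the McLaughlin group, or n = 11 and it is isomorphic to the Lyons group. -/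
theorem result {G : Type*} [Group G] [Finite G]
    (hO : Cfsg.oddCore G = ⊥) (hF : Cfsg.IsQuasisimple ↥(Cfsg.generalizedFittingSubgroup G)) (t : G) (ht : orderOf t = 2)
    (K : Subgroup ↥(Subgroup.centralizer ({t} : Set G))) (hK : Cfsg.IsPComponent 2 K) (htK : t ∈ K.map (Subgroup.centralizer ({t} : Set G)).subtype)
    (n : ℕ) (hn : 8 ≤ n) (hKA : Cfsg.IsNonsplitDoubleCover (↥K ⧸ Cfsg.oddCore ↥K) ↥(alternatingGroup (Fin n))) :
    Cfsg.IsNonsplitDoubleCover ↥(Cfsg.generalizedFittingSubgroup G) ↥(alternatingGroup (Fin n)) ∨
      (n = 8 ∧ Cfsg.Spor.IsoMcL ↥(Cfsg.generalizedFittingSubgroup G)) ∨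
      (n = 11 ∧ Cfsg.Spor.IsoLy ↥(Cfsg.generalizedFittingSubgroup G)) := by
  exact Cfsg.Agent.Intrinsic.AssembleLy.s1738 Cfsg.Agent.Intrinsic.Ext.zero Cfsg.Agent.Intrinsic.Ext.nz
    Cfsg.Agent.Intrinsic.Ext.pair hO hF t ht K hK htK n hn hKA

end Cfsg.Agent.S1738
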