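import Cfsg.Statements.S0764
-- import your own Cfsg.Agent.* helpers here

set_option autoImplicit false
open Cfsg

namespace Cfsg.Agent.S0764

theorem dotProduct_J_self {F : Type*} [Field F] (m : ℕ) (v : Fin m ⊕ Fin m → F) :
    v ⬝ᵥ (Matrix.J (Fin m) F).mulVec v = 0 := by
  simp only [Matrix.J, Matrix.fromBlocks_mulVec, dotProduct, Fintype.sum_sum_type, Sum.elim_inl,
    Sum.elim_inr, Matrix.zero_mulVec, Matrix.neg_mulVec, Matrix.one_mulVec, Function.comp_apply,
    zero_add, add_zero, Pi.add_apply, Pi.neg_apply, Pi.zero_apply]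
  rw [← Finset.sum_add_distrib]
  apply Finset.sum_eq_zero
  intro i _
  ring

theorem J_mulVec_J_mulVec {F : Type*} [Field F] (m : ℕ) (v : Fin m ⊕ Fin m → F) :
    (Matrix.J (Fin m) F).mulVec ((Matrix.J (Fin m) F).mulVec v) = -v := by
  rw [Matrix.mulVec_mulVec, Matrix.J_squared, Matrix.neg_mulVec, Matrix.one_mulVec]

theorem vecMul_J {F : Type*} [Field F] (m : ℕ) (v : Fin m ⊕ Fin m → F) :
    Matrix.vecMul v (Matrix.J (Fin m) F) = -(Matrix.J (Fin m) F).mulVec v := by
  rw [← Matrix.mulVec_transpose, Matrix.J_transpose, Matrix.neg_mulVec]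

/-- Symplectic transvections are isometries: for every vector v and scalar c the matrix of x ↦ x + c f(x, v) v lies in the symplectic group. -/
theorem result {F : Type*} [Field F] (m : ℕ) (v : Fin m ⊕ Fin m → F) (c : F) : Cfsg.sympTransvection m v c ∈ Matrix.symplecticGroup (Fin m) F := by
  rw [SymplecticGroup.mem_iff]
  have h1 := dotProduct_J_self m v
  have h2 := J_mulVec_J_mulVec m v
  have h3 := vecMul_J m v
  have h4 := vecMul_J m ((Matrix.J (Fin m) F).mulVec v)
  rw [h2, neg_neg] at h4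
  change (1 + c • Matrix.vecMulVec v ((Matrix.J (Fin m) F).mulVec v)) * Matrix.J (Fin m) F
    * (1 + c • Matrix.vecMulVec v ((Matrix.J (Fin m) F).mulVec v)).transpose = _
  rw [Matrix.transpose_add, Matrix.transpose_one, Matrix.transpose_smul, Matrix.transpose_vecMulVec,
    add_mul, one_mul, smul_mul_assoc, Matrix.vecMulVec_mul, h4, mul_add, mul_one, add_mul,
    mul_smul_comm, smul_mul_assoc, mul_smul_comm, Matrix.mul_vecMulVec, h2,
    Matrix.vecMulVec_mul_vecMulVec, h1]
  simp [Matrix.neg_vecMulVec]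

end Cfsg.Agent.S0764
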