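import Cfsg.Statements.S0765
import Cfsg.Agent.S0764
-- import your own Cfsg.Agent.* helpers here

set_option autoImplicit false
open Cfsg

namespace Cfsg.Agent.S0765

section
variable {F : Type*} [Field F] {m : ℕ}

theorem form_def (u v : Fin m ⊕ Fin m → F) :
    Cfsg.sympForm m F u v = u ⬝ᵥ (Matrix.J (Fin m) F).mulVec v := rfl

theorem form_add_left (u u' v : Fin m ⊕ Fin m → F) :
    Cfsg.sympForm m F (u + u') v = Cfsg.sympForm m F u v + Cfsg.sympForm m F u' v := by
  rw [form_def, form_def, form_def, add_dotProduct]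

theorem form_add_right (u v v' : Fin m ⊕ Fin m → F) :
    Cfsg.sympForm m F u (v + v') = Cfsg.sympForm m F u v + Cfsg.sympForm m F u v' := by
  rw [form_def, form_def, form_def, Matrix.mulVec_add, dotProduct_add]

theorem form_smul_left (a : F) (u v : Fin m ⊕ Fin m → F) :
    Cfsg.sympForm m F (a • u) v = a * Cfsg.sympForm m F u v := by
  rw [form_def, form_def, smul_dotProduct, smul_eq_mul]

theorem form_smul_right (a : F) (u v : Fin m ⊕ Fin m → F) :
    Cfsg.sympForm m F u (a • v) = a * Cfsg.sympForm m F u v := by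
  rw [form_def, form_def, Matrix.mulVec_smul, dotProduct_smul, smul_eq_mul]

theorem form_self (u : Fin m ⊕ Fin m → F) : Cfsg.sympForm m F u u = 0 :=
  Cfsg.Agent.S0764.dotProduct_J_self m u

theorem form_swap (u v : Fin m ⊕ Fin m → F) :
    Cfsg.sympForm m F u v = - Cfsg.sympForm m F v u := by
  have h := form_self (m := m) (F := F) (u + v)
  rw [form_add_left, form_add_right, form_add_right, form_self, form_self, zero_add, add_zero] at h
  exact eq_neg_of_add_eq_zero_left h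

theorem form_sub_left (u u' v : Fin m ⊕ Fin m → F) :
    Cfsg.sympForm m F (u - u') v = Cfsg.sympForm m F u v - Cfsg.sympForm m F u' v := by
  rw [form_def, form_def, form_def, sub_dotProduct]

theorem form_sub_right (u v v' : Fin m ⊕ Fin m → F) :
    Cfsg.sympForm m F u (v - v') = Cfsg.sympForm m F u v - Cfsg.sympForm m F u v' := by
  rw [form_def, form_def, form_def, Matrix.mulVec_sub, dotProduct_sub]

theorem form_nondeg (w : Fin m ⊕ Fin m → F) (hw : w ≠ 0) : ∃ x, Cfsg.sympForm m F x w ≠ 0 := by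
  by_contra hcon
  push Not at hcon
  have h1 : (Matrix.J (Fin m) F).mulVec w = 0 := by
    funext i
    have := hcon (Pi.single i 1)
    rw [form_def, single_one_dotProduct] at this
    exact this
  have h2 := Cfsg.Agent.S0764.J_mulVec_J_mulVec m w
  rw [h1, Matrix.mulVec_zero] at h2
  exact hw (neg_eq_zero.mp h2.symm)

theorem form_mulVec (A : Matrix (Fin m ⊕ Fin m) (Fin m ⊕ Fin m) F)
    (hA : A ∈ Matrix.symplecticGroup (Fin m) F) (u v : Fin m ⊕ Fin m → F) :
    Cfsg.sympForm m F (A.mulVec u) (A.mulVec v) = Cfsg.sympForm m F u v := by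
  rw [SymplecticGroup.mem_iff'] at hA
  rw [form_def, form_def, ← Matrix.vecMul_transpose A u, ← Matrix.dotProduct_mulVec,
    Matrix.mulVec_mulVec, Matrix.mulVec_mulVec, hA]

theorem trans_mulVec (w x : Fin m ⊕ Fin m → F) (c : F) :
    (Cfsg.sympTransvection m w c).mulVec x = x + (c * Cfsg.sympForm m F x w) • w := by
  change (1 + c • Matrix.vecMulVec w ((Matrix.J (Fin m) F).mulVec w)).mulVec x = _
  rw [Matrix.add_mulVec, Matrix.one_mulVec, Matrix.smul_mulVec, Matrix.vecMulVec_mulVec, form_def,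
    dotProduct_comm x, mul_smul]
  simp

/-- The generating set. -/
def gens (m : ℕ) (F : Type*) [Field F] : Set (Matrix.symplecticGroup (Fin m) F) :=
  {A : Matrix.symplecticGroup (Fin m) F | ∃ (w : Fin m ⊕ Fin m → F) (c : F),
    (A : Matrix (Fin m ⊕ Fin m) (Fin m ⊕ Fin m) F) = Cfsg.sympTransvection m w c}

/-- The transvection as a group element -/
def tr (w : Fin m ⊕ Fin m → F) (c : F) : Matrix.symplecticGroup (Fin m) F :=
  ⟨Cfsg.sympTransvection m w c, Cfsg.Agent.S0764.result m w c⟩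

theorem tr_mem (w : Fin m ⊕ Fin m → F) (c : F) : tr w c ∈ gens m F := ⟨w, c, rfl⟩

/-- fixed space -/
def fix (A : Matrix.symplecticGroup (Fin m) F) : Submodule F (Fin m ⊕ Fin m → F) where
  carrier := {x | (A : Matrix (Fin m ⊕ Fin m) (Fin m ⊕ Fin m) F).mulVec x = x}
  add_mem' {x y} hx hy := by
    have hx' : (A : Matrix (Fin m ⊕ Fin m) (Fin m ⊕ Fin m) F).mulVec x = x := hx
    have hy' : (A : Matrix (Fin m ⊕ Fin m) (Fin m ⊕ Fin m) F).mulVec y = y := hy
    change (A : Matrix (Fin m ⊕ Fin m) (Fin m ⊕ Fin m) F).mulVec (x + y) = x + y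
    rw [Matrix.mulVec_add, hx', hy']
  zero_mem' := Matrix.mulVec_zero _
  smul_mem' a x hx := by
    have hx' : (A : Matrix (Fin m ⊕ Fin m) (Fin m ⊕ Fin m) F).mulVec x = x := hx
    change (A : Matrix (Fin m ⊕ Fin m) (Fin m ⊕ Fin m) F).mulVec (a • x) = a • x
    rw [Matrix.mulVec_smul, hx']

theorem mem_fix {A : Matrix.symplecticGroup (Fin m) F} {x : Fin m ⊕ Fin m → F} :
    x ∈ fix A ↔ (A : Matrix (Fin m ⊕ Fin m) (Fin m ⊕ Fin m) F).mulVec x = x := Iff.rfl

theorem tr_mul_mulVec (A : Matrix.symplecticGroup (Fin m) F) (w x : Fin m ⊕ Fin m → F) (c : F) :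
    ((tr w c * A : Matrix.symplecticGroup (Fin m) F) :
      Matrix (Fin m ⊕ Fin m) (Fin m ⊕ Fin m) F).mulVec x
      = (A : Matrix (Fin m ⊕ Fin m) (Fin m ⊕ Fin m) F).mulVec x
        + (c * Cfsg.sympForm m F ((A : Matrix (Fin m ⊕ Fin m) (Fin m ⊕ Fin m) F).mulVec x) w) • w := by
  change ((Cfsg.sympTransvection m w c) *
    (A : Matrix (Fin m ⊕ Fin m) (Fin m ⊕ Fin m) F)).mulVec x = _
  rw [← Matrix.mulVec_mulVec, trans_mulVec]

/-- A transvection along a vector of the residual space keeps the fixed space. -/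
theorem fix_le (A : Matrix.symplecticGroup (Fin m) F) (y : Fin m ⊕ Fin m → F) (c : F) :
    fix A ≤ fix (tr ((A : Matrix (Fin m ⊕ Fin m) (Fin m ⊕ Fin m) F).mulVec y - y) c * A) := by
  intro z hz
  rw [mem_fix] at hz ⊢
  have h : Cfsg.sympForm m F z ((A : Matrix (Fin m ⊕ Fin m) (Fin m ⊕ Fin m) F).mulVec y - y) = 0 := by
    rw [form_sub_right]
    have := form_mulVec (A : Matrix (Fin m ⊕ Fin m) (Fin m ⊕ Fin m) F) A.2 z y
    rw [hz] at this
    rw [this, sub_self]
  rw [tr_mul_mulVec, hz, h, mul_zero, zero_smul, add_zero]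

theorem step1 (A : Matrix.symplecticGroup (Fin m) F) (x : Fin m ⊕ Fin m → F)
    (hx : Cfsg.sympForm m F x ((A : Matrix (Fin m ⊕ Fin m) (Fin m ⊕ Fin m) F).mulVec x) ≠ 0) :
    ∃ t ∈ gens m F, fix A < fix (t * A) := by
  set y := (A : Matrix (Fin m ⊕ Fin m) (Fin m ⊕ Fin m) F).mulVec x with hy
  have hyx : Cfsg.sympForm m F y x ≠ 0 := by
    rw [form_swap]; exact neg_ne_zero.mpr hx
  refine ⟨tr (y - x) (Cfsg.sympForm m F y x)⁻¹, tr_mem _ _, lt_of_le_of_ne ?_ ?_⟩
  · exact fix_le A x _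
  · intro heq
    have h1 : x ∈ fix (tr (y - x) (Cfsg.sympForm m F y x)⁻¹ * A) := by
      rw [mem_fix, tr_mul_mulVec, ← hy, form_sub_right, form_self, zero_sub, mul_neg,
        inv_mul_cancel₀ hyx, neg_smul, one_smul]
      abel
    rw [← heq, mem_fix, ← hy] at h1
    rw [h1, form_self] at hx
    exact hx rfl

theorem step2 (A : Matrix.symplecticGroup (Fin m) F) (y : Fin m ⊕ Fin m → F)
    (hy : (A : Matrix (Fin m ⊕ Fin m) (Fin m ⊕ Fin m) F).mulVec y ≠ y)
    (hA : ∀ x, Cfsg.sympForm m F x ((A : Matrix (Fin m ⊕ Fin m) (Fin m ⊕ Fin m) F).mulVec x) = 0) :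
    ∃ t ∈ gens m F, ∃ t' ∈ gens m F, fix A < fix (t' * (t * A)) := by
  set w := (A : Matrix (Fin m ⊕ Fin m) (Fin m ⊕ Fin m) F).mulVec y - y with hw
  have hw0 : w ≠ 0 := sub_ne_zero.mpr hy
  obtain ⟨x1, hx1⟩ := form_nondeg w hw0
  obtain ⟨x2, hx2⟩ : ∃ x, Cfsg.sympForm m F
      ((A : Matrix (Fin m ⊕ Fin m) (Fin m ⊕ Fin m) F).mulVec x) w ≠ 0 := by
    refine ⟨((A⁻¹ : Matrix.symplecticGroup (Fin m) F) :
      Matrix (Fin m ⊕ Fin m) (Fin m ⊕ Fin m) F).mulVec x1, ?_⟩
    rw [Matrix.mulVec_mulVec]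
    have : (A : Matrix (Fin m ⊕ Fin m) (Fin m ⊕ Fin m) F) *
        ((A⁻¹ : Matrix.symplecticGroup (Fin m) F) : Matrix (Fin m ⊕ Fin m) (Fin m ⊕ Fin m) F) = 1 := by
      have h := mul_inv_cancel A
      exact congrArg Subtype.val h
    rw [this, Matrix.one_mulVec]
    exact hx1
  obtain ⟨x, hxw, hAxw⟩ : ∃ x, Cfsg.sympForm m F x w ≠ 0 ∧ Cfsg.sympForm m F
      ((A : Matrix (Fin m ⊕ Fin m) (Fin m ⊕ Fin m) F).mulVec x) w ≠ 0 := by
    by_cases h1 : Cfsg.sympForm m F
      ((A : Matrix (Fin m ⊕ Fin m) (Fin m ⊕ Fin m) F).mulVec x1) w = 0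
    · by_cases h2 : Cfsg.sympForm m F x2 w = 0
      · refine ⟨x1 + x2, ?_, ?_⟩
        · rw [form_add_left, h2, add_zero]; exact hx1
        · rw [Matrix.mulVec_add, form_add_left, h1, zero_add]; exact hx2
      · exact ⟨x2, h2, hx2⟩
    · exact ⟨x1, hx1, h1⟩
  have hle : fix A ≤ fix (tr w 1 * A) := fix_le A y 1
  obtain ⟨t', ht', hlt⟩ := step1 (tr w 1 * A) x (by
    rw [tr_mul_mulVec, form_add_right, hA, zero_add, form_smul_right, one_mul]
    exact mul_ne_zero hAxw hxw)
  exact ⟨tr w 1, tr_mem _ _, t', ht', lt_of_le_of_lt hle hlt⟩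

theorem main (A : Matrix.symplecticGroup (Fin m) F) : A ∈ Subgroup.closure (gens m F) := by
  suffices h : ∀ (S : Submodule F (Fin m ⊕ Fin m → F)) (A : Matrix.symplecticGroup (Fin m) F),
      fix A = S → A ∈ Subgroup.closure (gens m F) from h _ A rfl
  intro S
  induction S using WellFoundedGT.induction with
  | ind S ih =>
    intro A hS
    by_cases h1 : ∃ x, Cfsg.sympForm m F x
        ((A : Matrix (Fin m ⊕ Fin m) (Fin m ⊕ Fin m) F).mulVec x) ≠ 0
    · obtain ⟨x, hx⟩ := h1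
      obtain ⟨t, ht, hlt⟩ := step1 A x hx
      have := ih (fix (t * A)) (hS ▸ hlt) (t * A) rfl
      exact (Subgroup.mul_mem_cancel_left _ (Subgroup.subset_closure ht)).mp this
    · push Not at h1
      by_cases h2 : ∃ y, (A : Matrix (Fin m ⊕ Fin m) (Fin m ⊕ Fin m) F).mulVec y ≠ y
      · obtain ⟨y, hy⟩ := h2
        obtain ⟨t, ht, t', ht', hlt⟩ := step2 A y hy h1
        have := ih (fix (t' * (t * A))) (hS ▸ hlt) (t' * (t * A)) rfl
        exact (Subgroup.mul_mem_cancel_left _ (Subgroup.subset_closure ht)).mp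
          ((Subgroup.mul_mem_cancel_left _ (Subgroup.subset_closure ht')).mp this)
      · push Not at h2
        have : A = 1 := by
          apply Subtype.ext
          apply Matrix.ext_of_mulVec_single
          intro i
          rw [h2]
          change _ = (1 : Matrix (Fin m ⊕ Fin m) (Fin m ⊕ Fin m) F).mulVec _
          rw [Matrix.one_mulVec]
        rw [this]
        exact Subgroup.one_mem _

end

/-- Generation of the symplectic group by symplectic transvections: the subgroup of Sp_2m(F) generated by all matrices of maps x ↦ x + c f(x, w) w is the whole group. -/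
theorem result {F : Type*} [Field F] (m : ℕ) : Subgroup.closure {A : Matrix.symplecticGroup (Fin m) F | ∃ (w : Fin m ⊕ Fin m → F) (c : F), (A : Matrix (Fin m ⊕ Fin m) (Fin m ⊕ Fin m) F) = Cfsg.sympTransvection m w c} = ⊤ := by
  rw [eq_top_iff]
  intro A _
  exact main A

end Cfsg.Agent.S0765
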