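import Cfsg.Statements.S0270
import Cfsg.Agent.LieClassical.SympSimple
import Cfsg.Agent.S0269
import Cfsg.Agent.S0765

set_option autoImplicit false
open Cfsg

namespace Cfsg.Agent.S0270

/-- PSp_{2m}(q) is simple for m at least 2 and (m, q) other than (2, 2). -/
theorem result {F : Type*} [Field F] [Fintype F] (m : ℕ) (hm : 2 ≤ m) (h : m = 2 → 3 ≤ Fintype.card F) : IsSimpleGroup (Cfsg.PSp m F) := by
  have hperf : commutator (Matrix.symplecticGroup (Fin m) F) = ⊤ := by
    refine Cfsg.Agent.S0269.result m ?_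
    by_cases h2 : m = 2
    · exact Or.inr (Or.inl ⟨h2, h h2⟩)
    · left; omega
  have hgen : Cfsg.Agent.ClassicalGeometry.SympBasic.transvGroup m F = ⊤ :=
    Cfsg.Agent.S0765.result m
  haveI : Nontrivial (Matrix.symplecticGroup (Fin m) F) := by
    refine ⟨⟨SymplecticGroup.symJ (Fin m) F, 1, fun heq => ?_⟩⟩
    have h1 : Matrix.J (Fin m) F = 1 := congrArg Subtype.val heq
    have h2 : Matrix.J (Fin m) F (Sum.inl ⟨0, by omega⟩) (Sum.inl ⟨0, by omega⟩) =
        (1 : Matrix (Fin m ⊕ Fin m) (Fin m ⊕ Fin m) F) (Sum.inl ⟨0, by omega⟩)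
          (Sum.inl ⟨0, by omega⟩) := by rw [h1]
    rw [Matrix.J, Matrix.fromBlocks_apply₁₁, Matrix.zero_apply, Matrix.one_apply_eq] at h2
    exact zero_ne_one h2
  exact Cfsg.Agent.LieClassical.SympSimple.isSimpleGroup_quotient_center hperf
    (fun N hN hle =>
      have := hN
      Cfsg.Agent.LieClassical.SympSimple.commutator_le_of_not_le_center hgen N hle)

end Cfsg.Agent.S0270
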