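import Cfsg.Statements.S1292
import Cfsg.Agent.SignalizersComponents.CharP

set_option autoImplicit false
open Cfsg

namespace Cfsg.Agent.S1292

/-- Let G be a finite group such that F*(C_G(t)) = O_2(C_G(t)) for every involution t. Then F*(N_G(T)) = O_2(N_G(T)) for every nontrivial 2-subgroup T of G. -/
theorem result {G : Type*} [Group G] [Finite G] (h : ∀ t : G, orderOf t = 2 → Cfsg.generalizedFittingSubgroup ↥(Subgroup.centralizer ({t} : Set G)) = Cfsg.pCore 2 ↥(Subgroup.centralizer ({t} : Set G))) (T : Subgroup G) (hT : IsPGroup 2 ↥T) (hT1 : T ≠ ⊥) : Cfsg.generalizedFittingSubgroup ↥(Subgroup.normalizer (T : Set G)) = Cfsg.pCore 2 ↥(Subgroup.normalizer (T : Set G)) := by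
  have hTn : Nontrivial T := (Subgroup.nontrivial_iff_ne_bot T).mpr hT1
  have hc : Nontrivial (Subgroup.center T) := hT.center_nontrivial
  -- an involution in the centre of `T`
  have hcard : 2 ∣ Nat.card (Subgroup.center T) := by
    have h1 : IsPGroup 2 (Subgroup.center T) := hT.to_subgroup _
    obtain ⟨n, hn⟩ := IsPGroup.iff_card.mp h1
    have h2 : n ≠ 0 := by
      rintro rfl
      rw [pow_zero] at hn
      exact (Finite.one_lt_card (α := Subgroup.center T)).ne' hn
    rw [hn]
    exact dvd_pow_self 2 h2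
  obtain ⟨z, hz⟩ := exists_prime_orderOf_dvd_card' 2 hcard
  set t : G := ((z : T) : G) with ht
  have hto : orderOf t = 2 := by
    rw [ht, Subgroup.orderOf_coe, Subgroup.orderOf_coe, hz]
  have htT : t ∈ T := (z : T).2
  have hX := SignalizersComponents.CharP.centralizer_pCore_le_of_genFitting_eq (h t hto)
  rw [SignalizersComponents.CharP.genFitting_eq_pCore_iff]
  refine SignalizersComponents.CharP.charP_normalizer
    (R := (Cfsg.pCore 2 ↥(Subgroup.centralizer ({t} : Set G))).map
      (Subgroup.centralizer ({t} : Set G)).subtype)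
    (X := Subgroup.centralizer ({t} : Set G)) ?_ ?_ ?_ hT ?_ ?_
  · exact (Lib.Cores.pCore_isPGroup 2).map _
  · intro g hg
    rw [Subgroup.mem_normalizer_iff]
    intro y
    constructor
    · rintro ⟨w, hw, rfl⟩
      exact ⟨⟨g, hg⟩ * w * ⟨g, hg⟩⁻¹, (Lib.Cores.pCore_normal 2).conj_mem w hw ⟨g, hg⟩, rfl⟩
    · rintro ⟨w, hw, hwy⟩
      refine ⟨⟨g, hg⟩⁻¹ * w * ⟨g, hg⟩, ?_, ?_⟩
      · simpa using! (Lib.Cores.pCore_normal 2).conj_mem w hw (⟨g, hg⟩⁻¹ : _)
      · change g⁻¹ * (w : G) * g = y
        have hwy' : (w : G) = g * y * g⁻¹ := hwy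
        rw [hwy']
        group
  · rintro y ⟨hy1, hy2⟩
    have h1 : (⟨y, hy1⟩ : Subgroup.centralizer ({t} : Set G)) ∈
        Subgroup.centralizer (Cfsg.pCore 2 ↥(Subgroup.centralizer ({t} : Set G)) : Set _) := by
      rw [Subgroup.mem_centralizer_iff]
      intro w hw
      apply Subtype.ext
      exact Subgroup.mem_centralizer_iff.mp hy2 (w : G) ⟨w, hw, rfl⟩
    exact ⟨_, hX h1, rfl⟩
  · intro y hy
    rw [Subgroup.mem_centralizer_iff]
    rintro w hw
    rw [Set.mem_singleton_iff] at hw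
    subst hw
    have h1 := Subgroup.mem_center_iff.mp z.2 ⟨y, hy⟩
    exact (congrArg Subtype.val h1).symm
  · exact Subgroup.centralizer_le (by
      intro w hw
      rw [Set.mem_singleton_iff] at hw
      rw [hw]
      exact htT)

end Cfsg.Agent.S1292
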