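import Cfsg.Statements.S1296
import Cfsg.Agent.Dichotomy.TransferBig
import Cfsg.Agent.S1292
import Cfsg.Agent.S1265
import Cfsg.Agent.S0205
import Cfsg.Agent.S1221

set_option autoImplicit false
open Cfsg

namespace Cfsg.Agent.S1296

/-- `C / O(C)` without component has trivial layer -/
theorem layer_eq_bot {X : Type*} [Group X] [Finite X] (h : ¬ HasComponent X) : layer X = ⊥ := by
  unfold layer
  rw [sSup_eq_bot]
  intro K hK
  exact absurd ⟨K, hK⟩ h

/-- If `C / O(C)` has no component then the 2-layer of `C` is trivial. -/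
theorem pLayer_eq_bot {C : Type*} [Group C] (h : ¬ HasComponent (C ⧸ oddCore C)) : pLayer 2 C = ⊥ := by
  unfold pLayer
  rw [sSup_eq_bot]
  intro K hK
  exact absurd ⟨_, hK.2.1⟩ h

/-- Dichotomy Theorem. Let G be a finite group of even order with no normal subgroup of index 2 and with O(G) = 1. Then G has 2-rank at most 2, or G is of component type, or G is of characteristic 2 type. -/
theorem result {G : Type*} [Group G] [Finite G] (heven : Even (Nat.card G)) (hO2 : ∀ N : Subgroup G, N.Normal → N.index ≠ 2) (hO : Cfsg.oddCore G = ⊥) : Cfsg.PRankLE 2 2 G ∨ Cfsg.IsComponentType G ∨ Cfsg.IsCharacteristicTwoType G := by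
  have h2 : Fact (Nat.Prime 2) := ⟨Nat.prime_two⟩
  by_contra hcon
  push Not at hcon
  obtain ⟨hrk, hc, hch⟩ := hcon
  apply hch
  have hnc : ∀ t : G, orderOf t = 2 → ¬ HasComponent (↥(Subgroup.centralizer ({t} : Set G)) ⧸
      oddCore ↥(Subgroup.centralizer ({t} : Set G))) := fun t ht h => hc ⟨t, ht, h⟩
  have hL : ∀ t : G, orderOf t = 2 → pLayer 2 ↥(Subgroup.centralizer ({t} : Set G)) = ⊥ :=
    fun t ht => pLayer_eq_bot (hnc t ht)
  have hF : Dichotomy.Functor.Fun G := by
    refine ⟨?_, ?_⟩
    · intro t _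
      apply Cfsg.Agent.S0205.result
      rw [← Nat.not_even_iff_odd, even_iff_two_dvd]
      exact Dichotomy.CoreTools.core_card 2 t
    · intro a b ha hb hab
      exact Dichotomy.CoreTools.balance 2 ha (hL b hb) hab
  have hcons : ∀ t : G, orderOf t = 2 → Dichotomy.Local.Constr t := by
    intro t ht
    exact (SignalizersComponents.PConstrained.centralizer_pCore_le_iff_layer_eq_bot 2
      (Lib.Cores.pPrimeCore_quotient_pPrimeCore 2)).2 (layer_eq_bot (hnc t ht))
  have hT1 : ∀ t : G, orderOf t = 2 → ∃ A : Subgroup G, Dichotomy.Elem.Big A ∧ t ∈ A :=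
    fun t ht => Dichotomy.TransferBig.exists_big_mem hF hO2 hrk ht
  have hcore : ∀ t : G, orderOf t = 2 → centralizerPPrimeCore 2 t = ⊥ := fun t ht =>
    Dichotomy.Main.core_eq_bot hF hcons hT1 hO (fun H hH => Cfsg.Agent.S1221.result H hH) ht
  have hFs : ∀ t : G, orderOf t = 2 →
      generalizedFittingSubgroup ↥(Subgroup.centralizer ({t} : Set G)) =
        pCore 2 ↥(Subgroup.centralizer ({t} : Set G)) := by
    intro t ht
    refine Dichotomy.CoreTools.genFitting_eq_pCore 2 ?_ (hL t ht)
    exact (Subgroup.map_eq_bot_iff_of_injective _ (Subgroup.subtype_injective _)).1 (hcore t ht)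
  refine ⟨heven, ?_⟩
  intro T hT hT1
  have h4 := Cfsg.Agent.S1292.result hFs T hT hT1
  have h5 := Cfsg.Agent.S1265.result (G := ↥(Subgroup.normalizer (T : Set G)))
  rw [h4] at h5
  exact h5

end Cfsg.Agent.S1296
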