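import Cfsg.Statements.S0811
import Cfsg.Agent.ClassicalGeometry.PSLTorus
import Cfsg.Agent.ClassicalGeometry.TICount

set_option autoImplicit false
open Cfsg

namespace Cfsg.Agent.S0811

open scoped MatrixGroups
open Cfsg.Agent.LieClassical.SmallIso Cfsg.Agent.ClassicalGeometry.PSLTorus
  Cfsg.Agent.ClassicalGeometry.TICount

theorem card_psl_two_even (K : Type*) [Field K] [Fintype K] (h2 : (2 : K) = 0) :
    Nat.card (Matrix.ProjectiveSpecialLinearGroup (Fin 2) K) =
      Fintype.card K * (Fintype.card K ^ 2 - 1) := by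
  rw [← card_sl_two, ← Subgroup.card_mul_index (Subgroup.center (Matrix.SpecialLinearGroup (Fin 2) K))]
  have h : Subgroup.center (Matrix.SpecialLinearGroup (Fin 2) K) = ⊥ := by
    rw [eq_bot_iff]
    intro g hg
    rw [mem_center_sl_two_iff, neg_one_eq_one h2, or_self] at hg
    exact hg
  have h1 : Nat.card (Subgroup.center (Matrix.SpecialLinearGroup (Fin 2) K)) = 1 := by
    rw [h]; simp
  rw [h1, one_mul]
  rfl

theorem arith_even (q m α β : ℕ) (hm : m = q + 1) (hα : 1 ≤ α) (hβ : 1 ≤ β)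
    (h : 2 * ((1 + α * m) * (1 + β * m)) = q * (q - 1)) : False := by
  subst hm
  have h1 : q + 2 ≤ 1 + α * (q + 1) := by nlinarith
  have h2 : q + 2 ≤ 1 + β * (q + 1) := by nlinarith
  have h3 : (q + 2) * (q + 2) ≤ (1 + α * (q + 1)) * (1 + β * (q + 1)) := Nat.mul_le_mul h1 h2
  have h4 : q * (q - 1) ≤ q * q := Nat.mul_le_mul_left _ (Nat.sub_le _ _)
  nlinarith

theorem arith_odd (q m α β : ℕ) (hm : 2 * m = q + 1) (hα : 1 ≤ α) (hβ : 1 ≤ β)
    (h : 2 * ((1 + α * m) * (1 + β * m)) = q * (q - 1)) : q = 9 := by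
  obtain ⟨k, rfl⟩ : ∃ k, m = k + 1 := ⟨m - 1, by omega⟩
  have hq : q = 2 * k + 1 := by omega
  subst hq
  have h1 : (1 + α * (k + 1)) * (1 + β * (k + 1)) = (2 * k + 1) * k := by
    have : (2 * k + 1) * (2 * k + 1 - 1) = 2 * ((2 * k + 1) * k) := by
      rw [Nat.add_sub_cancel]; ring
    rw [this] at h
    exact Nat.eq_of_mul_eq_mul_left (by norm_num) h
  -- α + β + α β (k+1) = 2 (k+1) - 3
  have h2 : α + β + α * β * (k + 1) + 1 = 2 * k := by
    have h3 : (k + 1) * (α + β + α * β * (k + 1) + 1) = (k + 1) * (2 * k) := by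
      nlinarith
    exact Nat.eq_of_mul_eq_mul_left (by omega) h3
  have h3 : α * β < 2 := by
    by_contra hcon
    have : 2 * (k + 1) ≤ α * β * (k + 1) := Nat.mul_le_mul_right _ (by omega)
    omega
  have h4 : α = 1 := by nlinarith
  have h5 : β = 1 := by nlinarith
  subst h4 h5
  omega

theorem arith_odd' (q m α β : ℕ) (hm : 4 * m = q + 1) (hα : 1 ≤ α) (hβ : 1 ≤ β)
    (h : 2 * ((1 + α * m) * (1 + β * m)) = q * (q - 1)) : q = 7 ∨ q = 15 ∨ q = 55 := by
  obtain ⟨k, rfl⟩ : ∃ k, m = k + 1 := ⟨m - 1, by omega⟩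
  have hq : q = 4 * k + 3 := by omega
  subst hq
  have h1 : (1 + α * (k + 1)) * (1 + β * (k + 1)) = (4 * k + 3) * (2 * k + 1) := by
    have : (4 * k + 3) * (4 * k + 3 - 1) = 2 * ((4 * k + 3) * (2 * k + 1)) := by
      have h0 : 4 * k + 3 - 1 = 2 * (2 * k + 1) := by omega
      rw [h0]; ring
    rw [this] at h
    exact Nat.eq_of_mul_eq_mul_left (by norm_num) h
  have h2 : α + β + α * β * (k + 1) = 8 * k + 2 := by
    have h3 : (k + 1) * (α + β + α * β * (k + 1)) = (k + 1) * (8 * k + 2) := by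
      nlinarith
    exact Nat.eq_of_mul_eq_mul_left (by omega) h3
  have h3 : α * β < 8 := by
    by_contra hcon
    have : 8 * (k + 1) ≤ α * β * (k + 1) := Nat.mul_le_mul_right _ (by omega)
    omega
  have h4 : α < 8 := by nlinarith
  have h5 : β < 8 := by nlinarith
  interval_cases α <;> interval_cases β <;> omega

/-- For q ∉ {2, 7, 9}, PSL_2(q) has a maximal subgroup isomorphic to the dihedral group of order 2(q + 1)/d, d = gcd(2, q − 1). -/
theorem result {F : Type*} [Field F] [Fintype F] {q : ℕ} (hF : Fintype.card F = q) (hq : q ∉ ({2, 7, 9} : Finset ℕ)) : ∃ H : Subgroup (Matrix.ProjectiveSpecialLinearGroup (Fin 2) F), IsCoatom H ∧ Nonempty (H ≃* DihedralGroup ((q + 1) / Nat.gcd 2 (q - 1))) := by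
  obtain ⟨C, H, hCH, hind, -, hC, ⟨e⟩, hTI⟩ := exists_psl_torus F
  rw [hF] at hC e
  simp only [Finset.mem_insert, Finset.mem_singleton, not_or] at hq
  obtain ⟨hq2, hq7, hq9⟩ := hq
  have hq1 : 1 < q := hF ▸ Fintype.one_lt_card
  have hcH : Nat.card H = 2 * Nat.card C := by
    rw [Nat.card_congr e.toEquiv, DihedralGroup.nat_card, hC]
  have hpos : 0 < Nat.card C := Nat.card_pos
  -- index of `H`
  have hidx : 2 * H.index = q * (q - 1) := by
    have h1 := Subgroup.card_mul_index H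
    obtain ⟨m, rfl⟩ : ∃ m, q = m + 1 := ⟨q - 1, by omega⟩
    have h0 : (m + 1) ^ 2 - 1 = m * (m + 2) := by
      apply Nat.sub_eq_of_eq_add
      ring
    rw [Nat.add_sub_cancel] at *
    by_cases h2 : (2 : F) = 0
    · have hodd : ¬ Odd (Fintype.card F) := fun h => ((two_ne_zero_iff_odd F).mpr h) h2
      rw [hF, Nat.not_odd_iff_even, Nat.even_iff] at hodd
      have hg : Nat.gcd 2 m = 1 := by
        rw [← Nat.coprime_iff_gcd_eq_one, Nat.coprime_two_left, Nat.odd_iff]
        omega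
      rw [hg, Nat.div_one] at hC
      rw [card_psl_two_even F h2, hF, h0, hcH, hC] at h1
      have : (m + 2) * (2 * H.index) = (m + 2) * ((m + 1) * m) := by
        linear_combination h1
      exact Nat.eq_of_mul_eq_mul_left (by omega) this
    · have hodd : Odd (Fintype.card F) := (two_ne_zero_iff_odd F).mp h2
      rw [hF, Nat.odd_iff] at hodd
      have hg : Nat.gcd 2 m = 2 := by
        apply Nat.gcd_eq_left
        omega
      rw [hg] at hC
      have hC2 : 2 * Nat.card C = m + 2 := by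
        rw [hC]; omega
      have h3 := card_psl_two F h2
      rw [← h1, hF, h0, hcH, hC2] at h3
      have : (m + 2) * (2 * H.index) = (m + 2) * ((m + 1) * m) := by
        linear_combination h3
      exact Nat.eq_of_mul_eq_mul_left (by omega) this
  have hHtop : H ≠ ⊤ := by
    intro h
    rw [h, Subgroup.index_top] at hidx
    have : q * (q - 1) ≥ 3 * 2 := Nat.mul_le_mul (by omega) (by omega)
    omega
  refine ⟨H, ⟨hHtop, ?_⟩, ⟨e⟩⟩
  intro M hM
  by_contra hMtop
  obtain ⟨m, hm⟩ : Nat.gcd 2 (Nat.card C) ∣ Nat.card C := Nat.gcd_dvd_right _ _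
  have hm' : Nat.card C = m * Nat.gcd 2 (Nat.card C) := by rw [mul_comm]; exact hm
  have hm0 : 0 < m := by
    rcases Nat.eq_zero_or_pos m with h | h
    · rw [h, zero_mul] at hm'; omega
    · exact h
  have h1 := relIndex_modEq_one C H hCH hind hTI m hm' M hM.le
  have h2 := index_modEq_one C H hCH hind hTI m hm'
  have h3 := Subgroup.relIndex_mul_index hM.le
  have h4 : M.index ≡ 1 [MOD m] := by
    have h5 : H.relIndex M * M.index ≡ 1 * M.index [MOD m] := h1.mul_right _
    rw [h3, one_mul] at h5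
    exact h5.symm.trans h2
  have hi : H.relIndex M ≠ 1 := by
    intro h
    exact hM.not_ge (Subgroup.relIndex_eq_one.mp h)
  have hj : M.index ≠ 1 := by
    intro h
    exact hMtop (Subgroup.index_eq_one.mp h)
  have hi0 : H.relIndex M ≠ 0 := fun h => by rw [h, zero_mul] at h3; rw [← h3] at hidx; have : q * (q - 1) ≥ 3 * 2 := Nat.mul_le_mul (by omega) (by omega); omega
  have hj0 : M.index ≠ 0 := fun h => by rw [h, mul_zero] at h3; rw [← h3] at hidx; have : q * (q - 1) ≥ 3 * 2 := Nat.mul_le_mul (by omega) (by omega); omega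
  obtain ⟨α, hα⟩ := (Nat.modEq_iff_dvd' (by omega)).mp h1.symm
  obtain ⟨β, hβ⟩ := (Nat.modEq_iff_dvd' (by omega)).mp h4.symm
  have hα' : H.relIndex M = 1 + α * m := by rw [mul_comm α m, ← hα]; omega
  have hβ' : M.index = 1 + β * m := by rw [mul_comm β m, ← hβ]; omega
  have hα1 : 1 ≤ α := by
    rcases Nat.eq_zero_or_pos α with h | h
    · exfalso; apply hi; rw [hα', h]; simp
    · exact h
  have hβ1 : 1 ≤ β := by
    rcases Nat.eq_zero_or_pos β with h | h
    · exfalso; apply hj; rw [hβ', h]; simp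
    · exact h
  rw [← h3, hα', hβ'] at hidx
  have hpp : IsPrimePow q := by
    obtain ⟨p, hp⟩ := CharP.exists F
    obtain ⟨n, hp', hn⟩ := FiniteField.card F p
    rw [← hF, hn]
    exact hp'.isPrimePow.pow n.2.ne'
  have h15 : q ≠ 15 := by
    rintro rfl
    rw [isPrimePow_nat_iff] at hpp
    obtain ⟨p, k, hp, hk, hpk⟩ := hpp
    have h3 : 3 ∣ p ^ k := by rw [hpk]; norm_num
    have h5 : 5 ∣ p ^ k := by rw [hpk]; norm_num
    have h3' := (Nat.prime_dvd_prime_iff_eq Nat.prime_three hp).mp (Nat.prime_three.dvd_of_dvd_pow h3)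
    have h5' := (Nat.prime_dvd_prime_iff_eq Nat.prime_five hp).mp (Nat.prime_five.dvd_of_dvd_pow h5)
    omega
  have h55 : q ≠ 55 := by
    rintro rfl
    rw [isPrimePow_nat_iff] at hpp
    obtain ⟨p, k, hp, hk, hpk⟩ := hpp
    have h11 : 11 ∣ p ^ k := by rw [hpk]; norm_num
    have h5 : 5 ∣ p ^ k := by rw [hpk]; norm_num
    have h11' := (Nat.prime_dvd_prime_iff_eq (by norm_num) hp).mp
      (Nat.Prime.dvd_of_dvd_pow (by norm_num) h11)
    have h5' := (Nat.prime_dvd_prime_iff_eq Nat.prime_five hp).mp (Nat.prime_five.dvd_of_dvd_pow h5)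
    omega
  rcases Nat.even_or_odd q with he | ho
  · have hg : Nat.gcd 2 (q - 1) = 1 := by
      rw [← Nat.coprime_iff_gcd_eq_one, Nat.coprime_two_left, Nat.odd_iff]
      rw [Nat.even_iff] at he
      omega
    rw [hg, Nat.div_one] at hC
    have hg2 : Nat.gcd 2 (Nat.card C) = 1 := by
      rw [← Nat.coprime_iff_gcd_eq_one, Nat.coprime_two_left, Nat.odd_iff, hC]
      rw [Nat.even_iff] at he
      omega
    rw [hg2, mul_one] at hm'
    exact arith_even q m α β (by omega) hα1 hβ1 hidx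
  · rw [Nat.odd_iff] at ho
    have hg : Nat.gcd 2 (q - 1) = 2 := by
      apply Nat.gcd_eq_left
      omega
    rw [hg] at hC
    have hC2 : 2 * Nat.card C = q + 1 := by rw [hC]; omega
    rcases Nat.even_or_odd (Nat.card C) with hce | hco
    · have hg2 : Nat.gcd 2 (Nat.card C) = 2 := Nat.gcd_eq_left hce.two_dvd
      rw [hg2] at hm'
      rcases arith_odd' q m α β (by omega) hα1 hβ1 hidx with h | h | h
      · exact hq7 h
      · exact h15 h
      · exact h55 h
    · have hg2 : Nat.gcd 2 (Nat.card C) = 1 := by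
        rw [← Nat.coprime_iff_gcd_eq_one, Nat.coprime_two_left]
        exact hco
      rw [hg2, mul_one] at hm'
      exact hq9 (arith_odd q m α β (by omega) hα1 hβ1 hidx)

end Cfsg.Agent.S0811
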