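import Cfsg.Statements.S0812
import Cfsg.Agent.ClassicalGeometry.SplitTorus
import Cfsg.Agent.Lib.Dihedral
-- import your own Cfsg.Agent.* helpers here

set_option autoImplicit false
open Cfsg

namespace Cfsg.Agent.S0812

open Matrix Matrix.SpecialLinearGroup Cfsg.Agent.ClassicalGeometry.SplitTorus

section aux

variable {F : Type*} [Field F]

/-- The centre of `SL₂(F)` consists of monomial matrices. -/
theorem center_le_monomial :
    Subgroup.center (Matrix.SpecialLinearGroup (Fin 2) F) ≤ monomial F := by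
  intro A hA
  rw [Matrix.SpecialLinearGroup.mem_center_iff] at hA
  obtain ⟨r, -, hr⟩ := hA
  left
  rw [← hr]
  constructor
  · simp
  · simp

/-- A diagonal matrix `dg t` is central iff `t ^ 2 = 1`. -/
theorem dg_mem_center_iff (t : Fˣ) :
    dg t ∈ Subgroup.center (Matrix.SpecialLinearGroup (Fin 2) F) ↔ t ^ 2 = 1 := by
  rw [Matrix.SpecialLinearGroup.mem_center_iff]
  constructor
  · rintro ⟨r, -, hr⟩
    have h1 : r = (t : F) := by
      have := congrArg (fun M : Matrix (Fin 2) (Fin 2) F => M 0 0) hr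
      simpa using this
    have h2 : r = ((t⁻¹ : Fˣ) : F) := by
      have := congrArg (fun M : Matrix (Fin 2) (Fin 2) F => M 1 1) hr
      simpa using this
    have h3 : t = t⁻¹ := Units.ext (h1.symm.trans h2)
    rw [sq]
    nth_rewrite 2 [h3]
    exact mul_inv_cancel t
  · intro h
    have h3 : t⁻¹ = t := by
      rw [inv_eq_iff_mul_eq_one, ← sq]
      exact h
    refine ⟨(t : F), ?_, ?_⟩
    · have h4 := congrArg Units.val h
      simpa using h4
    · ext i j
      fin_cases i <;> fin_cases j
      · simp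
      · simp
      · simp
      · simp [h3]

/-- The image of the monomial subgroup in `PSL₂(F)`. -/
def pmono (F : Type*) [Field F] : Subgroup (Matrix.ProjectiveSpecialLinearGroup (Fin 2) F) :=
  (monomial F).map (QuotientGroup.mk' _)

theorem comap_pmono : (pmono F).comap (QuotientGroup.mk' _) = monomial F := by
  unfold pmono
  rw [Subgroup.comap_map_eq, QuotientGroup.ker_mk', sup_eq_left]
  exact center_le_monomial

theorem isCoatom_pmono [Fintype F] (hq : Fintype.card F ∉ ({3, 5, 7, 9, 11} : Finset ℕ)) :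
    IsCoatom (pmono F) := by
  constructor
  · intro h
    have h1 := comap_pmono (F := F)
    rw [h, Subgroup.comap_top] at h1
    apply up_one_not_mem_monomial (F := F)
    rw [← h1]
    exact Subgroup.mem_top _
  · intro K hK
    have h1 : monomial F < K.comap (QuotientGroup.mk' _) := by
      rw [← comap_pmono]
      exact (Subgroup.comap_lt_comap_of_surjective (QuotientGroup.mk'_surjective _)).mpr hK
    have h2 := eq_top_of_monomial_lt hq h1
    have h3 := Subgroup.map_comap_eq_self_of_surjective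
      (QuotientGroup.mk'_surjective (Subgroup.center (Matrix.SpecialLinearGroup (Fin 2) F))) K
    rw [h2] at h3
    rw [← h3]
    exact Subgroup.map_top_of_surjective _ (QuotientGroup.mk'_surjective _)

theorem wl_sq_mem_center :
    wl F * wl F ∈ Subgroup.center (Matrix.SpecialLinearGroup (Fin 2) F) := by
  have h : wl F * wl F = dg (-1 : Fˣ) := by
    apply ext2
    · rw [mul00]; simp
    · rw [mul01]; simp
    · rw [mul10]; simp
    · rw [mul11]; simp
  rw [h, dg_mem_center_iff]
  simp

theorem wl_conj (t : Fˣ) : wl F * dg t * wl F = dg (-1) * (dg t)⁻¹ := by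
  rw [← dg_inv, ← dg_mul]
  apply ext2
  · rw [mul00, mul00, mul01]; simp
  · rw [mul01, mul00, mul01]; simp
  · rw [mul10, mul10, mul11]; simp
  · rw [mul11, mul10, mul11]; simp

theorem orderOf_mk_dg (t : Fˣ) :
    orderOf (QuotientGroup.mk' (Subgroup.center (Matrix.SpecialLinearGroup (Fin 2) F)) (dg t)) =
      orderOf (t ^ 2) := by
  have h : ∀ k : ℕ, (QuotientGroup.mk' (Subgroup.center (Matrix.SpecialLinearGroup (Fin 2) F))
      (dg t)) ^ k = 1 ↔ (t ^ 2) ^ k = 1 := by
    intro k
    rw [← map_pow, show (dg t) ^ k = dg (t ^ k) from ((dgHom F).map_pow t k).symm,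
      ← MonoidHom.mem_ker, QuotientGroup.ker_mk', dg_mem_center_iff, ← pow_mul, ← pow_mul,
      mul_comm]
  apply Nat.dvd_antisymm
  · rw [orderOf_dvd_iff_pow_eq_one, h]
    exact pow_orderOf_eq_one _
  · rw [orderOf_dvd_iff_pow_eq_one, ← h]
    exact pow_orderOf_eq_one _

theorem pmono_eq_closure (t : Fˣ) (ht : ∀ x : Fˣ, x ∈ Subgroup.zpowers t) :
    pmono F = Subgroup.closure {QuotientGroup.mk' _ (dg t), QuotientGroup.mk' _ (wl F)} := by
  have hr : ∀ x : Fˣ, QuotientGroup.mk' (Subgroup.center _) (dg x) ∈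
      Subgroup.closure {QuotientGroup.mk' (Subgroup.center _) (dg t),
        QuotientGroup.mk' (Subgroup.center _) (wl F)} := by
    intro x
    obtain ⟨k, rfl⟩ := ht x
    have h1 : dg (t ^ k) = (dg t) ^ k := (dgHom F).map_zpow t k
    simp only
    rw [h1, map_zpow]
    exact zpow_mem (Subgroup.subset_closure (by simp)) k
  apply le_antisymm
  · rintro _ ⟨A, hA, rfl⟩
    rcases eq_of_mem_monomial hA with ⟨x, rfl⟩ | ⟨x, rfl⟩
    · exact hr x
    · rw [map_mul]
      exact mul_mem (Subgroup.subset_closure (by simp)) (hr x)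
  · rw [Subgroup.closure_le]
    rintro x (rfl | hx)
    · exact Subgroup.mem_map_of_mem _ (dg_mem_monomial t)
    · rw [Set.mem_singleton_iff] at hx
      subst hx
      exact Subgroup.mem_map_of_mem _ wl_mem_monomial

theorem nonempty_mulEquiv_pmono [Fintype F] {q : ℕ} (hF : Fintype.card F = q) :
    Nonempty (pmono F ≃* DihedralGroup ((q - 1) / Nat.gcd 2 (q - 1))) := by
  obtain ⟨t, ht⟩ := IsCyclic.exists_generator (α := Fˣ)
  have hord : orderOf t = q - 1 := by
    rw [orderOf_eq_card_of_forall_mem_zpowers ht, Nat.card_units, Nat.card_eq_fintype_card, hF]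
  have hord2 : orderOf (QuotientGroup.mk' (Subgroup.center (Matrix.SpecialLinearGroup (Fin 2) F))
      (dg t)) = (q - 1) / Nat.gcd 2 (q - 1) := by
    rw [orderOf_mk_dg, orderOf_pow, hord, Nat.gcd_comm]
  rw [pmono_eq_closure t ht]
  refine Cfsg.Agent.Lib.Dihedral.nonempty_mulEquiv_closure _ _ hord2 ?_ ?_ ?_
  · rw [← map_mul, ← MonoidHom.mem_ker, QuotientGroup.ker_mk']
    exact wl_sq_mem_center
  · rw [← map_mul, ← map_mul, wl_conj, map_mul, map_inv]
    have h1 : QuotientGroup.mk' (Subgroup.center (Matrix.SpecialLinearGroup (Fin 2) F))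
        (dg (-1)) = 1 := by
      rw [← MonoidHom.mem_ker, QuotientGroup.ker_mk', dg_mem_center_iff]
      simp
    rw [h1, one_mul]
  · rintro ⟨k, hk⟩
    have h1 : (QuotientGroup.mk' (Subgroup.center (Matrix.SpecialLinearGroup (Fin 2) F)))
        ((wl F) * (dg t ^ k)⁻¹) = 1 := by
      rw [map_mul, map_inv, map_zpow]
      simp only at hk
      rw [hk, mul_inv_cancel]
    rw [← MonoidHom.mem_ker, QuotientGroup.ker_mk'] at h1
    have h2 : (dg t) ^ k = dg (t ^ k) := ((dgHom F).map_zpow t k).symm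
    rw [h2, ← dg_inv, Matrix.SpecialLinearGroup.mem_center_iff] at h1
    obtain ⟨r, -, hr⟩ := h1
    have h3 := congrArg (fun M : Matrix (Fin 2) (Fin 2) F => M 0 1) hr
    have h4 : (wl F * dg (t ^ k)⁻¹) 0 1 = 0 := by
      rw [← h3]
      simp
    rw [mul01, wl00, wl01, zero_mul, zero_add, one_mul, dg11] at h4
    exact (Units.ne_zero _) h4

end aux

/-- For q ∉ {2, 3, 5, 7, 9, 11}, PSL_2(q) has a maximal subgroup isomorphic to the dihedral group of order 2(q − 1)/d, d = gcd(2, q − 1). -/
theorem result {F : Type*} [Field F] [Fintype F] {q : ℕ} (hF : Fintype.card F = q) (hq : q ∉ ({2, 3, 5, 7, 9, 11} : Finset ℕ)) : ∃ H : Subgroup (Matrix.ProjectiveSpecialLinearGroup (Fin 2) F), IsCoatom H ∧ Nonempty (H ≃* DihedralGroup ((q - 1) / Nat.gcd 2 (q - 1))) := by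
  refine ⟨pmono F, isCoatom_pmono ?_, nonempty_mulEquiv_pmono hF⟩
  rw [hF]
  intro h
  apply hq
  simp only [Finset.mem_insert, Finset.mem_singleton] at h ⊢
  tauto

end Cfsg.Agent.S0812
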