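import Cfsg.Statements.S1323
import Mathlib.GroupTheory.SpecificGroups.Alternating.Simple

set_option autoImplicit false
open Cfsg

namespace Cfsg.Agent.S1323

open Equiv Equiv.Perm Subgroup

/-- A group isomorphic to an alternating group of degree at least five is quasisimple. -/
theorem isQuasisimple_of_mulEquiv_alternating {α : Type*} [Fintype α] [DecidableEq α]
    (hα : 5 ≤ Nat.card α) {H : Type*} [Group H] (e : alternatingGroup α ≃* H) :
    IsQuasisimple H := by
  have hs : IsSimpleGroup (alternatingGroup α) := alternatingGroup.isSimpleGroup hα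
  have hp : Group.IsPerfect (alternatingGroup α) :=
    ⟨commutator_alternatingGroup_eq_top hα⟩
  have hpH : Group.IsPerfect H := Group.IsPerfect.ofSurjective (f := e.toMonoidHom) e.surjective
  have hc : Subgroup.center (alternatingGroup α) = ⊥ := alternatingGroup.center_eq_bot (by omega)
  have hcH : Subgroup.center H = ⊥ := by
    rw [eq_bot_iff]
    intro z hz
    have : e.symm z ∈ Subgroup.center (alternatingGroup α) := by
      rw [Subgroup.mem_center_iff] at hz ⊢
      intro g
      have := hz (e g)
      have h2 := congrArg e.symm this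
      simpa using h2
    rw [hc, Subgroup.mem_bot] at this
    rw [Subgroup.mem_bot]
    simpa using this
  refine ⟨hpH, ?_⟩
  have hsH : IsSimpleGroup H := e.symm.isSimpleGroup
  have e2 : H ⧸ Subgroup.center H ≃* H :=
    (QuotientGroup.quotientMulEquivOfEq hcH).trans QuotientGroup.quotientBot
  exact e2.isSimpleGroup

section main

variable {n : ℕ}

/-- the first four points -/
def F (n : ℕ) : Finset (Fin n) := Finset.univ.filter (fun x => x.val < 4)

theorem mem_F {x : Fin n} : x ∈ F n ↔ x.val < 4 := by
  simp [F]

theorem card_F (h4 : 4 ≤ n) : (F n).card = 4 := by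
  have : F n = Finset.univ.image (fun i : Fin 4 => Fin.castLE h4 i) := by
    ext x
    simp only [mem_F, Finset.mem_image, Finset.mem_univ, true_and]
    constructor
    · intro h
      exact ⟨⟨x.val, h⟩, by ext; rfl⟩
    · rintro ⟨i, rfl⟩
      exact i.isLt
  rw [this, Finset.card_image_of_injective _ (Fin.castLE_injective h4)]
  simp

theorem mem_iInf (h4 : 4 ≤ n) (g : alternatingGroup (Fin n)) :
    g ∈ (⨅ i : Fin 4, MulAction.stabilizer ↥(alternatingGroup (Fin n))
      (Fin.castLE h4 i : Fin n)) ↔ ∀ x ∈ F n, (g : Perm (Fin n)) x = x := by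
  rw [Subgroup.mem_iInf]
  constructor
  · intro h x hx
    rw [mem_F] at hx
    have := h ⟨x.val, hx⟩
    rw [MulAction.mem_stabilizer_iff] at this
    exact this
  · intro h i
    rw [MulAction.mem_stabilizer_iff]
    exact h _ (by rw [mem_F]; exact i.isLt)

theorem mem_iInf_iff_support (h4 : 4 ≤ n) (g : alternatingGroup (Fin n)) :
    g ∈ (⨅ i : Fin 4, MulAction.stabilizer ↥(alternatingGroup (Fin n))
      (Fin.castLE h4 i : Fin n)) ↔ (g : Perm (Fin n)).support ⊆ (F n)ᶜ := by
  rw [mem_iInf]
  constructor
  · intro h x hx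
    rw [Finset.mem_compl]
    intro hF
    rw [mem_support] at hx
    exact hx (h x hF)
  · intro h x hx
    by_contra hne
    have := h (mem_support.mpr hne)
    rw [Finset.mem_compl] at this
    exact this hx

theorem iInf_eq_range (h4 : 4 ≤ n) :
    (⨅ i : Fin 4, MulAction.stabilizer ↥(alternatingGroup (Fin n))
      (Fin.castLE h4 i : Fin n)) = (alternatingGroup.ofSubtype (F n)ᶜ).range := by
  ext g
  rw [mem_iInf_iff_support, alternatingGroup.mem_range_ofSubtype_iff]

end main

theorem exists_two {n : ℕ} (h4 : 4 ≤ n) (hn : 9 ≤ n) (x w : Fin n) :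
    ∃ y z : Fin n, y ∉ F n ∧ z ∉ F n ∧ y ≠ x ∧ z ≠ x ∧ y ≠ w ∧ z ≠ w ∧ y ≠ z := by
  have hc : ((F n) ∪ {x, w}).card ≤ 6 := by
    refine (Finset.card_union_le _ _).trans ?_
    rw [card_F h4]
    have := Finset.card_le_two (a := x) (b := w)
    omega
  have hc2 : 1 < ((F n) ∪ {x, w})ᶜ.card := by
    rw [Finset.card_compl, Fintype.card_fin]
    omega
  obtain ⟨y, hy, z, hz, hyz⟩ := Finset.one_lt_card.mp hc2
  simp only [Finset.mem_compl, Finset.mem_union, Finset.mem_insert, Finset.mem_singleton,
    not_or] at hy hz
  exact ⟨y, z, hy.1, hz.1, hy.2.1, hz.2.1, hy.2.2, hz.2.2, hyz⟩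

/-- the centralizer of the stabilizer of the four points -/
theorem mem_centralizer {n : ℕ} (h4 : 4 ≤ n) (hn : 9 ≤ n) (g : alternatingGroup (Fin n)) :
    g ∈ Subgroup.centralizer ((⨅ i : Fin 4, MulAction.stabilizer ↥(alternatingGroup (Fin n))
      (Fin.castLE h4 i : Fin n) : Subgroup (alternatingGroup (Fin n))) : Set (alternatingGroup (Fin n)))
      ↔ (g : Perm (Fin n)).support ⊆ F n := by
  rw [Subgroup.mem_centralizer_iff]
  constructor
  · intro h x hx
    by_contra hxF
    rw [mem_support] at hx
    obtain ⟨y, z, hyF, hzF, hyx, hzx, hyw, hzw, hyz⟩ := exists_two h4 hn x ((g : Perm (Fin n)) x)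
    have hsup : (swap x y * swap y z) ∈ alternatingGroup (Fin n) := by
      rw [mem_alternatingGroup, Perm.sign_mul, sign_swap hyx.symm, sign_swap hyz]
      rfl
    have hc := h ⟨swap x y * swap y z, hsup⟩ (by
      rw [SetLike.mem_coe, mem_iInf]
      intro a ha
      have hax : a ≠ x := fun e => hxF (e ▸ ha)
      have hay : a ≠ y := fun e => hyF (e ▸ ha)
      have haz : a ≠ z := fun e => hzF (e ▸ ha)
      show swap x y (swap y z a) = a
      rw [swap_apply_of_ne_of_ne hay haz, swap_apply_of_ne_of_ne hax hay])
    have hc' := congrArg (fun k : alternatingGroup (Fin n) => (k : Perm (Fin n)) x) hc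
    simp only [Subgroup.coe_mul, Perm.mul_apply] at hc'
    rw [swap_apply_of_ne_of_ne hyw.symm hzw.symm,
      swap_apply_of_ne_of_ne hx hyw.symm, swap_apply_of_ne_of_ne hyx.symm hzx.symm,
      swap_apply_left] at hc'
    exact hyx ((g : Perm (Fin n)).injective hc').symm
  · intro h k hk
    rw [SetLike.mem_coe, mem_iInf_iff_support] at hk
    have hd : Disjoint (k : Perm (Fin n)) (g : Perm (Fin n)) := by
      rw [disjoint_iff_disjoint_support]
      exact Finset.disjoint_of_subset_left hk (Finset.disjoint_of_subset_right h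
        (Finset.disjoint_left.mpr (fun a ha => by simpa using ha)))
    exact Subtype.ext hd.commute.eq

theorem centralizer_eq {n : ℕ} (h4 : 4 ≤ n) (hn : 9 ≤ n) :
    Subgroup.centralizer ((⨅ i : Fin 4, MulAction.stabilizer ↥(alternatingGroup (Fin n))
      (Fin.castLE h4 i : Fin n) : Subgroup (alternatingGroup (Fin n))) : Set (alternatingGroup (Fin n)))
      = (alternatingGroup.ofSubtype (F n)).range := by
  ext g
  rw [mem_centralizer h4 hn, alternatingGroup.mem_range_ofSubtype_iff]

section ptw

open scoped Pointwise

theorem map_conj_range {n : ℕ} (s : Finset (Fin n)) (g : alternatingGroup (Fin n)) :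
    (alternatingGroup.ofSubtype s).range.map (MulAut.conj g).toMonoidHom =
      (alternatingGroup.ofSubtype (g • s)).range :=
  alternatingGroup.conj_smul_range_ofSubtype s g

theorem subset_of_range_le {n : ℕ} {s t : Finset (Fin n)} (hs : 3 ≤ s.card)
    (h : (alternatingGroup.ofSubtype s).range ≤ (alternatingGroup.ofSubtype t).range) : s ⊆ t := by
  intro x hx
  have h2 : 1 < (s.erase x).card := by
    rw [Finset.card_erase_of_mem hx]
    omega
  obtain ⟨y, hy, z, hz, hyz⟩ := Finset.one_lt_card.mp h2
  rw [Finset.mem_erase] at hy hz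
  have hsup : (swap x y * swap y z) ∈ alternatingGroup (Fin n) := by
    rw [mem_alternatingGroup, Perm.sign_mul, sign_swap hy.1.symm, sign_swap hyz]
    rfl
  have h3 : (⟨swap x y * swap y z, hsup⟩ : alternatingGroup (Fin n)) ∈
      (alternatingGroup.ofSubtype s).range := by
    rw [alternatingGroup.mem_range_ofSubtype_iff]
    intro a ha
    by_contra has
    rw [mem_support] at ha
    apply ha
    have hax : a ≠ x := fun e => has (e ▸ hx)
    have hay : a ≠ y := fun e => has (e ▸ hy.2)
    have haz : a ≠ z := fun e => has (e ▸ hz.2)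
    show swap x y (swap y z a) = a
    rw [swap_apply_of_ne_of_ne hay haz, swap_apply_of_ne_of_ne hax hay]
  have h4 := h h3
  rw [alternatingGroup.mem_range_ofSubtype_iff] at h4
  apply h4
  rw [mem_support]
  show swap x y (swap y z x) ≠ x
  rw [swap_apply_of_ne_of_ne hy.1.symm hz.1.symm, swap_apply_left]
  exact hy.1

theorem mem_normalizer_range_iff {n : ℕ} {s : Finset (Fin n)} (hs : 3 ≤ s.card)
    (g : alternatingGroup (Fin n)) :
    g ∈ Subgroup.normalizer ((alternatingGroup.ofSubtype s).range : Set (alternatingGroup (Fin n)))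
      ↔ g • s = s := by
  rw [Subgroup.mem_normalizer_iff_map_conj_eq]
  change (alternatingGroup.ofSubtype s).range.map (MulAut.conj g).toMonoidHom = _ ↔ _
  rw [map_conj_range]
  constructor
  · intro h
    apply Finset.Subset.antisymm
    · exact subset_of_range_le (by simpa using hs) h.le
    · exact subset_of_range_le hs h.ge
  · intro h
    rw [h]

theorem card_alternatingGroup_odd {α : Type*} [Fintype α] [DecidableEq α] (h : Nat.card α ≤ 3) :
    Odd (Nat.card (alternatingGroup α)) := by
  rcases subsingleton_or_nontrivial α with hα | hα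
  · rw [Nat.card_unique]
    exact odd_one
  · rw [nat_card_alternatingGroup]
    have : 1 < Nat.card α := Finite.one_lt_card
    interval_cases (Nat.card α)
    · decide
    · decide

theorem card_range {n : ℕ} (s : Finset (Fin n)) :
    Nat.card (alternatingGroup.ofSubtype s).range = Nat.card (alternatingGroup s) :=
  (Nat.card_congr
    (MonoidHom.ofInjective (f := alternatingGroup.ofSubtype s)
      alternatingGroup.ofSubtype_injective).toEquiv).symm

theorem smul_compl {n : ℕ} (g : alternatingGroup (Fin n)) (s : Finset (Fin n)) :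
    g • sᶜ = (g • s)ᶜ := by
  ext x
  rw [Finset.mem_compl, ← Finset.inv_smul_mem_iff, ← Finset.inv_smul_mem_iff, Finset.mem_compl]

/-- For n ≥ 9, the subgroup of the alternating group on Fin n fixing each of the points 0, 1, 2, 3 is a standard subgroup. -/
theorem result (n : ℕ) (h4 : 4 ≤ n) (hn : 9 ≤ n) : Cfsg.IsStandardSubgroup (⨅ i : Fin 4, MulAction.stabilizer ↥(alternatingGroup (Fin n)) (Fin.castLE h4 i : Fin n)) := by
  have hcF := card_F h4
  have hcFc : (F n)ᶜ.card = n - 4 := by
    rw [Finset.card_compl, Fintype.card_fin, hcF]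
  unfold Cfsg.IsStandardSubgroup
  rw [centralizer_eq h4 hn, iInf_eq_range h4]
  have hcardC : Nat.card (alternatingGroup.ofSubtype (F n)).range = 12 := by
    rw [card_range]
    have : Nontrivial (F n) := by
      rw [← Finite.one_lt_card_iff_nontrivial]
      simp [hcF]
    rw [nat_card_alternatingGroup]
    simp [hcF, Nat.factorial]
  have hcardL : 12 < Nat.card (alternatingGroup.ofSubtype (F n)ᶜ).range := by
    rw [card_range]
    have hc : Nat.card ((F n)ᶜ : Finset (Fin n)) = n - 4 := by
      rw [Nat.card_eq_fintype_card, Fintype.card_coe, hcFc]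
    have : Nontrivial ((F n)ᶜ : Finset (Fin n)) := by
      rw [← Finite.one_lt_card_iff_nontrivial, hc]
      omega
    rw [nat_card_alternatingGroup, hc]
    have h5 : Nat.factorial 5 ≤ Nat.factorial (n - 4) := Nat.factorial_le (by omega)
    have : Nat.factorial 5 = 120 := by decide
    omega
  refine ⟨?_, ?_, ?_, ?_⟩
  · refine isQuasisimple_of_mulEquiv_alternating (α := ((F n)ᶜ : Finset (Fin n))) ?_
      (MonoidHom.ofInjective (f := alternatingGroup.ofSubtype (F n)ᶜ)
        alternatingGroup.ofSubtype_injective)
    rw [Nat.card_eq_fintype_card, Fintype.card_coe, hcFc]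
    omega
  · refine ⟨by rw [hcardC]; decide, ?_⟩
    intro g hg
    rw [mem_normalizer_range_iff (by omega)] at hg
    rw [map_conj_range]
    have : (alternatingGroup.ofSubtype (F n)).range ⊓ (alternatingGroup.ofSubtype (g • F n)).range
        = (alternatingGroup.ofSubtype (F n ∩ g • F n)).range := by
      ext x
      rw [Subgroup.mem_inf]
      simp only [alternatingGroup.mem_range_ofSubtype_iff]
      exact Finset.subset_inter_iff.symm
    rw [this, card_range]
    apply card_alternatingGroup_odd
    rw [Nat.card_eq_fintype_card, Fintype.card_coe]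
    have hlt : (F n ∩ g • F n).card < (F n).card := by
      apply Finset.card_lt_card
      refine ⟨Finset.inter_subset_left, ?_⟩
      intro hsub
      apply hg
      symm
      apply Finset.eq_of_subset_of_card_le
      · exact hsub.trans Finset.inter_subset_right
      · simp
    omega
  · intro g _ hbot
    rw [Subgroup.commutator_comm, Subgroup.commutator_eq_bot_iff_le_centralizer] at hbot
    rw [← iInf_eq_range h4, centralizer_eq h4 hn, iInf_eq_range h4] at hbot
    have h1 := Subgroup.card_le_of_le hbot
    rw [hcardC, Subgroup.card_map_of_injective (MulAut.conj g).injective] at h1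
    omega
  · ext g
    rw [mem_normalizer_range_iff (by omega), mem_normalizer_range_iff (by omega)]
    rw [smul_compl, compl_inj_iff]

end ptw

end Cfsg.Agent.S1323
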