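import Cfsg.Statements.S0130
import Mathlib
import Cfsg.Agent.Lib.NormalAbelian

set_option autoImplicit false
open Cfsg

namespace Cfsg.Agent.S0130

open Cfsg.Agent.Lib.NormalAbelian

/-- If `c = u⁻¹ x⁻¹ u x` type correction: `u * x = x * u * c` with `c` commuting with `x` and `u`,
then `(x * u) ^ k = x ^ k * u ^ k * c ^ (k.choose 2)`. -/
theorem mul_pow_of_central {G : Type*} [Group G] {x u c : G} (h : u * x = x * u * c)
    (hcx : Commute c x) (hcu : Commute c u) (k : ℕ) :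
    (x * u) ^ k = x ^ k * u ^ k * c ^ (k.choose 2) := by
  have hux : ∀ k : ℕ, u ^ k * x = x * u ^ k * c ^ k := by
    intro k
    induction k with
    | zero => simp
    | succ k ih =>
      have h1 : Commute (c ^ k) u := hcu.pow_left k
      calc u ^ (k + 1) * x = u * (u ^ k * x) := by rw [pow_succ']; group
        _ = u * (x * u ^ k * c ^ k) := by rw [ih]
        _ = (u * x) * u ^ k * c ^ k := by group
        _ = x * u * (c * u ^ k) * c ^ k := by rw [h]; group
        _ = x * u * (u ^ k * c) * c ^ k := by rw [(hcu.pow_right k).eq]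
        _ = x * (u * u ^ k) * (c * c ^ k) := by group
        _ = x * u ^ (k + 1) * c ^ (k + 1) := by rw [← pow_succ', ← pow_succ']
  induction k with
  | zero => simp
  | succ k ih =>
    have hcc : Commute (c ^ (k.choose 2)) x := hcx.pow_left _
    have hcc' : Commute (c ^ (k.choose 2)) u := hcu.pow_left _
    have hck : Commute (c ^ k) u := hcu.pow_left _
    calc (x * u) ^ (k + 1) = (x * u) ^ k * (x * u) := pow_succ _ _
      _ = x ^ k * u ^ k * c ^ (k.choose 2) * (x * u) := by rw [ih]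
      _ = x ^ k * u ^ k * (c ^ (k.choose 2) * x) * u := by group
      _ = x ^ k * u ^ k * (x * c ^ (k.choose 2)) * u := by rw [hcc.eq]
      _ = x ^ k * (u ^ k * x) * (c ^ (k.choose 2) * u) := by group
      _ = x ^ k * (x * u ^ k * c ^ k) * (u * c ^ (k.choose 2)) := by rw [hux, hcc'.eq]
      _ = (x ^ k * x) * u ^ k * (c ^ k * u) * c ^ (k.choose 2) := by group
      _ = (x ^ k * x) * u ^ k * (u * c ^ k) * c ^ (k.choose 2) := by rw [hck.eq]
      _ = (x ^ k * x) * (u ^ k * u) * (c ^ k * c ^ (k.choose 2)) := by group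
      _ = x ^ (k + 1) * u ^ (k + 1) * c ^ ((k + 1).choose 2) := by
          rw [← pow_succ, ← pow_succ, ← pow_add, Nat.choose_succ_succ' k 1, Nat.choose_one_right]

theorem dvd_choose_two {p : ℕ} (hp : p.Prime) {n : ℕ} (hn0 : n ≠ 0) (hn : p ^ n ≠ 2) :
    p ∣ (p ^ n).choose 2 := by
  obtain ⟨m, rfl⟩ := Nat.exists_eq_succ_of_ne_zero hn0
  rw [Nat.choose_two_right]
  rcases hp.eq_two_or_odd' with rfl | hodd
  · -- p = 2, m ≥ 1
    have hm : m ≠ 0 := by rintro rfl; simp at hn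
    obtain ⟨l, rfl⟩ := Nat.exists_eq_succ_of_ne_zero hm
    have : 2 ^ (l.succ.succ) * (2 ^ (l.succ.succ) - 1) = 2 * (2 * (2 ^ l * (2 ^ (l.succ.succ) - 1))) := by
      simp only [Nat.succ_eq_add_one]; ring
    rw [this, Nat.mul_div_cancel_left _ (by norm_num)]
    exact Dvd.intro _ rfl
  · have h2 : 2 ∣ (p ^ (m.succ) - 1) := by
      have : Odd (p ^ m.succ) := hodd.pow
      obtain ⟨r, hr⟩ := this
      rw [hr]; simp
    obtain ⟨r, hr⟩ := h2
    rw [hr]
    have : p ^ m.succ * (2 * r) = 2 * (p * (p ^ m * r)) := by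
      rw [Nat.succ_eq_add_one]; ring
    rw [this, Nat.mul_div_cancel_left _ (by norm_num)]
    exact Dvd.intro _ rfl

/-- If A is maximal among the normal abelian subgroups of exponent dividing p^n of a p-group (p^n ≠ 2), then A contains every element of order dividing p^n in its centralizer. -/
theorem result {G : Type*} [Group G] [Finite G] {p : ℕ} [Fact p.Prime] (hG : IsPGroup p G) (n : ℕ) (hn : p ^ n ≠ 2) (A : Subgroup G) [A.Normal] (hA : IsMulCommutative A) (hAe : ∀ a ∈ A, a ^ p ^ n = 1) (hmax : ∀ B : Subgroup G, B.Normal → IsMulCommutative B → (∀ b ∈ B, b ^ p ^ n = 1) → A ≤ B → B = A) (x : G) (hx : x ∈ Subgroup.centralizer (A : Set G)) (hxn : x ^ p ^ n = 1) : x ∈ A := by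
  classical
  have hp : p.Prime := Fact.out
  rcases Nat.eq_zero_or_pos n with rfl | hn0
  · simp only [pow_zero, pow_one] at hxn
    rw [hxn]; exact A.one_mem
  by_contra hxA
  have hnil : Group.IsNilpotent G := hG.isNilpotent
  set C := Subgroup.centralizer (A : Set G) with hC
  have hCn : C.Normal := by rw [hC]; infer_instance
  have hAC : A ≤ C := Subgroup.le_centralizer_iff_isMulCommutative.mpr hA
  -- the lower central series
  let L : ℕ → Subgroup G := fun i => Subgroup.lowerCentralSeries (⊤ : Subgroup G) i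
  obtain ⟨N, hN⟩ : ∃ N, L N = ⊥ := Subgroup.nilpotent_iff_lowerCentralSeries.mp hnil
  have hLcomm : ∀ i, ∀ y ∈ L i, ∀ g : G, y * g * y⁻¹ * g⁻¹ ∈ L (i + 1) := by
    intro i y hy g
    have := Subgroup.commutator_mem_commutator (H₁ := L i) (H₂ := (⊤ : Subgroup G)) hy (Subgroup.mem_top g)
    exact this
  -- a last i with an element outside A
  have hex : ∃ i, ∀ y ∈ L i, y ∈ C → y ^ p ^ n = 1 → y ∈ A := by
    refine ⟨N, fun y hy _ _ => ?_⟩
    rw [hN, Subgroup.mem_bot] at hy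
    rw [hy]; exact A.one_mem
  obtain ⟨i, hi, hi'⟩ : ∃ i, (∀ y ∈ L (i + 1), y ∈ C → y ^ p ^ n = 1 → y ∈ A) ∧
      ¬ (∀ y ∈ L i, y ∈ C → y ^ p ^ n = 1 → y ∈ A) := by
    have h0 : Nat.find hex ≠ 0 := by
      intro h0
      have := Nat.find_spec hex
      rw [h0] at this
      exact hxA (this x (by simp [L]) hx hxn)
    obtain ⟨i, hi⟩ := Nat.exists_eq_succ_of_ne_zero h0
    refine ⟨i, ?_, Nat.find_min hex (by omega)⟩
    have := Nat.find_spec hex
    rwa [hi] at this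
  push Not at hi'
  obtain ⟨y, hyL, hyC, hyn, hyA⟩ := hi'
  -- choose z a power of y with z ∉ A and z ^ p ∈ A
  have hex2 : ∃ k, y ^ p ^ k ∈ A := ⟨n, by rw [hyn]; exact A.one_mem⟩
  obtain ⟨z, hzL, hzC, hzn, hzA, hzp⟩ : ∃ z, z ∈ L i ∧ z ∈ C ∧ z ^ p ^ n = 1 ∧ z ∉ A ∧ z ^ p ∈ A := by
    have h0 : Nat.find hex2 ≠ 0 := by
      intro h0
      have := Nat.find_spec hex2
      rw [h0] at this
      exact hyA (by simpa using this)
    obtain ⟨k, hk⟩ := Nat.exists_eq_succ_of_ne_zero h0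
    refine ⟨y ^ p ^ k, (L i).pow_mem hyL _, C.pow_mem hyC _, ?_, Nat.find_min hex2 (by omega), ?_⟩
    · rw [← pow_mul, mul_comm, pow_mul, hyn, one_pow]
    · have := Nat.find_spec hex2
      rw [hk] at this
      rwa [← pow_mul, ← pow_succ]
  -- key: for all g, z⁻¹ g⁻¹ z g ∈ A
  have hkey : ∀ g : G, z⁻¹ * (z⁻¹ * (g⁻¹ * z * g))⁻¹ * z * (z⁻¹ * (g⁻¹ * z * g)) ∈ A →
      z⁻¹ * (g⁻¹ * z * g) ∈ A := by
    intro g hg
    set u := z⁻¹ * (g⁻¹ * z * g) with hu
    -- c = z⁻¹ u⁻¹ z u , so that z * u = u * z * c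
    have hgz : g⁻¹ * z * g ∈ C := by
      have := hCn.conj_mem z hzC g⁻¹
      simpa using this
    have huC : u ∈ C := C.mul_mem (C.inv_mem hzC) hgz
    have huL : u ∈ L (i + 1) := by
      have h1 := hLcomm i z⁻¹ ((L i).inv_mem hzL) g⁻¹
      have h2 : z⁻¹ * g⁻¹ * z⁻¹⁻¹ * g⁻¹⁻¹ = u := by rw [hu]; group
      rwa [h2] at h1
    set c := z⁻¹ * u⁻¹ * z * u with hc
    have hcC : ∀ w ∈ C, Commute c w := by
      intro w hw
      exact (Subgroup.mem_centralizer_iff.mp hw c hg)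
    have h1 : u * z = z * u * c⁻¹ := by rw [hc]; group
    have hcz : Commute c⁻¹ z := (hcC z hzC).inv_left
    have hcu : Commute c⁻¹ u := (hcC u huC).inv_left
    have hcp : c⁻¹ ^ p = 1 := by
      -- u * z^p = z^p * u * c⁻¹^p and z^p commutes with u
      have hux : ∀ k : ℕ, u * z ^ k = z ^ k * u * c⁻¹ ^ k := by
        intro k
        induction k with
        | zero => simp
        | succ k ih =>
          calc u * z ^ (k + 1) = (u * z ^ k) * z := by rw [pow_succ]; group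
            _ = z ^ k * u * (c⁻¹ ^ k * z) := by rw [ih]; group
            _ = z ^ k * u * (z * c⁻¹ ^ k) := by rw [(hcz.pow_left k).eq]
            _ = z ^ k * (u * z) * c⁻¹ ^ k := by group
            _ = z ^ k * (z * u * c⁻¹) * c⁻¹ ^ k := by rw [h1]
            _ = (z ^ k * z) * u * (c⁻¹ * c⁻¹ ^ k) := by group
            _ = z ^ (k + 1) * u * c⁻¹ ^ (k + 1) := by rw [← pow_succ, ← pow_succ']
      have h2 := hux p
      have h3 : z ^ p * u = u * z ^ p := Subgroup.mem_centralizer_iff.mp huC _ hzp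
      rw [← h3] at h2
      exact (mul_eq_left.mp h2.symm)
    have h4 := mul_pow_of_central h1 hcz hcu (p ^ n)
    have h5 : z * u = g⁻¹ * z * g := by rw [hu]; group
    have h6 : (g⁻¹ * z * g) ^ p ^ n = 1 := by
      have : g⁻¹ * z * g = g⁻¹ * z * g⁻¹⁻¹ := by rw [inv_inv]
      rw [this, conj_pow, hzn]; simp
    obtain ⟨r, hr⟩ := dvd_choose_two hp (by omega : n ≠ 0) hn
    rw [h5, h6, hzn, one_mul, hr, pow_mul, hcp, one_pow, mul_one] at h4
    exact hi u huL huC h4.symm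
  have hall : ∀ k, ∀ j, j + k = N → ∀ g ∈ L j, z⁻¹ * (g⁻¹ * z * g) ∈ A := by
    intro k
    induction k with
    | zero =>
      intro j hj g hg
      have hjN : j = N := by omega
      rw [hjN, hN, Subgroup.mem_bot] at hg
      rw [hg]; simp
    | succ k ih =>
      intro j hj g hg
      apply hkey
      -- h := z⁻¹ * (g⁻¹ * z * g) ∈ L (j+1)
      have hg1 : z⁻¹ * (g⁻¹ * z * g) ∈ L (j + 1) := by
        have h1 := hLcomm j g⁻¹ ((L j).inv_mem hg) z⁻¹
        have h2 := (L (j + 1)).inv_mem h1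
        have h3 : (g⁻¹ * z⁻¹ * g⁻¹⁻¹ * z⁻¹⁻¹)⁻¹ = z⁻¹ * (g⁻¹ * z * g) := by group
        rwa [h3] at h2
      have h4 := ih (j + 1) (by omega) _ hg1
      have h5 : z⁻¹ * (z⁻¹ * (g⁻¹ * z * g))⁻¹ * z * (z⁻¹ * (g⁻¹ * z * g)) =
        z⁻¹ * ((z⁻¹ * (g⁻¹ * z * g))⁻¹ * z * (z⁻¹ * (g⁻¹ * z * g))) := by group
      rw [h5]; exact h4
  have hz : ∀ g : G, z⁻¹ * (g⁻¹ * z * g) ∈ A := fun g => hall N 0 (by omega) g (by simp [L])
  have hz' : ∀ g : G, z * g * z⁻¹ * g⁻¹ ∈ A := by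
    intro g
    have h1 := hz g⁻¹
    -- z⁻¹ (g z g⁻¹) ∈ A, its conj: z (z⁻¹ g z g⁻¹) z⁻¹ = g z g⁻¹ z⁻¹
    have h2 := A.inv_mem ((inferInstance : A.Normal).conj_mem _ h1 z)
    have h3 : (z * (z⁻¹ * (g⁻¹⁻¹ * z * g⁻¹)) * z⁻¹)⁻¹ = z * g * z⁻¹ * g⁻¹ := by group
    rwa [h3] at h2
  obtain ⟨hB1, hB2⟩ := sup_zpowers_normal_abelian inferInstance hA hzC hz'
  have hB3 : ∀ b ∈ A ⊔ Subgroup.zpowers z, b ^ p ^ n = 1 := by
    intro b hb
    obtain ⟨a, ha, w, hw, rfl⟩ := Subgroup.mem_sup_of_normal_left.mp hb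
    obtain ⟨k, rfl⟩ := Subgroup.mem_zpowers_iff.mp hw
    have hcomm : Commute a (z ^ k) := by
      have : Commute a z := Subgroup.mem_centralizer_iff.mp hzC a ha
      exact this.zpow_right k
    rw [hcomm.mul_pow, hAe a ha, one_mul, ← zpow_natCast, ← zpow_mul, mul_comm, zpow_mul,
      zpow_natCast, hzn, one_zpow]
  have hB4 := hmax _ hB1 hB2 hB3 le_sup_left
  exact hzA (hB4 ▸ ((le_sup_right : Subgroup.zpowers z ≤ A ⊔ _) (Subgroup.mem_zpowers z)))

end Cfsg.Agent.S0130
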