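import Cfsg.Statements.S0501
import Mathlib
import Cfsg.Agent.Classification.FourGenMain

set_option autoImplicit false
open Cfsg

namespace Cfsg.Agent.S0501

/-- A finite 2-group in which every normal elementary abelian subgroup has order at most 4 has sectional rank at most
4: every quotient of every subgroup has no elementary abelian subgroup of order exceeding 16. -/
theorem result {P : Type*} [Group P] [Finite P] (hP : IsPGroup 2 P)
    (h : ∀ A : Subgroup P, A.Normal → IsMulCommutative A → (∀ a ∈ A, a ^ 2 = 1) → Nat.card A ≤ 4) :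
    Cfsg.SectionalPRankLE 2 4 P := by
  have hE : Cfsg.Agent.Classification.FourGenKey.NoE8 P := by
    intro E hEn hEc hE2
    exact h E hEn ⟨⟨fun a b => Subtype.ext (hEc a.1 a.2 b.1 b.2)⟩⟩ hE2
  intro H N hN B hBc hB2
  let π := QuotientGroup.mk' N
  let H' : Subgroup P := (B.comap π).map H.subtype
  let R : Subgroup P := N.map H.subtype
  have hR : ∀ x ∈ H', x ^ 2 ∈ R := by
    rintro x ⟨y, hy, rfl⟩
    refine ⟨y ^ 2, ?_, by simp⟩
    have h1 : π y ^ 2 = 1 := hB2 _ hy
    have h2 : π (y ^ 2) = 1 := by rw [map_pow, h1]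
    exact (QuotientGroup.eq_one_iff (N := N) (y ^ 2)).1 h2
  have h1 := Cfsg.Agent.Classification.FourGenMain.card_le hP hE H' R hR
  have h2 : Nat.card H' = Nat.card (B.comap π) :=
    (Nat.card_congr ((B.comap π).equivMapOfInjective _ H.subtype_injective).toEquiv).symm
  have h3 : Nat.card R = Nat.card N :=
    (Nat.card_congr (N.equivMapOfInjective _ H.subtype_injective).toEquiv).symm
  have h4 : Nat.card (B.comap π) = Nat.card N * Nat.card B :=
    Cfsg.Agent.Classification.FourGenMain.card_comap_mk N B
  have hpos : 0 < Nat.card N := Nat.card_pos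
  rw [h2, h3, h4, mul_comm (16 : ℕ)] at h1
  have := Nat.le_of_mul_le_mul_left h1 hpos
  simpa using this

end Cfsg.Agent.S0501
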