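import Cfsg.Statements.S1232
import Cfsg.Agent.TwoFusion.HaradaSixteen
import Cfsg.Agent.TwoFusion.HaradaEightSelf
import Cfsg.Agent.TwoFusion.HaradaEightTwo
import Cfsg.Agent.TwoFusion.HaradaEightFour
import Cfsg.Agent.S0501
-- import your own Cfsg.Agent.* helpers here

set_option autoImplicit false
open Cfsg

namespace Cfsg.Agent.S1232

open Subgroup
open Cfsg.Agent.TwoFusion.SecRank
open Cfsg.Agent.TwoFusion.HaradaSetup

theorem main_case {S : Type*} [Group S] [Finite S] {A E : Subgroup S} (h : Setup A E)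
    (hE4 : 4 < Nat.card E)
    (hmax : ∀ F : Subgroup S, E ≤ F → (∀ g : S, ∀ f ∈ F, g * f * g⁻¹ ∈ F) →
      (∀ a ∈ F, ∀ b ∈ F, a * b = b * a) → (∀ a ∈ F, a * a = 1) → Nat.card F ≤ Nat.card E)
    (K : Subgroup S) : GenLE 4 K := by
  have hfact : Fact (Nat.Prime 2) := ⟨Nat.prime_two⟩
  have h16 := Cfsg.Agent.TwoFusion.HaradaSixteen.card_E_le h
  obtain ⟨n, hn⟩ := IsPGroup.iff_card.1 (h.pgroup.to_subgroup E)
  have hn34 : n = 3 ∨ n = 4 := by
    rw [hn] at hE4 h16
    have h3 : 2 < n := by
      by_contra hcon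
      push Not at hcon
      have : 2 ^ n ≤ 2 ^ 2 := Nat.pow_le_pow_right (by norm_num) hcon
      omega
    have h4 : n < 5 := by
      by_contra hcon
      push Not at hcon
      have : 2 ^ 5 ≤ 2 ^ n := Nat.pow_le_pow_right (by norm_num) hcon
      omega
    omega
  rcases hn34 with rfl | rfl
  · have hE8 : Nat.card E = 8 := by rw [hn]; norm_num
    rw [hE8] at hmax
    by_cases hC : ∀ g : S, (∀ e ∈ E, g * e = e * g) → g ∈ E
    · exact Cfsg.Agent.TwoFusion.HaradaEightSelf.case8_self h.pgroup E h.E_conj h.E_comm h.E_sq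
        hE8 hC K
    · push Not at hC
      by_cases h2 : Nat.card ↥(A ⊓ E) ≤ 2
      · exact Cfsg.Agent.TwoFusion.HaradaEightTwo.case8_two h hE8 hmax h2 hC K
      · have hdvd : Nat.card ↥(A ⊓ E) ∣ 8 := by
          rw [← hE8]
          exact card_dvd_of_le inf_le_right
        have h48 : Nat.card ↥(A ⊓ E) = 4 ∨ Nat.card ↥(A ⊓ E) = 8 := by
          have h3 : Nat.card ↥(A ⊓ E) ∈ Nat.divisors 8 := by
            rw [Nat.mem_divisors]; exact ⟨hdvd, by norm_num⟩
          have h9 : Nat.divisors 8 = {1, 2, 4, 8} := by decide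
          rw [h9] at h3
          simp only [Finset.mem_insert, Finset.mem_singleton] at h3
          omega
        rcases h48 with h4 | h8
        · exact Cfsg.Agent.TwoFusion.HaradaEightFour.case8_four h hE8 hmax h4 hC K
        · exfalso
          have hA : A ⊓ E = A := eq_of_le_of_card_ge inf_le_left (by rw [h8, h.A_card])
          have hE' : A ⊓ E = E := eq_of_le_of_card_ge inf_le_right (by rw [h8, hE8])
          have hAE : A = E := hA.symm.trans hE'
          obtain ⟨g, hg, hgE⟩ := hC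
          apply hgE
          rw [← hAE]
          apply h.A_cent
          rw [hAE]
          exact hg
  · have hE16 : Nat.card E = 16 := by rw [hn]; norm_num
    exact Cfsg.Agent.TwoFusion.HaradaSixteen.case16 h hE16 K

/-- Let S be a finite 2-group containing an elementary abelian subgroup A of order 8 with C_S(A) = A. Then every section of S has 2-rank at most 4. -/
theorem result {S : Type*} [Group S] [Finite S] (hS : IsPGroup 2 S) (A : Subgroup S) (hA : Cfsg.IsElementaryAbelian 2 A) (hA8 : Nat.card A = 8) (hC : Subgroup.centralizer (A : Set S) = A) : Cfsg.SectionalPRankLE 2 4 S := by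
  by_cases hno : ∀ F : Subgroup S, F.Normal → IsMulCommutative F → (∀ a ∈ F, a ^ 2 = 1) →
      Nat.card F ≤ 4
  · exact Cfsg.Agent.S0501.result hS hno
  · push Not at hno
    obtain ⟨F₀, hF₀n, hF₀c, hF₀2, hF₀4⟩ := hno
    -- a normal elementary abelian subgroup of largest order
    let P : Subgroup S → Prop := fun F => F.Normal ∧ (∀ a ∈ F, ∀ b ∈ F, a * b = b * a) ∧
      (∀ a ∈ F, a * a = 1)
    have hP₀ : P F₀ := ⟨hF₀n, fun a ha b hb =>
      congrArg Subtype.val (hF₀c.is_comm.comm (⟨a, ha⟩ : F₀) ⟨b, hb⟩),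
      fun a ha => by rw [← pow_two]; exact hF₀2 a ha⟩
    have hfin : Finite {F : Subgroup S // P F} := inferInstance
    have hne : Nonempty {F : Subgroup S // P F} := ⟨⟨F₀, hP₀⟩⟩
    obtain ⟨⟨E, hE⟩, hEmax⟩ := Finite.exists_max
      (fun F : {F : Subgroup S // P F} => Nat.card F.1)
    obtain ⟨hEn, hEc, hE2⟩ := hE
    have hE4 : 4 < Nat.card E := lt_of_lt_of_le hF₀4 (hEmax ⟨F₀, hP₀⟩)
    have hsetup : Setup A E := by
      refine ⟨hS, ?_, ?_, hA8, ?_, ?_, hEc, hE2⟩
      · intro a ha b hb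
        exact congrArg Subtype.val (hA.1.is_comm.comm (⟨a, ha⟩ : A) ⟨b, hb⟩)
      · intro a ha
        rw [← pow_two]
        exact hA.2 a ha
      · intro g hg
        rw [← hC, mem_centralizer_iff]
        exact fun a ha => (hg a ha).symm
      · exact fun g e he => hEn.conj_mem e he g
    apply sectionalPRankLE_of_genLE
    intro K
    refine main_case hsetup hE4 ?_ K
    intro F _ hFn hFc hF2
    exact hEmax ⟨F, ⟨fun f hf g => hFn g f hf⟩, hFc, hF2⟩

end Cfsg.Agent.S1232
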