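import Cfsg.Statements.S1235
import Mathlib
import Cfsg.Agent.TwoFusion.SelfCentSixteen
import Cfsg.Agent.TwoFusion.QDStructure
-- import your own Cfsg.Agent.* helpers here

set_option autoImplicit false
set_option linter.unusedSectionVars false
open Cfsg

namespace Cfsg.Agent.S1235

open Subgroup
open Cfsg.Agent.TwoFusion.SectionalRank
open Cfsg.Agent.TwoFusion.SelfCentSixteen

/-- The property of dihedral (nonabelian) and quasi-dihedral 2-groups that is used: the centre is
contained in `{1, z}` and there is a cyclic subgroup of index at most two. -/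
def Good (D : Type*) [Group D] : Prop :=
  (∃ z : D, z * z = 1 ∧ ∀ d : D, (∀ e : D, d * e = e * d) → d = 1 ∨ d = z) ∧
    ∃ c : D, Nat.card D ≤ 2 * orderOf c

theorem Good.of_equiv {D E : Type*} [Group D] [Group E] (e : D ≃* E) (h : Good E) : Good D := by
  obtain ⟨⟨z, hz, hc⟩, c, hcc⟩ := h
  refine ⟨⟨e.symm z, ?_, ?_⟩, e.symm c, ?_⟩
  · rw [← map_mul, hz, map_one]
  · intro d hd
    rcases hc (e d) (fun f => by
      have := congrArg e (hd (e.symm f))
      simpa using this) with h1 | h1
    · left
      rw [← map_one e] at h1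
      exact e.injective h1
    · right
      rw [← h1, e.symm_apply_apply]
  · rw [Nat.card_congr e.toEquiv]
    have : orderOf (e.symm c) = orderOf c := by
      exact MulEquiv.orderOf_eq e.symm c
    rw [this]
    exact hcc

theorem good_quasiDihedral {D : Type*} [Group D] [Finite D] (h : Cfsg.IsQuasiDihedral D) :
    Good D := by
  obtain ⟨n, u, y, hc⟩ := Cfsg.Agent.TwoFusion.QDBasic.exists_qdcoord h
  refine ⟨⟨u (2 ^ (n - 1)), ?_, ?_⟩, u 1, ?_⟩
  · rw [hc.u_mul, ← hc.u_zero]
    congr 1
    have := Cfsg.Agent.TwoFusion.QDBasic.two_mul_half n hc.one_le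
    rw [← two_mul]
    exact this
  · intro d hd
    have h1 : d ∈ Subgroup.center D := by
      rw [Subgroup.mem_center_iff]
      intro g
      exact (hd g).symm
    rcases (Cfsg.Agent.TwoFusion.QDStructure.mem_center_iff hc d).mp h1 with h2 | h2
    · left; rw [h2, hc.u_zero]
    · right; exact h2
  · rw [hc.card, Cfsg.Agent.TwoFusion.QDStructure.orderOf_u_one hc]
    exact le_of_eq (by ring)

theorem good_dihedral {m : ℕ} (hm : 3 ≤ m) (h2 : Even m) : Good (DihedralGroup m) := by
  obtain ⟨k, hk⟩ := h2
  have : NeZero m := ⟨by omega⟩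
  refine ⟨⟨DihedralGroup.r (k : ZMod m), ?_, ?_⟩, DihedralGroup.r 1, ?_⟩
  · rw [DihedralGroup.r_mul_r, ← Nat.cast_add, ← hk, ZMod.natCast_self]
    rfl
  · intro d hd
    rcases d with i | i
    · have h1 := hd (DihedralGroup.sr 0)
      rw [DihedralGroup.r_mul_sr, DihedralGroup.sr_mul_r] at h1
      have h2 : (0 : ZMod m) - i = 0 + i := DihedralGroup.sr.inj h1
      have h3 : i + i = 0 := by linear_combination -h2
      have h4 : ((i.val + i.val : ℕ) : ZMod m) = 0 := by
        push_cast
        rw [ZMod.natCast_zmod_val]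
        exact h3
      rw [ZMod.natCast_eq_zero_iff] at h4
      obtain ⟨q, hq⟩ := h4
      have h5 : i.val < m := ZMod.val_lt i
      have h6 : q < 2 := by
        by_contra hcon
        have : m * 2 ≤ m * q := Nat.mul_le_mul_left m (by omega)
        omega
      interval_cases q
      · left
        have h7 : i.val = 0 := by omega
        rw [ZMod.val_eq_zero] at h7
        rw [h7]
        rfl
      · right
        have h7 : i.val = k := by omega
        rw [← h7, ZMod.natCast_zmod_val]
    · exfalso
      have h1 := hd (DihedralGroup.r 1)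
      rw [DihedralGroup.sr_mul_r, DihedralGroup.r_mul_sr] at h1
      have h2 : i + 1 = i - 1 := DihedralGroup.sr.inj h1
      have h3 : ((2 : ℕ) : ZMod m) = 0 := by push_cast; linear_combination h2
      rw [ZMod.natCast_eq_zero_iff] at h3
      have := Nat.le_of_dvd (by norm_num) h3
      omega
  · rw [DihedralGroup.nat_card, DihedralGroup.orderOf_r_one]

section

variable {G : Type*} [Group G] [Finite G]

/-- Every element of an internal direct product is a product. -/
theorem exists_mul {D B T : Subgroup G} (h : Cfsg.IsInternalDirectProduct D B T) {t : G}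
    (ht : t ∈ T) : ∃ d ∈ D, ∃ b ∈ B, d * b = t := by
  obtain ⟨-, -, hcomm, -, hsup⟩ := h
  let P : Subgroup G :=
    { carrier := {t | ∃ d ∈ D, ∃ b ∈ B, d * b = t}
      one_mem' := ⟨1, D.one_mem, 1, B.one_mem, by simp⟩
      mul_mem' := by
        rintro _ _ ⟨b, hb, z, hz, rfl⟩ ⟨b', hb', z', hz', rfl⟩
        refine ⟨b * b', D.mul_mem hb hb', z * z', B.mul_mem hz hz', ?_⟩
        have := hcomm b' hb' z hz
        calc b * b' * (z * z') = b * (b' * z) * z' := by group
          _ = b * (z * b') * z' := by rw [this]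
          _ = b * z * (b' * z') := by group
      inv_mem' := by
        rintro _ ⟨b, hb, z, hz, rfl⟩
        refine ⟨b⁻¹, D.inv_mem hb, z⁻¹, B.inv_mem hz, ?_⟩
        have := hcomm b⁻¹ (D.inv_mem hb) z⁻¹ (B.inv_mem hz)
        rw [mul_inv_rev, this] }
  have hle : D ⊔ B ≤ P := sup_le (fun b hb => ⟨b, hb, 1, B.one_mem, by simp⟩)
    (fun z hz => ⟨1, D.one_mem, z, hz, by simp⟩)
  rw [← hsup] at ht
  exact hle ht

theorem klein_sq {B : Subgroup G} (hB : IsKleinFour B) {b : G} (hb : b ∈ B) : b * b = 1 := by
  have h1 : Monoid.exponent B = 2 := hB.exponent_two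
  have h2 := Monoid.pow_exponent_eq_one (⟨b, hb⟩ : B)
  rw [h1] at h2
  have h3 := congrArg Subtype.val h2
  rw [← pow_two]
  simpa using h3

/-- Case of a good (nonabelian) `D`, in the 2-group. -/
theorem case_good (hG : IsPGroup 2 G) (T D B : Subgroup G)
    (hprod : Cfsg.IsInternalDirectProduct D B T) (hB : IsKleinFour B) (hD : Good D)
    (hc : ∀ b ∈ B, b ≠ 1 → ∀ s : G, s * b = b * s → s ∈ T) : Cfsg.SectionalPRankLE 2 4 G := by
  have hBcard : Nat.card B = 4 := hB.card_four
  have hBsq : ∀ b ∈ B, b * b = 1 := fun b hb => klein_sq hB hb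
  have hBinv : ∀ b ∈ B, b⁻¹ = b := fun b hb => inv_eq_of_mul_eq_one_left (hBsq b hb)
  have hBcomm : ∀ b ∈ B, ∀ c ∈ B, b * c = c * b := by
    intro b hb c hc'
    have := hBinv _ (B.mul_mem hb hc')
    rw [mul_inv_rev, hBinv b hb, hBinv c hc'] at this
    exact this.symm
  have hprod' := hprod
  obtain ⟨hDT, hBT, hcomm, hdisj, hsup⟩ := hprod
  obtain ⟨⟨z, hz, hzc⟩, c, hcc⟩ := hD
  -- the centre of `T`
  set W : Subgroup G := T ⊓ centralizer (T : Set G) with hW
  have hWmem : ∀ w ∈ W, ∃ b ∈ B, w = b ∨ w = z * b := by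
    intro w hw
    obtain ⟨d, hd, b, hb, rfl⟩ := exists_mul hprod' hw.1
    have h1 : ∀ e : D, (⟨d, hd⟩ : D) * e = e * ⟨d, hd⟩ := by
      intro e
      apply Subtype.ext
      have h2 := (mem_centralizer_iff.mp hw.2) e (hDT e.2)
      have h3 := hcomm e e.2 b hb
      change d * (e : G) = e * d
      have h4 : (e : G) * d * b = d * e * b := by
        calc (e : G) * d * b = e * (d * b) := by group
          _ = (d * b) * e := h2
          _ = d * (b * e) := by group
          _ = d * (e * b) := by rw [h3]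
          _ = d * e * b := by group
      exact (mul_right_cancel h4).symm
    rcases hzc _ h1 with h2 | h2
    · refine ⟨b, hb, Or.inl ?_⟩
      have : d = 1 := congrArg Subtype.val h2
      rw [this, one_mul]
    · refine ⟨b, hb, Or.inr ?_⟩
      have : d = z := congrArg Subtype.val h2
      rw [this]
  have hzz : (z : G) * z = 1 := congrArg Subtype.val hz
  have hzB : ∀ b ∈ B, (z : G) * b = b * z := fun b hb => hcomm z z.2 b hb
  have hWsq : ∀ w ∈ W, w * w = 1 := by
    intro w hw
    obtain ⟨b, hb, h1 | h1⟩ := hWmem w hw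
    · rw [h1, hBsq b hb]
    · rw [h1]
      calc (z : G) * b * (z * b) = z * (b * z) * b := by group
        _ = z * (z * b) * b := by rw [hzB b hb]
        _ = (z * z) * (b * b) := by group
        _ = 1 := by rw [hzz, hBsq b hb, one_mul]
  have hWcomm : ∀ v ∈ W, ∀ w ∈ W, v * w = w * v := fun v hv w hw =>
    (mem_centralizer_iff.mp hw.2) v hv.1
  have hBW : B ≤ W := by
    intro b hb
    refine ⟨hBT hb, mem_centralizer_iff.mpr ?_⟩
    intro t ht
    obtain ⟨d, hd, b', hb', rfl⟩ := exists_mul hprod' ht
    calc d * b' * b = d * (b' * b) := by group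
      _ = d * (b * b') := by rw [hBcomm b' hb' b hb]
      _ = (d * b) * b' := by group
      _ = (b * d) * b' := by rw [hcomm d hd b hb]
      _ = b * (d * b') := by group
  have hWcard : Nat.card W ≤ 8 := by
    have hinj : Nat.card W ≤ Nat.card (Bool × B) := by
      classical
      let f : Bool × B → G := fun p => if p.1 then (z : G) * p.2 else p.2
      have hsub : (W : Set G) ⊆ Set.range f := by
        intro w hw
        obtain ⟨b, hb, h1 | h1⟩ := hWmem w hw
        · exact ⟨(false, ⟨b, hb⟩), by simp [f, h1]⟩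
        · exact ⟨(true, ⟨b, hb⟩), by simp [f, h1]⟩
      have h1 : Nat.card W ≤ Nat.card (Set.range f) :=
        Nat.card_mono (Set.finite_range f) hsub
      have h2 : Nat.card (Set.range f) ≤ Nat.card (Bool × B) :=
        Nat.card_le_card_of_surjective (Set.rangeFactorization f) Set.rangeFactorization_surjective
      exact h1.trans h2
    have h8 : Nat.card (Bool × B) = 8 := by
      rw [Nat.card_prod, hBcard, Nat.card_eq_fintype_card (α := Bool), Fintype.card_bool]
    rw [h8] at hinj
    exact hinj
  -- `T` is self-normalizing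
  have hTtop : T = ⊤ := by
    have hnil : Group.IsNilpotent G := hG.isNilpotent
    have hnc : ∀ H : Subgroup G, normalizer (H : Set G) = H → H = ⊤ :=
      normalizerCondition_iff_only_full_group_self_normalizing.mp
        Group.normalizerCondition_of_isNilpotent
    apply hnc
    by_contra hne
    have hlt : T < normalizer (T : Set G) :=
      lt_of_le_of_ne Subgroup.le_normalizer (Ne.symm hne)
    -- an element `n ∈ N(T)` outside `T` with `n ^ 2 ∈ T`
    have hex : ∃ n ∈ normalizer (T : Set G), n ∉ T ∧ n * n ∈ T := by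
      obtain ⟨g, hg, hgT⟩ := SetLike.exists_of_lt hlt
      obtain ⟨k, hk⟩ := hG g
      have hex2 : ∃ j, g ^ 2 ^ j ∈ T := ⟨k, by rw [hk]; exact T.one_mem⟩
      classical
      have h1 := Nat.find_spec hex2
      have h2 : Nat.find hex2 ≠ 0 := by
        intro h3
        rw [h3] at h1
        simp at h1
        exact hgT h1
      obtain ⟨j, hj⟩ := Nat.exists_eq_succ_of_ne_zero h2
      have h3 := Nat.find_min hex2 (m := j) (by omega)
      refine ⟨g ^ 2 ^ j, Subgroup.pow_mem _ hg _, h3, ?_⟩
      rw [hj] at h1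
      rw [← pow_add, ← two_mul, ← pow_succ']
      exact h1
    obtain ⟨n, hn, hnT, hn2⟩ := hex
    have hconjT : ∀ t, t ∈ T ↔ n * t * n⁻¹ ∈ T := Subgroup.mem_normalizer_iff.mp hn
    have hconjW : ∀ w ∈ W, n * w * n⁻¹ ∈ W := by
      intro w hw
      refine ⟨(hconjT w).mp hw.1, mem_centralizer_iff.mpr ?_⟩
      intro t ht
      have h1 : n⁻¹ * t * n ∈ T := by
        rw [hconjT]
        have : n * (n⁻¹ * t * n) * n⁻¹ = t := by group
        rwa [this]
      have h2 := (mem_centralizer_iff.mp hw.2) _ h1
      calc t * (n * w * n⁻¹) = n * ((n⁻¹ * t * n) * w) * n⁻¹ := by group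
        _ = n * (w * (n⁻¹ * t * n)) * n⁻¹ := by rw [h2]
        _ = n * w * n⁻¹ * t := by group
    set C : Subgroup G := W ⊓ centralizer ({n} : Set G) with hC
    have hCW : Nat.card C * 4 ≤ Nat.card W := by
      have h1 := card_mul_le (show C ≤ W from inf_le_left) hBW
      have h2 : C ⊓ B = ⊥ := by
        rw [eq_bot_iff]
        intro b hb
        rw [Subgroup.mem_bot]
        by_contra hb1
        apply hnT
        apply hc b hb.2 hb1
        exact (mem_centralizer_singleton_iff.mp hb.1.2).symm
      rw [h2, Subgroup.card_bot, hBcard, mul_one] at h1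
      exact h1
    have hCcard : Nat.card C ≤ 2 := by omega
    have h3 := card_le_mul_of_comm W C C n (fun x hx hxn => ⟨hx, mem_centralizer_singleton_iff.mpr hxn⟩)
      (by
        intro w hw
        have h4 : w * n * w⁻¹ * n⁻¹ = w * (n * w * n⁻¹) := by
          rw [inv_eq_of_mul_eq_one_left (hWsq w hw)]; group
        rw [h4]
        refine ⟨W.mul_mem hw (hconjW w hw), mem_centralizer_singleton_iff.mpr ?_⟩
        have h5 : n * n * w = w * (n * n) := (mem_centralizer_iff.mp hw.2) _ hn2
        have h6 := hWcomm w hw _ (hconjW w hw)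
        calc w * (n * w * n⁻¹) * n = (n * w * n⁻¹) * w * n := by rw [h6]
          _ = (n * w * n⁻¹) * (w * (n * n)) * n⁻¹ := by group
          _ = (n * w * n⁻¹) * (n * n * w) * n⁻¹ := by rw [h5]
          _ = n * (w * (n * w * n⁻¹)) := by group)
    have h5 : Nat.card C * Nat.card C ≤ 2 * 2 := Nat.mul_le_mul hCcard hCcard
    have h6 : Nat.card C ≤ 1 := by omega
    have h7 : Nat.card C * Nat.card C ≤ 1 * 1 := Nat.mul_le_mul h6 h6
    have h8 := card_le_of_le hBW
    rw [hBcard] at h8
    omega
  -- the cyclic subgroup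
  have hcard : Nat.card G ≤ 8 * orderOf (c : G) := by
    have h1 : Nat.card T = Nat.card G := by rw [hTtop, Subgroup.card_top]
    have h2 : Nat.card T ≤ Nat.card (D × B) := by
      let f : D × B → T := fun p => ⟨p.1 * p.2, T.mul_mem (hDT p.1.2) (hBT p.2.2)⟩
      refine Nat.card_le_card_of_surjective f ?_
      rintro ⟨t, ht⟩
      obtain ⟨d, hd, b, hb, h3⟩ := exists_mul hprod' ht
      exact ⟨(⟨d, hd⟩, ⟨b, hb⟩), Subtype.ext h3⟩
    rw [Nat.card_prod, hBcard] at h2
    rw [Subgroup.orderOf_coe]
    omega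
  have hidx : (zpowers (c : G)).index ≤ 2 ^ 3 := by
    have := (zpowers (c : G)).card_mul_index
    rw [Nat.card_zpowers] at this
    by_contra hcon
    push Not at hcon
    have h1 : orderOf (c : G) * 9 ≤ orderOf (c : G) * (zpowers (c : G)).index :=
      Nat.mul_le_mul_left _ (by omega)
    have h2 := orderOf_pos (c : G)
    omega
  exact sectionalPRankLE_of_cyclic (p := 2) (k := 3) (by norm_num) (zpowers (c : G)) hidx

/-- Let G be a finite group, x an involution and T ≤ G a Sylow 2-subgroup of C_G(x) (T ≤ C_G(x) with |C_G(x) : T| odd) which is the internal direct product of a subgroup D that is dihedral (of order ≥ 4) or quasi-dihedral and a Klein four-subgroup B. Suppose that for every involution b ∈ B, T ≤ C_G(b) with |C_G(b) : T| odd. Then every section of G has 2-rank at most 4. -/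
theorem result {G : Type*} [Group G] [Finite G] (x : G) (hx : orderOf x = 2) (T D B : Subgroup G) (hT : IsPGroup 2 T) (hTx : T ≤ Subgroup.centralizer ({x} : Set G)) (hTxi : Odd (T.relIndex (Subgroup.centralizer ({x} : Set G)))) (hprod : Cfsg.IsInternalDirectProduct D B T) (hD : (∃ m : ℕ, 2 ≤ m ∧ Nonempty (D ≃* DihedralGroup m)) ∨ Cfsg.IsQuasiDihedral D) (hB : IsKleinFour B) (hTb : ∀ b ∈ B, orderOf b = 2 → T ≤ Subgroup.centralizer ({b} : Set G) ∧ Odd (T.relIndex (Subgroup.centralizer ({b} : Set G)))) : Cfsg.SectionalPRankLE 2 4 G := by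
  obtain ⟨S, hS⟩ := hT.exists_le_sylow
  apply sectionalPRankLE_of_sylow S
  have hSp : IsPGroup 2 (S : Subgroup G) := S.isPGroup'
  have hBT : B ≤ T := hprod.2.1
  have hDT : D ≤ T := hprod.1
  have hBsq : ∀ b ∈ B, b * b = 1 := fun b hb => klein_sq hB hb
  -- centralizers in `S`
  have hcent : ∀ b ∈ B, b ≠ 1 → ∀ s ∈ (S : Subgroup G), s * b = b * s → s ∈ T := by
    intro b hb hb1 s hs hsb
    have hob : orderOf b = 2 := orderOf_eq_prime (by rw [pow_two, hBsq b hb]) hb1
    obtain ⟨h1, h2⟩ := hTb b hb hob
    set C : Subgroup G := centralizer ({b} : Set G) with hC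
    have h3 : T ≤ (S : Subgroup G) ⊓ C := le_inf hS h1
    have h4 : T.relIndex ((S : Subgroup G) ⊓ C) ∣ T.relIndex C :=
      Dvd.intro _ (Subgroup.relIndex_mul_relIndex T _ C h3 inf_le_right)
    have h5 : Odd (T.relIndex ((S : Subgroup G) ⊓ C)) := Odd.of_dvd_nat h2 h4
    obtain ⟨k, hk⟩ : ∃ k, T.relIndex ((S : Subgroup G) ⊓ C) = 2 ^ k := by
      have h6 : IsPGroup 2 ((S : Subgroup G) ⊓ C : Subgroup G) := hSp.to_le inf_le_left
      obtain ⟨n, hn⟩ := IsPGroup.iff_card.mp h6
      have h7 : T.relIndex ((S : Subgroup G) ⊓ C) ∣ 2 ^ n := by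
        rw [← hn]; exact Subgroup.relIndex_dvd_card _ _
      obtain ⟨k, -, hk⟩ := (Nat.dvd_prime_pow Nat.prime_two).mp h7
      exact ⟨k, hk⟩
    have h6 : k = 0 := by
      by_contra hk0
      rw [hk] at h5
      exact (Nat.not_odd_iff_even.mpr ((Nat.even_pow.mpr ⟨even_two, hk0⟩))) h5
    rw [h6, pow_zero, Subgroup.relIndex_eq_one] at hk
    exact hk ⟨hs, mem_centralizer_singleton_iff.mpr hsb⟩
  -- pass to the group `S`
  set ι := (S : Subgroup G).subtype with hι
  set T' : Subgroup (S : Subgroup G) := T.subgroupOf S with hT'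
  set B' : Subgroup (S : Subgroup G) := B.subgroupOf S with hB'
  set D' : Subgroup (S : Subgroup G) := D.subgroupOf S with hD'
  have eB : B' ≃* B := Subgroup.subgroupOfEquivOfLe (hBT.trans hS)
  have eD : D' ≃* D := Subgroup.subgroupOfEquivOfLe (hDT.trans hS)
  have eT : T' ≃* T := Subgroup.subgroupOfEquivOfLe hS
  have hB'4 : IsKleinFour B' := by
    refine ⟨?_, ?_⟩
    · rw [Nat.card_congr eB.toEquiv]; exact hB.card_four
    · rw [Monoid.exponent_eq_of_mulEquiv eB]; exact hB.exponent_two
  have hprod' : Cfsg.IsInternalDirectProduct D' B' T' := by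
    obtain ⟨h1, h2, h3, h4, h5⟩ := hprod
    refine ⟨Subgroup.comap_mono h1, Subgroup.comap_mono h2, ?_, ?_, ?_⟩
    · intro a ha b hb
      exact Subtype.ext (h3 a ha b hb)
    · rw [hD', hB', Subgroup.subgroupOf, Subgroup.subgroupOf, ← Subgroup.comap_inf, h4]
      exact Subgroup.bot_subgroupOf (S : Subgroup G)
    · rw [hD', hB', hT', ← h5, Subgroup.subgroupOf_sup (h1.trans hS) (h2.trans hS)]
  have hcent' : ∀ b ∈ B', b ≠ 1 → ∀ s : (S : Subgroup G), s * b = b * s → s ∈ T' := by
    intro b hb hb1 s hs
    exact hcent b hb (fun h => hb1 (Subtype.ext h)) s s.2 (congrArg Subtype.val hs)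
  have hgood : Good D' → Cfsg.SectionalPRankLE 2 4 (S : Subgroup G) := fun hg =>
    case_good hSp T' D' B' hprod' hB'4 hg hcent'
  rcases hD with ⟨m, hm, ⟨e⟩⟩ | hD
  · have hDcard : Nat.card D = 2 * m := by rw [Nat.card_congr e.toEquiv, DihedralGroup.nat_card]
    rcases Nat.lt_or_ge 2 m with hm3 | hm3
    · apply hgood
      apply Good.of_equiv (eD.trans e)
      apply good_dihedral hm3
      -- `m` is even, as `2 m` is a power of two
      have h1 : IsPGroup 2 D := hT.to_le hDT
      obtain ⟨n, hn⟩ := IsPGroup.iff_card.mp h1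
      rw [hDcard] at hn
      have h2 : 2 ≤ n := by
        by_contra hcon
        have : n = 0 ∨ n = 1 := by omega
        rcases this with rfl | rfl
        · omega
        · omega
      obtain ⟨k, rfl⟩ := Nat.exists_eq_add_of_le h2
      refine ⟨2 ^ k, ?_⟩
      have : 2 ^ (2 + k) = 2 * (2 ^ k + 2 ^ k) := by ring
      omega
    · have hm2 : m = 2 := by omega
      subst hm2
      have hBcard : Nat.card B = 4 := hB.card_four
      -- `T` is elementary abelian of order 16
      have hDcomm : ∀ a ∈ D, ∀ b ∈ D, a * b = b * a := by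
        intro a ha b hb
        have h1 : ∀ u v : DihedralGroup 2, u * v = v * u := by decide
        have h2 : (⟨a, ha⟩ : D) * ⟨b, hb⟩ = ⟨b, hb⟩ * ⟨a, ha⟩ := by
          apply e.injective
          rw [map_mul, map_mul, h1]
        exact congrArg Subtype.val h2
      have hDsq : ∀ a ∈ D, a * a = 1 := by
        intro a ha
        have h1 : ∀ u : DihedralGroup 2, u * u = 1 := by decide
        have h2 : (⟨a, ha⟩ : D) * ⟨a, ha⟩ = 1 := by
          apply e.injective
          rw [map_mul, map_one, h1]
        exact congrArg Subtype.val h2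
      have hBinv : ∀ b ∈ B, b⁻¹ = b := fun b hb => inv_eq_of_mul_eq_one_left (hBsq b hb)
      have hBcomm : ∀ b ∈ B, ∀ c ∈ B, b * c = c * b := by
        intro b hb c hc'
        have := hBinv _ (B.mul_mem hb hc')
        rw [mul_inv_rev, hBinv b hb, hBinv c hc'] at this
        exact this.symm
      have hDB : ∀ a ∈ D, ∀ b ∈ B, a * b = b * a := hprod.2.2.1
      have hTcard : Nat.card T = 16 := by
        have h1 : Function.Bijective (fun p : D × B => (⟨p.1 * p.2, T.mul_mem (hDT p.1.2)
            (hBT p.2.2)⟩ : T)) := by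
          constructor
          · rintro ⟨⟨d, hd⟩, ⟨b, hb⟩⟩ ⟨⟨d', hd'⟩, ⟨b', hb'⟩⟩ h2
            have h3 : d * b = d' * b' := congrArg Subtype.val h2
            have h4 : d'⁻¹ * d = b' * b⁻¹ := by
              rw [eq_mul_inv_iff_mul_eq, mul_assoc, h3]; group
            have h5 : d'⁻¹ * d ∈ D ⊓ B :=
              ⟨D.mul_mem (D.inv_mem hd') hd, by rw [h4]; exact B.mul_mem hb' (B.inv_mem hb)⟩
            rw [hprod.2.2.2.1, Subgroup.mem_bot] at h5
            have h6 : d = d' := by
              rw [inv_mul_eq_one] at h5; exact h5.symm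
            subst h6
            have h7 : b = b' := mul_left_cancel h3
            subst h7
            rfl
          · rintro ⟨t, ht⟩
            obtain ⟨d, hd, b, hb, h3⟩ := exists_mul hprod ht
            exact ⟨(⟨d, hd⟩, ⟨b, hb⟩), Subtype.ext h3⟩
        rw [← Nat.card_congr (Equiv.ofBijective _ h1), Nat.card_prod, hDcard, hBcard]
      have hE : IsE16 T' := by
        refine ⟨by rw [Nat.card_congr eT.toEquiv, hTcard], ?_, ?_⟩
        · intro a ha b hb
          apply Subtype.ext
          obtain ⟨d, hd, b1, hb1, h1⟩ := exists_mul hprod (show (a : G) ∈ T from ha)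
          obtain ⟨d', hd', b2, hb2, h2⟩ := exists_mul hprod (show (b : G) ∈ T from hb)
          change (a : G) * b = b * a
          rw [← h1, ← h2]
          calc d * b1 * (d' * b2) = d * (b1 * d') * b2 := by group
            _ = d * (d' * b1) * b2 := by rw [hDB d' hd' b1 hb1]
            _ = (d * d') * (b1 * b2) := by group
            _ = (d' * d) * (b2 * b1) := by rw [hDcomm d hd d' hd', hBcomm b1 hb1 b2 hb2]
            _ = d' * (d * b2) * b1 := by group
            _ = d' * (b2 * d) * b1 := by rw [hDB d hd b2 hb2]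
            _ = d' * b2 * (d * b1) := by group
        · intro a ha
          apply Subtype.ext
          obtain ⟨d, hd, b1, hb1, h1⟩ := exists_mul hprod (show (a : G) ∈ T from ha)
          change (a : G) * a = 1
          rw [← h1]
          calc d * b1 * (d * b1) = d * (b1 * d) * b1 := by group
            _ = d * (d * b1) * b1 := by rw [hDB d hd b1 hb1]
            _ = (d * d) * (b1 * b1) := by group
            _ = 1 := by rw [hDsq d hd, hBsq b1 hb1, one_mul]
      have hsetup : Setup T' B' := ⟨hE, hprod'.2.1, by rw [Nat.card_congr eB.toEquiv, hBcard],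
        hcent'⟩
      exact hsetup.sectional_le_four hSp
  · apply hgood
    exact Good.of_equiv eD (good_quasiDihedral hD)

end

end Cfsg.Agent.S1235
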