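import Cfsg.Statements.S0454
import Cfsg.Agent.Ly.Setup
import Cfsg.Agent.Ly.Centr
import Cfsg.Agent.SporRec.LyG2.LyEmb

set_option autoImplicit false
open Cfsg

namespace Cfsg.Agent.S0454

open Cfsg.Agent.Ly.Setup Cfsg.Agent.Ly.Cover Cfsg.Agent.Ly.CoverCore Cfsg.Agent.Ly.Mat7 in
theorem card_centralizer_t : Nat.card (Subgroup.centralizer ({Cfsg.Agent.Ly.Setup.t} : Set Hhat)) ≤ 14400 := by
  refine le_trans ?_ (Cfsg.Agent.Ly.Centr.card_centralizer_le (le_of_eq card_Hhat))
  have ht : ((Cfsg.Agent.Ly.Setup.t : Hhat) : GL75) = Cfsg.Agent.Ly.Centr.t := by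
    rw [Cfsg.Agent.Ly.Centr.t_eq]
    rfl
  refine Nat.card_le_card_of_injective
    (fun x : Subgroup.centralizer ({Cfsg.Agent.Ly.Setup.t} : Set Hhat) =>
      (⟨((x : Hhat) : GL75), Subgroup.mem_inf.2 ⟨?_, (x : Hhat).2⟩⟩ :
        (Subgroup.centralizer {Cfsg.Agent.Ly.Centr.t} ⊓ Hhat : Subgroup GL75))) ?_
  · have hx := Subgroup.mem_centralizer_singleton_iff.1 x.2
    rw [Subgroup.mem_centralizer_singleton_iff, ← ht]
    exact congrArg (fun y : Hhat => (y : GL75)) hx
  · intro x y h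
    have h' : ((x : Hhat) : GL75) = ((y : Hhat) : GL75) :=
      congrArg (fun s : (Subgroup.centralizer {Cfsg.Agent.Ly.Centr.t} ⊓ Hhat : Subgroup GL75) => (s : GL75)) h
    exact Subtype.ext (Subtype.ext h')

/-- Existence of the Lyons group: there is a transitive permutation group of degree 8835156, simple of order 51765179004000000, whose point stabiliser is simple of the order of a group of type G2, and which has an involution whose centraliser is a non-split double cover of the alternating group of degree 11. -/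
theorem result : ∃ H : Subgroup (Equiv.Perm (Fin 8835156)), Cfsg.IsLy H ∧ MulAction.IsPretransitive H (Fin 8835156) ∧ Cfsg.IsG2 (MulAction.stabilizer H (0 : Fin 8835156)) ∧ ∃ t : H, orderOf t = 2 ∧ Cfsg.IsNonsplitDoubleCover (Subgroup.centralizer ({t} : Set H)) (alternatingGroup (Fin 11)) := by
  have := Cfsg.Agent.Ly.Setup.finite_ly
  exact Cfsg.Agent.Ly.Final.of_pieces Cfsg.Agent.Ly.Setup.isLy Cfsg.Agent.SporRec.LyG2.LyEmb.H
    Cfsg.Agent.SporRec.LyG2.LyEmb.card_H Cfsg.Agent.SporRec.LyG2.LyEmb.isSimpleGroup_H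
    (Cfsg.Agent.Ly.Setup.card_centralizer_le card_centralizer_t)

end Cfsg.Agent.S0454
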