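import Cfsg.Statements.S0254
import Cfsg.Agent.LieClassical.SmallIso
-- import your own Cfsg.Agent.* helpers here

set_option autoImplicit false
open Cfsg

namespace Cfsg.Agent.S0254

open Matrix Cfsg.Agent.LieClassical.SmallIso

/-- The field with nine elements, as `𝔽₃[i]`. -/
abbrev K9 := QuadraticAlgebra (ZMod 3) (-1) 0

instance k9Fact : Fact (∀ r : ZMod 3, r ^ 2 ≠ -1 + 0 * r) := ⟨by decide⟩

noncomputable instance k9Fintype : Fintype K9 :=
  Fintype.ofEquiv _ (QuadraticAlgebra.equivProd (-1 : ZMod 3) 0).symm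

theorem card_k9 : Fintype.card K9 = 9 := by
  rw [Fintype.card_congr (QuadraticAlgebra.equivProd (-1 : ZMod 3) 0)]
  rfl

/-- Table of six 40-element subsets of `K9 × K9`, permuted by `SL₂(9)`. -/
def tbl : ℕ :=
  0x2cc99c5ca9aa74c6c69cca9a99d165539a58ce34bc9ca6cc5a66ad1cc6acac6696b49668d559334e2d594d5a63938cb9963a554d8d32f8e07e381c71c0

def col (x y : K9) (i : Fin 6) : Bool :=
  tbl.testBit (6 * (27 * x.re.val + 9 * x.im.val + 3 * y.re.val + y.im.val) + i.val)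

def c (v : Fin 2 → K9) (i : Fin 6) : Bool := col (v 0) (v 1) i

theorem c_sep : ∀ i j : Fin 6, (∀ v, c v i = c v j) → i = j := by
  intro i j h
  have h' : ∀ a b d e : ZMod 3, col ⟨a, b⟩ ⟨d, e⟩ i = col ⟨a, b⟩ ⟨d, e⟩ j := by
    intro a b d e
    exact h ![⟨a, b⟩, ⟨d, e⟩]
  revert i j
  decide +kernel

/-- The square root of `-1`. -/
def im9 : K9 := ⟨0, 1⟩

theorem closure_gens : AddSubgroup.closure ({1, im9} : Set K9) = ⊤ := by
  rw [eq_top_iff]
  rintro ⟨x, y⟩ -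
  have h1 : (1 : K9) ∈ AddSubgroup.closure ({1, im9} : Set K9) :=
    AddSubgroup.subset_closure (by simp)
  have h2 : im9 ∈ AddSubgroup.closure ({1, im9} : Set K9) :=
    AddSubgroup.subset_closure (by simp)
  have h3 : (⟨x, y⟩ : K9) = x.val • (1 : K9) + y.val • im9 := by
    revert x y
    decide +kernel
  rw [h3]
  exact add_mem (nsmul_mem h1 _) (nsmul_mem h2 _)

def pU1 : Equiv.Perm (Fin 6) := ⟨![0, 1, 4, 3, 5, 2], ![0, 1, 5, 3, 2, 4], by decide, by decide⟩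
def pUi : Equiv.Perm (Fin 6) := ⟨![3, 0, 2, 1, 4, 5], ![1, 3, 2, 0, 4, 5], by decide, by decide⟩
def pL1 : Equiv.Perm (Fin 6) := ⟨![0, 1, 2, 4, 5, 3], ![0, 1, 2, 5, 3, 4], by decide, by decide⟩
def pLi : Equiv.Perm (Fin 6) := ⟨![1, 2, 0, 3, 4, 5], ![2, 0, 1, 3, 4, 5], by decide, by decide⟩

theorem col_U1 : ∀ a b d e : ZMod 3, ∀ i : Fin 6,
    col (⟨a, b⟩ + 1 * ⟨d, e⟩) ⟨d, e⟩ (pU1 i) = col ⟨a, b⟩ ⟨d, e⟩ i := by
  decide +kernel

theorem col_Ui : ∀ a b d e : ZMod 3, ∀ i : Fin 6,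
    col (⟨a, b⟩ + im9 * ⟨d, e⟩) ⟨d, e⟩ (pUi i) = col ⟨a, b⟩ ⟨d, e⟩ i := by
  decide +kernel

theorem col_L1 : ∀ a b d e : ZMod 3, ∀ i : Fin 6,
    col ⟨a, b⟩ (⟨d, e⟩ + 1 * ⟨a, b⟩) (pL1 i) = col ⟨a, b⟩ ⟨d, e⟩ i := by
  decide +kernel

theorem col_Li : ∀ a b d e : ZMod 3, ∀ i : Fin 6,
    col ⟨a, b⟩ (⟨d, e⟩ + im9 * ⟨a, b⟩) (pLi i) = col ⟨a, b⟩ ⟨d, e⟩ i := by
  decide +kernel

theorem col_neg : ∀ a b d e : ZMod 3, ∀ i : Fin 6,
    col (-⟨a, b⟩) (-⟨d, e⟩) i = col ⟨a, b⟩ ⟨d, e⟩ i := by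
  decide +kernel

theorem exists_hom : ∃ φ : SpecialLinearGroup (Fin 2) K9 →* Equiv.Perm (Fin 6),
    ∀ g v i, c (g • v) (φ g i) = c v i := by
  refine exists_hom_of_coloring c c_sep _ (closure_transSet closure_gens) ?_
  rintro s ⟨b, hb, hs⟩
  rcases hb with rfl | hb
  · rcases hs with rfl | rfl
    · refine ⟨pU1, fun v i => ?_⟩
      rw [upper_smul]
      exact col_U1 (v 0).re (v 0).im (v 1).re (v 1).im i
    · refine ⟨pL1, fun v i => ?_⟩
      rw [lower_smul]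
      exact col_L1 (v 0).re (v 0).im (v 1).re (v 1).im i
  · rw [Set.mem_singleton_iff] at hb
    subst hb
    rcases hs with rfl | rfl
    · refine ⟨pUi, fun v i => ?_⟩
      rw [upper_smul]
      exact col_Ui (v 0).re (v 0).im (v 1).re (v 1).im i
    · refine ⟨pLi, fun v i => ?_⟩
      rw [lower_smul]
      exact col_Li (v 0).re (v 0).im (v 1).re (v 1).im i

theorem psl_k9 : Nonempty (ProjectiveSpecialLinearGroup (Fin 2) K9 ≃*
    alternatingGroup (Fin 6)) := by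
  obtain ⟨φ, hφ⟩ := exists_hom
  refine nonempty_psl_two_equiv (by rw [card_k9]; norm_num) (by decide +kernel)
    (by rw [card_k9]; decide) φ ?_ ?_
  · -- `-1` acts trivially
    ext i
    rw [Equiv.Perm.one_apply]
    congr 1
    refine c_sep _ _ fun v => ?_
    have h := hφ (-1) (-v) i
    have h2 : (-1 : SpecialLinearGroup (Fin 2) K9) • (-v) = v := by
      rw [Matrix.SpecialLinearGroup.smul_def]
      simp
    rw [h2] at h
    rw [h]
    exact col_neg (v 0).re (v 0).im (v 1).re (v 1).im i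
  · refine ⟨Matrix.SpecialLinearGroup.transvection (zero_ne_one : (0 : Fin 2) ≠ 1) 1, fun h => ?_⟩
    have h1 := hφ (Matrix.SpecialLinearGroup.transvection (zero_ne_one : (0 : Fin 2) ≠ 1) 1)
    rw [h] at h1
    have h2 : ∀ a b d e : ZMod 3, ∀ i : Fin 6,
        col (⟨a, b⟩ + 1 * ⟨d, e⟩) ⟨d, e⟩ i = col ⟨a, b⟩ ⟨d, e⟩ i := by
      intro a b d e i
      have := h1 ![⟨a, b⟩, ⟨d, e⟩] i
      rw [upper_smul] at this
      exact this
    revert h2
    decide +kernel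

/-- PSL_2(9) is isomorphic to A_6. -/
theorem result {F : Type*} [Field F] [Fintype F] (hF : Fintype.card F = 9) : Nonempty (Matrix.ProjectiveSpecialLinearGroup (Fin 2) F ≃* alternatingGroup (Fin 6)) := by
  obtain ⟨e⟩ := psl_k9
  exact ⟨(pslCongr (Fin 2) (FiniteField.ringEquivOfCardEq (K := F) (K' := K9)
    (by rw [hF, card_k9]))).trans e⟩

end Cfsg.Agent.S0254
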