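import Cfsg.Statements.S0875
import Cfsg.Agent.CharactersDeep.BrauerLocal
import Cfsg.Agent.CharactersDeep.PiPart

set_option autoImplicit false
open Cfsg

namespace Cfsg.Agent.S0875

open Cfsg.Agent.CharactersDeep.AChar Cfsg.Agent.CharactersDeep.BrauerLocal
  Cfsg.Agent.CharactersDeep.PiPart
open scoped ComplexConjugate

/-- A class function on a finite group of order dividing `n` with values `0` and `n` is a
combination of characters with algebraic-integer coefficients. -/
theorem mem_achar_of_dvd {V : Type*} [Group V] [Finite V] {n : ℕ} (hn : Nat.card V ∣ n)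
    {f : V → ℂ} (hf : IsClassFunction V f) (h : ∀ v, f v = 0 ∨ f v = n) : f ∈ achar V := by
  classical
  have : Fintype V := Fintype.ofFinite _
  refine mem_achar_of_classInner hf fun χ hχ => ?_
  obtain ⟨k, rfl⟩ := hn
  have h0 : (Nat.card V : ℂ) ≠ 0 := by exact_mod_cast Nat.card_pos.ne'
  have h1 : classInner f χ = ∑ v : V, (if f v = 0 then (0 : ℂ) else k) * conj (χ v) := by
    unfold classInner
    rw [Finset.mul_sum]
    refine Finset.sum_congr rfl fun v _ => ?_
    rw [← mul_assoc]
    congr 1
    split_ifs with hv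
    · rw [hv, mul_zero]
    · rw [(h v).resolve_left hv]
      push_cast
      field_simp
  rw [h1]
  refine IsIntegral.sum _ fun v _ => IsIntegral.mul ?_ ?_
  · split_ifs
    · exact isIntegral_zero
    · exact_mod_cast (isIntegral_algebraMap (R := ℤ) (A := ℂ) (x := (k : ℤ)))
  · exact isIntegral_conj (isIntegral_isCharacter
      (Cfsg.Agent.Characters.Core.isIrr_isCharacter hχ) v)

/-- Let G be a finite group of order m * n with m and n coprime, and g an element whose order is coprime to m. Every x in G factors uniquely as x = u * v with u, v commuting, the order of u coprime to n and the order of v coprime to m; let ϑ be the function on G equal to n at those x whose factor v is conjugate to g and equal to 0 elsewhere. Then ϑ is a linear combination of the irreducible characters of G with algebraic-integer coefficients. -/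
theorem result {G : Type*} [Group G] [Fintype G] (m n : ℕ) (hmn : Nat.card G = m * n) (hcop : Nat.Coprime m n) (g : G) (hg : Nat.Coprime (orderOf g) m) (ϑ : G → ℂ) (hϑ1 : ∀ x : G, (∃ v : G, IsConj v g ∧ (∃ u : G, x = u * v ∧ Commute u v ∧ Nat.Coprime (orderOf u) n ∧ Nat.Coprime (orderOf v) m)) → ϑ x = n) (hϑ0 : ∀ x : G, (¬ ∃ v : G, IsConj v g ∧ (∃ u : G, x = u * v ∧ Commute u v ∧ Nat.Coprime (orderOf u) n ∧ Nat.Coprime (orderOf v) m)) → ϑ x = 0) : ∃ c : Cfsg.IrrCharacter G → ℂ, (∀ χ, c χ ∈ Cfsg.AlgInt) ∧ ϑ = ∑ᶠ χ : Cfsg.IrrCharacter G, c χ • (χ : G → ℂ) := by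
  classical
  have hmn0 : m * n ≠ 0 := by rw [← hmn]; exact Nat.card_pos.ne'
  have hm0 : m ≠ 0 := left_ne_zero_of_mul hmn0
  have hn0 : n ≠ 0 := right_ne_zero_of_mul hmn0
  obtain ⟨e, he1, he0⟩ := exists_exponent hcop.symm
  have hcard : Nat.card G ∣ n * m := by rw [hmn, mul_comm]
  -- value of `ϑ`
  have hval : ∀ x : G, ϑ x = if IsConj (x ^ e) g then (n : ℂ) else 0 := by
    intro x
    have hiff : (∃ v : G, IsConj v g ∧ (∃ u : G, x = u * v ∧ Commute u v ∧
        Nat.Coprime (orderOf u) n ∧ Nat.Coprime (orderOf v) m)) ↔ IsConj (x ^ e) g := by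
      constructor
      · rintro ⟨v, hv, u, rfl, huv, hu, hv'⟩
        have h1 : orderOf u ∣ m := by
          have : orderOf u ∣ m * n := by rw [← hmn]; exact orderOf_dvd_natCard u
          exact hu.dvd_of_dvd_mul_right this
        have h2 : orderOf v ∣ n := by
          have : orderOf v ∣ m * n := by rw [← hmn]; exact orderOf_dvd_natCard v
          exact hv'.dvd_of_dvd_mul_left this
        rw [huv.mul_pow, pow_eq_one he0 (orderOf_dvd_iff_pow_eq_one.1 h1), one_mul,
          pow_eq_self he1 (orderOf_dvd_iff_pow_eq_one.1 h2)]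
        exact hv
      · intro h
        refine ⟨x ^ e, h, x * (x ^ e)⁻¹, by group, ?_, ?_, ?_⟩
        · exact (Commute.self_pow x e).mul_left ((Commute.refl (x ^ e)).inv_left)
        · have h3 : (x * (x ^ e)⁻¹) ^ m = 1 := by
            have hc : Commute x (x ^ e)⁻¹ := (Commute.self_pow x e).inv_right
            rw [hc.mul_pow, inv_pow, mul_inv_eq_one, ← pow_mul, pow_eq_pow_iff_modEq]
            have h4 : orderOf x ∣ n * m := (orderOf_dvd_natCard x).trans hcard
            have h5 : 1 * m ≡ e * m [MOD n * m] := (he1.symm).mul_right' m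
            rw [one_mul] at h5
            exact h5.of_dvd h4
          exact Nat.Coprime.coprime_dvd_left (orderOf_dvd_of_pow_eq_one h3) hcop
        · exact Nat.Coprime.coprime_dvd_left
            (orderOf_dvd_of_pow_eq_one (pow_pow_eq_one he0 hcard x)) hcop.symm
    by_cases h : IsConj (x ^ e) g
    · rw [if_pos h, hϑ1 x (hiff.2 h)]
    · rw [if_neg h, hϑ0 x (fun h' => h (hiff.1 h'))]
  have hclass : IsClassFunction G ϑ := by
    intro x h
    rw [hval, hval]
    have : IsConj ((h * x * h⁻¹) ^ e) g ↔ IsConj (x ^ e) g := by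
      have h1 : IsConj (x ^ e) ((h * x * h⁻¹) ^ e) := by
        rw [conj_pow]
        exact isConj_iff.2 ⟨h, rfl⟩
      exact ⟨fun h2 => h1.trans h2, fun h2 => h1.symm.trans h2⟩
    simp only [this]
  apply exists_coeff_of_mem_achar
  apply mem_achar_of_elementary hclass
  intro E p hp hE
  have hcardE : Nat.card E ∣ n * m := (Subgroup.card_subgroup_dvd_card E).trans hcard
  let π : E →* E := powHom hp hE hcop.symm hcardE he1 he0
  let V : Subgroup E := π.range
  have hVpow : ∀ v : V, v ^ n = 1 := by
    rintro ⟨_, ⟨x, rfl⟩⟩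
    apply Subtype.ext
    exact pow_pow_eq_one he0 hcardE x
  have hVcard : Nat.card V ∣ n :=
    card_dvd_of_forall_pow hcop.symm ((Subgroup.card_subgroup_dvd_card V).trans hcardE) hVpow
  have hself : ∀ v : V, ((v : E) : G) ^ e = ((v : E) : G) := by
    intro v
    apply pow_eq_self he1
    have := congrArg (fun w : V => ((w : E) : G)) (hVpow v)
    simpa using this
  have hfV : (fun v : V => ϑ ((v : E) : G)) ∈ achar V := by
    apply mem_achar_of_dvd hVcard
    · intro v h
      exact hclass ((v : E) : G) ((h : E) : G)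
    · intro v
      rw [hval]
      split_ifs
      · exact Or.inr rfl
      · exact Or.inl rfl
  have hcomp := comp_mem_achar π.rangeRestrict hfV
  convert hcomp using 1
  funext x
  change ϑ (x : G) = ϑ (((π.rangeRestrict x : V) : E) : G)
  rw [hval (((π.rangeRestrict x : V) : E) : G), hself, hval]
  rfl

end Cfsg.Agent.S0875
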