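import Cfsg.Statements.S1619
-- import your own Cfsg.Agent.* helpers here
import Cfsg.Agent.J2.OrderAssembly
import Cfsg.Agent.J2.Center
import Cfsg.Agent.J2.Stab
import Cfsg.Agent.J2.UnitOrbit
import Cfsg.Agent.S1621

set_option autoImplicit false
open Quaternion
open Cfsg

namespace Cfsg.Agent.S1619

open Cfsg.Spor Cfsg.Agent.J2.Lattice Cfsg.Agent.J2.Refl Cfsg.Agent.J2.Group Cfsg.Agent.J2.Stab in
/-- The order of the icosian reflection group. -/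
theorem card_twoJ2 : Nat.card ↥Cfsg.Spor.twoJ2 = 1209600 := by
  refine Cfsg.Agent.J2.OrderAssembly.card_twoJ2 Cfsg.Agent.S1621.result.1 ?_ (eLam l1) ?_ ?_
    card_stab_twoJ2
  · intro g hg r hr
    obtain ⟨L, hL, hL'⟩ := Cfsg.Agent.J2.Center.exists_linear g hg
    rw [hL, hL', hr]
  · exact (isRoot_iff_qip.1 root_e1).2
  · intro r hr
    obtain ⟨v, rfl⟩ := eLam.surjective r
    have hv : IsRoot (v : Vec) := isRoot_iff_qip.2 ⟨toV_mem.2 v.2, hr⟩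
    obtain ⟨g, hg, hgv⟩ := Cfsg.Agent.J2.UnitOrbit.trans_roots hv
    refine ⟨(equivTwoJ2 ⟨g, hg⟩ : twoJ2), (equivTwoJ2 ⟨g, hg⟩).2, ?_⟩
    have h : ((equivTwoJ2 ⟨g, hg⟩ : twoJ2) : Equiv.Perm icoLeech) (eLam l1) = eLam (g l1) := by
      rw [equivTwoJ2_apply]; simp [Equiv.permCongrHom]
    rw [h]
    exact congrArg eLam (Subtype.ext hgv)

/-- The icosian reflection group has order 1209600 with centre {±1}; the Hall–Janko group has order 604800 = 2^7·3^3·5^2·7. -/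
theorem result : Nat.card ↥Cfsg.Spor.twoJ2 = 1209600 ∧ Nat.card ↥(Subgroup.center ↥Cfsg.Spor.twoJ2) = 2 ∧ (∃ z ∈ Subgroup.center ↥Cfsg.Spor.twoJ2, ∀ x : ↥Cfsg.Spor.icoLeech, (((z : Equiv.Perm ↥Cfsg.Spor.icoLeech) x : ↥Cfsg.Spor.icoLeech) : Fin 3 → ℍ[ℝ]) = -(x : Fin 3 → ℍ[ℝ])) ∧ Nat.card Cfsg.Spor.J2 = 604800 :=
  ⟨card_twoJ2, Cfsg.Agent.J2.Center.card_center, Cfsg.Agent.J2.Center.exists_neg_mem,
    Cfsg.Agent.J2.OrderAssembly.card_J2 card_twoJ2 Cfsg.Agent.J2.Center.card_center⟩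

end Cfsg.Agent.S1619
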