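import Cfsg.Statements.S1620
import Cfsg.Agent.J2.Simple

set_option autoImplicit false
open Quaternion
open Cfsg

namespace Cfsg.Agent.S1620

/-- The Hall–Janko group is simple and non-abelian. -/
theorem result : IsSimpleGroup Cfsg.Spor.J2 ∧ ∃ a b : Cfsg.Spor.J2, a * b ≠ b * a := by
  have h1 := Cfsg.Agent.J2.Simple.simple_quotient
  refine ⟨Cfsg.Agent.J2.Group.equivJ2.symm.isSimpleGroup, ?_⟩
  obtain ⟨a, b, hab⟩ := Cfsg.Agent.J2.Simple.not_comm_quotient
  refine ⟨Cfsg.Agent.J2.Group.equivJ2 a, Cfsg.Agent.J2.Group.equivJ2 b, fun h => hab ?_⟩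
  rw [← map_mul, ← map_mul] at h
  exact Cfsg.Agent.J2.Group.equivJ2.injective h

end Cfsg.Agent.S1620
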