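import Cfsg.Statements.S0414
import Cfsg.Agent.SporadicA.S36Swap
import Cfsg.Agent.SporadicA.Degree22

set_option autoImplicit false
open Cfsg

namespace Cfsg.Agent.S0414

open Cfsg.Agent.SporadicA.S36Aut Cfsg.Agent.SporadicA.S36Swap Cfsg.Agent.SporadicA.Degree22

theorem faithful_even {α : Type*} [Fintype α] [DecidableEq α] (B : Set (Finset α)) :
    FaithfulSMul (evenPart B) α := by
  refine ⟨fun {g h} hgh => ?_⟩
  apply Subtype.ext
  apply Subtype.ext
  apply Equiv.ext
  intro x
  exact hgh x

/-- Aut of an S(3, 6, 22) has order 887040, is 3-transitive, and contains a simple subgroup of index 2. -/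
theorem result {α : Type*} [Fintype α] [DecidableEq α] (hα : Fintype.card α = 22) {B : Set (Finset α)} (hB : Cfsg.IsSteinerSystem 3 6 B) : Nat.card (Cfsg.setSystemAut B) = 887040 ∧ MulAction.IsMultiplyPretransitive (Cfsg.setSystemAut B) α 3 ∧ ∃ H : Subgroup (Cfsg.setSystemAut B), H.index = 2 ∧ Cfsg.IsM22 H := by
  refine ⟨card_aut hα hB, isMultiplyPretransitive_three hα hB, evenPart B,
    index_evenPart hα hB, ?_, card_evenPart hα hB⟩
  have h3 := isMultiplyPretransitive_evenPart hα hB
  have h2 : MulAction.IsMultiplyPretransitive (evenPart B) α 2 :=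
    MulAction.isMultiplyPretransitive_of_le (n := 3) (by norm_num)
      (by rw [Nat.card_eq_fintype_card, hα]; norm_num)
  have hprim : MulAction.IsPreprimitive (evenPart B) α :=
    MulAction.isPreprimitive_of_is_two_pretransitive h2
  have := faithful_even B
  exact isSimpleGroup_of_card_degree22 (Ω := α) (by rw [Nat.card_eq_fintype_card, hα])
    (card_evenPart hα hB) hprim

end Cfsg.Agent.S0414
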