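import Cfsg.Statements.S0367
import Cfsg.Agent.S0363
import Cfsg.Agent.S0366

set_option autoImplicit false
open scoped Pointwise
open Cfsg

namespace Cfsg.Agent.S0367

/-- A permutation preserving the code maps octads to octads. -/
theorem smul_mem_octads (g : Cfsg.M24) (o : Finset Cfsg.GolayPt) (ho : o ∈ Cfsg.octads) :
    g • o ∈ Cfsg.octads := by
  obtain ⟨h1, h2⟩ := ho
  refine ⟨?_, ?_⟩
  · have hg : (g : Equiv.Perm Cfsg.GolayPt) •
        (Cfsg.supports (Cfsg.golayCode : Set (Cfsg.GolayPt → ZMod 2))) =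
        Cfsg.supports (Cfsg.golayCode : Set (Cfsg.GolayPt → ZMod 2)) := g.2
    rw [← hg]
    exact Set.smul_mem_smul_set h1
  · have : (g • o).card = o.card := Finset.card_smul_finset g o
    rw [this, h2]

/-- Two octads sharing five points are equal. -/
theorem octad_eq (o o' s : Finset Cfsg.GolayPt) (ho : o ∈ Cfsg.octads) (ho' : o' ∈ Cfsg.octads)
    (hs : s.card = 5) (h : s ⊆ o) (h' : s ⊆ o') : o = o' := by
  obtain ⟨b, _, hb⟩ := (Cfsg.Agent.S0363.result).2 s hs
  rw [hb o ⟨ho, h⟩, hb o' ⟨ho', h'⟩]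

/-- The permutation group preserving the length-24 code is transitive on octads. -/
theorem result (o o' : Finset Cfsg.GolayPt) (ho : o ∈ Cfsg.octads) (ho' : o' ∈ Cfsg.octads) : ∃ g : Cfsg.M24, g • o = o' := by
  have hc : 5 ≤ o.card := by rw [ho.2]; norm_num
  have hc' : 5 ≤ o'.card := by rw [ho'.2]; norm_num
  obtain ⟨s, hso, hs⟩ := Finset.exists_subset_card_eq hc
  obtain ⟨s', hso', hs'⟩ := Finset.exists_subset_card_eq hc'
  let e : Fin 5 ↪ Cfsg.GolayPt :=
    (Finset.equivFinOfCardEq hs).symm.toEmbedding.trans (Function.Embedding.subtype _)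
  let e' : Fin 5 ↪ Cfsg.GolayPt :=
    (Finset.equivFinOfCardEq hs').symm.toEmbedding.trans (Function.Embedding.subtype _)
  haveI := Cfsg.Agent.S0366.result
  obtain ⟨g, hg⟩ := MulAction.exists_smul_eq Cfsg.M24 e e'
  refine ⟨g, octad_eq _ _ s' (smul_mem_octads g o ho) ho' hs' ?_ hso'⟩
  intro x hx
  have hx' : e' ((Finset.equivFinOfCardEq hs') ⟨x, hx⟩) = x := by
    simp [e']
  rw [← hx', ← hg]
  have : (g • e) ((Finset.equivFinOfCardEq hs') ⟨x, hx⟩) =
      g • e ((Finset.equivFinOfCardEq hs') ⟨x, hx⟩) := rfl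
  rw [this]
  apply Finset.smul_mem_smul_finset
  apply hso
  exact ((Finset.equivFinOfCardEq hs).symm ((Finset.equivFinOfCardEq hs') ⟨x, hx⟩)).2

end Cfsg.Agent.S0367
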