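import Cfsg.Statements.S0440
import Cfsg.Agent.ClassicalGeometry.SympBasic
import Cfsg.Agent.S0765

set_option autoImplicit false
open Cfsg

namespace Cfsg.Agent.S0440

open Cfsg.Agent.ClassicalGeometry.SympBasic

variable {n : ℕ}

theorem two_cases (a : ZMod 2) : a = 0 ∨ a = 1 := by
  revert a
  decide

theorem ne_zero_iff (a : ZMod 2) : a ≠ 0 ↔ a = 1 := by
  revert a
  decide

theorem add_self' (a : ZMod 2) : a + a = 0 := by
  revert a
  decide

theorem neg_self' (a : ZMod 2) : -a = a := by
  revert a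
  decide

theorem transv_mulVec (v x : Fin n ⊕ Fin n → ZMod 2) :
    (transv v (1 : ZMod 2) : Matrix (Fin n ⊕ Fin n) (Fin n ⊕ Fin n) (ZMod 2)).mulVec x =
      x + (sympForm n (ZMod 2) x v) • v := by
  rw [coe_transv, sympTransvection_mulVec, one_mul]

theorem ext_mulVec {A B : Matrix.symplecticGroup (Fin n) (ZMod 2)}
    (h : ∀ x, (A : Matrix (Fin n ⊕ Fin n) (Fin n ⊕ Fin n) (ZMod 2)).mulVec x =
      (B : Matrix (Fin n ⊕ Fin n) (Fin n ⊕ Fin n) (ZMod 2)).mulVec x) : A = B := by
  apply Subtype.ext
  exact Matrix.mulVec_injective (funext h)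

theorem transv_mul_self (v : Fin n ⊕ Fin n → ZMod 2) :
    transv v (1 : ZMod 2) * transv v 1 = 1 := by
  apply Subtype.ext
  rw [Submonoid.coe_mul, coe_transv, sympTransvection_mul, add_self', sympTransvection_zero]
  rfl

theorem exists_form_one {v : Fin n ⊕ Fin n → ZMod 2} (hv : v ≠ 0) :
    ∃ y, sympForm n (ZMod 2) y v = 1 := by
  by_contra h
  push Not at h
  apply hv
  apply eq_zero_of_forall_sympForm_left
  intro w
  rcases two_cases (sympForm n (ZMod 2) w v) with h0 | h1
  · exact h0
  · exact absurd h1 (h w)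

theorem transv_ne_one {v : Fin n ⊕ Fin n → ZMod 2} (hv : v ≠ 0) :
    transv v (1 : ZMod 2) ≠ 1 := by
  intro h
  obtain ⟨y, hy⟩ := exists_form_one hv
  have h1 := transv_mulVec v y
  rw [h, hy, one_smul, OneMemClass.coe_one, Matrix.one_mulVec] at h1
  exact hv (by simpa using h1)

/-- elements with `g - 1` of rank one are the transvections -/
theorem rank_one_iff (g : Matrix.symplecticGroup (Fin n) (ZMod 2)) :
    ((g : Matrix (Fin n ⊕ Fin n) (Fin n ⊕ Fin n) (ZMod 2)) - 1).rank = 1 ↔
      ∃ v : Fin n ⊕ Fin n → ZMod 2, v ≠ 0 ∧ g = transv v 1 := by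
  constructor
  · intro h
    rw [Matrix.rank, finrank_eq_one_iff'] at h
    obtain ⟨⟨v, hv⟩, hv0, hall⟩ := h
    have hv0' : v ≠ 0 := fun h => hv0 (Subtype.ext h)
    have hphi : ∀ x, ∃ c : ZMod 2,
        (g : Matrix (Fin n ⊕ Fin n) (Fin n ⊕ Fin n) (ZMod 2)).mulVec x = x + c • v := by
      intro x
      obtain ⟨c, hc⟩ := hall ⟨_, ⟨x, rfl⟩⟩
      refine ⟨c, ?_⟩
      have hc' := congrArg Subtype.val hc
      simp only [Matrix.mulVecLin_apply, Matrix.sub_mulVec, Matrix.one_mulVec,
        SetLike.mk_smul_mk] at hc'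
      rw [hc']
      abel
    choose φ hφ using hphi
    refine ⟨v, hv0', ?_⟩
    obtain ⟨y, hy⟩ := exists_form_one hv0'
    have key : ∀ x, φ x = φ y * sympForm n (ZMod 2) x v := by
      intro x
      have h1 := sympForm_mulVec g.2 x y
      rw [hφ x, hφ y, sympForm_add_left, sympForm_add_right, sympForm_add_right,
        sympForm_smul_left, sympForm_smul_left, sympForm_smul_right, sympForm_smul_right,
        sympForm_self, sympForm_swap v y, hy] at h1
      have h2 : φ y * sympForm n (ZMod 2) x v - φ x = 0 := by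
        linear_combination h1
      exact (sub_eq_zero.mp h2).symm
    have hy1 : φ y = 1 := by
      rcases two_cases (φ y) with h0 | h1
      · exfalso
        obtain ⟨x, hx⟩ := hv
        rw [Matrix.mulVecLin_apply, Matrix.sub_mulVec, Matrix.one_mulVec, hφ x, key x, h0] at hx
        apply hv0'
        rw [← hx]
        simp
      · exact h1
    apply ext_mulVec
    intro x
    rw [transv_mulVec, hφ x, key x, hy1, one_mul]
  · rintro ⟨v, hv, rfl⟩
    apply le_antisymm
    · have h1 : ((transv v (1 : ZMod 2) : Matrix.symplecticGroup (Fin n) (ZMod 2)) :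
          Matrix (Fin n ⊕ Fin n) (Fin n ⊕ Fin n) (ZMod 2)) - 1 =
          Matrix.vecMulVec v ((Matrix.J (Fin n) (ZMod 2)).mulVec v) := by
        rw [coe_transv, sympTransvection_def, one_smul]
        abel
      rw [h1]
      exact Matrix.rank_vecMulVec_le _ _
    · rw [Nat.one_le_iff_ne_zero]
      intro h0
      rw [Matrix.rank, Submodule.finrank_eq_zero, LinearMap.range_eq_bot] at h0
      obtain ⟨y, hy⟩ := exists_form_one hv
      have h1 := congrArg (fun f => f y) h0
      simp only [Matrix.mulVecLin_apply, Matrix.sub_mulVec, Matrix.one_mulVec,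
        LinearMap.zero_apply, transv_mulVec, hy, one_smul, add_sub_cancel_left] at h1
      exact hv h1

theorem conj_transv (A : Matrix.symplecticGroup (Fin n) (ZMod 2))
    (v : Fin n ⊕ Fin n → ZMod 2) :
    A * transv v 1 * A⁻¹ =
      transv ((A : Matrix (Fin n ⊕ Fin n) (Fin n ⊕ Fin n) (ZMod 2)).mulVec v) 1 := by
  rw [mul_inv_eq_iff_eq_mul]
  apply Subtype.ext
  rw [Submonoid.coe_mul, Submonoid.coe_mul, coe_transv, coe_transv, mul_sympTransvection A.2]

theorem mulVec_ne_zero (A : Matrix.symplecticGroup (Fin n) (ZMod 2))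
    {v : Fin n ⊕ Fin n → ZMod 2} (hv : v ≠ 0) :
    (A : Matrix (Fin n ⊕ Fin n) (Fin n ⊕ Fin n) (ZMod 2)).mulVec v ≠ 0 := by
  intro h
  apply hv
  have h1 := coe_mul_mulVec A⁻¹ A v
  rw [inv_mul_cancel, h, Matrix.mulVec_zero, OneMemClass.coe_one, Matrix.one_mulVec] at h1
  exact h1

theorem inv_transv (v : Fin n ⊕ Fin n → ZMod 2) :
    (transv v (1 : ZMod 2))⁻¹ = transv v 1 :=
  inv_eq_of_mul_eq_one_right (transv_mul_self v)

theorem conj_transv' (w v : Fin n ⊕ Fin n → ZMod 2) :
    transv w 1 * transv v 1 * transv w 1 =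
      transv (v + (sympForm n (ZMod 2) v w) • w) (1 : ZMod 2) := by
  have h := conj_transv (transv w 1) v
  rw [inv_transv, transv_mulVec] at h
  exact h

/-- In the symplectic group in dimension 2n ≥ 2 over the field with two elements, the elements g for which g - 1 has rank one (the symplectic transvections) form a conjugacy class of 3-transpositions generating the group. -/
theorem result (n : ℕ) (hn : 1 ≤ n) : Cfsg.IsThreeTranspositionClass {g : Matrix.symplecticGroup (Fin n) (ZMod 2) | ((g : Matrix (Fin n ⊕ Fin n) (Fin n ⊕ Fin n) (ZMod 2)) - 1).rank = 1} := by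
  have hset : {g : Matrix.symplecticGroup (Fin n) (ZMod 2) |
      ((g : Matrix (Fin n ⊕ Fin n) (Fin n ⊕ Fin n) (ZMod 2)) - 1).rank = 1} =
      {g | ∃ v : Fin n ⊕ Fin n → ZMod 2, v ≠ 0 ∧ g = transv v 1} :=
    Set.ext rank_one_iff
  rw [hset]
  refine ⟨⟨?_, ?_⟩, ?_, ?_⟩
  · rintro _ ⟨v, hv, rfl⟩
    exact orderOf_eq_prime (by rw [pow_two, transv_mul_self]) (transv_ne_one hv)
  · rintro _ ⟨v, hv, rfl⟩ _ ⟨w, hw, rfl⟩
    have h1 := conj_transv' v w
    have h2 := conj_transv' w v
    rcases two_cases (sympForm n (ZMod 2) v w) with h0 | h0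
    · left
      rw [h0, zero_smul, add_zero] at h2
      have h3 : transv v 1 * transv w (1 : ZMod 2) = transv w 1 * transv v 1 := by
        calc transv v 1 * transv w (1 : ZMod 2)
            = (transv w 1 * transv v 1 * transv w 1) * transv w 1 := by rw [h2]
          _ = transv w 1 * transv v 1 * (transv w 1 * transv w 1) := by group
          _ = transv w 1 * transv v 1 := by rw [transv_mul_self, mul_one]
      calc (transv v 1 * transv w (1 : ZMod 2)) ^ 2
          = (transv v 1 * transv w (1 : ZMod 2)) * (transv v 1 * transv w 1) := pow_two _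
        _ = (transv v 1 * transv w (1 : ZMod 2)) * (transv w 1 * transv v 1) := by
            rw [h3]
        _ = transv v 1 * (transv w (1 : ZMod 2) * transv w 1) * transv v 1 := by group
        _ = 1 := by rw [transv_mul_self, mul_one, transv_mul_self]
    · right
      have h0' : sympForm n (ZMod 2) w v = 1 := by
        rw [sympForm_swap, neg_self', h0]
      rw [h0', one_smul] at h1
      rw [h0, one_smul, add_comm] at h2
      calc (transv v 1 * transv w (1 : ZMod 2)) ^ 3
          = (transv v 1 * transv w 1 * transv v 1) * (transv w 1 * transv v 1 * transv w 1) := by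
            rw [pow_succ, pow_two]; group
        _ = 1 := by rw [h1, h2, transv_mul_self]
  · have hv0 : (Pi.single (Sum.inl ⟨0, hn⟩) 1 : Fin n ⊕ Fin n → ZMod 2) ≠ 0 := by
      intro h
      have := congrFun h (Sum.inl ⟨0, hn⟩)
      rw [Pi.single_eq_same] at this
      exact one_ne_zero this
    refine ⟨transv _ 1, ⟨_, hv0, rfl⟩, ?_⟩
    ext g
    constructor
    · rintro ⟨v, hv, rfl⟩
      obtain ⟨A, -, hA⟩ := exists_transvGroup_mulVec_eq hv0 hv
      refine (isConj_iff.mpr ⟨A, ?_⟩ : IsConj _ _)
      rw [conj_transv, hA]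
    · intro h
      obtain ⟨A, hA⟩ := isConj_iff.mp (h : IsConj _ _)
      exact ⟨_, mulVec_ne_zero A hv0, by rw [← hA, conj_transv]⟩
  · rw [eq_top_iff, ← Cfsg.Agent.S0765.result (F := ZMod 2) n, Subgroup.closure_le]
    rintro g ⟨w, c, hg⟩
    have hg' : g = transv w c := Subtype.ext hg
    subst hg'
    by_cases hw : w = 0
    · subst hw
      have : transv (0 : Fin n ⊕ Fin n → ZMod 2) c = 1 := by
        apply ext_mulVec
        intro x
        rw [coe_transv, sympTransvection_mulVec, smul_zero, add_zero, OneMemClass.coe_one,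
          Matrix.one_mulVec]
      rw [this]
      exact one_mem _
    · rcases two_cases c with rfl | rfl
      · have : transv w (0 : ZMod 2) = 1 := Subtype.ext (sympTransvection_zero w)
        rw [this]
        exact one_mem _
      · exact Subgroup.subset_closure ⟨w, hw, rfl⟩

end Cfsg.Agent.S0440
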