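import Cfsg.Statements.S0206
import Mathlib

set_option autoImplicit false
open Cfsg

namespace Cfsg.Agent.S0206

/-- The homomorphism from the dihedral group determined by two involutions. -/
noncomputable def dihHom {G : Type*} [Group G] [Finite G] (x y : G) (hx : x * x = 1)
    (hy : y * y = 1) : DihedralGroup (orderOf (x * y)) →* G where
  toFun := fun g => match g with
    | DihedralGroup.r i => (x * y) ^ (i.val)
    | DihedralGroup.sr i => x * (x * y) ^ (i.val)
  map_one' := by
    have : NeZero (orderOf (x * y)) := ⟨(orderOf_pos _).ne'⟩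
    change (x * y) ^ ((0 : ZMod (orderOf (x * y))).val) = 1
    simp
  map_mul' := by
    have hne : NeZero (orderOf (x * y)) := ⟨(orderOf_pos _).ne'⟩
    have hxi : x⁻¹ = x := by rw [inv_eq_iff_mul_eq_one]; exact hx
    have hyi : y⁻¹ = y := by rw [inv_eq_iff_mul_eq_one]; exact hy
    have hinv : ∀ k : ℕ, x * (x * y) ^ k * x = ((x * y) ^ k)⁻¹ := by
      intro k
      have h1 : x * (x * y) * x⁻¹ = (x * y)⁻¹ := by
        rw [mul_inv_rev, hxi, hyi, ← mul_assoc, hx, one_mul]
      have h2 : x * (x * y) ^ k * x⁻¹ = ((x * y) ^ k)⁻¹ := by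
        rw [← conj_pow, h1, inv_pow]
      rwa [hxi] at h2
    have hadd : ∀ i j : ZMod (orderOf (x * y)),
        (x * y) ^ ((i + j).val) = (x * y) ^ i.val * (x * y) ^ j.val := by
      intro i j
      rw [ZMod.val_add, pow_mod_orderOf, pow_add]
    have hsub : ∀ i j : ZMod (orderOf (x * y)),
        (x * y) ^ ((j - i).val) = ((x * y) ^ i.val)⁻¹ * (x * y) ^ j.val := by
      intro i j
      rw [eq_inv_mul_iff_mul_eq, ← hadd]
      congr 2
      ring
    rintro (i | i) (j | j)
    · change (x * y) ^ ((i + j).val) = (x * y) ^ i.val * (x * y) ^ j.val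
      exact hadd i j
    · change x * (x * y) ^ ((j - i).val) = (x * y) ^ i.val * (x * (x * y) ^ j.val)
      rw [hsub, ← hinv, ← mul_assoc, ← mul_assoc, ← mul_assoc, ← mul_assoc, hx, one_mul]
    · change x * (x * y) ^ ((i + j).val) = x * (x * y) ^ i.val * (x * y) ^ j.val
      rw [hadd, mul_assoc]
    · change (x * y) ^ ((j - i).val) = x * (x * y) ^ i.val * (x * (x * y) ^ j.val)
      rw [hsub, ← hinv]
      group

/-- Two distinct involutions x, y of a finite group generate a subgroup isomorphic to the dihedral group of order 2·|xy|. -/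
theorem result {G : Type*} [Group G] [Finite G] (x y : G) (hx : orderOf x = 2) (hy : orderOf y = 2) (hxy : x ≠ y) : Nonempty (↥(Subgroup.closure ({x, y} : Set G)) ≃* DihedralGroup (orderOf (x * y))) := by
  have hne : NeZero (orderOf (x * y)) := ⟨(orderOf_pos _).ne'⟩
  have hx2 : x * x = 1 := by rw [← sq, ← hx]; exact pow_orderOf_eq_one x
  have hy2 : y * y = 1 := by rw [← sq, ← hy]; exact pow_orderOf_eq_one y
  have hxi : x⁻¹ = x := by rw [inv_eq_iff_mul_eq_one]; exact hx2
  have hyi : y⁻¹ = y := by rw [inv_eq_iff_mul_eq_one]; exact hy2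
  have hx1 : x ≠ 1 := by rintro rfl; simp at hx
  have hy1 : y ≠ 1 := by rintro rfl; simp at hy
  have hxy1 : x * y ≠ 1 := by
    intro h
    apply hxy
    rw [← hyi]
    exact eq_inv_of_mul_eq_one_left h
  -- `x` is not a power of `x * y`
  have hnot : ∀ k : ℕ, (x * y) ^ k ≠ x := by
    intro k hk
    have hcomm : x * (x * y) = (x * y) * x := by
      have : Commute ((x * y) ^ k) (x * y) := (Commute.refl (x * y)).pow_left k
      rw [hk] at this
      exact this
    have hy' : y = x * y * x := by
      rw [← hcomm, ← mul_assoc, hx2, one_mul]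
    have hxyc : x * y = y * x := by
      have h3 : y * x = x * y * x * x := by rw [← hy']
      rw [h3, mul_assoc, hx2, mul_one]
    have h2 : (x * y) ^ 2 = 1 := by
      rw [sq]
      nth_rw 2 [hxyc]
      rw [mul_assoc, ← mul_assoc y y x, hy2, one_mul, hx2]
    rcases Nat.even_or_odd' k with ⟨m, hm | hm⟩
    · rw [hm, pow_mul, h2, one_pow] at hk
      exact hx1 hk.symm
    · rw [hm, pow_succ, pow_mul, h2, one_pow, one_mul] at hk
      apply hy1
      have : x * y = x * 1 := by rw [hk, mul_one]
      exact mul_left_cancel this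
  have hinj : Function.Injective (dihHom x y hx2 hy2) := by
    rw [injective_iff_map_eq_one]
    rintro (i | i) hi
    · change (x * y) ^ i.val = 1 at hi
      have h1 : orderOf (x * y) ∣ i.val := orderOf_dvd_of_pow_eq_one hi
      have h2 : i.val = 0 := Nat.eq_zero_of_dvd_of_lt h1 (ZMod.val_lt i)
      rw [ZMod.val_eq_zero] at h2
      rw [h2]
      rfl
    · change x * (x * y) ^ i.val = 1 at hi
      exfalso
      apply hnot i.val
      exact (eq_inv_of_mul_eq_one_right hi).trans hxi
  have hrange : (dihHom x y hx2 hy2).range = Subgroup.closure ({x, y} : Set G) := by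
    apply le_antisymm
    · rintro _ ⟨g, rfl⟩
      have hxm : x ∈ Subgroup.closure ({x, y} : Set G) := Subgroup.subset_closure (by simp)
      have hym : y ∈ Subgroup.closure ({x, y} : Set G) := Subgroup.subset_closure (by simp)
      rcases g with (i | i)
      · change (x * y) ^ i.val ∈ _
        exact Subgroup.pow_mem _ (Subgroup.mul_mem _ hxm hym) _
      · change x * (x * y) ^ i.val ∈ _
        exact Subgroup.mul_mem _ hxm (Subgroup.pow_mem _ (Subgroup.mul_mem _ hxm hym) _)
    · rw [Subgroup.closure_le]
      intro g hg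
      rcases hg with rfl | hg
      · refine ⟨DihedralGroup.sr 0, ?_⟩
        change g * (g * y) ^ (0 : ZMod (orderOf (g * y))).val = g
        simp
      · have hg' : g = y := hg
        subst hg'
        refine ⟨DihedralGroup.sr 1, ?_⟩
        change x * (x * g) ^ (1 : ZMod (orderOf (x * g))).val = g
        have hlt : 1 < orderOf (x * g) := by
          have h0 := orderOf_pos (x * g)
          have h1 : orderOf (x * g) ≠ 1 := by
            rw [Ne, orderOf_eq_one_iff]; exact hxy1
          omega
        have : Fact (1 < orderOf (x * g)) := ⟨hlt⟩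
        rw [ZMod.val_one, pow_one, ← mul_assoc, hx2, one_mul]
  exact ⟨((MonoidHom.ofInjective hinj).trans (MulEquiv.subgroupCongr hrange)).symm⟩

end Cfsg.Agent.S0206
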