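import Cfsg.Statements.S0223
import Mathlib
-- import your own Cfsg.Agent.* helpers here

set_option autoImplicit false
open Cfsg

namespace Cfsg.Agent.S0223

/-- Let H be a proper subgroup of even order of the finite group G. Then H is strongly embedded if and only if (i) C_G(t) ≤ H for every involution t of H and (ii) H controls fusion of its involutions: involutions of H conjugate in G are conjugate in H. -/
theorem result {G : Type*} [Group G] [Finite G] (H : Subgroup G) (hH : H ≠ ⊤) (heven : Even (Nat.card H)) : Cfsg.IsStronglyEmbedded H ↔ ((∀ t ∈ H, orderOf t = 2 → Subgroup.centralizer ({t} : Set G) ≤ H) ∧ (∀ t ∈ H, ∀ s ∈ H, orderOf t = 2 → orderOf s = 2 → IsConj t s → ∃ h ∈ H, h * t * h⁻¹ = s)) := by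
  classical
  have key : ∀ (K : Subgroup G) (t : G), t ∈ K → orderOf t = 2 → ¬ Odd (Nat.card K) := by
    intro K t ht h2 hodd
    have h1 : orderOf t ∣ Nat.card K := K.orderOf_dvd_natCard ht
    rw [h2] at h1
    exact (Nat.not_even_iff_odd.mpr hodd) (even_iff_two_dvd.mpr h1)
  constructor
  · rintro ⟨-, -, hse⟩
    have fusion : ∀ t ∈ H, ∀ s ∈ H, orderOf s = 2 → ∀ g : G, g * t * g⁻¹ = s → g ∈ H := by
      intro t ht s hs h2 g hg
      by_contra hgH
      refine key _ s ?_ h2 (hse g hgH)
      refine ⟨hs, ?_⟩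
      refine ⟨t, ht, ?_⟩
      simpa using hg
    refine ⟨?_, ?_⟩
    · intro t ht h2 c hc
      refine fusion t ht t ht h2 c ?_
      rw [Subgroup.mem_centralizer_singleton_iff] at hc
      rw [hc]; group
    · intro t ht s hs _ hs2 hconj
      obtain ⟨g, hg⟩ := isConj_iff.mp hconj
      exact ⟨g, fusion t ht s hs hs2 g hg, hg⟩
  · rintro ⟨hi, hii⟩
    refine ⟨hH, heven, ?_⟩
    intro g hg
    by_contra hodd
    rw [Nat.not_odd_iff_even] at hodd
    obtain ⟨⟨s, hs⟩, hs2⟩ := exists_prime_orderOf_dvd_card' (G := ↥(H ⊓ H.map (MulAut.conj g).toMonoidHom)) 2 (even_iff_two_dvd.mp hodd)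
    rw [Subgroup.orderOf_mk] at hs2
    obtain ⟨hsH, hsg⟩ := Subgroup.mem_inf.mp hs
    obtain ⟨t, ht, hts⟩ := hsg
    have hts' : g * t * g⁻¹ = s := by simpa using hts
    have ht2 : orderOf t = 2 := by
      rw [← hs2, ← hts']
      exact (orderOf_injective (MulAut.conj g).toMonoidHom (MulAut.conj g).injective t).symm
    obtain ⟨h, hh, hconj⟩ := hii t ht s hsH ht2 hs2 (isConj_iff.mpr ⟨g, hts'⟩)
    apply hg
    have hmem : h⁻¹ * g ∈ H := by
      apply hi t ht ht2
      rw [Subgroup.mem_centralizer_singleton_iff]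
      have : h * t * h⁻¹ = g * t * g⁻¹ := by rw [hconj, hts']
      calc h⁻¹ * g * t = h⁻¹ * (g * t * g⁻¹) * g := by group
        _ = h⁻¹ * (h * t * h⁻¹) * g := by rw [this]
        _ = t * (h⁻¹ * g) := by group
    have := H.mul_mem hh hmem
    simpa using this

end Cfsg.Agent.S0223
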