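-- Statement S0661 (row 661).
import Cfsg.Statements.S0661
import Mathlib
import Cfsg.Agent.Lib.Cores
import Cfsg.Agent.Lib.ThompsonPQ
import Cfsg.Agent.PLocal.CoprimeLift

set_option autoImplicit false
open Cfsg

namespace Cfsg.Agent.S0661

open Cfsg.Agent.Lib.Cores Cfsg.Agent.Lib.ThompsonPQ Cfsg.Agent.PLocal.CoprimeLift

/-- A `p`-element which is also in a `p'`-group is trivial. -/
theorem eq_one_of_mem_of_mem {G : Type*} [Group G] {p : ℕ} [Fact p.Prime]
    {P K : Subgroup G} (hP : IsPGroup p P) (hK : (Nat.card K).Coprime p) {x : G} (hx : x ∈ P)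
    (hxK : x ∈ K) : x = 1 := by
  obtain ⟨n, hn⟩ := hP ⟨x, hx⟩
  have h1 : x ^ p ^ n = 1 := congrArg Subtype.val hn
  have h2 : x ^ Nat.card K = 1 := by
    have := pow_card_eq_one' (G := K) (x := ⟨x, hxK⟩)
    exact congrArg Subtype.val this
  have h3 : orderOf x ∣ 1 := by
    have hc : Nat.gcd (p ^ n) (Nat.card K) = 1 := Nat.Coprime.pow_left n hK.symm
    rw [← hc]
    exact Nat.dvd_gcd (orderOf_dvd_of_pow_eq_one h1) (orderOf_dvd_of_pow_eq_one h2)
  exact orderOf_eq_one_iff.mp (Nat.dvd_one.mp h3)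

/-- If, modulo the largest normal subgroup of order prime to p, the largest normal p-subgroup contains its centralizer, then for every p-subgroup P the p'-core of N_G(P) is just O_p'(G) ∩ N_G(P). -/
theorem result {G : Type*} [Group G] [Finite G] {p : ℕ} [Fact p.Prime] (hc : Subgroup.centralizer (Cfsg.pCore p (G ⧸ Cfsg.pPrimeCore p G) : Set (G ⧸ Cfsg.pPrimeCore p G)) ≤ Cfsg.pCore p (G ⧸ Cfsg.pPrimeCore p G)) (P : Subgroup G) (hP : IsPGroup p P) : (Cfsg.pPrimeCore p ↥(Subgroup.normalizer (P : Set G))).map (Subgroup.normalizer (P : Set G)).subtype = Cfsg.pPrimeCore p G ⊓ Subgroup.normalizer (P : Set G) := by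
  set N : Subgroup G := Subgroup.normalizer (P : Set G) with hN
  set M : Subgroup G := Cfsg.pPrimeCore p G with hMdef
  set K : Subgroup G := (Cfsg.pPrimeCore p N).map N.subtype with hK
  have hMcop : (Nat.card M).Coprime p := pPrimeCore_coprime p
  have hKcop : (Nat.card K).Coprime p := by
    have h1 : Nat.card K = Nat.card (Cfsg.pPrimeCore p N) :=
      (Nat.card_congr ((Cfsg.pPrimeCore p N).equivMapOfInjective _
        N.subtype_injective).toEquiv).symm
    rw [h1]
    exact pPrimeCore_coprime p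
  have hKN : K ≤ N := Subgroup.map_subtype_le _
  have hKnorm : ∀ n ∈ N, ∀ k ∈ K, n * k * n⁻¹ ∈ K := by
    rintro n hn _ ⟨k, hk, rfl⟩
    exact ⟨⟨n, hn⟩ * k * ⟨n, hn⟩⁻¹, (pPrimeCore_normal_inst (G := N) p).conj_mem _ hk _, rfl⟩
  have hPN : P ≤ N := Subgroup.le_normalizer
  refine le_antisymm (le_inf ?_ hKN) ?_
  · -- `K ≤ M`
    -- `K` commutes with `P`
    have hKP : ∀ x ∈ P, ∀ k ∈ K, x * k = k * x := by
      intro x hx k hk
      have h1 : x * k * x⁻¹ * k⁻¹ ∈ K := K.mul_mem (hKnorm x (hPN hx) k hk) (K.inv_mem hk)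
      have h2 : x * k * x⁻¹ * k⁻¹ ∈ P := by
        have h3 : k * x⁻¹ * k⁻¹ ∈ P :=
          (Subgroup.mem_normalizer_iff.mp (hKN hk) _).mp (P.inv_mem hx)
        have h4 := P.mul_mem hx h3
        rwa [← mul_assoc, ← mul_assoc] at h4
      have h5 := eq_one_of_mem_of_mem hP hKcop h2 h1
      rw [mul_inv_eq_one, mul_inv_eq_iff_eq_mul] at h5
      exact h5
    set π := QuotientGroup.mk' M with hπ
    have hQn : (Cfsg.pCore p (G ⧸ M)).Normal := pCore_normal_inst p
    have hQp : IsPGroup p (Cfsg.pCore p (G ⧸ M)) := pCore_isPGroup p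
    have hKbcop : (Nat.card (K.map π)).Coprime p :=
      Nat.Coprime.coprime_dvd_left (Subgroup.card_map_dvd _ _) hKcop
    have key : K.map π ≤ Subgroup.centralizer (Cfsg.pCore p (G ⧸ M) : Set (G ⧸ M)) := by
      refine thompson_p_times_q p (P.map π) (K.map π) (Cfsg.pCore p (G ⧸ M)) (hP.map π) hKbcop hQp
        ?_ ?_ ?_ ?_
      · rintro _ ⟨x, hx, rfl⟩
        rw [Subgroup.mem_centralizer_iff]
        rintro _ ⟨k, hk, rfl⟩
        rw [← map_mul, ← map_mul, hKP x hx k hk]
      · rw [Subgroup.normalizer_eq_top]; exact le_top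
      · rw [Subgroup.normalizer_eq_top]; exact le_top
      · rintro q ⟨hq1, hq2⟩
        have hq3 : q ∈ (Subgroup.centralizer (P : Set G)).map π := by
          rw [map_centralizer_mk M P hMcop hP]
          exact hq2
        obtain ⟨n, hn, rfl⟩ := hq3
        have hnN : n ∈ N := Subgroup.centralizer_le_normalizer _ hn
        rw [Subgroup.mem_centralizer_iff]
        rintro _ ⟨k, hk, rfl⟩
        have h1 : π (k * n * k⁻¹ * n⁻¹) ∈ K.map π := by
          refine Subgroup.mem_map_of_mem _ ?_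
          have h2 := K.mul_mem hk (hKnorm n hnN _ (K.inv_mem hk))
          rwa [← mul_assoc, ← mul_assoc] at h2
        have h2 : π (k * n * k⁻¹ * n⁻¹) ∈ Cfsg.pCore p (G ⧸ M) := by
          rw [map_mul, map_inv]
          refine Subgroup.mul_mem _ ?_ (Subgroup.inv_mem _ hq1)
          rw [map_mul, map_mul, map_inv]
          exact hQn.conj_mem _ hq1 _
        have h3 := eq_one_of_mem_of_mem hQp hKbcop h2 h1
        rw [map_mul, map_inv, mul_inv_eq_one, map_mul, map_inv, mul_inv_eq_iff_eq_mul, map_mul] at h3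
        exact h3
    have key2 : K.map π ≤ Cfsg.pCore p (G ⧸ M) := key.trans hc
    intro k hk
    have h1 : π k ∈ K.map π := Subgroup.mem_map_of_mem _ hk
    have h2 : π k = 1 := eq_one_of_mem_of_mem hQp hKbcop (key2 h1) h1
    exact (QuotientGroup.eq_one_iff k).mp h2
  · -- `M ⊓ N ≤ K`
    have h1 : M.subgroupOf N ≤ Cfsg.pPrimeCore p N := by
      refine le_pPrimeCore inferInstance ?_
      refine Nat.Coprime.coprime_dvd_left ?_ hMcop
      exact Subgroup.card_comap_dvd_of_injective _ _ N.subtype_injective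
    have h2 := Subgroup.map_mono (f := N.subtype) h1
    rwa [Subgroup.subgroupOf_map_subtype] at h2

end Cfsg.Agent.S0661
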