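import Cfsg.Statements.S1162
import Cfsg.Agent.LieRecognition.SzMatrix
import Cfsg.Agent.LieRecognition.RankOneAbstract

set_option autoImplicit false
open Cfsg

namespace Cfsg.Agent.S1162

open Cfsg.Agent.LieRecognition.SzMatrix Cfsg.Agent.LieRecognition.RankOneAbstract

/-! ### Abstract part -/

section abstract

variable {G : Type*} [Group G] {B S : Subgroup G} {w : G}

/-- In a rank one Bruhat decomposition the Borel subgroup is maximal. -/
theorem eq_top_of_le (D : Data B S w) {M : Subgroup G} (hBM : B ≤ M) {g : G} (hg : g ∈ M)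
    (hgB : g ∉ B) : M = ⊤ := by
  have hw : w ∈ M := by
    obtain ⟨s, hs, h⟩ := D.bruhat g hgB
    have h1 : (s * w)⁻¹ ∈ M := by
      have := M.mul_mem (hBM h) (M.inv_mem hg)
      simpa using this
    have h2 := M.mul_mem (M.inv_mem (hBM (D.le hs))) (M.inv_mem h1)
    simpa using h2
  rw [eq_top_iff]
  rintro x -
  by_cases hx : x ∈ B
  · exact hBM hx
  · obtain ⟨s, hs, h⟩ := D.bruhat x hx
    have := M.mul_mem (M.mul_mem (hBM (D.le hs)) hw) (hBM h)
    rwa [mul_inv_cancel_left] at this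

theorem sup_eq_top (D : Data B S w) {N : Subgroup G} (hN : ¬ N ≤ B) : N ⊔ B = ⊤ := by
  obtain ⟨g, hg, hgB⟩ := SetLike.not_le_iff_exists.1 hN
  exact eq_top_of_le D le_sup_right (Subgroup.mem_sup_left hg) hgB

/-- A perfect group `G = N B` with `B` having a short derived series is `N`. -/
theorem eq_top_of_perfect {N B S Z : Subgroup G} [hN : N.Normal] (hperf : commutator G = ⊤)
    (hNB : N ⊔ B = ⊤) (h1 : ⁅B, B⁆ ≤ S) (h2 : ⁅S, S⁆ ≤ Z) (h3 : ⁅Z, Z⁆ ≤ ⊥) : N = ⊤ := by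
  have hmapB : Subgroup.map (QuotientGroup.mk' N) B = ⊤ := by
    have h4 := congrArg (Subgroup.map (QuotientGroup.mk' N)) hNB
    rw [Subgroup.map_sup, Subgroup.map_top_of_surjective _ (QuotientGroup.mk'_surjective N),
      QuotientGroup.map_mk'_self, bot_sup_eq] at h4
    exact h4
  have hQ : ⁅(⊤ : Subgroup (G ⧸ N)), (⊤ : Subgroup (G ⧸ N))⁆ = ⊤ := by
    have h1 : Subgroup.map (QuotientGroup.mk' N) ⊤ = ⊤ :=
      Subgroup.map_top_of_surjective _ (QuotientGroup.mk'_surjective N)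
    have h2 : Subgroup.map (QuotientGroup.mk' N) ⁅(⊤ : Subgroup G), ⊤⁆ = ⊤ := by
      rw [← commutator_def, hperf, h1]
    rw [Subgroup.map_commutator, h1] at h2
    exact h2
  have step : ∀ K L : Subgroup G, ⁅K, K⁆ ≤ L →
      Subgroup.map (QuotientGroup.mk' N) K = ⊤ → Subgroup.map (QuotientGroup.mk' N) L = ⊤ := by
    intro K L hKL hK
    rw [eq_top_iff, ← hQ, ← hK, ← Subgroup.map_commutator]
    exact Subgroup.map_mono hKL
  have h4 := step Z ⊥ h3 (step S Z h2 (step B S h1 hmapB))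
  rw [Subgroup.map_bot] at h4
  have h5 : Subsingleton (G ⧸ N) := by
    rw [← Subgroup.subsingleton_iff (G := G ⧸ N)]
    exact subsingleton_of_bot_eq_top h4
  exact QuotientGroup.subgroup_eq_top_of_subsingleton N h5

end abstract

/-! ### The Suzuki groups -/

section suzuki

variable {F : Type*} [Field F] {θ : F →+* F} {e : ℕ}

theorem data_sz (H : Good F θ e) : Data H.borel H.unip H.w where
  w_not_mem := H.w_not_mem_borel
  le := H.unip_le_borel
  norm h hh s hs := H.borel_normalizes h hh s hs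
  bruhat g hg := H.bruhat_sz g hg
  inter s hs h := H.inter_trivial s hs h

theorem eq_one_of_theta (H : Good F θ e) {k : Fˣ} (h : θ k = k) : k = 1 := by
  have h1 : (k : F) = k ^ 2 := by
    have := H.sq (k : F)
    rwa [h, h] at this
  have h2 : (k : F) * 1 = k * k := by rw [mul_one, ← sq]; exact h1
  exact Units.ext (mul_left_cancel₀ k.ne_zero h2).symm

/-- the core of the Borel subgroup is trivial -/
theorem eq_bot_of_le_borel (H : Good F θ e) (N : Subgroup ↥(Cfsg.Lie.Sz F e)) [hN : N.Normal]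
    (hNB : N ≤ H.borel) : N = ⊥ := by
  -- elements of `N` are diagonal
  have key : ∀ n ∈ N, ∃ k : Fˣ, n = H.d k := by
    intro n hn
    obtain ⟨a, b, k, rfl⟩ := (H.mem_borel_iff' n).1 (hNB hn)
    refine ⟨k, ?_⟩
    have h1 := hNB (hN.conj_mem _ hn H.w)
    have h2 : (H.w)⁻¹ * H.u a b * H.w ∈ H.borel := by
      have h3 := mul_mem h1 (inv_mem (H.d_mem_borel k⁻¹))
      have h4 : H.w * (H.u a b * H.d k) * (H.w)⁻¹ * (H.d k⁻¹)⁻¹ = (H.w)⁻¹ * H.u a b * H.w := by
        have h5 : H.d k * (H.w)⁻¹ * (H.d k⁻¹)⁻¹ = H.w := by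
          rw [H.d_inv, inv_inv, H.w_inv, mul_assoc, H.w_mul_d, ← mul_assoc, H.d_mul, mul_inv_cancel,
            H.d_one, one_mul]
        calc H.w * (H.u a b * H.d k) * (H.w)⁻¹ * (H.d k⁻¹)⁻¹
            = H.w * H.u a b * (H.d k * (H.w)⁻¹ * (H.d k⁻¹)⁻¹) := by simp only [mul_assoc]
          _ = _ := by rw [h5, H.w_inv]
      rwa [h4] at h3
    rw [H.inter_trivial _ (H.u_mem_unip a b) h2, one_mul]
  rw [eq_bot_iff]
  intro n hn
  obtain ⟨k, rfl⟩ := key n hn
  rw [Subgroup.mem_bot]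
  have h1 : H.d k * H.u 0 1 * (H.d k)⁻¹ * (H.u 0 1)⁻¹ ∈ N := by
    have h2 := mul_mem hn (hN.conj_mem _ (inv_mem hn) (H.u 0 1))
    have h3 : H.d k * (H.u 0 1 * (H.d k)⁻¹ * (H.u 0 1)⁻¹) =
        H.d k * H.u 0 1 * (H.d k)⁻¹ * (H.u 0 1)⁻¹ := by simp only [mul_assoc]
    rwa [h3] at h2
  obtain ⟨l, hl⟩ := key _ h1
  rw [H.d_mul_u, mul_inv_cancel_right, H.u_inv, H.u_mul] at hl
  have hl' : H.u (0 * (k : F) ^ 2 * (θ k)⁻¹ + 0) (1 * θ k + (1 + 0 * θ 0) +
      0 * (k : F) ^ 2 * (θ k)⁻¹ * θ 0) * H.d 1 = H.u 0 0 * H.d l := by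
    rw [H.d_one, H.u_zero, one_mul (H.d l), ← hl, mul_one (H.u _ _)]
  obtain ⟨-, h5, -⟩ := H.u_mul_d_inj hl'
  have h6 : θ (k : F) = 1 := by
    linear_combination h5 - H.two
  have h7 : k = 1 := by
    apply Units.ext
    have : θ (k : F) = θ 1 := by rw [h6, map_one]
    exact θ.injective this
  rw [h7, H.d_one]

/-- the unipotent elements lie in the derived subgroup -/
theorem u_mem_commutator (H : Good F θ e) {k : Fˣ} (hk : k ≠ 1) (x y : F) :
    H.u x y ∈ commutator ↥(Cfsg.Lie.Sz F e) := by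
  have hk0 : (k : F) ≠ 0 := k.ne_zero
  have hθ0 : θ (k : F) ≠ 0 := theta_ne_zero θ k
  have hk1 : (k : F) ^ 2 * (θ k)⁻¹ - 1 ≠ 0 := by
    intro h
    apply hk
    have h1 : (k : F) ^ 2 = θ k := by
      have h2 : (k : F) ^ 2 * (θ k)⁻¹ = 1 := sub_eq_zero.1 h
      field_simp at h2
      exact h2
    apply eq_one_of_theta H
    rw [← H.sq] at h1
    exact θ.injective h1
  have hk2 : θ (k : F) - 1 ≠ 0 := by
    intro h
    apply hk
    apply Units.ext
    have : θ (k : F) = θ 1 := by rw [sub_eq_zero.1 h, map_one]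
    exact θ.injective this
  set a : F := x / ((k : F) ^ 2 * (θ k)⁻¹ - 1) with ha
  have e1 : a * (k : F) ^ 2 * (θ k)⁻¹ + a = x := by
    have : a * ((k : F) ^ 2 * (θ k)⁻¹ - 1) = x := by
      rw [ha]
      exact div_mul_cancel₀ _ hk1
    linear_combination this + a * H.two
  set c : F := y + a * θ a + (a * (k : F) ^ 2 * (θ k)⁻¹) * θ a with hc
  set b : F := c / (θ (k : F) - 1) with hb
  have e2 : b * θ (k : F) + b = c := by
    have : b * (θ (k : F) - 1) = c := by
      rw [hb]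
      exact div_mul_cancel₀ _ hk2
    linear_combination this + b * H.two
  have key : H.u x y = H.d k * H.u a b * (H.d k)⁻¹ * (H.u a b)⁻¹ := by
    rw [H.d_mul_u, mul_inv_cancel_right, H.u_inv, H.u_mul, e1]
    congr 1
    have h3 : b * θ (k : F) + (b + a * θ a) + a * (k : F) ^ 2 * (θ k)⁻¹ * θ a =
      c + a * θ a + a * (k : F) ^ 2 * (θ k)⁻¹ * θ a := by
      rw [← e2]; ring
    rw [h3, hc]
    linear_combination (-(a * θ a) - (a * (k : F) ^ 2 * (θ k)⁻¹) * θ a) * H.two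
  rw [key, ← commutatorElement_def, commutator_def]
  exact Subgroup.commutator_mem_commutator trivial trivial

/-- the diagonal elements lie in the derived subgroup -/
theorem d_mem_commutator [Finite F] (H : Good F θ e) (k : Fˣ) :
    H.d k ∈ commutator ↥(Cfsg.Lie.Sz F e) := by
  obtain ⟨l, hl⟩ : ∃ l : Fˣ, l ^ 2 = k := by
    have hinj : Function.Injective (fun l : Fˣ => l ^ 2) := by
      intro x y h
      have h' : (x : F) ^ 2 = (y : F) ^ 2 := by
        have := congrArg (Units.val) h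
        simpa using this
      apply Units.ext
      have h2 : ((x : F) - y) ^ 2 = 0 := by
        linear_combination h' + (y : F) * (y - x) * H.two
      exact sub_eq_zero.1 (pow_eq_zero_iff two_ne_zero |>.1 h2)
    exact (Finite.injective_iff_surjective.1 hinj) k
  have key : H.d k = H.w * H.d l⁻¹ * (H.w)⁻¹ * (H.d l⁻¹)⁻¹ := by
    rw [H.w_mul_d, inv_inv, mul_inv_cancel_right, H.d_inv, inv_inv, H.d_mul, ← hl, sq]
  rw [key, ← commutatorElement_def, commutator_def]
  exact Subgroup.commutator_mem_commutator trivial trivial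

theorem borel_le_commutator [Finite F] (H : Good F θ e) {k : Fˣ} (hk : k ≠ 1) :
    H.borel ≤ commutator ↥(Cfsg.Lie.Sz F e) := by
  intro g hg
  obtain ⟨a, b, l, rfl⟩ := (H.mem_borel_iff' g).1 hg
  exact mul_mem (u_mem_commutator H hk a b) (d_mem_commutator H l)

theorem perfect [Finite F] (H : Good F θ e) {k : Fˣ} (hk : k ≠ 1) :
    commutator ↥(Cfsg.Lie.Sz F e) = ⊤ := by
  have h1 : ¬ commutator ↥(Cfsg.Lie.Sz F e) ≤ H.borel := by
    intro h
    have h2 := eq_bot_of_le_borel H _ h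
    have h3 := u_mem_commutator H hk 1 0
    rw [h2, Subgroup.mem_bot, ← H.u_zero] at h3
    exact one_ne_zero (H.u_inj h3).1
  have h2 := sup_eq_top (data_sz H) h1
  rwa [sup_eq_left.2 (borel_le_commutator H hk)] at h2

/-- the subgroup of the `u 0 b` -/
def zsub (H : Good F θ e) : Subgroup ↥(Cfsg.Lie.Sz F e) where
  carrier := {g | ∃ b : F, g = H.u 0 b}
  mul_mem' := by
    rintro g h ⟨b, rfl⟩ ⟨d, rfl⟩
    exact ⟨b + d, by rw [H.u_mul, zero_mul, add_zero, add_zero]⟩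
  one_mem' := ⟨0, H.u_zero.symm⟩
  inv_mem' := by
    rintro g ⟨b, rfl⟩
    exact ⟨b, by rw [H.u_inv, zero_mul, add_zero]⟩

theorem mem_zsub (H : Good F θ e) (g : ↥(Cfsg.Lie.Sz F e)) : g ∈ zsub H ↔ ∃ b : F, g = H.u 0 b :=
  Iff.rfl

theorem commutator_borel_le (H : Good F θ e) : ⁅H.borel, H.borel⁆ ≤ H.unip := by
  rw [Subgroup.commutator_le]
  intro x hx y hy
  obtain ⟨a, b, k, rfl⟩ := (H.mem_borel_iff' x).1 hx
  obtain ⟨c, d, l, rfl⟩ := (H.mem_borel_iff' y).1 hy
  rw [commutatorElement_def]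
  have h1 : H.u a b * H.d k * (H.u c d * H.d l) * (H.u a b * H.d k)⁻¹ * (H.u c d * H.d l)⁻¹ =
      H.u a b * (H.d k * H.u c d * (H.d k)⁻¹) * (H.d l * (H.u a b)⁻¹ * (H.d l)⁻¹) *
        (H.u c d)⁻¹ := by
    have hc : H.d k * H.d l = H.d l * H.d k := by rw [H.d_mul, H.d_mul, mul_comm]
    have hc' : H.d l * (H.d k)⁻¹ = (H.d k)⁻¹ * H.d l := by
      rw [eq_inv_mul_iff_mul_eq, ← mul_assoc, hc, mul_inv_cancel_right]
    calc H.u a b * H.d k * (H.u c d * H.d l) * (H.u a b * H.d k)⁻¹ * (H.u c d * H.d l)⁻¹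
        = H.u a b * H.d k * H.u c d * (H.d l * (H.d k)⁻¹) * (H.u a b)⁻¹ * (H.d l)⁻¹ *
          (H.u c d)⁻¹ := by group
      _ = _ := by rw [hc']; group
  rw [h1]
  refine mul_mem (mul_mem (mul_mem (H.u_mem_unip a b) ?_) ?_) (inv_mem (H.u_mem_unip c d))
  · exact H.borel_normalizes _ (H.d_mem_borel k) _ (H.u_mem_unip c d)
  · exact H.borel_normalizes _ (H.d_mem_borel l) _ (inv_mem (H.u_mem_unip a b))

theorem commutator_unip_le (H : Good F θ e) : ⁅H.unip, H.unip⁆ ≤ zsub H := by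
  rw [Subgroup.commutator_le]
  intro x hx y hy
  obtain ⟨a, b, rfl⟩ := (H.mem_unip_iff x).1 hx
  obtain ⟨c, d, rfl⟩ := (H.mem_unip_iff y).1 hy
  rw [mem_zsub, commutatorElement_def, H.u_inv, H.u_inv, H.u_mul, H.u_mul, H.u_mul]
  have h0 : a + c + a + c = 0 := by linear_combination H.add_self a + H.add_self c
  rw [h0]
  exact ⟨_, rfl⟩

theorem commutator_zsub_le (H : Good F θ e) : ⁅zsub H, zsub H⁆ ≤ ⊥ := by
  rw [Subgroup.commutator_le]
  rintro x ⟨b, rfl⟩ y ⟨d, rfl⟩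
  rw [Subgroup.mem_bot, commutatorElement_def, H.u_inv, H.u_inv, H.u_mul, H.u_mul, H.u_mul,
    ← H.u_zero]
  congr 1
  · ring
  · linear_combination H.add_self b + H.add_self d

end suzuki

/-- For the Suzuki group Sz(q), q = 2^(2m+1) ≥ 8, realised as the elements g of Sp₄(F) with g* = g^θ (θ the 2^(m+1)-th power map, so that θ² is squaring): `Sz(q)` is a simple group. -/
theorem result {F : Type*} [Field F] [Fintype F] {m : ℕ} (hm : 1 ≤ m) (hF : Fintype.card F = 2 ^ (2 * m + 1)) :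
    IsSimpleGroup ↥(Cfsg.Lie.Sz F (2 ^ (m + 1))) := by
  have H := good hF
  obtain ⟨k, hk⟩ : ∃ k : Fˣ, k ≠ 1 := by
    classical
    have h8 : 2 < Fintype.card F := by
      rw [hF]
      calc 2 < 2 ^ 3 := by norm_num
        _ ≤ 2 ^ (2 * m + 1) := Nat.pow_le_pow_right (by norm_num) (by omega)
    have hu : 1 < Fintype.card Fˣ := by
      rw [Fintype.card_units]
      omega
    have : Nontrivial Fˣ := Fintype.one_lt_card_iff_nontrivial.1 hu
    exact exists_ne 1
  have hnt : Nontrivial ↥(Cfsg.Lie.Sz F (2 ^ (m + 1))) :=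
    ⟨⟨H.u 1 0, H.u 0 0, fun h => one_ne_zero (H.u_inj h).1⟩⟩
  refine ⟨fun N hN => ?_⟩
  rw [or_iff_not_imp_left]
  intro hN1
  have hNB : ¬ N ≤ H.borel := fun h => hN1 (eq_bot_of_le_borel H N h)
  exact eq_top_of_perfect (perfect H hk) (sup_eq_top (data_sz H) hNB) (commutator_borel_le H)
    (commutator_unip_le H) (commutator_zsub_le H)

end Cfsg.Agent.S1162
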