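import Cfsg.Statements.S0799
import Cfsg.Agent.ClassicalGeometry.PolePrime
import Cfsg.Agent.ClassicalGeometry.PSL2ElemOrder
import Cfsg.Agent.ClassicalGeometry.PoleBridge
import Cfsg.Agent.ClassicalGeometry.PoleCases
import Cfsg.Agent.ClassicalGeometry.DicksonWild

set_option autoImplicit false
open Cfsg

namespace Cfsg.Agent.S0799

open Matrix MulAction OnePoint
open Cfsg.Agent.ClassicalGeometry.PoleCount Cfsg.Agent.ClassicalGeometry.PoleCount.Pole
open Cfsg.Agent.ClassicalGeometry.PoleBridge
open Cfsg.Agent.ClassicalGeometry.PoleCases Cfsg.Agent.ClassicalGeometry.DicksonWild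
open Cfsg.Agent.ClassicalGeometry.PSL2Basic Cfsg.Agent.ClassicalGeometry.PSL2ElemOrder
open Cfsg.Agent.Lib.Mobius

section aux

variable {F : Type*} [Field F]

/-- A cyclic or dihedral subgroup with cyclic part of order prime to `p`. -/
theorem first_alt [Fintype F] {q : ℕ} (hF : Fintype.card F = q) (p : ℕ) [Fact p.Prime]
    [CharP F p] (H : Subgroup (Matrix.ProjectiveSpecialLinearGroup (Fin 2) F)) {k : ℕ}
    (hk0 : k ≠ 0) (hk : ¬ p ∣ k)
    (h : (IsCyclic H ∧ Nat.card H = k) ∨ Nonempty (H ≃* DihedralGroup k)) :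
    ∃ k : ℕ, (k ∣ (q + 1) / Nat.gcd 2 (q - 1) ∨ k ∣ (q - 1) / Nat.gcd 2 (q - 1)) ∧
      ((IsCyclic H ∧ Nat.card H = k) ∨ Nonempty (H ≃* DihedralGroup k)) := by
  refine ⟨k, ?_, h⟩
  obtain ⟨g, hg⟩ : ∃ g : H, orderOf g = k := by
    rcases h with ⟨hc, hc'⟩ | ⟨⟨e⟩⟩
    · obtain ⟨g, hg⟩ := hc.exists_generator
      exact ⟨g, by rw [orderOf_eq_card_of_forall_mem_zpowers hg, hc']⟩
    · refine ⟨e.symm (DihedralGroup.r 1), ?_⟩
      rw [MulEquiv.orderOf_eq, DihedralGroup.orderOf_r_one]
  have h1 : orderOf (g : Matrix.ProjectiveSpecialLinearGroup (Fin 2) F) = k := by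
    rw [Subgroup.orderOf_coe, hg]
  have h2 := orderOf_dvd hF p (g : Matrix.ProjectiveSpecialLinearGroup (Fin 2) F) (by rwa [h1])
  rw [h1] at h2
  exact h2

variable [DecidableEq F]

/-- Equivariance of the embedding of the projective lines. -/
theorem pslPerm_map {K : Type*} [Field K] [DecidableEq K] (ι : F →+* K)
    (g : Matrix.ProjectiveSpecialLinearGroup (Fin 2) F) (x : OnePoint F) :
    pslPerm K (pslMap ι g) (OnePoint.map ι x) = OnePoint.map ι (pslPerm F g x) := by
  obtain ⟨A, rfl⟩ := exists_rep g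
  rw [pslMap_mk, pslPerm_mk, pslPerm_mk, slHom_apply, slHom_apply, OnePoint.map_smul]
  rfl

theorem map_injective {K : Type*} [Field K] (ι : F →+* K) :
    Function.Injective (OnePoint.map ι) :=
  Option.map_injective ι.injective

/-- An element with `g ^ p = 1` has a fixed point over the finite field. -/
theorem exists_fix_rational [Fintype F] (p : ℕ) [Fact p.Prime] [CharP F p]
    (g : Matrix.ProjectiveSpecialLinearGroup (Fin 2) F) (hg : g ^ p = 1) :
    ∃ x : OnePoint F, pslPerm F g x = x := by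
  letI : MulAction (Subgroup.zpowers g) (OnePoint F) :=
    MulAction.compHom (OnePoint F) ((pslPerm F).comp (Subgroup.zpowers g).subtype)
  have hP : IsPGroup p (Subgroup.zpowers g) := by
    rintro ⟨_, n, rfl⟩
    refine ⟨1, Subtype.ext ?_⟩
    show (g ^ n) ^ p ^ 1 = 1
    rw [pow_one, ← zpow_natCast, ← _root_.zpow_mul, mul_comm, _root_.zpow_mul, zpow_natCast, hg, _root_.one_zpow]
  have hcard : ¬ p ∣ Nat.card (OnePoint F) := by
    have h1 : Nat.card (OnePoint F) = Fintype.card F + 1 := by
      rw [← Nat.card_eq_fintype_card]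
      exact Finite.card_option
    rw [h1]
    obtain ⟨n, hp, hn⟩ := FiniteField.card F p
    intro h2
    have h3 : p ∣ Fintype.card F := by
      rw [hn]
      exact dvd_pow_self p n.ne_zero
    have h4 := (Nat.dvd_add_right h3).mp h2
    exact (Fact.out : p.Prime).one_lt.ne' (Nat.dvd_one.mp h4)
  obtain ⟨x, hx⟩ := hP.nonempty_fixed_point_of_prime_not_dvd_card (OnePoint F) hcard
  exact ⟨x, hx ⟨g, Subgroup.mem_zpowers g⟩⟩

end aux

/-- Dickson's classification of the subgroups of PSL_2(q), q a power of the prime p, d = gcd(2, q − 1): every subgroup H is (a) cyclic or dihedral with k dividing (q+1)/d or (q−1)/d (cyclic of order k, or dihedral of order 2k), (b) isomorphic to a subgroup of the normaliser of a Sylow p-subgroup, (c) isomorphic to A_4, S_4 or A_5, or (d) isomorphic to PSL_2(K) or PGL_2(K) for a finite field K with |K|^m = q. -/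
theorem result {F : Type*} [Field F] [Fintype F] {q : ℕ} (hF : Fintype.card F = q) (p : ℕ) [Fact p.Prime] [CharP F p] (H : Subgroup (Matrix.ProjectiveSpecialLinearGroup (Fin 2) F)) : (∃ k : ℕ, (k ∣ (q + 1) / Nat.gcd 2 (q - 1) ∨ k ∣ (q - 1) / Nat.gcd 2 (q - 1)) ∧ ((IsCyclic H ∧ Nat.card H = k) ∨ Nonempty (H ≃* DihedralGroup k))) ∨ (∃ (P : Sylow p (Matrix.ProjectiveSpecialLinearGroup (Fin 2) F)) (K : Subgroup (Matrix.ProjectiveSpecialLinearGroup (Fin 2) F)), K ≤ Subgroup.normalizer ((P : Subgroup (Matrix.ProjectiveSpecialLinearGroup (Fin 2) F)) : Set (Matrix.ProjectiveSpecialLinearGroup (Fin 2) F)) ∧ Nonempty (H ≃* K)) ∨ Nonempty (H ≃* alternatingGroup (Fin 4)) ∨ Nonempty (H ≃* Equiv.Perm (Fin 4)) ∨ Nonempty (H ≃* alternatingGroup (Fin 5)) ∨ (∃ (K : Type) (_ : Field K) (_ : Fintype K) (m : ℕ), Fintype.card K ^ m = q ∧ (Nonempty (H ≃* Matrix.ProjectiveSpecialLinearGroup (Fin 2) K) ∨ Nonempty (H ≃* Matrix.ProjGenLinGroup (Fin 2) K))) := by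
  classical
  let K := AlgebraicClosure F
  haveI : CharP K p := charP_of_injective_algebraMap (algebraMap F K).injective p
  let ι : F →+* K := algebraMap F K
  let φ : H →* Matrix.ProjectiveSpecialLinearGroup (Fin 2) K := (pslMap ι).comp H.subtype
  have hφ : Function.Injective φ := (pslMap_injective ι).comp H.subtype_injective
  letI := act φ
  have pole : Pole p K H (OnePoint K) := pole_of_injective p φ hφ
  have hact : ∀ (g : H) (x : OnePoint K), g • x = pslPerm K (pslMap ι (g : _)) x := fun _ _ => rfl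
  by_cases hp : p ∣ Nat.card H
  · -- the wild case
    obtain ⟨u, hu⟩ := exists_prime_orderOf_dvd_card' p hp
    have hup : u ^ p = 1 := by rw [← hu]; exact pow_orderOf_eq_one u
    have hu1 : u ≠ 1 := by
      rintro rfl
      rw [orderOf_one] at hu
      exact (Fact.out : p.Prime).one_lt.ne hu
    obtain ⟨x₀, hx₀⟩ := pole.one u hu1 hup
    have hx₀' : x₀ ∈ Op p H (OnePoint K) := ⟨u, hu1, hup, (hx₀ x₀).mpr rfl⟩
    by_cases hone : ∀ x ∈ Op p H (OnePoint K), x = x₀
    · -- the Sylow subgroup is normal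
      right; left
      obtain ⟨P, hP⟩ := pole.exists_sylow hx₀'
      have hnorm : (P : Subgroup H).Normal := by
        rw [hP]
        refine ⟨fun n hn g => ?_⟩
        have hg : g • x₀ = x₀ := hone _ (smul_mem_Op g hx₀')
        refine ⟨?_, ?_⟩
        · rw [mul_smul, mul_smul, inv_smul_eq_iff.mpr hg.symm, hn.1, hg]
        · rw [conj_pow, hn.2, mul_one, mul_inv_cancel]
      obtain ⟨Q, hQ⟩ := exists_le_normalizer_of_sylow_normal p H P hnorm hp
      exact ⟨Q, H, hQ, ⟨MulEquiv.refl _⟩⟩
    · push Not at hone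
      obtain ⟨x₁, hx₁, hne⟩ := hone
      rcases wild_cases pole hx₀' hx₁ (Ne.symm hne) with htr | ⟨k, hk0, hk, hd⟩ | hA5
      · -- transfer to the projective line over `F`
        right; right; right; right; right
        have hrat : ∀ x ∈ Op p H (OnePoint K), ∃ x' ∈ OpF p H, OnePoint.map ι x' = x := by
          rintro x ⟨v, hv1, hvp, hvx⟩
          have hvp' : (v : Matrix.ProjectiveSpecialLinearGroup (Fin 2) F) ^ p = 1 :=
            congrArg Subtype.val hvp
          obtain ⟨x', hx'⟩ := exists_fix_rational p _ hvp'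
          refine ⟨x', ⟨v, v.2, fun h => hv1 (Subtype.ext h), hvp', hx'⟩, ?_⟩
          obtain ⟨y, hy⟩ := pole.one v hv1 hvp
          rw [(hy x).mp hvx]
          apply (hy _).mp
          rw [hact, pslPerm_map, hx']
        have hOp : ∀ x ∈ OpF p H, OnePoint.map ι x ∈ Op p H (OnePoint K) := by
          rintro x ⟨v, hvH, hv1, hvp, hvx⟩
          refine ⟨⟨v, hvH⟩, fun h => hv1 (congrArg Subtype.val h), Subtype.ext hvp, ?_⟩
          rw [hact, pslPerm_map, hvx]
        have hTr : Trans p H := by
          intro x hx y hy z hz hyx hzx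
          obtain ⟨g, hgp, hgx, hgy⟩ := htr _ (hOp x hx) _ (hOp y hy) _ (hOp z hz)
            (fun h => hyx (map_injective ι h)) (fun h => hzx (map_injective ι h))
          refine ⟨g, g.2, congrArg Subtype.val hgp, ?_, ?_⟩
          · apply map_injective ι
            rw [← pslPerm_map, ← hact, hgx]
          · apply map_injective ι
            rw [← pslPerm_map, ← hact, hgy]
        obtain ⟨a, ha, hax⟩ := hrat x₀ hx₀'
        obtain ⟨b, hb, hbx⟩ := hrat x₁ hx₁
        have hab : a ≠ b := by
          rintro rfl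
          exact hne (hbx.symm.trans hax)
        obtain ⟨L, i1, i2, m, hm, h3⟩ := main_trans p H ha hb hab hTr
        exact ⟨L, i1, i2, m, hm.trans hF, h3⟩
      · left
        exact first_alt hF p H hk0 hk (Or.inr hd)
      · right; right; right; right; left
        exact hA5
  · -- the tame case
    have hpow : ∀ g : H, g ≠ 1 → g ^ p ≠ 1 := by
      intro g hg hgp
      apply hp
      rw [← orderOf_eq_prime hgp hg]
      exact orderOf_dvd_natCard g
    have hcyc : ∀ x : OnePoint K, IsCyclic (stabilizer H x) := by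
      intro x
      obtain ⟨χ, hχ⟩ := pole.chi x
      have hinj : Function.Injective χ := by
        rw [injective_iff_map_eq_one]
        intro g hg
        by_contra hne
        have h1 := (hχ g).mp hg
        exact hpow g (fun h => hne (Subtype.ext h)) (congrArg Subtype.val h1)
      have hcoe : Function.Injective (Units.coeHom K) := Units.val_injective
      exact isCyclic_of_injective_ringHom ((Units.coeHom K).comp χ) (hcoe.comp hinj)
    have hpos : Nat.card H ≠ 0 := Nat.card_pos.ne'
    rcases Cfsg.Agent.ClassicalGeometry.PolePrime.pole_prime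
      (fun (g : H) hg => pole.two g (hpow g hg)) hcyc with h1 | ⟨k, hk, h1⟩ | h1 | h1 | h1
    · left
      exact first_alt hF p H hpos hp (Or.inl ⟨h1, rfl⟩)
    · left
      have hkp : ¬ p ∣ k := by
        intro h2
        apply hp
        obtain ⟨e⟩ := h1
        rw [Nat.card_congr e.toEquiv, DihedralGroup.nat_card]
        exact h2.mul_left 2
      exact first_alt hF p H (by omega) hkp (Or.inr h1)
    · exact Or.inr (Or.inr (Or.inl h1))
    · exact Or.inr (Or.inr (Or.inr (Or.inl h1)))
    · exact Or.inr (Or.inr (Or.inr (Or.inr (Or.inl h1))))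

end Cfsg.Agent.S0799
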