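import Cfsg.Statements.S0810
import Cfsg.Agent.ClassicalGeometry.PSL2Solvable
import Cfsg.Agent.S0799
import Cfsg.Agent.S0804

set_option autoImplicit false
open Cfsg

namespace Cfsg.Agent.S0810

open Cfsg.Agent.ClassicalGeometry.PSL2Basic Cfsg.Agent.ClassicalGeometry.PSL2Solvable

theorem le_card_psl (F : Type*) [Field F] [Fintype F] :
    Fintype.card F * (Fintype.card F ^ 2 - 1) ≤
      Nat.card (Matrix.ProjectiveSpecialLinearGroup (Fin 2) F) * 2 := by
  rcases Nat.even_or_odd (Fintype.card F) with he | ho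
  · rw [card_PSL2_even F he]
    omega
  · rw [card_PSL2_odd F ho]

theorem card_psl_le (F : Type*) [Field F] [Fintype F] :
    Nat.card (Matrix.ProjectiveSpecialLinearGroup (Fin 2) F) ≤
      Fintype.card F * (Fintype.card F ^ 2 - 1) := by
  rcases Nat.even_or_odd (Fintype.card F) with he | ho
  · rw [card_PSL2_even F he]
  · rw [← card_PSL2_odd F ho]
    omega

/-- `PSL(2, q)` has order 60 only for `q = 4` and `q = 5`. -/
theorem card_eq_sixty_iff (F : Type*) [Field F] [Fintype F] :
    Nat.card (Matrix.ProjectiveSpecialLinearGroup (Fin 2) F) = 60 ↔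
      Fintype.card F = 4 ∨ Fintype.card F = 5 := by
  constructor
  · intro h
    have h1 := le_card_psl F
    have h2 := card_psl_le F
    rw [h] at h1 h2
    have h3 : Fintype.card F < 6 := by
      by_contra hcon
      have h4 : 6 * (6 ^ 2 - 1) ≤ Fintype.card F * (Fintype.card F ^ 2 - 1) :=
        Nat.mul_le_mul (by omega) (Nat.sub_le_sub_right (Nat.pow_le_pow_left (by omega) 2) 1)
      omega
    have h5 : 3 < Fintype.card F := by
      by_contra hcon
      have h4 : Fintype.card F * (Fintype.card F ^ 2 - 1) ≤ 3 * (3 ^ 2 - 1) :=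
        Nat.mul_le_mul (by omega) (Nat.sub_le_sub_right (Nat.pow_le_pow_left (by omega) 2) 1)
      omega
    omega
  · rintro (h | h)
    · rw [card_PSL2_even F (by rw [h]; decide), h]
      norm_num
    · have := card_PSL2_odd F (by rw [h]; decide)
      rw [h] at this
      omega

section forward

variable {F : Type*} [Field F] [Fintype F]

theorem four_le (h : Cfsg.IsMinimalSimple (Matrix.ProjectiveSpecialLinearGroup (Fin 2) F)) :
    4 ≤ Fintype.card F := by
  obtain ⟨hs, hc, -⟩ := h
  by_contra hcon
  have hq : 1 < Fintype.card F := Fintype.one_lt_card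
  have hdvd : Nat.card (Matrix.ProjectiveSpecialLinearGroup (Fin 2) F) ∣ 72 := by
    rcases Nat.even_or_odd (Fintype.card F) with he | ho
    · have h2 : Fintype.card F = 2 := by
        rw [Nat.even_iff] at he
        omega
      rw [card_PSL2_even F he, h2]
      norm_num
    · have h3 : Fintype.card F = 3 := by
        rw [Nat.odd_iff] at ho
        omega
      have h1 := card_PSL2_odd F ho
      rw [h3] at h1
      have : Nat.card (Matrix.ProjectiveSpecialLinearGroup (Fin 2) F) = 12 := by omega
      rw [this]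
      norm_num
  have hsol := Cfsg.Agent.LieClassical.Order72.isSolvable_of_card_dvd hdvd
  apply hc
  exact ⟨⟨IsSimpleGroup.comm_iff_isSolvable.mpr hsol⟩⟩

/-- A proper subfield with at least four elements is impossible. -/
theorem false_of_subfield
    (h : Cfsg.IsMinimalSimple (Matrix.ProjectiveSpecialLinearGroup (Fin 2) F))
    {K : Type*} [Field K] [Fintype K] {m : ℕ} (hm : 2 ≤ m)
    (hK : Fintype.card K ^ m = Fintype.card F) (h4 : 4 ≤ Fintype.card K) : False := by
  obtain ⟨f⟩ := exists_ringHom_of_card_pow hK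
  have hinj := pslMap_injective (n := Fin 2) f
  have hns := not_isSolvable_psl K h4
  have htop : (pslMap (n := Fin 2) f).range ≠ ⊤ := by
    intro ht
    have h1 : Nat.card (Matrix.ProjectiveSpecialLinearGroup (Fin 2) K) =
        Nat.card (Matrix.ProjectiveSpecialLinearGroup (Fin 2) F) := by
      rw [Nat.card_congr (MonoidHom.ofInjective hinj).toEquiv, ht]
      exact Subgroup.card_top
    have h2 := le_card_psl F
    have h3 := card_psl_le K
    rw [← h1] at h2
    have h5 : Fintype.card K ^ 2 ≤ Fintype.card F := by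
      rw [← hK]
      exact Nat.pow_le_pow_right (by omega) hm
    have h6 : Fintype.card K * Fintype.card K ≤ Fintype.card F := by
      rw [← pow_two]; exact h5
    have h7 : Fintype.card K * 4 ≤ Fintype.card F :=
      le_trans (Nat.mul_le_mul_left _ h4) h6
    have h8 : Fintype.card K ^ 2 - 1 ≤ Fintype.card F ^ 2 - 1 :=
      Nat.sub_le_sub_right (Nat.pow_le_pow_left (by omega) 2) 1
    have h9 : Fintype.card K * 4 * (Fintype.card K ^ 2 - 1) ≤
        Fintype.card F * (Fintype.card F ^ 2 - 1) := Nat.mul_le_mul h7 h8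
    have h10 : 0 < Fintype.card K * (Fintype.card K ^ 2 - 1) := by
      apply Nat.mul_pos (by omega)
      have : 4 ^ 2 ≤ Fintype.card K ^ 2 := Nat.pow_le_pow_left h4 2
      omega
    nlinarith
  have hsol := h.2.2 _ htop
  exact hns (Group.isSolvable_of_surjective (f := (MonoidHom.ofInjective hinj).symm.toMonoidHom)
    (MonoidHom.ofInjective hinj).symm.surjective)

/-- `5 ∣ q (q² - 1)` forces `q = 4` or `q = 5`. -/
theorem eq_of_five_dvd
    (h : Cfsg.IsMinimalSimple (Matrix.ProjectiveSpecialLinearGroup (Fin 2) F))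
    (h5 : 5 ∣ Fintype.card F * (Fintype.card F ^ 2 - 1)) :
    Fintype.card F = 4 ∨ Fintype.card F = 5 := by
  obtain ⟨H, ⟨e⟩⟩ := (Cfsg.Agent.S0804.result (F := F) rfl).mpr h5
  by_cases ht : H = ⊤
  · rw [← card_eq_sixty_iff]
    have h60 : Nat.card (alternatingGroup (Fin 5)) = 60 := by
      rw [Nat.card_eq_fintype_card]
      decide +kernel
    rw [← h60, ← Nat.card_congr e.toEquiv, ht]
    exact Subgroup.card_top.symm
  · exfalso
    have hsol := h.2.2 _ ht
    exact not_isSolvable_alternating_five
      (Group.isSolvable_of_surjective (f := e.toMonoidHom) e.surjective)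

theorem forward (h : Cfsg.IsMinimalSimple (Matrix.ProjectiveSpecialLinearGroup (Fin 2) F)) :
    (∃ r : ℕ, r.Prime ∧ Fintype.card F = 2 ^ r) ∨
    (∃ r : ℕ, r.Prime ∧ r ≠ 2 ∧ Fintype.card F = 3 ^ r) ∨
    ((Fintype.card F).Prime ∧ 5 < Fintype.card F ∧
      (Fintype.card F % 5 = 2 ∨ Fintype.card F % 5 = 3)) ∨ Fintype.card F = 5 := by
  have h4 := four_le h
  obtain ⟨p, hchar⟩ := CharP.exists F
  obtain ⟨n, hp, hn⟩ := FiniteField.card F p
  have hpf : Fact p.Prime := ⟨hp⟩
  have hn0 : 0 < (n : ℕ) := n.pos
  -- a divisor `a` of `n` with `a < n` gives `p ^ a < 4`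
  have key : ∀ a : ℕ, a ∣ (n : ℕ) → a < n → p ^ a < 4 := by
    intro a ha hlt
    by_contra hcon
    obtain ⟨m, hm⟩ := ha
    have ha0 : a ≠ 0 := by
      rintro rfl
      simp at hcon
    have hm2 : 2 ≤ m := by
      by_contra h2
      have : m = 0 ∨ m = 1 := by omega
      rcases this with rfl | rfl <;> omega
    have hfin : Fintype (GaloisField p a) := Fintype.ofFinite _
    have hcard : Fintype.card (GaloisField p a) = p ^ a := by
      rw [Fintype.card_eq_nat_card]
      exact GaloisField.card p a ha0
    refine false_of_subfield h (K := GaloisField p a) hm2 ?_ ?_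
    · rw [hcard, hn, ← pow_mul, ← hm]
    · rw [hcard]
      omega
  by_cases hp2 : p = 2
  · left
    subst hp2
    refine ⟨n, ?_, hn⟩
    have hn1 : (n : ℕ) ≠ 1 := by
      intro h1
      rw [hn, h1] at h4
      omega
    have hprime := Nat.minFac_prime hn1
    obtain ⟨m, hm⟩ := Nat.minFac_dvd (n : ℕ)
    -- `m` is a proper divisor
    have hm1 : m = 1 := by
      have hmlt : m < n := by
        have := hprime.two_le
        rcases Nat.eq_zero_or_pos m with h0 | h0
        · rw [h0, mul_zero] at hm; omega
        · nlinarith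
      have h1 := key m (Dvd.intro_left _ hm.symm) hmlt
      by_contra hne
      have hm2 : 2 ≤ m := by
        rcases Nat.eq_zero_or_pos m with h0 | h0
        · rw [h0, mul_zero] at hm; omega
        · omega
      have : 2 ^ 2 ≤ 2 ^ m := Nat.pow_le_pow_right (by norm_num) hm2
      omega
    rw [hm1, mul_one] at hm
    rw [hm]
    exact hprime
  by_cases hp3 : p = 3
  · right; left
    subst hp3
    have hn1 : (n : ℕ) ≠ 1 := by
      intro h1
      rw [hn, h1] at h4
      omega
    have hodd : ¬ Even (n : ℕ) := by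
      rintro ⟨k, hk⟩
      have h5 : 5 ∣ Fintype.card F * (Fintype.card F ^ 2 - 1) := by
        apply Dvd.dvd.mul_left
        rw [hn, hk, ← two_mul, ← pow_mul]
        have h81 : 3 ^ (2 * k * 2) = 81 ^ k := by
          rw [show 2 * k * 2 = 4 * k by ring, pow_mul]
          norm_num
        rw [h81]
        have : 81 ^ k ≡ 1 ^ k [MOD 5] := Nat.ModEq.pow k (by decide)
        rw [one_pow] at this
        exact (Nat.modEq_iff_dvd' (Nat.one_le_pow _ _ (by norm_num))).mp this.symm
      rcases eq_of_five_dvd h h5 with h6 | h6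
      · rw [hn] at h6
        have : 3 ∣ 3 ^ (n : ℕ) := dvd_pow_self 3 (by omega)
        rw [h6] at this
        omega
      · rw [hn] at h6
        have : 3 ∣ 3 ^ (n : ℕ) := dvd_pow_self 3 (by omega)
        rw [h6] at this
        omega
    refine ⟨n, ?_, ?_, hn⟩
    · have hprime := Nat.minFac_prime hn1
      obtain ⟨m, hm⟩ := Nat.minFac_dvd (n : ℕ)
      have hm1 : m = 1 := by
        have hmlt : m < n := by
          have := hprime.two_le
          rcases Nat.eq_zero_or_pos m with h0 | h0
          · rw [h0, mul_zero] at hm; omega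
          · nlinarith
        have h1 := key m (Dvd.intro_left _ hm.symm) hmlt
        by_contra hne
        have hm2 : 2 ≤ m := by
          rcases Nat.eq_zero_or_pos m with h0 | h0
          · rw [h0, mul_zero] at hm; omega
          · omega
        have : 3 ^ 2 ≤ 3 ^ m := Nat.pow_le_pow_right (by norm_num) hm2
        omega
      rw [hm1, mul_one] at hm
      rw [hm]
      exact hprime
    · intro h2
      apply hodd
      rw [h2]
      decide
  · right; right
    have hp5 : 5 ≤ p := by
      have h2 := hp.two_le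
      have h4' : p ≠ 4 := by
        rintro rfl
        exact absurd hp (by norm_num)
      omega
    have hn1 : (n : ℕ) = 1 := by
      by_contra hne
      have h1 := key 1 (one_dvd _) (by omega)
      rw [pow_one] at h1
      omega
    rw [hn1, pow_one] at hn
    rw [hn]
    by_cases hp5' : p = 5
    · right
      exact hp5'
    · left
      refine ⟨hp, by omega, ?_⟩
      by_contra hcon
      rw [not_or] at hcon
      have h0 : p % 5 ≠ 0 := by
        intro h0
        have := (Nat.prime_dvd_prime_iff_eq Nat.prime_five hp).mp (Nat.dvd_of_mod_eq_zero h0)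
        omega
      have h5 : 5 ∣ Fintype.card F * (Fintype.card F ^ 2 - 1) := by
        rw [hn]
        apply Dvd.dvd.mul_left
        have h1 : p % 5 = 1 ∨ p % 5 = 4 := by omega
        have h2 : p ^ 2 ≡ 1 [MOD 5] := by
          rcases h1 with h1 | h1
          · have : p ≡ 1 [MOD 5] := h1
            exact this.pow 2
          · have : p ≡ 4 [MOD 5] := h1
            exact (this.pow 2).trans (by decide)
        exact (Nat.modEq_iff_dvd' (Nat.one_le_pow _ _ (by omega))).mp h2.symm
      rcases eq_of_five_dvd h h5 with h6 | h6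
      · omega
      · omega

end forward

section backward

variable {F : Type*} [Field F] [Fintype F]

/-- The numerical facts used in the backward direction. -/
theorem backward (h4 : 4 ≤ Fintype.card F)
    (hsub : ∀ k m : ℕ, 1 < k → k ^ m = Fintype.card F → k = Fintype.card F ∨ k = 2 ∨ k = 3)
    (h5 : 5 ∣ Fintype.card F * (Fintype.card F ^ 2 - 1) →
      Fintype.card F = 4 ∨ Fintype.card F = 5) :
    Cfsg.IsMinimalSimple (Matrix.ProjectiveSpecialLinearGroup (Fin 2) F) := by
  have hs : IsSimpleGroup (Matrix.ProjectiveSpecialLinearGroup (Fin 2) F) :=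
    Matrix.ProjectiveSpecialLinearGroup.rank_two_simple (by rwa [Nat.card_eq_fintype_card])
  refine ⟨hs, ?_, ?_⟩
  · intro hc
    exact not_isSolvable_psl F h4 (Group.isSolvable_of_comm fun a b => hc.is_comm.comm a b)
  intro H hH
  have hcard : Nat.card H ≠ Nat.card (Matrix.ProjectiveSpecialLinearGroup (Fin 2) F) := by
    intro h
    exact hH (Subgroup.eq_top_of_card_eq H h)
  have hcard' : Nat.card H ≤ Nat.card (Matrix.ProjectiveSpecialLinearGroup (Fin 2) F) :=
    Subgroup.card_le_card_group H
  have hlt := lt_of_le_of_ne hcard' hcard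
  obtain ⟨p, hchar⟩ := CharP.exists F
  obtain ⟨n, hp, hn⟩ := FiniteField.card F p
  have hpf : Fact p.Prime := ⟨hp⟩
  rcases Cfsg.Agent.S0799.result (F := F) rfl p H with
    ⟨k, -, ⟨hcyc, -⟩ | ⟨⟨e⟩⟩⟩ | ⟨P, K, hK, ⟨e⟩⟩ | ⟨⟨e⟩⟩ | ⟨⟨e⟩⟩ | ⟨⟨e⟩⟩ |
      ⟨K, hfield, hfin, m, hKm, ⟨⟨e⟩⟩ | ⟨⟨e⟩⟩⟩
  · have hc := hcyc.isMulCommutative
    exact Group.isSolvable_of_comm fun a b => hc.is_comm.comm a b
  · have := isSolvable_dihedral k
    exact Group.isSolvable_of_isSolvable_injective (f := e.toMonoidHom) e.injective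
  · have := isSolvable_of_le_normalizer p P K hK
    exact Group.isSolvable_of_isSolvable_injective (f := e.toMonoidHom) e.injective
  · apply Cfsg.Agent.LieClassical.Order72.isSolvable_of_card_dvd
    rw [Nat.card_congr e.toEquiv]
    have : Nat.card (alternatingGroup (Fin 4)) = 12 := by
      rw [Nat.card_eq_fintype_card]
      decide +kernel
    rw [this]
    norm_num
  · apply Cfsg.Agent.LieClassical.Order72.isSolvable_of_card_dvd
    rw [Nat.card_congr e.toEquiv, Nat.card_eq_fintype_card, Fintype.card_perm, Fintype.card_fin]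
    decide
  · exfalso
    have h60 : Nat.card (alternatingGroup (Fin 5)) = 60 := by
      rw [Nat.card_eq_fintype_card]
      decide +kernel
    apply hcard
    rw [Nat.card_congr e.toEquiv, h60]
    symm
    rw [card_eq_sixty_iff]
    exact h5 ((Cfsg.Agent.S0804.result (F := F) rfl).mp ⟨H, ⟨e⟩⟩)
  · have h1 := card_psl_le K
    rcases hsub _ m Fintype.one_lt_card hKm with h2 | h2 | h2
    · exfalso
      apply hcard
      rw [Nat.card_congr e.toEquiv, card_PSL2_div, card_PSL2_div, h2]
    · apply Cfsg.Agent.LieClassical.Order72.isSolvable_of_card_dvd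
      rw [Nat.card_congr e.toEquiv, card_PSL2_div, h2]
      norm_num
    · apply Cfsg.Agent.LieClassical.Order72.isSolvable_of_card_dvd
      rw [Nat.card_congr e.toEquiv, card_PSL2_div, h2]
      norm_num
  · rcases hsub _ m Fintype.one_lt_card hKm with h2 | h2 | h2
    · exfalso
      have h1 := card_psl_le F
      rw [Nat.card_congr e.toEquiv, card_PGL2, h2] at hlt
      omega
    · apply Cfsg.Agent.LieClassical.Order72.isSolvable_of_card_dvd
      rw [Nat.card_congr e.toEquiv, card_PGL2, h2]
      norm_num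
    · apply Cfsg.Agent.LieClassical.Order72.isSolvable_of_card_dvd
      rw [Nat.card_congr e.toEquiv, card_PGL2, h2]
      norm_num

end backward

/-- If `k ^ m` is a power `p ^ r` with `p`, `r` prime then `k = p` or `k = p ^ r`. -/
theorem sub_of_prime_pow {p r k m : ℕ} (hp : p.Prime) (hr : r.Prime) (hk : 1 < k)
    (h : k ^ m = p ^ r) : k = p ^ r ∨ k = p := by
  have hm0 : m ≠ 0 := by
    rintro rfl
    rw [pow_zero] at h
    have := hr.pos
    have h1 : 1 < p ^ r := Nat.one_lt_pow (by omega) hp.one_lt
    omega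
  have hkd : k ∣ p ^ r := by
    rw [← h]
    exact dvd_pow_self k hm0
  obtain ⟨s, hs, rfl⟩ := (Nat.dvd_prime_pow hp).mp hkd
  rw [← pow_mul] at h
  have h1 : s * m = r := Nat.pow_right_injective hp.two_le h
  have h2 : s ∣ r := Dvd.intro m h1
  rcases (Nat.dvd_prime hr).mp h2 with rfl | rfl
  · right
    rw [pow_one]
  · left
    rfl

theorem sub_of_prime {p k m : ℕ} (hp : p.Prime) (hk : 1 < k) (h : k ^ m = p) : k = p := by
  have hm0 : m ≠ 0 := by
    rintro rfl
    rw [pow_zero] at h
    rw [← h] at hp
    exact absurd hp (by norm_num)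
  have hkd : k ∣ p := by
    rw [← h]
    exact dvd_pow_self k hm0
  rcases (Nat.dvd_prime hp).mp hkd with h1 | h1
  · omega
  · exact h1

/-- `5` does not divide `q (q² - 1)` if `q ≡ ± 2 (mod 5)`. -/
theorem not_five_dvd {q : ℕ} (h : q % 5 = 2 ∨ q % 5 = 3) : ¬ 5 ∣ q * (q ^ 2 - 1) := by
  intro h5
  rcases (Nat.Prime.dvd_mul Nat.prime_five).mp h5 with h1 | h1
  · omega
  · have hq : 1 ≤ q := by omega
    have h2 := (Nat.modEq_iff_dvd' (Nat.one_le_pow 2 q hq)).mpr h1
    have h3 : q ^ 2 ≡ 4 [MOD 5] := by
      rcases h with h | h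
      · have : q ≡ 2 [MOD 5] := h
        exact this.pow 2
      · have : q ≡ 3 [MOD 5] := h
        exact (this.pow 2).trans (by decide)
    have h4 := h2.trans h3
    exact absurd h4 (by decide)

theorem pow_mod_five {b : ℕ} (hb : b = 2 ∨ b = 3) {r : ℕ} (hr : r % 2 = 1) :
    b ^ r % 5 = 2 ∨ b ^ r % 5 = 3 := by
  obtain ⟨k, rfl⟩ : ∃ k, r = 2 * k + 1 := ⟨r / 2, by omega⟩
  induction k with
  | zero => rcases hb with rfl | rfl <;> simp
  | succ k ih =>
    have h1 : b ^ (2 * (k + 1) + 1) = b ^ (2 * k + 1) * (b * b) := by ring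
    rw [h1]
    have ih' := ih (by omega)
    rcases hb with rfl | rfl <;> omega

/-- PSL_2(q) is minimal simple iff q is 2^r (r prime), 3^r (r an odd prime), a prime greater than 5 congruent to 2 or 3 mod 5, or 5. -/
theorem result {F : Type*} [Field F] [Fintype F] {q : ℕ} (hF : Fintype.card F = q) : Cfsg.IsMinimalSimple (Matrix.ProjectiveSpecialLinearGroup (Fin 2) F) ↔ ((∃ r : ℕ, r.Prime ∧ q = 2 ^ r) ∨ (∃ r : ℕ, r.Prime ∧ r ≠ 2 ∧ q = 3 ^ r) ∨ (q.Prime ∧ 5 < q ∧ (q % 5 = 2 ∨ q % 5 = 3)) ∨ q = 5) := by
  subst hF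
  refine ⟨forward, ?_⟩
  rintro (⟨r, hr, hq⟩ | ⟨r, hr, hr2, hq⟩ | ⟨hp, h5, hmod⟩ | h5)
  · apply backward
    · rw [hq]
      exact Nat.pow_le_pow_right (n := 2) (by norm_num) hr.two_le
    · intro k m hk hkm
      rw [hq] at hkm ⊢
      rcases sub_of_prime_pow Nat.prime_two hr hk hkm with h | h
      · exact Or.inl h
      · exact Or.inr (Or.inl h)
    · intro h5
      rcases hr.eq_two_or_odd with h2 | h2
      · left
        rw [hq, h2]
        norm_num
      · exfalso
        refine not_five_dvd ?_ h5
        rw [hq]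
        exact pow_mod_five (Or.inl rfl) h2
  · apply backward
    · rw [hq]
      exact le_trans (by norm_num) (Nat.pow_le_pow_right (n := 3) (by norm_num) hr.two_le)
    · intro k m hk hkm
      rw [hq] at hkm ⊢
      rcases sub_of_prime_pow Nat.prime_three hr hk hkm with h | h
      · exact Or.inl h
      · exact Or.inr (Or.inr h)
    · intro h5
      rcases hr.eq_two_or_odd with h2 | h2
      · exact absurd h2 hr2
      · exfalso
        refine not_five_dvd ?_ h5
        rw [hq]
        exact pow_mod_five (Or.inr rfl) h2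
  · apply backward
    · omega
    · intro k m hk hkm
      exact Or.inl (sub_of_prime hp hk hkm)
    · intro h
      exact absurd h (not_five_dvd hmod)
  · apply backward
    · omega
    · intro k m hk hkm
      have hp : (Fintype.card F).Prime := by rw [h5]; norm_num
      exact Or.inl (sub_of_prime hp hk hkm)
    · intro _
      exact Or.inr h5

end Cfsg.Agent.S0810
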