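import Cfsg.Statements.S0214
import Mathlib

set_option autoImplicit false
open Cfsg

namespace Cfsg.Agent.S0214

open Subgroup

private theorem exists_sylow_eq {G : Type*} [Group G] [Finite G] (L T : Subgroup G)
    (hT : IsPGroup 2 T) (hTL : T ≤ L)
    (hmax : ∀ S : Subgroup G, IsPGroup 2 S → T ≤ S → S ≤ L → S ≤ Subgroup.normalizer (T : Set G) → S = T) :
    ∃ Q : Sylow 2 L, (Q : Subgroup L).map L.subtype = T := by
  have : Fact (Nat.Prime 2) := ⟨Nat.prime_two⟩
  have h1 : IsPGroup 2 (T.subgroupOf L) := hT.comap_of_injective L.subtype (Subgroup.subtype_injective L)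
  obtain ⟨Q, hQ⟩ := h1.exists_le_sylow
  refine ⟨Q, ?_⟩
  set S : Subgroup G := (Q : Subgroup L).map L.subtype with hS
  have hTS : T ≤ S := by
    intro x hx
    exact ⟨⟨x, hTL hx⟩, hQ (by simpa [Subgroup.mem_subgroupOf] using hx), rfl⟩
  have hSp : IsPGroup 2 S := Q.isPGroup'.map L.subtype
  have hSL : S ≤ L := by
    rintro x ⟨y, _, rfl⟩; exact y.2
  by_contra hne
  have : Group.IsNilpotent S := hSp.isNilpotent
  have hlt : T.subgroupOf S < ⊤ := by
    rw [lt_top_iff_ne_top]
    intro h
    rw [Subgroup.subgroupOf_eq_top] at h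
    exact hne (le_antisymm h hTS)
  have hn := Group.normalizerCondition_of_isNilpotent (G := S) (T.subgroupOf S) hlt
  set N : Subgroup S := Subgroup.normalizer ((T.subgroupOf S : Subgroup S) : Set S) with hN
  have hN1 : N.map S.subtype = T := by
    apply hmax
    · exact (hSp.to_subgroup N).map S.subtype
    · intro x hx
      refine ⟨⟨x, hTS hx⟩, ?_, rfl⟩
      exact hn.le (by simpa [Subgroup.mem_subgroupOf] using hx)
    · rintro x ⟨y, _, rfl⟩
      exact hSL y.2
    · rintro x ⟨y, hy, rfl⟩
      rw [Subgroup.mem_normalizer_iff]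
      have hy' : y ∈ N := hy
      rw [hN, Subgroup.mem_normalizer_iff] at hy'
      intro h
      constructor
      · intro hh
        have := (hy' ⟨h, hTS hh⟩).1 (by simpa [Subgroup.mem_subgroupOf] using hh)
        simpa [Subgroup.mem_subgroupOf] using this
      · intro hh
        have hhS : h ∈ S := by
          have h2 : (y : G) * h * (y : G)⁻¹ ∈ S := hTS hh
          have h3 : (y : G)⁻¹ * ((y : G) * h * (y : G)⁻¹) * (y : G) ∈ S :=
            S.mul_mem (S.mul_mem (S.inv_mem y.2) h2) y.2
          have h4 : (y : G)⁻¹ * ((y : G) * h * (y : G)⁻¹) * (y : G) = h := by group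
          rwa [h4] at h3
        have := (hy' ⟨h, hhS⟩).2 (by simpa [Subgroup.mem_subgroupOf] using hh)
        simpa [Subgroup.mem_subgroupOf] using this
  apply hn.not_ge
  intro x hx
  have : (x : G) ∈ N.map S.subtype := ⟨x, hx, rfl⟩
  rw [hN1] at this
  simpa [Subgroup.mem_subgroupOf] using this

/-- Let H be a proper subgroup of the finite group G and P a nontrivial Sylow 2-subgroup of H. Then H is strongly embedded in G if and only if N_G(X) ≤ H for every nontrivial subgroup X of P. -/
theorem result {G : Type*} [Group G] [Finite G] (H : Subgroup G) (hH : H ≠ ⊤) (P : Sylow 2 ↥H) (hP : (P : Subgroup ↥H) ≠ ⊥) : Cfsg.IsStronglyEmbedded H ↔ (∀ X : Subgroup ↥H, X ≤ (P : Subgroup ↥H) → X ≠ ⊥ → Subgroup.normalizer ((X.map H.subtype : Subgroup G) : Set G) ≤ H) := by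
  have : Fact (Nat.Prime 2) := ⟨Nat.prime_two⟩
  have heven : ∀ {K : Type _} [Group K] [Finite K], IsPGroup 2 K → Nat.card K ≠ 1 → Even (Nat.card K) := by
    intro K _ _ h1 h2
    obtain ⟨n, hn⟩ := IsPGroup.iff_card.mp h1
    rw [hn] at h2 ⊢
    have : n ≠ 0 := by rintro rfl; simp at h2
    exact (Nat.even_pow.mpr ⟨even_two, this⟩)
  constructor
  · rintro ⟨_, _, hodd⟩ X hXP hX g hg
    by_contra hgH
    have h1 := hodd g hgH
    set K := H ⊓ H.map (MulAut.conj g).toMonoidHom with hK
    have hXK : X.map H.subtype ≤ K := by
      refine le_inf ?_ ?_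
      · rintro x ⟨y, _, rfl⟩; exact y.2
      · intro x hx
        rw [← inv_mem_iff (x := g), Subgroup.mem_normalizer_iff] at hg
        have h2 := (hg x).1 hx
        obtain ⟨y, _, hy⟩ := h2
        refine ⟨g⁻¹ * x * g, ?_, ?_⟩
        · have : g⁻¹ * x * g = (y : G) := by rw [show ((y : G)) = H.subtype y from rfl, hy]; simp
          rw [this]; exact y.2
        · simp [MulAut.conj_apply, mul_assoc]
    have h3 : Nat.card (X.map H.subtype) ∣ Nat.card K := Subgroup.card_dvd_of_le hXK
    have h4 : Even (Nat.card (X.map H.subtype)) := by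
      apply heven
      · exact ((P.isPGroup'.to_le hXP)).map _
      · rw [Ne, Subgroup.card_eq_one, Subgroup.map_eq_bot_iff_of_injective _ (Subgroup.subtype_injective H)]
        exact hX
    have h5 : Even (Nat.card K) := even_iff_two_dvd.mpr ((even_iff_two_dvd.mp h4).trans h3)
    exact (Nat.not_even_iff_odd.mpr h1) h5
  · intro hnorm
    have hPc : Nat.card (P : Subgroup H) ≠ 1 := by
      rw [Ne, Subgroup.card_eq_one]; exact hP
    refine ⟨hH, ?_, ?_⟩
    · have h1 := heven P.isPGroup' hPc
      have h2 : Nat.card (P : Subgroup H) ∣ Nat.card H := Subgroup.card_subgroup_dvd_card _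
      exact even_iff_two_dvd.mpr ((even_iff_two_dvd.mp h1).trans h2)
    · intro g hg
      by_contra hev
      rw [Nat.not_odd_iff_even] at hev
      set L := H.map (MulAut.conj g).toMonoidHom with hL
      set K := H ⊓ L with hK
      -- a Sylow 2-subgroup of K
      obtain ⟨T0⟩ : Nonempty (Sylow 2 K) := inferInstance
      set T : Subgroup G := (T0 : Subgroup K).map K.subtype with hT
      have hTp : IsPGroup 2 T := T0.isPGroup'.map _
      have hTK : T ≤ K := by rintro x ⟨y, _, rfl⟩; exact y.2
      have hTH : T ≤ H := hTK.trans inf_le_left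
      have hTL : T ≤ L := hTK.trans inf_le_right
      have hTne : T ≠ ⊥ := by
        intro hbot
        rw [hT, Subgroup.map_eq_bot_iff_of_injective _ (Subgroup.subtype_injective K)] at hbot
        have h1 := T0.card_eq_multiplicity
        rw [hbot, Subgroup.card_bot] at h1
        have h2 : 0 < (Nat.card K).factorization 2 :=
          Nat.Prime.factorization_pos_of_dvd Nat.prime_two Nat.card_pos.ne' (even_iff_two_dvd.mp hev)
        have h3 : 2 ^ 1 ≤ 2 ^ (Nat.card K).factorization 2 := Nat.pow_le_pow_right (by norm_num) h2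
        omega
      -- normalizer of T is in H
      have hNT : Subgroup.normalizer (T : Set G) ≤ H := by
        have hp : IsPGroup 2 (T.subgroupOf H) := hTp.comap_of_injective H.subtype (Subgroup.subtype_injective H)
        obtain ⟨Q, hQ⟩ := hp.exists_le_sylow
        obtain ⟨h, hh⟩ := MulAction.exists_smul_eq H Q P
        have hX : (T.subgroupOf H).map (MulAut.conj h).toMonoidHom ≤ (P : Subgroup H) := by
          rw [← hh]
          rintro x ⟨y, hy, rfl⟩
          exact ⟨y, hQ hy, rfl⟩
        have hXne : (T.subgroupOf H).map (MulAut.conj h).toMonoidHom ≠ ⊥ := by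
          intro hbot
          rw [Subgroup.map_eq_bot_iff_of_injective _ (MulAut.conj h).injective] at hbot
          apply hTne
          rw [Subgroup.subgroupOf_eq_bot, disjoint_iff, inf_eq_left.mpr hTH] at hbot
          exact hbot
        have h1 := hnorm _ hX hXne
        intro n hn
        have hn' : (h : G) * n * (h : G)⁻¹ ∈ H := by
          apply h1
          rw [Subgroup.mem_normalizer_iff] at hn ⊢
          have key : ∀ x : G, x ∈ ((T.subgroupOf H).map (MulAut.conj h).toMonoidHom).map H.subtype ↔
              (h : G)⁻¹ * x * h ∈ T := by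
            intro x
            constructor
            · rintro ⟨y, ⟨z, hz, rfl⟩, rfl⟩
              have : (h : G)⁻¹ * ((h * z * h⁻¹ : H) : G) * (h : G) = z := by
                simp [mul_assoc]
              simp only [MulEquiv.coe_toMonoidHom, MulAut.conj_apply, Subgroup.coe_subtype]
              rw [this]
              simpa [Subgroup.mem_subgroupOf] using hz
            · intro hx
              refine ⟨h * ⟨(h : G)⁻¹ * x * h, hTH hx⟩ * h⁻¹, ⟨⟨(h : G)⁻¹ * x * h, hTH hx⟩, ?_, ?_⟩, ?_⟩
              · simpa [Subgroup.mem_subgroupOf] using hx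
              · simp
              · simp [mul_assoc]
          intro x
          rw [key, key]
          have := hn ((h : G)⁻¹ * x * h)
          rw [this]
          have e : n * ((h : G)⁻¹ * x * h) * n⁻¹ = (h : G)⁻¹ * ((h : G) * n * (h : G)⁻¹ * x * ((h : G) * n * (h : G)⁻¹)⁻¹) * h := by
            group
          rw [e]
        have h2 : (h : G)⁻¹ * ((h : G) * n * (h : G)⁻¹) * (h : G) ∈ H :=
          H.mul_mem (H.mul_mem (H.inv_mem h.2) hn') h.2
        have h3 : (h : G)⁻¹ * ((h : G) * n * (h : G)⁻¹) * (h : G) = n := by group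
        rwa [h3] at h2
      have hmaxK : ∀ S : Subgroup G, IsPGroup 2 S → T ≤ S → S ≤ K → S = T := by
        intro S hS hTS hSK
        have h1 : IsPGroup 2 (S.subgroupOf K) := hS.comap_of_injective K.subtype (Subgroup.subtype_injective K)
        have h2 : (T0 : Subgroup K) ≤ S.subgroupOf K := by
          intro x hx
          rw [Subgroup.mem_subgroupOf]
          exact hTS ⟨x, hx, rfl⟩
        have h3 := T0.is_maximal' h1 h2
        apply le_antisymm _ hTS
        intro x hx
        rw [hT, ← h3]
        exact ⟨⟨x, hSK hx⟩, by simpa [Subgroup.mem_subgroupOf] using hx, rfl⟩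
      obtain ⟨QL, hQL⟩ := exists_sylow_eq L T hTp hTL (by
        intro S hS hTS hSL hSN
        exact hmaxK S hS hTS (le_inf (hSN.trans hNT) hSL))
      obtain ⟨QH, hQH⟩ := exists_sylow_eq H T hTp hTH (by
        intro S hS hTS hSH hSN
        -- card argument
        have hcL : Nat.card T = 2 ^ (Nat.card L).factorization 2 := by
          rw [← QL.card_eq_multiplicity, ← hQL]
          exact Subgroup.card_map_of_injective (Subgroup.subtype_injective L)
        have hcLH : Nat.card L = Nat.card H :=
          Subgroup.card_map_of_injective (MulAut.conj g).injective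
        have hpS : IsPGroup 2 (S.subgroupOf H) := hS.comap_of_injective H.subtype (Subgroup.subtype_injective H)
        obtain ⟨Q, hQ⟩ := hpS.exists_le_sylow
        have h1 : Nat.card S ≤ 2 ^ (Nat.card H).factorization 2 := by
          rw [← Q.card_eq_multiplicity]
          have h2 : Nat.card (S.subgroupOf H) ≤ Nat.card Q := Subgroup.card_le_of_le hQ
          have h3 : Nat.card (S.subgroupOf H) = Nat.card S := by
            exact Nat.card_congr (Subgroup.subgroupOfEquivOfLe hSH).toEquiv
          rwa [h3] at h2
        rw [← hcLH, ← hcL] at h1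
        exact (Subgroup.eq_of_le_of_card_ge hTS h1).symm)
      -- T^(g⁻¹) is also a Sylow subgroup of H
      set T' : Subgroup G := T.map (MulAut.conj g⁻¹).toMonoidHom with hT'
      have hT'H : T' ≤ H := by
        rintro x ⟨y, hy, rfl⟩
        obtain ⟨z, hz, hzy⟩ := hTL hy
        have : (MulAut.conj g⁻¹).toMonoidHom y = z := by
          rw [← hzy]; simp [mul_assoc]
        rw [this]; exact hz
      have hT'p : IsPGroup 2 (T'.subgroupOf H) :=
        (hTp.map _).comap_of_injective H.subtype (Subgroup.subtype_injective H)
      obtain ⟨Q', hQ'⟩ := hT'p.exists_le_sylow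
      obtain ⟨k, hk⟩ := MulAction.exists_smul_eq H QH Q'
      have hcard : Nat.card T' = Nat.card T := Subgroup.card_map_of_injective (MulAut.conj g⁻¹).injective
      have hcQ' : Nat.card Q' = Nat.card T := by
        rw [← hQH, Subgroup.card_map_of_injective (Subgroup.subtype_injective H)]
        rw [show Nat.card Q' = Nat.card (Q' : Subgroup H) from rfl, Q'.card_eq_multiplicity, QH.card_eq_multiplicity]
      have hQ'eq : T'.subgroupOf H = (Q' : Subgroup H) := by
        apply Subgroup.eq_of_le_of_card_ge hQ'
        rw [show Nat.card (Q' : Subgroup H) = Nat.card T from hcQ', ← hcard]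
        exact le_of_eq (Nat.card_congr (Subgroup.subgroupOfEquivOfLe hT'H).toEquiv).symm
      have hgk : g * (k : G) ∈ Subgroup.normalizer (T : Set G) := by
        have hincl : ∀ x ∈ T, g * (k : G) * x * (g * (k : G))⁻¹ ∈ T := by
          intro x hx
          have hx' : x ∈ (QH : Subgroup H).map H.subtype := by rw [hQH]; exact hx
          obtain ⟨y, hy, rfl⟩ := hx'
          have h1 : k * y * k⁻¹ ∈ (Q' : Subgroup H) := by
            rw [← hk]
            exact ⟨y, hy, rfl⟩
          rw [← hQ'eq, Subgroup.mem_subgroupOf] at h1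
          obtain ⟨z, hz, hzz⟩ := h1
          have : g * (k : G) * (H.subtype y) * (g * (k : G))⁻¹ = z := by
            have h5 : z = g * ((k * y * k⁻¹ : H) : G) * g⁻¹ := by
              rw [← hzz]; simp [mul_assoc]
            rw [h5]; simp [mul_assoc]
          rw [this]; exact hz
        have hmap : T.map (MulAut.conj (g * (k : G))).toMonoidHom = T := by
          apply Subgroup.eq_of_le_of_card_ge
          · rintro x ⟨y, hy, rfl⟩
            exact hincl y hy
          · exact (Subgroup.card_map_of_injective (MulAut.conj (g * (k : G))).injective).ge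
        rw [Subgroup.mem_normalizer_iff]
        intro h
        constructor
        · exact hincl h
        · intro hh
          rw [← hmap] at hh
          obtain ⟨z, hz, hzz⟩ := hh
          have : z = h := by
            have : (MulAut.conj (g * (k : G))) z = (MulAut.conj (g * (k : G))) h := hzz
            exact (MulAut.conj (g * (k : G))).injective this
          rwa [← this]
      have h1 := hNT hgk
      exact hg ((Subgroup.mul_mem_cancel_right H k.2).mp h1)

end Cfsg.Agent.S0214
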