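import Cfsg.Statements.S0992
import Cfsg.Agent.SmallSimple.Burnside
import Cfsg.Agent.SmallSimple.KleinFourAut

set_option autoImplicit false
open Cfsg

namespace Cfsg.Agent.S0992

/-- Let G be a non-abelian finite simple group of even order not divisible by 8, and T a Sylow 2-subgroup. Then T is a Klein four-group and the centralizer of T has index 3 in the normalizer of T. -/
theorem result {G : Type*} [Group G] [Finite G] [IsSimpleGroup G] (hG : ¬ IsMulCommutative G) (h2 : Even (Nat.card G)) (h8 : ¬ 8 ∣ Nat.card G) (T : Sylow 2 G) : IsKleinFour ↥(T : Subgroup G) ∧ (Subgroup.centralizer ((T : Subgroup G) : Set G)).relIndex (Subgroup.normalizer ((T : Subgroup G) : Set G)) = 3 := by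
  have hdvd : 2 ∣ Nat.card G := h2.two_dvd
  have hmin : (Nat.card G).minFac = 2 := (Nat.minFac_eq_two_iff _).2 hdvd
  -- the order of `G` is not `2`
  have hne2 : Nat.card G ≠ 2 := by
    intro h
    have : IsCyclic G := isCyclic_of_prime_card (p := 2) h
    exact hG (IsCyclic.isMulCommutative)
  have hncyc : ¬ IsCyclic T := fun h =>
    hne2 (SmallSimple.Burnside.card_eq_of_isCyclic_minFac hmin T h)
  have hcard : Nat.card T = 4 := by
    obtain ⟨k, hk⟩ := T.isPGroup'.exists_card_eq
    have hk3 : k < 3 := by
      by_contra hge
      apply h8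
      have h1 : 2 ^ 3 ∣ Nat.card T := hk ▸ Nat.pow_dvd_pow 2 (by omega)
      exact h1.trans (Subgroup.card_subgroup_dvd_card _)
    interval_cases k
    · exfalso
      apply hncyc
      have : Subsingleton T := (Nat.card_eq_one_iff_unique.1 (by simpa using hk)).1
      infer_instance
    · exfalso
      exact hncyc (isCyclic_of_prime_card (p := 2) (by simpa using hk))
    · simpa using hk
  have hK : IsKleinFour T := SmallSimple.KleinFourAut.isKleinFour_of_not_isCyclic hcard hncyc
  refine ⟨hK, ?_⟩
  have hcomm : IsMulCommutative T := hK.isMulCommutative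
  have key := Subgroup.card_dvd_of_injective _
    (QuotientGroup.kerLift_injective (T : Subgroup G).normalizerMonoidHom)
  rw [Subgroup.normalizerMonoidHom_ker, ← Subgroup.index, ← Subgroup.relIndex] at key
  have key6 : (Subgroup.centralizer ((T : Subgroup G) : Set G)).relIndex
      (Subgroup.normalizer ((T : Subgroup G) : Set G)) ∣ 6 := by
    refine key.trans ((SmallSimple.KleinFourAut.card_mulAut_dvd T).trans ?_)
    rw [hcard]
    decide
  have hodd : ¬ 2 ∣ (Subgroup.centralizer ((T : Subgroup G) : Set G)).relIndex
      (Subgroup.normalizer ((T : Subgroup G) : Set G)) := by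
    intro h
    have h1 := Subgroup.relIndex_dvd_of_le_left (Subgroup.normalizer ((T : Subgroup G) : Set G))
      (T : Subgroup G).le_centralizer
    have h2 := Subgroup.relIndex_dvd_index_of_le (T : Subgroup G).le_normalizer
    exact T.not_dvd_index (h.trans (h1.trans h2))
  have hne1 : (Subgroup.centralizer ((T : Subgroup G) : Set G)).relIndex
      (Subgroup.normalizer ((T : Subgroup G) : Set G)) ≠ 1 := by
    intro h
    exact hne2 (SmallSimple.Burnside.card_eq_of_normalizer_le_centralizer hdvd T
      (Subgroup.relIndex_eq_one.1 h))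
  have hle : (Subgroup.centralizer ((T : Subgroup G) : Set G)).relIndex
      (Subgroup.normalizer ((T : Subgroup G) : Set G)) ≤ 6 := Nat.le_of_dvd (by norm_num) key6
  generalize (Subgroup.centralizer ((T : Subgroup G) : Set G)).relIndex
      (Subgroup.normalizer ((T : Subgroup G) : Set G)) = n at *
  interval_cases n <;> omega

end Cfsg.Agent.S0992
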