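import Cfsg.Statements.S1019
import Mathlib.Tactic.Group

set_option autoImplicit false
open Cfsg

namespace Cfsg.Agent.S1019

/-- Let H be a subgroup of a finite group G and x an element of H. In the action of G on the left cosets of H, the number of cosets fixed by x, multiplied by the size of the conjugacy class of x, equals the index of H multiplied by the number of conjugates of x that lie in H. -/
theorem result {G : Type*} [Group G] [Finite G] (H : Subgroup G) (x : G) (hx : x ∈ H) : Nat.card (MulAction.fixedBy (G ⧸ H) x) * Nat.card {g : G // IsConj x g} = H.index * Nat.card {g : G // IsConj x g ∧ g ∈ H} := by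
  classical
  have : Fintype G := Fintype.ofFinite G
  have : Fintype (G ⧸ H) := Fintype.ofFinite _
  let e : (Σ y : {g : G // IsConj x g}, MulAction.fixedBy (G ⧸ H) (y : G)) ≃
      (Σ a : G ⧸ H, {g : G // IsConj x g ∧ g • a = a}) :=
    { toFun := fun p => ⟨p.2.1, ⟨p.1.1, p.1.2, p.2.2⟩⟩
      invFun := fun p => ⟨⟨p.2.1, p.2.2.1⟩, ⟨p.1, p.2.2.2⟩⟩
      left_inv := fun p => rfl
      right_inv := fun p => rfl }
  have h1 : ∀ y : {g : G // IsConj x g},
      Nat.card (MulAction.fixedBy (G ⧸ H) (y : G)) = Nat.card (MulAction.fixedBy (G ⧸ H) x) := by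
    rintro ⟨y, hy⟩
    obtain ⟨c, hc⟩ := isConj_iff.1 hy
    have hx1 : x * c⁻¹ = c⁻¹ * y := by rw [← hc]; group
    have hx2 : y * c = c * x := by rw [← hc]; group
    refine Nat.card_congr
      { toFun := fun a => ⟨c⁻¹ • a.1, ?_⟩
        invFun := fun a => ⟨c • a.1, ?_⟩
        left_inv := fun a => by simp
        right_inv := fun a => by simp }
    · have ha : y • a.1 = a.1 := a.2
      show x • c⁻¹ • a.1 = c⁻¹ • a.1
      rw [← mul_smul, hx1, mul_smul, ha]
    · have ha : x • a.1 = a.1 := a.2
      show y • c • a.1 = c • a.1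
      rw [← mul_smul, hx2, mul_smul, ha]
  have h2 : ∀ a : G ⧸ H,
      Nat.card {g : G // IsConj x g ∧ g • a = a} = Nat.card {g : G // IsConj x g ∧ g ∈ H} := by
    intro a
    obtain ⟨c, rfl⟩ := QuotientGroup.mk_surjective a
    have key : ∀ g : G, g • (QuotientGroup.mk c : G ⧸ H) = QuotientGroup.mk c ↔ c⁻¹ * g * c ∈ H := by
      intro g
      rw [eq_comm, MulAction.Quotient.smul_mk, QuotientGroup.eq, smul_eq_mul, mul_assoc]
    refine Nat.card_congr
      { toFun := fun g => ⟨c⁻¹ * g.1 * c, ?_, (key g.1).1 g.2.2⟩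
        invFun := fun g => ⟨c * g.1 * c⁻¹, ?_, (key _).2 ?_⟩
        left_inv := fun g => by ext; simp; group
        right_inv := fun g => by ext; simp; group }
    · exact g.2.1.trans (isConj_iff.2 ⟨c⁻¹, by group⟩)
    · exact g.2.1.trans (isConj_iff.2 ⟨c, by group⟩)
    · have : c⁻¹ * (c * g.1 * c⁻¹) * c = g.1 := by group
      rw [this]
      exact g.2.2
  have h3 := Nat.card_congr e
  rw [Nat.card_sigma, Nat.card_sigma] at h3
  simp only [h1, h2, Finset.sum_const, Finset.card_univ, smul_eq_mul] at h3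
  rw [Subgroup.index, Nat.card_eq_fintype_card (α := G ⧸ H), ← h3, mul_comm, Nat.card_eq_fintype_card (α := {g : G // IsConj x g})]

end Cfsg.Agent.S1019
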