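-- Statement S1012: group of order 24 without elements of order 6 is S4.
import Cfsg.Statements.S1012
import Mathlib
import Cfsg.Agent.SmallSimple.BurnsideNC

set_option autoImplicit false
open Cfsg

namespace Cfsg.Agent.S1012

open Subgroup MulAction Cfsg.Agent.SmallSimple.PSqQR Cfsg.Agent.SmallSimple.BurnsideNC

/-- no element of order 3 commutes with an element of order 2 -/
theorem no_comm {G : Type*} [Group G] (h6 : ∀ g : G, orderOf g ≠ 6) {x t : G}
    (hx : orderOf x = 3) (ht : orderOf t = 2) (h : Commute x t) : False := by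
  have := h.orderOf_mul_eq_mul_orderOf_of_coprime (by rw [hx, ht]; norm_num)
  rw [hx, ht] at this
  exact h6 _ this

/-- A group of order 24 containing no element of order 6 is isomorphic to the symmetric group of degree 4. -/
theorem result {G : Type*} [Group G] [Finite G] (h : Nat.card G = 24) (h6 : ∀ g : G, orderOf g ≠ 6) : Nonempty (G ≃* Equiv.Perm (Fin 4)) := by
  have f3 : Fact (Nat.Prime 3) := ⟨by norm_num⟩
  have f2 : Fact (Nat.Prime 2) := ⟨by norm_num⟩
  obtain ⟨P⟩ : Nonempty (Sylow 3 G) := inferInstance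
  have hG3 : Nat.card G = 8 * 3 ^ 1 := by rw [h]; norm_num
  have hfac : ∀ Q : Sylow 3 G, Nat.card Q = 3 := by
    intro Q
    rw [card_sylow_of_card_eq hG3 (by norm_num) Q, pow_one]
  have hn1 := card_sylow_modEq_one 3 G
  have hn2 : Nat.card (Sylow 3 G) ∣ 8 := card_sylow_dvd_of_card_eq hG3 (by norm_num)
  -- an element of order 3 in each Sylow subgroup
  have hord3 : ∀ Q : Sylow 3 G, ∃ x : G, orderOf x = 3 ∧ x ∈ Q := by
    intro Q
    obtain ⟨x, hx⟩ := exists_prime_orderOf_dvd_card' (G := Q) 3 (by rw [hfac Q])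
    exact ⟨x, (Subgroup.orderOf_coe x).trans hx, x.2⟩
  have hmul := card_sylow_mul_card_normalizer P
  have hNC := card_normalizer_eq (P : Subgroup G)
  have hrel := relIndex_dvd_of_card_eq_prime P (hfac P)
  -- the centralizer of P has odd order
  have hCodd : ¬ 2 ∣ Nat.card (centralizer ((P : Subgroup G) : Set G)) := by
    intro hd
    obtain ⟨t, ht⟩ := exists_prime_orderOf_dvd_card' (G := centralizer ((P : Subgroup G) : Set G)) 2 hd
    obtain ⟨x, hx, hxP⟩ := hord3 P
    have ht' : orderOf (t : G) = 2 := (Subgroup.orderOf_coe t).trans ht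
    exact no_comm h6 hx ht' (mem_centralizer_iff.1 t.2 x hxP)
  have hn4 : Nat.card (Sylow 3 G) = 4 := by
    rw [h] at hmul
    have h8 : Nat.card (Sylow 3 G) ≤ 8 := Nat.le_of_dvd (by norm_num) hn2
    have hc : Nat.card (normalizer ((P : Subgroup G) : Set G)) = Nat.card (normalizer (P : Set G)) := rfl
    set n := Nat.card (Sylow 3 G) with hn
    have hn14 : n = 1 ∨ n = 4 := by
      unfold Nat.ModEq at hn1
      interval_cases n <;> omega
    rcases hn14 with h1 | h4
    · exfalso
      rw [h1, one_mul, ← hc, hNC] at hmul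
      have hr : (centralizer ((P : Subgroup G) : Set G)).relIndex (normalizer ((P : Subgroup G) : Set G)) ∣ 2 := hrel
      have hr2 := Nat.le_of_dvd (by norm_num) hr
      set r := (centralizer ((P : Subgroup G) : Set G)).relIndex (normalizer ((P : Subgroup G) : Set G))
      set c := Nat.card (centralizer ((P : Subgroup G) : Set G))
      apply hCodd
      interval_cases r <;> omega
    · exact h4
  have hN6 : ∀ Q : Sylow 3 G, Nat.card (normalizer (Q : Set G)) = 6 := by
    intro Q
    have := card_sylow_mul_card_normalizer Q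
    rw [h, hn4] at this
    omega
  -- the kernel of the action
  set f := MulAction.toPermHom G (Sylow 3 G) with hf
  have hKle : ∀ Q : Sylow 3 G, f.ker ≤ normalizer (Q : Set G) := by
    intro Q k hk
    rw [← Sylow.smul_eq_iff_mem_normalizer]
    have : f k Q = Q := by rw [MonoidHom.mem_ker.1 hk]; rfl
    exact this
  have h3K : ¬ 3 ∣ Nat.card f.ker := by
    intro hd
    obtain ⟨z, hz⟩ := exists_prime_orderOf_dvd_card' (G := f.ker) 3 hd
    have hz' : orderOf (z : G) = 3 := (Subgroup.orderOf_coe z).trans hz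
    have hzQ : ∀ Q : Sylow 3 G, (Q : Subgroup G) = zpowers (z : G) := by
      intro Q
      symm
      apply Subgroup.eq_of_le_of_card_ge
      · have hpg : IsPGroup 3 (zpowers (z : G)) :=
          IsPGroup.of_card (n := 1) (by rw [Nat.card_zpowers, hz', pow_one])
        have := hpg.inf_normalizer_sylow Q
        have h3 : (z : G) ∈ zpowers (z : G) ⊓ normalizer (Q : Set G) :=
          ⟨mem_zpowers _, hKle Q z.2⟩
        rw [this] at h3
        rw [zpowers_le]
        exact h3.2
      · have : Nat.card (Q : Subgroup G) = 3 := hfac Q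
        rw [this, Nat.card_zpowers, hz']
    have : Subsingleton (Sylow 3 G) := ⟨fun Q R => Sylow.ext ((hzQ Q).trans (hzQ R).symm)⟩
    have := Finite.card_le_one_iff_subsingleton.2 this
    omega
  have h2K : ¬ 2 ∣ Nat.card f.ker := by
    intro hd
    have hK6 : Nat.card f.ker ∣ 6 := hN6 P ▸ Subgroup.card_dvd_of_le (hKle P)
    have hK2 : Nat.card f.ker = 2 := by
      have := Nat.le_of_dvd (by norm_num) hK6
      set m := Nat.card f.ker
      interval_cases m <;> omega
    obtain ⟨t, ht⟩ := exists_prime_orderOf_dvd_card' (G := f.ker) 2 hd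
    have ht' : orderOf (t : G) = 2 := (Subgroup.orderOf_coe t).trans ht
    obtain ⟨x, hx, hxP⟩ := hord3 P
    -- conj of t by x is in the kernel, not 1, so equal to t
    have hmem : x * t * x⁻¹ ∈ f.ker := (inferInstance : f.ker.Normal).conj_mem _ t.2 x
    have hz : zpowers (t : G) = f.ker := by
      apply Subgroup.eq_of_le_of_card_ge
      · rw [zpowers_le]; exact t.2
      · rw [hK2, Nat.card_zpowers, ht']
    have hmem' : x * t * x⁻¹ ∈ zpowers (t : G) := by
      rw [hz]; exact hmem
    obtain ⟨k, hk⟩ := mem_zpowers_iff.1 hmem'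
    have hk2 : (t : G) ^ k = 1 ∨ (t : G) ^ k = t := by
      rcases Int.even_or_odd' k with ⟨m, rfl | rfl⟩
      · left
        rw [zpow_mul]
        have : (t : G) ^ (2 : ℤ) = 1 := by
          rw [zpow_ofNat, ← ht', pow_orderOf_eq_one]
        rw [this, one_zpow]
      · right
        rw [zpow_add, zpow_mul]
        have : (t : G) ^ (2 : ℤ) = 1 := by
          rw [zpow_ofNat, ← ht', pow_orderOf_eq_one]
        rw [this, one_zpow, one_mul, zpow_one]
    rcases hk2 with h1 | h1
    · rw [hk, conj_eq_one_iff] at h1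
      rw [h1, orderOf_one] at ht'
      norm_num at ht'
    · rw [hk] at h1
      apply no_comm h6 hx ht'
      exact mul_inv_eq_iff_eq_mul.1 h1
  have hker : f.ker = ⊥ := by
    have hK6 : Nat.card f.ker ∣ 6 := hN6 P ▸ Subgroup.card_dvd_of_le (hKle P)
    apply Subgroup.eq_bot_of_card_eq
    have := Nat.le_of_dvd (by norm_num) hK6
    set m := Nat.card f.ker
    interval_cases m <;> omega
  have hinj : Function.Injective f := (MonoidHom.ker_eq_bot_iff f).1 hker
  have hbij : Function.Bijective f := by
    rw [Nat.bijective_iff_injective_and_card]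
    refine ⟨hinj, ?_⟩
    rw [h, Nat.card_perm, hn4]
    rfl
  have e : Sylow 3 G ≃ Fin 4 := Finite.equivFinOfCardEq hn4
  exact ⟨(MulEquiv.ofBijective f hbij).trans e.permCongrHom⟩

end Cfsg.Agent.S1012
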