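import Cfsg.Statements.S1241
import Cfsg.Agent.TwoFusion.PResidual

set_option autoImplicit false
open Cfsg

namespace Cfsg.Agent.S1241

open Subgroup Cfsg.Agent.TwoFusion.PResidual

/-- Let G be a finite group, p a prime, H a subgroup of index prime to p, K a subgroup of H normal in H with H/K commutative, and g ∈ H ∖ K an element of p-power order such that for all integers m and all a ∈ G with a g^m a⁻¹ ∈ H one has a g^m a⁻¹ ∈ g^m K. Then g ∉ G'. -/
theorem result {G : Type*} [Group G] [Finite G] {p : ℕ} [Fact p.Prime] (H K : Subgroup G) (hHK : K ≤ H) (hKn : (K.subgroupOf H).Normal) (hab : ∀ x ∈ H, ∀ y ∈ H, x * y * x⁻¹ * y⁻¹ ∈ K) (hidx : Nat.Coprime p H.index) (g : G) (hgH : g ∈ H) (hgK : g ∉ K) (hgp : ∃ k : ℕ, orderOf g = p ^ k) (hctrl : ∀ (m : ℤ) (a : G), a * g ^ m * a⁻¹ ∈ H → (a * g ^ m * a⁻¹) * (g ^ m)⁻¹ ∈ K) : g ∉ commutator G := by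
  intro hg
  let L : Subgroup (Abelianization H) := (K.subgroupOf H).map Abelianization.of
  let ϕ : H →* Abelianization H ⧸ L := (QuotientGroup.mk' L).comp Abelianization.of
  have hker : ϕ.ker = K.subgroupOf H := by
    rw [← MonoidHom.comap_ker, QuotientGroup.ker_mk', comap_map_eq, Abelianization.ker_of,
      sup_eq_left, commutator_eq_closure, closure_le]
    rintro _ ⟨x, y, rfl⟩
    exact hab x x.2 y y.2
  have hval : MonoidHom.transfer ϕ ((⟨g, hgH⟩ : H) : G) = ϕ ⟨g, hgH⟩ ^ H.index := by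
    refine transfer_eq_pow_index_of_fusion ϕ ⟨g, hgH⟩ (fun k g₀ h => ?_)
    have h' : g₀⁻¹ * g ^ (k : ℤ) * g₀⁻¹⁻¹ ∈ H := by
      rw [inv_inv, zpow_natCast]; exact h
    have h2 := hctrl k g₀⁻¹ h'
    rw [← mul_inv_eq_one, ← map_inv, ← map_mul, ← MonoidHom.mem_ker, hker, mem_subgroupOf]
    rw [inv_inv, zpow_natCast] at h2
    exact h2
  have h1 : MonoidHom.transfer ϕ ((⟨g, hgH⟩ : H) : G) = 1 :=
    MonoidHom.mem_ker.1 (Abelianization.commutator_subset_ker _ hg)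
  rw [h1] at hval
  obtain ⟨k, hk⟩ := hgp
  have h2 : orderOf (ϕ ⟨g, hgH⟩) ∣ p ^ k := by
    rw [← hk, ← orderOf_mk g hgH]
    exact orderOf_map_dvd ϕ _
  have h3 : Nat.Coprime (orderOf (ϕ ⟨g, hgH⟩)) H.index :=
    Nat.Coprime.coprime_dvd_left h2 (Nat.Coprime.pow_left k hidx)
  have h4 : ϕ ⟨g, hgH⟩ = 1 :=
    orderOf_eq_one_iff.1 (Nat.eq_one_of_dvd_coprimes h3 dvd_rfl (orderOf_dvd_of_pow_eq_one hval.symm))
  rw [← MonoidHom.mem_ker, hker, mem_subgroupOf] at h4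
  exact hgK h4

end Cfsg.Agent.S1241
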