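import Cfsg.Statements.S0561
import Cfsg.Agent.Lib.ProductSet
import Cfsg.Agent.S0004
import Cfsg.Agent.S0005

set_option autoImplicit false
open Pointwise
open Cfsg

namespace Cfsg.Agent.S0561

/-- If `A` is normal in `H` then conjugation by elements of `H` fixes `A`. -/
theorem conj_smul_eq_self {G : Type*} [Group G] {H A : Subgroup G} (hA : A ≤ H)
    (hAn : (A.subgroupOf H).Normal) {h : G} (hh : h ∈ H) : MulAut.conj h • A = A := by
  have key : ∀ h ∈ H, ∀ a ∈ A, h * a * h⁻¹ ∈ A := fun h hh a ha =>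
    hAn.conj_mem ⟨a, hA ha⟩ ha ⟨h, hh⟩
  ext x
  rw [Subgroup.mem_pointwise_smul_iff_inv_smul_mem, ← map_inv, MulAut.smul_def,
    MulAut.conj_apply, inv_inv]
  constructor
  · intro hx
    have := key h hh _ hx
    simpa [mul_assoc] using this
  · intro hx
    simpa using key h⁻¹ (H.inv_mem hh) x hx

/-- The least common multiple of two Hall divisors is a Hall divisor. -/
theorem coprime_lcm_div {a b N : ℕ} (ha : a ∣ N) (hb : b ∣ N)
    (ha' : a.Coprime (N / a)) (hb' : b.Coprime (N / b)) :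
    (Nat.lcm a b).Coprime (N / Nat.lcm a b) := by
  have h1 : a.Coprime (N / Nat.lcm a b) :=
    ha'.coprime_dvd_right (Nat.div_dvd_div_left (Nat.lcm_dvd ha hb) (Nat.dvd_lcm_left a b))
  have h2 : b.Coprime (N / Nat.lcm a b) :=
    hb'.coprime_dvd_right (Nat.div_dvd_div_left (Nat.lcm_dvd ha hb) (Nat.dvd_lcm_right a b))
  exact (h1.mul_left h2).coprime_dvd_left (Nat.lcm_dvd_mul a b)

/-- Let the finite solvable group G be the product HK of subgroups, and let A be normal in H and B normal in K, where A and B are Hall subgroups of G (order coprime to index). Then for all x, y the product set of xAx⁻¹ and yBy⁻¹ is a subgroup of G. -/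
theorem result {G : Type*} [Group G] [Finite G] [Group.IsSolvable G] (H K A B : Subgroup G) (hHK : ∀ g : G, ∃ h ∈ H, ∃ k ∈ K, g = h * k) (hA : A ≤ H) (hAn : (A.subgroupOf H).Normal) (hB : B ≤ K) (hBn : (B.subgroupOf K).Normal) (hAh : (Nat.card A).Coprime A.index) (hBh : (Nat.card B).Coprime B.index) (x y : G) : ∃ S : Subgroup G, (S : Set G) = ((MulAut.conj x • A : Subgroup G) : Set G) * ((MulAut.conj y • B : Subgroup G) : Set G) := by
  have hAc : (Nat.card A).Coprime (Nat.card G / Nat.card A) := by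
    rw [← A.card_mul_index, Nat.mul_div_cancel_left _ Nat.card_pos]; exact hAh
  have hBc : (Nat.card B).Coprime (Nat.card G / Nat.card B) := by
    rw [← B.card_mul_index, Nat.mul_div_cancel_left _ Nat.card_pos]; exact hBh
  have hAd : Nat.card A ∣ Nat.card G := A.card_subgroup_dvd_card
  have hBd : Nat.card B ∣ Nat.card G := B.card_subgroup_dvd_card
  set m := Nat.lcm (Nat.card A) (Nat.card B) with hm
  set n := Nat.card G / m with hn
  have hmn : m.Coprime n := coprime_lcm_div hAd hBd hAc hBc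
  have hG : Nat.card G = m * n := (Nat.mul_div_cancel' (Nat.lcm_dvd hAd hBd)).symm
  obtain ⟨T1, hT1, hAT⟩ := Cfsg.Agent.S0005.result m n hG hmn A
    (hmn.coprime_dvd_left (Nat.dvd_lcm_left _ _))
  obtain ⟨T2, hT2, hBT⟩ := Cfsg.Agent.S0005.result m n hG hmn B
    (hmn.coprime_dvd_left (Nat.dvd_lcm_right _ _))
  obtain ⟨g, hg⟩ := Cfsg.Agent.S0004.result m n hG hmn T1 T2 hT1 hT2
  obtain ⟨k, hk, h, hh, e⟩ := Cfsg.Agent.Lib.ProductSet.factorization_symm hHK g
  have hT : MulAut.conj h • T1 = MulAut.conj k⁻¹ • T2 := by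
    rw [← hg, e, map_mul, mul_smul, map_inv, inv_smul_smul]
  have hA1 : A ≤ MulAut.conj h • T1 := by
    rw [← conj_smul_eq_self hA hAn hh]
    exact Subgroup.pointwise_smul_le_pointwise_smul_iff.2 hAT
  have hB1 : B ≤ MulAut.conj h • T1 := by
    rw [hT, ← conj_smul_eq_self hB hBn (K.inv_mem hk)]
    exact Subgroup.pointwise_smul_le_pointwise_smul_iff.2 hBT
  have hcard : Nat.card (MulAut.conj h • T1 : Subgroup G) = m := by
    rw [← hT1]
    exact (Nat.card_congr (Subgroup.equivSMul (MulAut.conj h) T1).toEquiv).symm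
  have hprod := Cfsg.Agent.Lib.ProductSet.coe_eq_mul_of_card_le hA1 hB1 (by
    rw [hcard, hm]
    have hdvd : Nat.card (A ⊓ B : Subgroup G) ∣ Nat.gcd (Nat.card A) (Nat.card B) :=
      Nat.dvd_gcd (Subgroup.card_dvd_of_le inf_le_left) (Subgroup.card_dvd_of_le inf_le_right)
    calc Nat.lcm (Nat.card A) (Nat.card B) * Nat.card (A ⊓ B : Subgroup G)
        ≤ Nat.lcm (Nat.card A) (Nat.card B) * Nat.gcd (Nat.card A) (Nat.card B) :=
          Nat.mul_le_mul_left _ (Nat.le_of_dvd (Nat.gcd_pos_of_pos_left _ Nat.card_pos) hdvd)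
      _ = Nat.card A * Nat.card B := by rw [mul_comm, Nat.gcd_mul_lcm])
  obtain ⟨h', hh', k', hk', e'⟩ := Cfsg.Agent.Lib.ProductSet.exists_mul_eq_mul hHK x y
  have hxA : MulAut.conj x • A = MulAut.conj (x * h') • A := by
    rw [map_mul, mul_smul, conj_smul_eq_self hA hAn hh']
  have hyB : MulAut.conj y • B = MulAut.conj (x * h') • B := by
    rw [e', map_mul, mul_smul, conj_smul_eq_self hB hBn hk']
  refine ⟨MulAut.conj (x * h') • (MulAut.conj h • T1), ?_⟩
  have h1 : ((MulAut.conj (x * h') • (MulAut.conj h • T1) : Subgroup G) : Set G)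
      = MulAut.conj (x * h') • ((MulAut.conj h • T1 : Subgroup G) : Set G) := rfl
  rw [hxA, hyB, h1, hprod, smul_mul']
  rfl

end Cfsg.Agent.S0561
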