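import Cfsg.Statements.S0562
import Mathlib

set_option autoImplicit false
open Cfsg

namespace Cfsg.Agent.S0562

open Pointwise in
/-- Key step: if `x * y` normalizes `A ⊔ B` with `x` normalizing `A` and `y` normalizing `B`,
then `x` normalizes `A ⊔ B`. -/
theorem aux {G : Type*} [Group G] [Finite G] (A B : Subgroup G) (x y : G)
    (hx : MulAut.conj x • A = A) (hy : MulAut.conj y • B = B)
    (hxy : MulAut.conj (x * y) • (A ⊔ B) = A ⊔ B) :
    MulAut.conj x • (A ⊔ B) = A ⊔ B := by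
  -- conj y • (A ⊔ B) = conj x⁻¹ • (A ⊔ B)
  have h1 : MulAut.conj y • (A ⊔ B) = MulAut.conj x⁻¹ • (A ⊔ B) := by
    conv_rhs => rw [← hxy]
    rw [smul_smul, ← map_mul]
    simp
  have hx' : MulAut.conj x⁻¹ • A = A := by
    conv_lhs => rw [← hx]
    rw [smul_smul, ← map_mul]
    simp
  have h2 : B ≤ MulAut.conj x⁻¹ • (A ⊔ B) := by
    rw [← h1]
    calc B = MulAut.conj y • B := hy.symm
      _ ≤ MulAut.conj y • (A ⊔ B) := Subgroup.pointwise_smul_le_pointwise_smul_iff.2 le_sup_right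
  have h3 : A ≤ MulAut.conj x⁻¹ • (A ⊔ B) := by
    calc A = MulAut.conj x⁻¹ • A := hx'.symm
      _ ≤ MulAut.conj x⁻¹ • (A ⊔ B) := Subgroup.pointwise_smul_le_pointwise_smul_iff.2 le_sup_left
  have h4 : A ⊔ B ≤ MulAut.conj x⁻¹ • (A ⊔ B) := sup_le h3 h2
  have h5 : MulAut.conj x⁻¹ • (A ⊔ B) = A ⊔ B := by
    symm
    apply Subgroup.eq_of_le_of_card_ge h4
    exact (Nat.card_congr (Subgroup.equivSMul (MulAut.conj x⁻¹) (A ⊔ B)).toEquiv).symm.le
  conv_lhs => rw [← h5]
  rw [smul_smul, ← map_mul]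
  simp

open Pointwise in
theorem mem_normalizer_iff_smul {G : Type*} [Group G] (S : Subgroup G) (g : G) :
    g ∈ Subgroup.normalizer (S : Set G) ↔ MulAut.conj g • S = S := by
  constructor
  · intro h
    ext z
    rw [Subgroup.mem_pointwise_smul_iff_inv_smul_mem, ← map_inv, MulAut.smul_def, MulAut.conj_apply]
    have := Subgroup.mem_normalizer_iff.1 h (g⁻¹ * z * g⁻¹⁻¹)
    rw [this]
    simp [mul_assoc]
  · intro h
    rw [Subgroup.mem_normalizer_iff]
    intro z
    conv_rhs => rw [← h]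
    rw [Subgroup.mem_pointwise_smul_iff_inv_smul_mem, ← map_inv, MulAut.smul_def, MulAut.conj_apply]
    simp [mul_assoc]

open Pointwise in
theorem conj_smul_of_subgroupOf_normal {G : Type*} [Group G] (A H : Subgroup G) (hA : A ≤ H)
    (hAn : (A.subgroupOf H).Normal) (h : G) (hh : h ∈ H) : MulAut.conj h • A = A := by
  rw [← mem_normalizer_iff_smul]
  exact (Subgroup.normal_subgroupOf_iff_le_normalizer hA).1 hAn hh

/-- Let the finite group G be the product HK of subgroups, A normal in H, B normal in K, and L the normalizer of the subgroup generated by A and B. Then every element of L is a product of an element of L ∩ H and an element of L ∩ K. -/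
theorem result {G : Type*} [Group G] [Finite G] (H K A B : Subgroup G) (hHK : ∀ g : G, ∃ h ∈ H, ∃ k ∈ K, g = h * k) (hA : A ≤ H) (hAn : (A.subgroupOf H).Normal) (hB : B ≤ K) (hBn : (B.subgroupOf K).Normal) : ∀ g ∈ Subgroup.normalizer ((A ⊔ B : Subgroup G) : Set G), ∃ h ∈ Subgroup.normalizer ((A ⊔ B : Subgroup G) : Set G) ⊓ H, ∃ k ∈ Subgroup.normalizer ((A ⊔ B : Subgroup G) : Set G) ⊓ K, g = h * k := by
  intro g hg
  obtain ⟨h, hh, k, hk, rfl⟩ := hHK g
  have h1 : h ∈ Subgroup.normalizer ((A ⊔ B : Subgroup G) : Set G) := by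
    rw [mem_normalizer_iff_smul]
    apply aux A B h k (conj_smul_of_subgroupOf_normal A H hA hAn h hh)
      (conj_smul_of_subgroupOf_normal B K hB hBn k hk)
    rwa [← mem_normalizer_iff_smul]
  refine ⟨h, ⟨h1, hh⟩, k, ⟨?_, hk⟩, rfl⟩
  have := mul_mem (inv_mem h1) hg
  simpa using this

end Cfsg.Agent.S0562
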