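import Mathlib
import Cfsg.Statements.S0566
-- import your own Cfsg.Agent.* helpers here

set_option autoImplicit false
open Pointwise
open Cfsg

namespace Cfsg.Agent.S0566

/-- If `X * Y^g` is the whole group then so is `X * Y^h`. -/
theorem mul_conj_eq_univ {G : Type*} [Group G] (X Y : Subgroup G) (g h : G)
    (hg : (X : Set G) * ((MulAut.conj g • Y : Subgroup G) : Set G) = Set.univ) :
    (X : Set G) * ((MulAut.conj h • Y : Subgroup G) : Set G) = Set.univ := by
  ext z
  simp only [Set.mem_univ, iff_true]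
  have key : ∀ w : G, ∃ a ∈ X, ∃ b ∈ Y, w = a * (g * b * g⁻¹) := by
    intro w
    have hw : w ∈ (X : Set G) * ((MulAut.conj g • Y : Subgroup G) : Set G) := by
      rw [hg]; trivial
    obtain ⟨a, ha, c, hc, rfl⟩ := Set.mem_mul.mp hw
    rw [SetLike.mem_coe, Subgroup.mem_smul_pointwise_iff_exists] at hc
    obtain ⟨b, hb, rfl⟩ := hc
    exact ⟨a, ha, b, hb, by simp [MulAut.conj_apply]⟩
  -- write `h * g⁻¹ = a * g b g⁻¹`, i.e. `h = a g b`
  obtain ⟨a, ha, b, hb, hab⟩ := key (h * g⁻¹)
  have hh : h = a * g * b := by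
    have : h = (h * g⁻¹) * g := by group
    rw [this, hab]; group
  -- write `z * a = a' g b' g⁻¹`
  obtain ⟨a', ha', b', hb', hz⟩ := key (z * a)
  have hz' : z = a' * (g * b' * g⁻¹) * a⁻¹ := by rw [← hz]; group
  refine Set.mem_mul.mpr ⟨a' * a⁻¹, X.mul_mem ha' (X.inv_mem ha), h * (b⁻¹ * b' * b) * h⁻¹, ?_, ?_⟩
  · rw [SetLike.mem_coe, Subgroup.mem_smul_pointwise_iff_exists]
    exact ⟨b⁻¹ * b' * b, Y.mul_mem (Y.mul_mem (Y.inv_mem hb) hb') hb, rfl⟩
  · rw [hz', hh]; group

/-- If `A₁ P` and `A₂ P` are subgroups then so is `(A₁ ⊔ A₂) P`. -/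
theorem exists_subgroup_sup_mul {G : Type*} [Group G] (A₁ A₂ P S₁ S₂ : Subgroup G)
    (h₁ : (S₁ : Set G) = (A₁ : Set G) * (P : Set G))
    (h₂ : (S₂ : Set G) = (A₂ : Set G) * (P : Set G)) :
    ∃ S : Subgroup G, (S : Set G) = ((A₁ ⊔ A₂ : Subgroup G) : Set G) * (P : Set G) := by
  have hperm : ∀ a ∈ (A₁ ⊔ A₂ : Subgroup G), (∀ p ∈ P, p * a ∈ ((A₁ ⊔ A₂ : Subgroup G) : Set G) * (P : Set G))
      ∧ (∀ p ∈ P, p * a⁻¹ ∈ ((A₁ ⊔ A₂ : Subgroup G) : Set G) * (P : Set G)) := by
    have base : ∀ (A S : Subgroup G), A ≤ A₁ ⊔ A₂ → (S : Set G) = (A : Set G) * (P : Set G) →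
        ∀ a ∈ A, ∀ p ∈ P, p * a ∈ ((A₁ ⊔ A₂ : Subgroup G) : Set G) * (P : Set G) := by
      intro A S hA hS a ha p hp
      have haS : a ∈ S := by
        rw [← SetLike.mem_coe, hS]; exact Set.mem_mul.mpr ⟨a, ha, 1, P.one_mem, by simp⟩
      have hpS : p ∈ S := by
        rw [← SetLike.mem_coe, hS]; exact Set.mem_mul.mpr ⟨1, A.one_mem, p, hp, by simp⟩
      have := S.mul_mem hpS haS
      rw [← SetLike.mem_coe, hS] at this
      obtain ⟨a', ha', p', hp', heq⟩ := Set.mem_mul.mp this
      exact Set.mem_mul.mpr ⟨a', hA ha', p', hp', heq⟩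
    intro a ha
    rw [Subgroup.sup_eq_closure] at ha
    induction ha using Subgroup.closure_induction with
    | mem x hx =>
      rcases hx with hx | hx
      · exact ⟨fun p hp => base A₁ S₁ le_sup_left h₁ x hx p hp,
          fun p hp => base A₁ S₁ le_sup_left h₁ x⁻¹ (A₁.inv_mem hx) p hp⟩
      · exact ⟨fun p hp => base A₂ S₂ le_sup_right h₂ x hx p hp,
          fun p hp => base A₂ S₂ le_sup_right h₂ x⁻¹ (A₂.inv_mem hx) p hp⟩
    | one =>
      constructor <;>
      · intro p hp
        exact Set.mem_mul.mpr ⟨1, Subgroup.one_mem _, p, hp, by simp⟩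
    | mul x y _ _ ihx ihy =>
      constructor
      · intro p hp
        obtain ⟨a', ha', p', hp', heq⟩ := Set.mem_mul.mp (ihx.1 p hp)
        obtain ⟨a'', ha'', p'', hp'', heq'⟩ := Set.mem_mul.mp (ihy.1 p' hp')
        refine Set.mem_mul.mpr ⟨a' * a'', Subgroup.mul_mem _ ha' ha'', p'', hp'', ?_⟩
        rw [mul_assoc, heq', ← mul_assoc, heq, mul_assoc]
      · intro p hp
        obtain ⟨a', ha', p', hp', heq⟩ := Set.mem_mul.mp (ihy.2 p hp)
        obtain ⟨a'', ha'', p'', hp'', heq'⟩ := Set.mem_mul.mp (ihx.2 p' hp')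
        refine Set.mem_mul.mpr ⟨a' * a'', Subgroup.mul_mem _ ha' ha'', p'', hp'', ?_⟩
        rw [mul_assoc, heq', ← mul_assoc, heq, mul_inv_rev, mul_assoc]
    | inv x _ ih =>
      refine ⟨ih.2, ?_⟩
      rw [inv_inv]; exact ih.1
  refine ⟨{ carrier := ((A₁ ⊔ A₂ : Subgroup G) : Set G) * (P : Set G)
            mul_mem' := ?_
            one_mem' := Set.mem_mul.mpr ⟨1, Subgroup.one_mem _, 1, Subgroup.one_mem _, by simp⟩
            inv_mem' := ?_ }, rfl⟩
  · intro x y hx hy
    obtain ⟨a, ha, p, hp, rfl⟩ := Set.mem_mul.mp hx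
    obtain ⟨a', ha', p', hp', rfl⟩ := Set.mem_mul.mp hy
    obtain ⟨a'', ha'', p'', hp'', heq⟩ := Set.mem_mul.mp ((hperm a' ha').1 p hp)
    refine Set.mem_mul.mpr ⟨a * a'', Subgroup.mul_mem _ ha ha'', p'' * p', P.mul_mem hp'' hp', ?_⟩
    calc a * a'' * (p'' * p') = a * (a'' * p'') * p' := by group
      _ = a * (p * a') * p' := by rw [heq]
      _ = a * p * (a' * p') := by group
  · intro x hx
    obtain ⟨a, ha, p, hp, rfl⟩ := Set.mem_mul.mp hx
    have := (hperm a ha).2 p⁻¹ (P.inv_mem hp)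
    rw [mul_inv_rev]
    exact this

theorem aux {G : Type*} [Group G] [Finite G] (B : Subgroup G) (n : ℕ) : ∀ A : Subgroup G,
    Nat.card G - Nat.card A ≤ n →
    (∀ x : G, ∃ S : Subgroup G, S ≠ ⊤ ∧
      (S : Set G) = (A : Set G) * ((MulAut.conj x • B : Subgroup G) : Set G)) →
    ∃ N : Subgroup G, N.Normal ∧ N ≠ ⊤ ∧ (A ≤ N ∨ B ≤ N) := by
  induction n with
  | zero =>
    intro A hn h
    exfalso
    obtain ⟨S, hS, hSA⟩ := h 1
    have hAS : A ≤ S := by
      intro a ha
      rw [← SetLike.mem_coe, hSA]; exact Set.mem_mul.mpr ⟨a, ha, 1, Subgroup.one_mem _, by simp⟩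
    have h1 : Nat.card A ≤ Nat.card G := Subgroup.card_le_card_group A
    have h2 : Nat.card A = Nat.card G := by omega
    have h3 : A = ⊤ := Subgroup.eq_top_of_card_eq A h2
    exact hS (top_le_iff.mp (h3 ▸ hAS))
  | succ n ih =>
    intro A hn h
    by_cases hAnorm : A.Normal
    · obtain ⟨S, hS, hSA⟩ := h 1
      have hAS : A ≤ S := by
        intro a ha
        rw [← SetLike.mem_coe, hSA]; exact Set.mem_mul.mpr ⟨a, ha, 1, Subgroup.one_mem _, by simp⟩
      refine ⟨A, hAnorm, ?_, Or.inl le_rfl⟩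
      intro hA
      exact hS (top_le_iff.mp (hA ▸ hAS))
    by_cases hB : ∀ x : G, ∀ y ∈ (MulAut.conj x • B : Subgroup G), y ∈ Subgroup.normalizer (A : Set G)
    · refine ⟨Subgroup.normalClosure (B : Set G), inferInstance, ?_, Or.inr Subgroup.le_normalClosure⟩
      intro htop
      apply hAnorm
      rw [← Subgroup.normalizer_eq_top_iff]
      rw [← top_le_iff, ← htop, Subgroup.normalClosure, Subgroup.closure_le]
      intro z hz
      rw [Group.mem_conjugatesOfSet_iff] at hz
      obtain ⟨b, hb, hbz⟩ := hz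
      rw [isConj_iff] at hbz
      obtain ⟨c, hc⟩ := hbz
      apply hB c z
      rw [Subgroup.mem_smul_pointwise_iff_exists]
      exact ⟨b, hb, by simpa [MulAut.conj_apply] using hc⟩
    · push Not at hB
      obtain ⟨x, y, hy, hyA⟩ := hB
      set A' : Subgroup G := MulAut.conj y • A with hA'
      have hlt : A < A ⊔ A' := by
        refine lt_of_le_of_ne le_sup_left ?_
        intro heq
        have hle : A' ≤ A := by rw [heq]; exact le_sup_right
        apply hyA
        rw [Subgroup.mem_normalizer_iff]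
        have hcard : Nat.card A' = Nat.card A := by
          rw [hA']; exact Nat.card_congr (Subgroup.equivSMul (MulAut.conj y) A).symm.toEquiv
        have hAA' : A' = A := Subgroup.eq_of_le_of_card_ge hle (le_of_eq hcard.symm)
        intro g
        constructor
        · intro hg
          rw [← hAA', hA', Subgroup.mem_smul_pointwise_iff_exists]
          exact ⟨g, hg, by simp [MulAut.conj_apply]⟩
        · intro hg
          rw [← hAA', hA', Subgroup.mem_smul_pointwise_iff_exists] at hg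
          obtain ⟨s, hs, hseq⟩ := hg
          have : s = g := by
            simpa [MulAut.conj_apply] using hseq
          exact this ▸ hs
      have hcardlt : Nat.card A < Nat.card (A ⊔ A' : Subgroup G) := by
        exact Set.Finite.card_lt_card (Set.toFinite _) hlt
      have hcardle : Nat.card (A ⊔ A' : Subgroup G) ≤ Nat.card G := Subgroup.card_le_card_group _
      have hle : ∃ S : Subgroup G, S ≠ ⊤ ∧ ((A ⊔ A' : Subgroup G) : Set G) * ((MulAut.conj x • B : Subgroup G) : Set G) ⊆ S := by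
        obtain ⟨S, hS, hSA⟩ := h x
        refine ⟨S, hS, ?_⟩
        have hAS : A ≤ S := by
          intro a ha
          rw [← SetLike.mem_coe, hSA]; exact Set.mem_mul.mpr ⟨a, ha, 1, Subgroup.one_mem _, by simp⟩
        have hBS : (MulAut.conj x • B : Subgroup G) ≤ S := by
          intro a ha
          rw [← SetLike.mem_coe, hSA]; exact Set.mem_mul.mpr ⟨1, Subgroup.one_mem _, a, ha, by simp⟩
        have hA'S : A' ≤ S := by
          intro a ha
          rw [hA', Subgroup.mem_smul_pointwise_iff_exists] at ha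
          obtain ⟨s, hs, rfl⟩ := ha
          have : y * s * y⁻¹ ∈ S := S.mul_mem (S.mul_mem (hBS hy) (hAS hs)) (S.inv_mem (hBS hy))
          simpa [MulAut.conj_apply] using this
        have hsup : A ⊔ A' ≤ S := sup_le hAS hA'S
        intro z hz
        obtain ⟨a, ha, b, hb, rfl⟩ := Set.mem_mul.mp hz
        exact S.mul_mem (hsup ha) (hBS hb)
      have hnew : ∀ g : G, ∃ S : Subgroup G, S ≠ ⊤ ∧
          (S : Set G) = ((A ⊔ A' : Subgroup G) : Set G) * ((MulAut.conj g • B : Subgroup G) : Set G) := by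
        intro g
        obtain ⟨S₁, -, hS₁⟩ := h g
        obtain ⟨S₂, -, hS₂⟩ := h (y⁻¹ * g)
        have hS₂' : ((MulAut.conj y • S₂ : Subgroup G) : Set G) =
            (A' : Set G) * ((MulAut.conj g • B : Subgroup G) : Set G) := by
          rw [Subgroup.coe_pointwise_smul, hS₂, smul_mul', hA', ← Subgroup.coe_pointwise_smul,
            ← Subgroup.coe_pointwise_smul, ← mul_smul, ← map_mul, mul_inv_cancel_left]
        obtain ⟨S, hS⟩ := exists_subgroup_sup_mul A A' (MulAut.conj g • B) S₁ (MulAut.conj y • S₂) hS₁ hS₂'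
        refine ⟨S, ?_, hS⟩
        rintro rfl
        obtain ⟨T, hT, hTsub⟩ := hle
        apply hT
        rw [Subgroup.coe_top] at hS
        have := mul_conj_eq_univ (A ⊔ A') B g x hS.symm
        rw [this] at hTsub
        rw [← top_le_iff]
        intro z _
        exact hTsub (Set.mem_univ z)
      obtain ⟨N, hN, hNt, hor⟩ := ih (A ⊔ A') (by omega) hnew
      refine ⟨N, hN, hNt, ?_⟩
      rcases hor with h1 | h1
      · exact Or.inl (le_trans le_sup_left h1)
      · exact Or.inr h1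

/-- Let A and B be nontrivial subgroups of a finite group G such that for every x the product set of A and xBx⁻¹ is a proper subgroup of G. Then there is a proper normal subgroup of G containing A or containing B. -/
theorem result {G : Type*} [Group G] [Finite G] (A B : Subgroup G) (hA : A ≠ ⊥) (hB : B ≠ ⊥) (h : ∀ x : G, ∃ S : Subgroup G, S ≠ ⊤ ∧ (S : Set G) = (A : Set G) * ((MulAut.conj x • B : Subgroup G) : Set G)) : ∃ N : Subgroup G, N.Normal ∧ N ≠ ⊤ ∧ (A ≤ N ∨ B ≤ N) := by
  exact aux B _ A le_rfl h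

end Cfsg.Agent.S0566
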