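import Cfsg.Statements.S0729
import Cfsg.Agent.PermutationGroups.SharpThreeIndexTwo

set_option autoImplicit false
open Cfsg

namespace Cfsg.Agent.S0729

/-- In a sharply triply transitive group of even degree at least 6, the two-point stabiliser `H = G_{a,b}` has a normal subgroup of index 2 that is normalised by the element `s` interchanging `a, b` and fixing a third point `c`. -/
theorem result {α : Type*} [Fintype α] [DecidableEq α] (heven : Even (Fintype.card α)) (h6 : 6 ≤ Fintype.card α) (G : Subgroup (Equiv.Perm α)) (h3 : MulAction.IsMultiplyPretransitive G α 3) (hsharp : ∀ x : Fin 3 ↪ α, MulAction.stabilizer G x = ⊥) {a b c : α} (hab : a ≠ b) (hac : a ≠ c) (hbc : b ≠ c) (s : G) (hsa : s • a = b) (hsb : s • b = a) (hsc : s • c = c) : ∃ N : Subgroup G, N ≤ MulAction.stabilizer G a ⊓ MulAction.stabilizer G b ∧ (N.subgroupOf (MulAction.stabilizer G a ⊓ MulAction.stabilizer G b)).Normal ∧ N.relIndex (MulAction.stabilizer G a ⊓ MulAction.stabilizer G b) = 2 ∧ ∀ n ∈ N, s * n * s⁻¹ ∈ N := by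
  have h2 : MulAction.IsMultiplyPretransitive G α 2 := by
    refine MulAction.isMultiplyPretransitive_of_le (n := 3) (by norm_num) ?_
    rw [Nat.card_eq_fintype_card]
    omega
  rw [← Nat.card_eq_fintype_card] at heven h6
  obtain ⟨M, hM, hMs⟩ := PermutationGroups.SharpThreeIndexTwo.exists_index_two h3 h2
    (PermutationGroups.SharpThree.threeTrivial hsharp) heven h6 hab hac hbc hsa hsb hsc
  have hMM : (M.map (MulAction.stabilizer G a ⊓ MulAction.stabilizer G b).subtype).subgroupOf
      (MulAction.stabilizer G a ⊓ MulAction.stabilizer G b) = M := by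
    rw [Subgroup.subgroupOf, Subgroup.comap_map_eq_self_of_injective
      (Subgroup.subtype_injective _)]
  refine ⟨M.map (MulAction.stabilizer G a ⊓ MulAction.stabilizer G b).subtype,
    Subgroup.map_subtype_le M, ?_, ?_, ?_⟩
  · rw [hMM]
    exact Subgroup.normal_of_index_eq_two hM
  · rw [Subgroup.relIndex, hMM, hM]
  · rintro _ ⟨x, hx, rfl⟩
    exact ⟨_, hMs x hx, rfl⟩

end Cfsg.Agent.S0729
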