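import Cfsg.Statements.S0742
-- import your own Cfsg.Agent.* helpers here
import Cfsg.Agent.PermutationGroups.PSLRecog

set_option autoImplicit false
open Cfsg

namespace Cfsg.Agent.S0742

/-- A finite Zassenhaus group of degree `n + 1` with two-point stabilisers of even order `d` satisfying `2d ≤ n - 1` has `n = p^f` for an odd prime `p` and is isomorphic to `PSL(2, p^f)`. -/
theorem result {G Ω : Type*} [Group G] [Finite G] [MulAction G Ω] [Fintype Ω] (hZ : Cfsg.IsZassenhausGroup G Ω) {a b : Ω} (hab : a ≠ b) (heven : Even (Nat.card ↥(MulAction.stabilizer G a ⊓ MulAction.stabilizer G b))) (hd : 2 * Nat.card ↥(MulAction.stabilizer G a ⊓ MulAction.stabilizer G b) ≤ Fintype.card Ω - 2) : ∃ (p f : ℕ) (K : Type) (_ : Field K) (_ : Fintype K), p.Prime ∧ p ≠ 2 ∧ Fintype.card K = p ^ f ∧ Fintype.card Ω = p ^ f + 1 ∧ Nonempty (G ≃* Matrix.ProjectiveSpecialLinearGroup (Fin 2) K) := by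
  have hfaith := hZ.1
  have h2 := hZ.2.1
  have h3 := Cfsg.Agent.PermutationGroups.ZassenhausEven.threeTrivial_of_zassenhaus hZ
  have hI := Cfsg.Agent.PermutationGroups.ZassenhausEven.twoInv_of_even h2 hab heven
  rw [← Nat.card_eq_fintype_card] at hd
  have hd' := Cfsg.Agent.PermutationGroups.ZassenhausEven.card_sub_two_le h2 h3 hI hab
  have hpos : 0 < Nat.card ↥(MulAction.stabilizer G a ⊓ MulAction.stabilizer G b) := Nat.card_pos
  obtain ⟨F, -, hFle, hFn, hFab, hreg, -⟩ :=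
    Cfsg.Agent.PermutationGroups.ZassenhausEven.exists_kernel h2 h3 hI hab
  obtain ⟨s, hsa, hsb⟩ :=
    Cfsg.Agent.PermutationGroups.ZassenhausEven.exists_mem_swapSet h2 hab
  obtain ⟨K, hK, hK', hcard, hchar, e⟩ := Cfsg.Agent.PermutationGroups.PSLRecog.recog h3 hab F hFle
    hFn hFab hreg (by omega) s
    (Cfsg.Agent.PermutationGroups.ZassenhausEven.swap_sq h2 h3 hI hab hd hsa hsb) hsa
    (fun h hh => Cfsg.Agent.PermutationGroups.ZassenhausEven.swap_conj h2 h3 hI hab hd hsa hsb hh)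
  obtain ⟨n, hp, hn⟩ := FiniteField.card K (ringChar K)
  refine ⟨ringChar K, n, K, hK, hK', hp, hchar, hn, ?_, e⟩
  rw [← Nat.card_eq_fintype_card, ← hcard, hn]

end Cfsg.Agent.S0742
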