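import Cfsg.Statements.S0344
-- import your own Cfsg.Agent.* helpers here
import Cfsg.Agent.LieExceptional.SharpThreeTransfer
import Cfsg.Agent.PermutationGroups.ZassenhausEven
import Cfsg.Agent.CharactersDeep.ZassenhausTransfer
import Cfsg.Agent.S0729
import Cfsg.Agent.S0742

set_option autoImplicit false
open Cfsg

namespace Cfsg.Agent.S0344

open MulAction

/-- A finite simple group with a nontrivial sign homomorphism has order at most two. -/
theorem card_le_two_of_sign {G : Type*} [Group G] [Finite G] [IsSimpleGroup G] (f : G →* ℤˣ)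
    (hf : f ≠ 1) : Nat.card G ≤ 2 := by
  have hker : f.ker = ⊥ := by
    rcases IsSimpleGroup.eq_bot_or_eq_top_of_normal f.ker inferInstance with h | h
    · exact h
    · exact absurd ((MonoidHom.ker_eq_top_iff).1 h) hf
  have hinj : Function.Injective f := (MonoidHom.ker_eq_bot_iff f).1 hker
  have := Nat.card_le_card_of_injective f hinj
  have h2 : Nat.card ℤˣ = 2 := by
    rw [Nat.card_eq_fintype_card]
    rfl
  omega

/-- A finite sharply triply transitive group of even degree is not simple. -/
theorem not_simple_of_sharply_three {G Ω : Type*} [Group G] [Finite G] [MulAction G Ω] [Finite Ω]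
    [IsSimpleGroup G] (hf : FaithfulSMul G Ω)
    (h3 : ∀ x y z x' y' z' : Ω, x ≠ y → y ≠ z → x ≠ z → x' ≠ y' → y' ≠ z' →
      x' ≠ z' → ∃ g : G, g • x = x' ∧ g • y = y' ∧ g • z = z')
    (hsharp : ∀ g : G, ∀ a b c : Ω, a ≠ b → b ≠ c → a ≠ c → g • a = a → g • b = b → g • c = c → g = 1)
    (heven : Even (Nat.card Ω)) (h4 : 4 ≤ Nat.card Ω) : False := by
  classical
  have := Fintype.ofFinite Ω
  have := Fintype.ofFinite G
  rw [Nat.card_eq_fintype_card] at heven h4
  -- three distinct points
  obtain ⟨a, b, c, hab, hac, hbc⟩ : ∃ a b c : Ω, a ≠ b ∧ a ≠ c ∧ b ≠ c :=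
    Fintype.two_lt_card_iff.mp (by omega)
  -- the group has more than two elements
  have hG : 2 < Nat.card G := by
    obtain ⟨g1, h1, h1', h1''⟩ := h3 a b c b c a hab hbc hac hbc hac.symm hab.symm
    obtain ⟨g2, h2, h2', h2''⟩ := h3 a b c c a b hab hbc hac hac.symm hab hbc.symm
    rw [Nat.card_eq_fintype_card, Fintype.two_lt_card_iff]
    refine ⟨1, g1, g2, ?_, ?_, ?_⟩
    · rintro rfl
      rw [one_smul] at h1
      exact hab h1
    · rintro rfl
      rw [one_smul] at h2
      exact hac h2
    · rintro rfl
      exact hbc (h1.symm.trans h2)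
  by_cases h6 : 6 ≤ Fintype.card Ω
  · -- degree at least six: transfer
    let ρ := MulAction.toPermHom G Ω
    have hρ : Function.Injective ρ := MulAction.toPerm_injective
    let P : Subgroup (Equiv.Perm Ω) := ρ.range
    let e : G ≃* P := MonoidHom.ofInjective hρ
    have he : ∀ (g : G) (x : Ω), (e g) • x = g • x := fun g x => rfl
    have hsm : ∀ (g : P) (x : Ω), (e.symm g) • x = g • x := by
      intro g x
      rw [← he, MulEquiv.apply_symm_apply]
    have hP3 : ∀ x y z x' y' z' : Ω, x ≠ y → y ≠ z → x ≠ z → x' ≠ y' → y' ≠ z' →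
        x' ≠ z' → ∃ g : P, g • x = x' ∧ g • y = y' ∧ g • z = z' := by
      intro x y z x' y' z' k1 k2 k3 k4 k5 k6
      obtain ⟨g, hg⟩ := h3 x y z x' y' z' k1 k2 k3 k4 k5 k6
      exact ⟨e g, hg⟩
    have hPsharp : ∀ g : P, ∀ a b c : Ω, a ≠ b → b ≠ c → a ≠ c → g • a = a → g • b = b →
        g • c = c → g = 1 := by
      intro g a b c k1 k2 k3 k4 k5 k6
      have := hsharp (e.symm g) a b c k1 k2 k3 (by rw [hsm]; exact k4) (by rw [hsm]; exact k5)
        (by rw [hsm]; exact k6)
      exact (MulEquiv.map_eq_one_iff e.symm).1 this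
    have hPpre : IsMultiplyPretransitive P Ω 3 := by
      rw [isMultiplyPretransitive_iff]
      intro x y
      have hx := x.injective
      have hy := y.injective
      obtain ⟨g, hg1, hg2, hg3⟩ := hP3 (x 0) (x 1) (x 2) (y 0) (y 1) (y 2)
        (fun h => by simpa using hx h) (fun h => by simpa using hx h)
        (fun h => by simpa using hx h) (fun h => by simpa using hy h)
        (fun h => by simpa using hy h) (fun h => by simpa using hy h)
      refine ⟨g, ?_⟩
      ext i
      fin_cases i
      · exact hg1
      · exact hg2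
      · exact hg3
    have hPst : ∀ x : Fin 3 ↪ Ω, MulAction.stabilizer P x = ⊥ := by
      intro x
      rw [eq_bot_iff]
      intro g hg
      rw [mem_stabilizer_iff] at hg
      have hx := x.injective
      have hg' : ∀ i, g • x i = x i := fun i => by
        have := congrArg (fun f : Fin 3 ↪ Ω => f i) hg
        exact this
      exact hPsharp g (x 0) (x 1) (x 2) (fun h => by simpa using hx h)
        (fun h => by simpa using hx h) (fun h => by simpa using hx h) (hg' 0) (hg' 1) (hg' 2)
    obtain ⟨s, hsa, hsb, hsc⟩ := hP3 a b c b a c hab hbc hac hab.symm hac hbc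
    obtain ⟨N, hN, -, hidx, hsN⟩ := S0729.result heven h6 P hPpre hPst hab hac hbc s hsa hsb hsc
    obtain ⟨f, hf1⟩ := LieExceptional.SharpThreeTransfer.exists_sign hP3 hPsharp hab hac hbc s hsa
      hsb hsc N hN hidx hsN
    have : (f.comp e.toMonoidHom) ≠ 1 := by
      intro h
      apply hf1
      ext g
      have h1 := DFunLike.congr_fun h (e.symm g)
      simp only [MonoidHom.comp_apply, MulEquiv.toMonoidHom_eq_coe, MonoidHom.coe_coe,
        MulEquiv.apply_symm_apply, MonoidHom.one_apply] at h1
      rw [h1]
      rfl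
    have := card_le_two_of_sign _ this
    omega
  · -- degree four: the symmetric group
    have h4' : Fintype.card Ω = 4 := by
      obtain ⟨k, hk⟩ := heven
      omega
    let f : G →* ℤˣ := Equiv.Perm.sign.comp (MulAction.toPermHom G Ω)
    have hf1 : f ≠ 1 := by
      intro h
      obtain ⟨s, hsa, hsb, hsc⟩ := h3 a b c b a c hab hbc hac hab.symm hac hbc
      have hsw : MulAction.toPermHom G Ω s = Equiv.swap a b := by
        ext x
        rw [MulAction.toPermHom_apply, MulAction.toPerm_apply]
        by_cases hxa : x = a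
        · rw [hxa, Equiv.swap_apply_left, hsa]
        by_cases hxb : x = b
        · rw [hxb, Equiv.swap_apply_right, hsb]
        rw [Equiv.swap_apply_of_ne_of_ne hxa hxb]
        by_cases hxc : x = c
        · rw [hxc, hsc]
        -- `x` is the fourth point
        have hall : ∀ y : Ω, y = a ∨ y = b ∨ y = c ∨ y = x := by
          intro y
          have hS : ({a, b, c, x} : Finset Ω) = Finset.univ := by
            rw [← Finset.card_eq_iff_eq_univ, h4']
            rw [Finset.card_insert_of_notMem, Finset.card_insert_of_notMem,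
              Finset.card_insert_of_notMem, Finset.card_singleton]
            · simpa using Ne.symm hxc
            · simp only [Finset.mem_insert, Finset.mem_singleton, not_or]
              exact ⟨hbc, Ne.symm hxb⟩
            · simp only [Finset.mem_insert, Finset.mem_singleton, not_or]
              exact ⟨hab, hac, Ne.symm hxa⟩
          have := Finset.mem_univ y
          rw [← hS] at this
          simpa using this
        rcases hall (s • x) with h | h | h | h
        · exfalso
          exact hxb (smul_left_cancel s (h.trans hsb.symm))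
        · exfalso
          exact hxa (smul_left_cancel s (h.trans hsa.symm))
        · exfalso
          exact hxc (smul_left_cancel s (h.trans hsc.symm))
        · exact h
      have h1 := DFunLike.congr_fun h s
      simp only [f, MonoidHom.comp_apply, hsw, MonoidHom.one_apply] at h1
      rw [Equiv.Perm.sign_swap hab] at h1
      exact absurd h1 (by decide)
    have := card_le_two_of_sign _ hf1
    omega

/-- A finite simple Zassenhaus group with a two-point stabiliser of even order is isomorphic to `PSL₂(F)` for a finite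
field `F` with more than three elements. -/
theorem result {G Ω : Type*} [Group G] [Finite G] [MulAction G Ω] [Finite Ω]
    (hZ : Cfsg.IsZassenhausGroup G Ω) [IsSimpleGroup G]
    {a b : Ω} (hab : a ≠ b) (heven : Even (Nat.card ↥(MulAction.stabilizer G a ⊓ MulAction.stabilizer G b))) :
    ∃ (F : Type) (_ : Field F) (_ : Fintype F), 3 < Fintype.card F ∧ Nonempty (G ≃* Matrix.ProjectiveSpecialLinearGroup (Fin 2) F) := by
  classical
  have := Fintype.ofFinite Ω
  have h2 := hZ.2.1
  have h3 := PermutationGroups.ZassenhausEven.threeTrivial_of_zassenhaus hZ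
  have hI := PermutationGroups.ZassenhausEven.twoInv_of_even h2 hab heven
  have hle := PermutationGroups.ZassenhausEven.card_sub_two_le h2 h3 hI hab
  have hdvd := CharactersDeep.ZassenhausTransfer.two_point_card_dvd hZ hab
  have h3le := CharactersDeep.Zassenhaus.three_le_card hZ
  have hNF : Nat.card Ω = Fintype.card Ω := Nat.card_eq_fintype_card
  rw [hNF] at hle hdvd
  obtain ⟨d, hd⟩ : ∃ d, d = Nat.card ↥(MulAction.stabilizer G a ⊓ MulAction.stabilizer G b) := ⟨_, rfl⟩
  have heven' : Even d := hd ▸ heven
  rw [← hd] at hle hdvd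
  have hdpos : 0 < d := hd ▸ Nat.card_pos
  have hd2 : 2 ≤ d := Nat.le_of_dvd hdpos heven'.two_dvd
  by_cases hcase : 2 * d ≤ Fintype.card Ω - 2
  · obtain ⟨p, f, K, hK, hK', hp, hp2, hcK, hcΩ, hiso⟩ := S0742.result hZ hab heven (hd ▸ hcase)
    refine ⟨K, hK, hK', ?_, hiso⟩
    rw [hcK]
    omega
  · -- sharply 3-transitive
    exfalso
    have hcard : Fintype.card Ω = d + 2 := by
      have h3le' : 3 ≤ Fintype.card Ω := by
        rw [← hNF]; rw [← hNF] at h3le; exact h3le
      obtain ⟨k, hk⟩ := hdvd
      have hk2 : k < 2 := by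
        by_contra hk2
        push Not at hk2
        have := Nat.mul_le_mul_left d hk2
        omega
      interval_cases k
      · omega
      · omega
    have hreg : ∀ c c' : Ω, a ≠ c → b ≠ c → a ≠ c' → b ≠ c' → ∃ g : G, g • a = a ∧ g • b = b ∧ g • c = c' := by
      intro c c' hac hbc hac' hbc'
      let H := MulAction.stabilizer G a ⊓ MulAction.stabilizer G b
      have hmem : ∀ g : H, (g : G) • c ∈ ({x | x ≠ a ∧ x ≠ b} : Set Ω) := by
        intro g
        refine ⟨fun h => ?_, fun h => ?_⟩
        · exact hac (smul_left_cancel (g : G) (g.2.1.trans h.symm))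
        · exact hbc (smul_left_cancel (g : G) (g.2.2.trans h.symm))
      let f : H → ({x | x ≠ a ∧ x ≠ b} : Set Ω) := fun g => ⟨(g : G) • c, hmem g⟩
      have hf : Function.Injective f := by
        intro g g' hgg
        have h1 : (g : G) • c = (g' : G) • c := congrArg Subtype.val hgg
        have h4 : (g' : G)⁻¹ * g = 1 := by
          refine h3 _ a b c hab hbc hac ?_ ?_ ?_
          · rw [mul_smul, g.2.1, inv_smul_eq_iff, g'.2.1]
          · rw [mul_smul, g.2.2, inv_smul_eq_iff, g'.2.2]
          · rw [mul_smul, h1, inv_smul_smul]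
        exact Subtype.ext (inv_mul_eq_one.mp h4).symm
      have hcard' : Nat.card H = Nat.card ({x | x ≠ a ∧ x ≠ b} : Set Ω) := by
        have h5 : ({x | x ≠ a ∧ x ≠ b} : Set Ω) = (((Finset.univ.erase a).erase b : Finset Ω) : Set Ω) := by
          ext x
          simp only [Set.mem_ofPred_eq, Finset.coe_erase, Finset.coe_univ, Set.mem_sdiff, Set.mem_univ,
            Set.mem_singleton_iff, true_and]
        rw [h5, Nat.card_coe_set_eq, Set.ncard_coe_finset, Finset.card_erase_of_mem
          (Finset.mem_erase.mpr ⟨hab.symm, Finset.mem_univ _⟩),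
          Finset.card_erase_of_mem (Finset.mem_univ _), Finset.card_univ, hcard, ← hd]
        omega
      obtain ⟨g, hg⟩ := ((Nat.bijective_iff_injective_and_card f).mpr ⟨hf, hcard'⟩).2
        ⟨c', hac'.symm, hbc'.symm⟩
      exact ⟨g, g.2.1, g.2.2, congrArg Subtype.val hg⟩
    have h2' : ∀ {x y x' y' : Ω}, x ≠ y → x' ≠ y' → ∃ g : G, g • x = x' ∧ g • y = y' :=
      is_two_pretransitive_iff.mp h2
    refine not_simple_of_sharply_three (G := G) (Ω := Ω) hZ.1 ?_ h3 ?_ ?_
    · intro x y z x' y' z' hxy hyz hxz hxy' hyz' hxz'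
      obtain ⟨g, hg1, hg2⟩ := h2' hxy hab
      obtain ⟨g', hg1', hg2'⟩ := h2' hxy' hab
      obtain ⟨h, hh1, hh2, hh3⟩ := hreg (g • z) (g' • z')
        (fun h => hxz (smul_left_cancel g (hg1.trans h)))
        (fun h => hyz (smul_left_cancel g (hg2.trans h)))
        (fun h => hxz' (smul_left_cancel g' (hg1'.trans h)))
        (fun h => hyz' (smul_left_cancel g' (hg2'.trans h)))
      refine ⟨g'⁻¹ * h * g, ?_, ?_, ?_⟩
      · rw [mul_smul, mul_smul, hg1, hh1, inv_smul_eq_iff, hg1']
      · rw [mul_smul, mul_smul, hg2, hh2, inv_smul_eq_iff, hg2']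
      · rw [mul_smul, mul_smul, hh3, inv_smul_eq_iff]
    · rw [Nat.card_eq_fintype_card, hcard]
      exact heven'.add (by decide)
    · rw [Nat.card_eq_fintype_card]
      omega

end Cfsg.Agent.S0344
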