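import Cfsg.Statements.S0727
import Cfsg.Agent.PermutationGroups.SharpThreeEvenMain
-- import your own Cfsg.Agent.* helpers here

set_option autoImplicit false
open Cfsg

namespace Cfsg.Agent.S0727

/-- A sharply triply transitive permutation group of degree `2^f + 1` is isomorphic to the projective general linear group of degree 2 over the field with `2^f` elements. -/
theorem result {α : Type*} [Fintype α] [DecidableEq α] {f : ℕ} (hf : 1 ≤ f) (hα : Fintype.card α = 2 ^ f + 1) (G : Subgroup (Equiv.Perm α)) (h3 : MulAction.IsMultiplyPretransitive G α 3) (hsharp : ∀ x : Fin 3 ↪ α, MulAction.stabilizer G x = ⊥) : ∃ (F : Type) (_ : Field F) (_ : Fintype F), Fintype.card F = 2 ^ f ∧ Nonempty (G ≃* Matrix.ProjGenLinGroup (Fin 2) F) := by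
  have key : ∀ a b c : α, a ≠ b → a ≠ c → b ≠ c → ∃ x : Fin 3 ↪ α, x 0 = a ∧ x 1 = b ∧ x 2 = c := by
    intro a b c hab hac hbc
    refine ⟨⟨![a, b, c], ?_⟩, rfl, rfl, rfl⟩
    intro i j hij
    fin_cases i <;> fin_cases j <;> simp_all
  apply Cfsg.Agent.PermutationGroups.SharpThreeEvenMain.main hf hα G
  · intro a b c a' b' c' h1 h2 h3' h4 h5 h6
    obtain ⟨x, hx0, hx1, hx2⟩ := key a b c h1 h2 h3'
    obtain ⟨y, hy0, hy1, hy2⟩ := key a' b' c' h4 h5 h6
    obtain ⟨g, hg⟩ := h3.exists_smul_eq x y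
    refine ⟨g, g.2, ?_, ?_, ?_⟩
    · rw [← hx0, ← hy0, ← hg]; rfl
    · rw [← hx1, ← hy1, ← hg]; rfl
    · rw [← hx2, ← hy2, ← hg]; rfl
  · intro g hg a b c h1 h2 h3' ha hb hc
    obtain ⟨x, hx0, hx1, hx2⟩ := key a b c h1 h2 h3'
    have hmem : (⟨g, hg⟩ : G) ∈ MulAction.stabilizer G x := by
      rw [MulAction.mem_stabilizer_iff]
      ext i
      have hi : ∀ i : Fin 3, g (x i) = x i := by
        intro i
        fin_cases i
        · show g (x 0) = x 0
          rw [hx0, ha]
        · show g (x 1) = x 1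
          rw [hx1, hb]
        · show g (x 2) = x 2
          rw [hx2, hc]
      exact hi i
    rw [hsharp x, Subgroup.mem_bot] at hmem
    exact congrArg Subtype.val hmem

end Cfsg.Agent.S0727
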