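import Cfsg.Statements.S0738

set_option autoImplicit false
open Cfsg

namespace Cfsg.Agent.S0738

/-- The number of solutions of `x ^ p = 1` in a finite group of order divisible by `p` is divisible
by `p`. -/
theorem dvd_card_pow_eq_one {F : Type*} [Group F] [Finite F] (p : ℕ) [hp : Fact p.Prime]
    (hpF : p ∣ Nat.card F) : p ∣ Nat.card {u : F // u ^ p = 1} := by
  classical
  obtain ⟨z, hz⟩ := exists_prime_orderOf_dvd_card' p hpF
  have hzp : z ^ p = 1 := by rw [← hz]; exact pow_orderOf_eq_one z
  let P := Subgroup.zpowers z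
  have hPcard : Nat.card P = p := by rw [Nat.card_zpowers, hz]
  have hPp : IsPGroup p P := IsPGroup.of_card (n := 1) (by simpa using hPcard)
  -- conjugation action on solutions
  let act : MulAction P {u : F // u ^ p = 1} :=
    { smul := fun g u => ⟨(g : F) * u.1 * (g : F)⁻¹, by
        rw [conj_pow, u.2]; simp⟩
      one_smul := fun u => Subtype.ext (by
        change ((1 : P) : F) * u.1 * ((1 : P) : F)⁻¹ = u.1
        simp)
      mul_smul := fun g h u => Subtype.ext (by
        change ((g * h : P) : F) * u.1 * ((g * h : P) : F)⁻¹ =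
          (g : F) * ((h : F) * u.1 * (h : F)⁻¹) * (g : F)⁻¹
        simp [mul_assoc]) }
  have h1 := hPp.card_modEq_card_fixedPoints {u : F // u ^ p = 1}
  have hcomm : ∀ u : {u : F // u ^ p = 1}, u ∈ MulAction.fixedPoints P {u : F // u ^ p = 1} →
      Commute z u.1 := by
    intro u hu
    have := hu ⟨z, Subgroup.mem_zpowers z⟩
    have h2 : z * u.1 * z⁻¹ = u.1 := congrArg Subtype.val this
    rw [mul_inv_eq_iff_eq_mul] at h2
    exact h2
  -- translation action on fixed points
  have hfix : ∀ u : {u : F // u ^ p = 1}, Commute z u.1 →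
      u ∈ MulAction.fixedPoints P {u : F // u ^ p = 1} := by
    intro u hu g
    apply Subtype.ext
    change (g : F) * u.1 * (g : F)⁻¹ = u.1
    obtain ⟨k, hk⟩ := Subgroup.mem_zpowers_iff.mp g.2
    rw [← hk]
    have : Commute (z ^ k) u.1 := hu.zpow_left k
    rw [this.eq]; simp
  let act2 : MulAction P (MulAction.fixedPoints P {u : F // u ^ p = 1}) :=
    { smul := fun g u => ⟨⟨(g : F) * u.1.1, by
        obtain ⟨k, hk⟩ := Subgroup.mem_zpowers_iff.mp g.2
        have h3 : Commute (g : F) u.1.1 := by
          rw [← hk]; exact (hcomm u.1 u.2).zpow_left k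
        rw [h3.mul_pow, u.1.2, ← hk, ← zpow_natCast, zpow_comm, zpow_natCast, hzp]; simp⟩, by
        apply hfix
        obtain ⟨k, hk⟩ := Subgroup.mem_zpowers_iff.mp g.2
        change Commute z ((g : F) * u.1.1)
        rw [← hk]
        exact ((Commute.refl z).zpow_right k).mul_right (hcomm u.1 u.2)⟩
      one_smul := fun u => Subtype.ext (Subtype.ext (by
        change ((1 : P) : F) * u.1.1 = u.1.1
        simp))
      mul_smul := fun g h u => Subtype.ext (Subtype.ext (by
        change ((g * h : P) : F) * u.1.1 = (g : F) * ((h : F) * u.1.1)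
        simp [mul_assoc])) }
  have h2 := hPp.card_modEq_card_fixedPoints (MulAction.fixedPoints P {u : F // u ^ p = 1})
  have h3 : Nat.card (MulAction.fixedPoints P (MulAction.fixedPoints P {u : F // u ^ p = 1})) = 0 := by
    rw [Nat.card_eq_zero]
    left
    constructor
    intro u
    have h4 := u.2 ⟨z, Subgroup.mem_zpowers z⟩
    have h5 : z * u.1.1.1 = u.1.1.1 := congrArg (fun t => t.1.1) h4
    have h6 : z = 1 := by simpa using h5
    rw [h6, orderOf_one] at hz
    exact hp.out.one_lt.ne hz
  rw [h3] at h2
  exact (Nat.modEq_zero_iff_dvd).mp (h1.trans h2)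

/-- A finite group with a fixed-point-free group of automorphisms `H` with `|F| ≤ 2 |H| + 1` is
elementary abelian. -/
theorem elementary_of_half_transitive {F H : Type*} [Group F] [Finite F] [Group H] [Finite H]
    (φ : H →* MulAut F) (hφ : ∀ (h : H) (u : F), φ h u = u → h = 1 ∨ u = 1)
    (hF : 1 < Nat.card F) (hc : Nat.card F ≤ 2 * Nat.card H + 1) :
    (∀ u v : F, u * v = v * u) ∧ ∃ p : ℕ, p.Prime ∧ (∀ u : F, u ^ p = 1) ∧ IsPGroup p F := by
  classical
  -- injectivity of orbit maps
  have hinj : ∀ x : F, x ≠ 1 → Function.Injective (fun h : H => φ h x) := by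
    intro x hx h k hk
    have h1 : φ (k⁻¹ * h) x = x := by
      rw [map_mul, MulAut.mul_apply]
      change φ k⁻¹ (φ h x) = x
      have h2 : φ h x = φ k x := hk
      rw [h2, map_inv, MulAut.inv_apply_self]
    rcases hφ _ _ h1 with h2 | h2
    · rw [inv_mul_eq_one] at h2; exact h2.symm
    · exact absurd h2 hx
  have hne : ∀ (x : F), x ≠ 1 → ∀ h : H, φ h x ≠ 1 := by
    intro x hx h h1
    exact hx ((map_eq_one_iff (φ h) (φ h).injective).mp h1)
  -- invariant subgroups
  have hinv : ∀ K : Subgroup F, (∀ (h : H) (u : F), u ∈ K → φ h u ∈ K) → K ≠ ⊥ → K = ⊤ := by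
    intro K hK hKb
    obtain ⟨x, hxK, hx⟩ : ∃ x : F, x ∈ K ∧ x ≠ 1 := by
      obtain ⟨x, hx⟩ := Subgroup.ne_bot_iff_exists_ne_one.mp hKb
      exact ⟨x.1, x.2, fun h => hx (Subtype.ext h)⟩
    have h1 : Nat.card H + 1 ≤ Nat.card K := by
      let f : Option H → K := fun o => match o with
        | none => 1
        | some h => ⟨φ h x, hK h x hxK⟩
      have hf : Function.Injective f := by
        intro o o' hoo
        rcases o with _ | h <;> rcases o' with _ | h'
        · rfl
        · exact absurd (congrArg Subtype.val hoo).symm (hne x hx h')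
        · exact absurd (congrArg Subtype.val hoo) (hne x hx h)
        · exact congrArg some (hinj x hx (congrArg Subtype.val hoo))
      have := Nat.card_le_card_of_injective f hf
      rwa [Finite.card_option] at this
    have h2 := K.card_mul_index
    have h3 : K.index < 2 := by
      by_contra h4
      push Not at h4
      have : Nat.card K * 2 ≤ Nat.card K * K.index := Nat.mul_le_mul_left _ h4
      omega
    have h4 : K.index ≠ 0 := Subgroup.index_ne_zero_of_finite
    exact Subgroup.index_eq_one.mp (by omega)
  obtain ⟨p, hp, hpF⟩ := Nat.exists_prime_and_dvd hF.ne'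
  have : Fact p.Prime := ⟨hp⟩
  have hPG : IsPGroup p F := by
    rw [IsPGroup.iff_card]
    refine ⟨_, Nat.eq_prime_pow_of_unique_prime_dvd (Nat.card_pos.ne') ?_⟩
    intro q hq hqF
    by_contra hqp
    have : Fact q.Prime := ⟨hq⟩
    obtain ⟨x, hx⟩ := exists_prime_orderOf_dvd_card' p hpF
    obtain ⟨y, hy⟩ := exists_prime_orderOf_dvd_card' q hqF
    have hx1 : x ≠ 1 := by
      rintro rfl; rw [orderOf_one] at hx; exact hp.one_lt.ne hx
    have hy1 : y ≠ 1 := by
      rintro rfl; rw [orderOf_one] at hy; exact hq.one_lt.ne hy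
    have hordx : ∀ h : H, orderOf (φ h x) = p := fun h => by
      rw [MulEquiv.orderOf_eq (φ h) x]; exact hx
    have hordy : ∀ h : H, orderOf (φ h y) = q := fun h => by
      rw [MulEquiv.orderOf_eq (φ h) y]; exact hy
    let f : Option (H ⊕ H) → F := fun o => match o with
      | none => 1
      | some (Sum.inl h) => φ h x
      | some (Sum.inr h) => φ h y
    have hf : Function.Injective f := by
      intro o o' hoo
      rcases o with _ | h | h <;> rcases o' with _ | h' | h'
      · rfl
      · exact absurd hoo.symm (hne x hx1 h')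
      · exact absurd hoo.symm (hne y hy1 h')
      · exact absurd hoo (hne x hx1 h)
      · exact congrArg (fun t => some (Sum.inl t)) (hinj x hx1 hoo)
      · exfalso
        have h1 : φ h x = φ h' y := hoo
        have h2 := hordx h
        rw [h1, hordy h'] at h2
        exact hqp h2
      · exact absurd hoo (hne y hy1 h)
      · exfalso
        have h1 : φ h y = φ h' x := hoo
        have h2 := hordx h'
        rw [← h1, hordy h] at h2
        exact hqp h2
      · exact congrArg (fun t => some (Sum.inr t)) (hinj y hy1 hoo)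
    have hcard : Nat.card (Option (H ⊕ H)) = 2 * Nat.card H + 1 := by
      rw [Finite.card_option, Nat.card_sum]; ring
    have hcF : Nat.card F = 2 * Nat.card H + 1 := by
      apply le_antisymm hc
      rw [← hcard]
      exact Nat.card_le_card_of_injective f hf
    have hbij : Function.Bijective f :=
      (Nat.bijective_iff_injective_and_card f).mpr ⟨hf, by rw [hcard, hcF]⟩
    have hX : Nat.card {u : F // u ^ p = 1} = Nat.card H + 1 := by
      let g : Option H → {u : F // u ^ p = 1} := fun o => match o with
        | none => ⟨1, one_pow p⟩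
        | some h => ⟨φ h x, by
            have := pow_orderOf_eq_one (φ h x)
            rwa [hordx h] at this⟩
      have hg : Function.Bijective g := by
        constructor
        · intro o o' hoo
          rcases o with _ | h <;> rcases o' with _ | h'
          · rfl
          · exact absurd (congrArg Subtype.val hoo).symm (hne x hx1 h')
          · exact absurd (congrArg Subtype.val hoo) (hne x hx1 h)
          · exact congrArg some (hinj x hx1 (congrArg Subtype.val hoo))
        · intro u
          obtain ⟨o, ho⟩ := hbij.2 u.1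
          rcases o with _ | h | h
          · exact ⟨none, Subtype.ext ho⟩
          · exact ⟨some h, Subtype.ext ho⟩
          · exfalso
            have h1 : φ h y = u.1 := ho
            have h2 := hordy h
            rw [h1] at h2
            have h3 := orderOf_dvd_of_pow_eq_one u.2
            rw [h2] at h3
            exact hqp ((Nat.prime_dvd_prime_iff_eq hq hp).mp h3)
      rw [← Nat.card_congr (Equiv.ofBijective g hg), Finite.card_option]
    have hdiv := dvd_card_pow_eq_one p hpF
    rw [hX] at hdiv
    rw [hcF] at hpF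
    have : p ∣ 2 * (Nat.card H + 1) - (2 * Nat.card H + 1) :=
      Nat.dvd_sub (hdiv.mul_left 2) hpF
    have h1 : 2 * (Nat.card H + 1) - (2 * Nat.card H + 1) = 1 := by omega
    rw [h1] at this
    exact hp.one_lt.ne' (Nat.dvd_one.mp this)
  have : Nontrivial F := Finite.one_lt_card_iff_nontrivial.mp hF
  have hcenter : Subgroup.center F = ⊤ := by
    apply hinv
    · intro h u hu
      rw [Subgroup.mem_center_iff] at hu ⊢
      intro g
      obtain ⟨g', rfl⟩ := (φ h).surjective g
      rw [← map_mul, ← map_mul, hu]
    · exact hPG.bot_lt_center.ne'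
  have hcomm : ∀ u v : F, u * v = v * u := by
    intro u v
    have : v ∈ Subgroup.center F := by rw [hcenter]; trivial
    exact (Subgroup.mem_center_iff.mp this u)
  refine ⟨hcomm, p, hp, ?_, hPG⟩
  let K : Subgroup F :=
    { carrier := {u | u ^ p = 1}
      one_mem' := one_pow p
      mul_mem' := by
        intro u v hu hv
        have h1 : Commute u v := hcomm u v
        change (u * v) ^ p = 1
        rw [h1.mul_pow, show u ^ p = 1 from hu, show v ^ p = 1 from hv, one_mul]
      inv_mem' := by
        intro u hu
        change u⁻¹ ^ p = 1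
        rw [inv_pow, show u ^ p = 1 from hu, inv_one] }
  have hK : K = ⊤ := by
    apply hinv
    · intro h u hu
      change (φ h u) ^ p = 1
      rw [← map_pow, show u ^ p = 1 from hu, map_one]
    · intro hb
      obtain ⟨x, hx⟩ := exists_prime_orderOf_dvd_card' p hpF
      have h1 : x ∈ K := by
        change x ^ p = 1
        rw [← hx]; exact pow_orderOf_eq_one x
      rw [hb, Subgroup.mem_bot] at h1
      rw [h1, orderOf_one] at hx
      exact hp.one_lt.ne hx
  intro u
  have : u ∈ K := by rw [hK]; trivial
  exact this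

/-- Let a finite Zassenhaus group of degree `n + 1` have two-point stabilisers of order `d` with `2d ≥ n - 1`. Then a normal subgroup of a point stabiliser acting regularly on the remaining points is elementary abelian, and the degree is a prime power plus one. -/
theorem result {G Ω : Type*} [Group G] [Finite G] [MulAction G Ω] [Fintype Ω] (hZ : Cfsg.IsZassenhausGroup G Ω) {a b : Ω} (hab : a ≠ b) (hd : Fintype.card Ω - 2 ≤ 2 * Nat.card ↥(MulAction.stabilizer G a ⊓ MulAction.stabilizer G b)) (F : Subgroup G) (hFle : F ≤ MulAction.stabilizer G a) (hFn : (F.subgroupOf (MulAction.stabilizer G a)).Normal) (hreg : ∀ y z : Ω, y ≠ a → z ≠ a → ∃! u : F, (u : G) • y = z) : IsMulCommutative F ∧ ∃ p f : ℕ, p.Prime ∧ (∀ u ∈ F, u ^ p = 1) ∧ Fintype.card Ω = p ^ f + 1 := by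
  classical
  obtain ⟨hfaith, h2t, hthree, ⟨g0, hg0, a0, b0, hab0, hga0, hgb0⟩, -⟩ := hZ
  -- `F` acts on the complement of `a`
  have hua : ∀ u : F, (u : G) • a = a := fun u => hFle u.2
  have hmem : ∀ (u : F) (y : Ω), y ≠ a → (u : G) • y ≠ a := by
    intro u y hy h
    apply hy
    have : (u : G) • y = (u : G) • a := by rw [h, hua u]
    exact (MulAction.injective (u : G)) this
  -- the cardinality of `F`
  have hcardF : Nat.card F + 1 = Fintype.card Ω := by
    have hbij : Function.Bijective (fun u : F => (⟨(u : G) • b, hmem u b hab.symm⟩ : {y : Ω // y ≠ a})) := by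
      constructor
      · intro u v huv
        have h1 : (u : G) • b = (v : G) • b := congrArg Subtype.val huv
        obtain ⟨w, -, hw⟩ := hreg b ((v : G) • b) hab.symm (hmem v b hab.symm)
        rw [hw u h1, hw v rfl]
      · intro y
        obtain ⟨w, hw, -⟩ := hreg b y.1 hab.symm y.2
        exact ⟨w, Subtype.ext hw⟩
    rw [Nat.card_congr (Equiv.ofBijective _ hbij), Nat.card_eq_fintype_card,
      Fintype.card_subtype_compl]
    simp only [Fintype.card_unique]
    have : 0 < Fintype.card Ω := Fintype.card_pos_iff.mpr ⟨a⟩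
    omega
  -- there are at least three points
  have hthree' : ∃ c : Ω, c ≠ a ∧ c ≠ b := by
    by_contra hcon
    push Not at hcon
    apply hg0
    have hall : ∀ x : Ω, x = a0 ∨ x = b0 := by
      have hb' : ∀ x : Ω, x = a ∨ x = b := by
        intro x
        by_cases hx : x = a
        · exact Or.inl hx
        · exact Or.inr (hcon x hx)
      intro x
      rcases hb' a0 with h1 | h1 <;> rcases hb' b0 with h3 | h3 <;> rcases hb' x with h4 | h4 <;>
        simp_all
    apply hfaith.eq_of_smul_eq_smul
    intro x
    rw [one_smul]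
    rcases hall x with rfl | rfl
    · exact hga0
    · exact hgb0
  obtain ⟨c, hca, hcb⟩ := hthree'
  let A := MulAction.stabilizer G a
  let H := A ⊓ MulAction.stabilizer G b
  let F' := F.subgroupOf A
  have : F'.Normal := hFn
  let φ : H →* MulAut F' :=
    (MulAut.conjNormal (H := F')).comp (Subgroup.inclusion (inf_le_left : H ≤ A))
  have hφ : ∀ (h : H) (u : F'), φ h u = u → h = 1 ∨ u = 1 := by
    intro h u hu
    by_cases hu1 : u = 1
    · exact Or.inr hu1
    left
    have hu' : (h : G) * ((u : A) : G) * (h : G)⁻¹ = ((u : A) : G) := by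
      have h1 := congrArg (fun t : F' => ((t : A) : G)) hu
      simpa [φ, MulAut.conjNormal_apply] using h1
    rw [mul_inv_eq_iff_eq_mul] at hu'
    have hha : (h : G) • a = a := h.2.1
    have hhb : (h : G) • b = b := h.2.2
    set w : F := ⟨((u : A) : G), u.2⟩ with hw
    have hhw : (h : G) • ((w : G) • b) = (w : G) • b := by
      rw [← mul_smul]
      change ((h : G) * ((u : A) : G)) • b = ((u : A) : G) • b
      rw [hu', mul_smul, hhb]
    have hwb : (w : G) • b ≠ b := by
      intro h1
      obtain ⟨w', -, hw'⟩ := hreg b b hab.symm hab.symm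
      have h3 : w = 1 := by
        rw [hw' w h1, hw' 1 (by simp)]
      apply hu1
      apply Subtype.ext
      apply Subtype.ext
      exact congrArg (fun t : F => (t : G)) h3
    have h1 : (h : G) = 1 :=
      hthree (h : G) a b ((w : G) • b) hab hwb.symm (hmem w b hab.symm).symm hha hhb hhw
    exact Subtype.ext h1
  have hF'F : Nat.card F' = Nat.card F :=
    Nat.card_congr (Subgroup.subgroupOfEquivOfLe hFle).toEquiv
  have hc3 : 3 ≤ Fintype.card Ω := by
    have : ({a, b, c} : Finset Ω).card = 3 := by
      rw [Finset.card_insert_of_notMem, Finset.card_pair (Ne.symm hcb)]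
      simp only [Finset.mem_insert, Finset.mem_singleton, not_or]
      exact ⟨hab, hca.symm⟩
    rw [← this]
    exact Finset.card_le_univ _
  obtain ⟨hcomm, p, hp, hpow, hPG⟩ := elementary_of_half_transitive φ hφ (by omega) (by
    have : Nat.card F + 1 - 2 ≤ 2 * Nat.card H := by rw [hcardF]; exact hd
    omega)
  have : Fact p.Prime := ⟨hp⟩
  refine ⟨⟨⟨?_⟩⟩, p, ?_⟩
  · intro u v
    have := hcomm ⟨⟨u.1, hFle u.2⟩, u.2⟩ ⟨⟨v.1, hFle v.2⟩, v.2⟩
    exact Subtype.ext (congrArg (fun t : F' => ((t : A) : G)) this)
  · obtain ⟨f, hf⟩ := IsPGroup.iff_card.mp hPG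
    refine ⟨f, hp, ?_, ?_⟩
    · intro u hu
      have := hpow ⟨⟨u, hFle hu⟩, hu⟩
      exact congrArg (fun t : F' => ((t : A) : G)) this
    · rw [← hcardF, ← hF'F, hf]

end Cfsg.Agent.S0738
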