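import Cfsg.Statements.S0885
import Cfsg.Agent.CharactersDeep.FeitSetup
import Cfsg.Agent.CharactersDeep.FeitReduction
import Cfsg.Agent.CharactersDeep.FeitCoherent
import Cfsg.Agent.CharactersDeep.FeitClassCount
import Cfsg.Agent.CharactersDeep.FeitOddP
import Cfsg.Agent.OddOrderCharacters.FeitNilpotent
import Cfsg.Agent.OddOrderCharacters.FeitCount
import Cfsg.Agent.OddOrderCharacters.TIIsometry

set_option autoImplicit false
open Cfsg

namespace Cfsg.Agent.S0885

open Cfsg.Agent.OddOrderCharacters Cfsg.Agent.CharactersDeep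
  Cfsg.Agent.CharactersDeep.FeitInterface Cfsg.Agent.CharactersDeep.FeitSetup
  Cfsg.Agent.CharactersDeep.FeitReduction

/-- Transport of the conclusion on the kernel from the normalizer. -/
theorem pgroup_concl {G : Type*} [Group G] [Finite G] (H N : Subgroup G) (hHN : H ≤ N) (e : ℕ)
    (he : (H.subgroupOf N).index = e) (m : ℕ)
    (hm : Nat.card (H.subgroupOf N) = 2 ^ m) (hnab : ¬ IsMulCommutative (H.subgroupOf N))
    (hle : (⁅H.subgroupOf N, H.subgroupOf N⁆.subgroupOf (H.subgroupOf N)).index ≤
      4 * (H.subgroupOf N).index ^ 2 + 1) :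
    IsPGroup 2 H ∧ (∃ u v : H, u * v ≠ v * u) ∧ (commutator H).index ≤ 4 * e ^ 2 + 1 := by
  have hcard : Nat.card (H.subgroupOf N) = Nat.card H :=
    Nat.card_congr (Subgroup.subgroupOfEquivOfLe hHN).toEquiv
  have hmapH : (H.subgroupOf N).map N.subtype = H := Subgroup.map_subgroupOf_eq_of_le hHN
  refine ⟨IsPGroup.of_card (by rw [← hcard]; exact hm), ?_, ?_⟩
  · by_contra hcon
    push Not at hcon
    apply hnab
    refine ⟨⟨fun x y => ?_⟩⟩
    have h1 := hcon ⟨((x : N) : G), x.2⟩ ⟨((y : N) : G), y.2⟩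
    have h2 : ((x : N) : G) * ((y : N) : G) = ((y : N) : G) * ((x : N) : G) :=
      congrArg Subtype.val h1
    exact Subtype.ext (Subtype.ext h2)
  · have h1 : (⁅H.subgroupOf N, H.subgroupOf N⁆.map N.subtype).relIndex
        ((H.subgroupOf N).map N.subtype) =
        ⁅H.subgroupOf N, H.subgroupOf N⁆.relIndex (H.subgroupOf N) :=
      Subgroup.relIndex_map_map_of_injective _ _ N.subtype_injective
    rw [Subgroup.map_commutator, hmapH] at h1
    have hcomm_eq : commutator ↥H = ⁅H, H⁆.subgroupOf H := by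
      rw [← Subgroup.map_subtype_commutator H]
      exact (Subgroup.comap_map_eq_self_of_injective (Subgroup.subtype_injective H) _).symm
    rw [hcomm_eq]
    rw [he] at hle
    have h2 : (⁅H, H⁆.subgroupOf H).index = ⁅H, H⁆.relIndex H := rfl
    rw [h2, h1]
    exact hle

/-- Feit's theorem for simple groups. -/
theorem simple_case {G : Type*} {Ω : Type*} [Group G] [Finite G] [MulAction G Ω] [Fintype Ω]
    [IsSimpleGroup G] (hZ : Cfsg.IsZassenhausGroup G Ω) {a b : Ω} (hab : a ≠ b) (h e : ℕ)
    (hh : Fintype.card Ω = h + 1)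
    (he : Nat.card ↥(MulAction.stabilizer G a ⊓ MulAction.stabilizer G b : Subgroup G) = e)
    (hodd : Odd e) (H : Subgroup G) (hHa : H ≤ MulAction.stabilizer G a)
    (hHcard : Nat.card H + 1 = Fintype.card Ω)
    (hHfix : ∀ u ∈ H, u ≠ 1 → ∀ c : Ω, u • c = c → c = a) : Concl H h e := by
  classical
  by_cases hle : h - 1 ≤ 2 * e
  · exact Or.inl hle
  push Not at hle
  have hfG : Fintype G := Fintype.ofFinite G
  have hNa : Subgroup.normalizer (H : Set G) = MulAction.stabilizer G a :=
    Zassenhaus.kernel_normalizer hZ a H hHa hHcard hHfix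
  have hHN : H ≤ Subgroup.normalizer (H : Set G) := Subgroup.le_normalizer
  have hfN : Fintype ↥(Subgroup.normalizer (H : Set G)) := Fintype.ofFinite _
  have hTI : ∀ g : G, g ∉ Subgroup.normalizer (H : Set G) → ∀ k ∈ H, g * k * g⁻¹ ∈ H → k = 1 := by
    intro g hg k hk hgk
    rw [hNa] at hg
    exact (Cfsg.Agent.S0878.result hZ a H hHa hHcard hHfix).1 g hg k hk hgk
  have hlt := kernel_lt hZ hab H hHa hHfix hHcard
  have hC : ∀ k ∈ H, k ≠ 1 → Subgroup.centralizer ({k} : Set G) ≤ H :=
    fun k hk hk1 => centralizer_le hZ H hHa hHfix hHcard hk hk1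
  have hcardH : Nat.card H = h := by omega
  have hidx : (H.subgroupOf (Subgroup.normalizer (H : Set G))).index = e := by
    rw [index_kernel hZ hab H hHa hHfix hHcard, he]
  have hidxN : (Subgroup.normalizer (H : Set G)).index = h + 1 := by
    rw [index_normalizer hZ H hHa hHfix hHcard, hh]
  have hodd' : Odd (Nat.card ↥(MulAction.stabilizer G a ⊓ MulAction.stabilizer G b :
      Subgroup G)) := by rw [he]; exact hodd
  have hcomm : ∀ x ∈ Subgroup.normalizer (H : Set G), ∀ y ∈ Subgroup.normalizer (H : Set G),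
      x * y * x⁻¹ * y⁻¹ ∈ H := fun x hx y hy =>
    commutator_mem hZ hab H hHa hHfix hHcard (two_point_comm hZ hab hodd') hx hy
  have he1 : 1 < e := by
    rw [← he]
    have h1 := Cfsg.Agent.PermutationGroups.ZassenhausBasic.two_point_ne_bot hZ hab
    have : Nontrivial ↥(MulAction.stabilizer G a ⊓ MulAction.stabilizer G b : Subgroup G) :=
      (Subgroup.nontrivial_iff_ne_bot _).2 h1
    exact Finite.one_lt_card
  have hnil : Group.IsNilpotent H := kernel_nilpotent hZ hab H hHa hHfix
  have hHb : H ≠ ⊥ := Zassenhaus.kernel_ne_bot hZ H hHcard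
  -- Feit's theorem in the normalizer
  have hnorm : (H.subgroupOf (Subgroup.normalizer (H : Set G))).Normal :=
    Subgroup.normal_in_normalizer
  have hcardK : Nat.card (H.subgroupOf (Subgroup.normalizer (H : Set G))) = Nat.card H :=
    Nat.card_congr (Subgroup.subgroupOfEquivOfLe hHN).toEquiv
  have hK1 : H.subgroupOf (Subgroup.normalizer (H : Set G)) ≠ ⊥ := by
    intro h0
    apply hHb
    rw [← Subgroup.map_subgroupOf_eq_of_le hHN, h0, Subgroup.map_bot]
  have hK2 : H.subgroupOf (Subgroup.normalizer (H : Set G)) ≠ ⊤ := fun h0 =>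
    hlt.not_ge (Subgroup.subgroupOf_eq_top.1 h0)
  have hnilK : Group.IsNilpotent (H.subgroupOf (Subgroup.normalizer (H : Set G))) :=
    (Group.isNilpotent_congr (Subgroup.subgroupOfEquivOfLe hHN)).2 hnil
  have hCK := TIIsometry.subgroupOf_centralizer H hC (Subgroup.normalizer (H : Set G))
  have hne : Nat.card (H.subgroupOf (Subgroup.normalizer (H : Set G))) ≠
      (H.subgroupOf (Subgroup.normalizer (H : Set G))).index + 1 := by
    rw [hcardK, hidx, hcardH]
    omega
  have hset : {χ : ↥(Subgroup.normalizer (H : Set G)) → ℂ |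
      Cfsg.IsIrrCharacter ↥(Subgroup.normalizer (H : Set G)) χ ∧
        ∃ k ∈ H.subgroupOf (Subgroup.normalizer (H : Set G)), χ k ≠ χ 1} =
      {χ : ↥(Subgroup.normalizer (H : Set G)) → ℂ |
        Cfsg.IsIrrCharacter ↥(Subgroup.normalizer (H : Set G)) χ ∧
          ∃ k : ↥(Subgroup.normalizer (H : Set G)), (k : G) ∈ H ∧ χ k ≠ χ 1} := by
    ext χ
    constructor
    · rintro ⟨h1, k, hk, hne⟩
      exact ⟨h1, k, Subgroup.mem_subgroupOf.1 hk, hne⟩
    · rintro ⟨h1, k, hk, hne⟩
      exact ⟨h1, k, Subgroup.mem_subgroupOf.2 hk, hne⟩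
  have hfeit := FeitNilpotent.feit_nilpotent (H.subgroupOf (Subgroup.normalizer (H : Set G)))
    hK1 hK2 hCK hne hnilK (fun α => Cfsg.indFun (Subgroup.normalizer (H : Set G)) α)
    (by
      rw [hset]
      exact TIIsometry.isLinearIsometryOn_indFun H hTI hC _ (fun χ hχ => hχ))
    (by
      rw [hset]
      exact TIIsometry.indFun_apply_one_of_mem_zspanOn H)
  rcases hfeit with ⟨-, star, hstar, hext⟩ | ⟨p, hp, ⟨m, hm⟩, hnab, hle'⟩
  · -- the coherent case
    exfalso
    rw [hset] at hstar hext
    obtain ⟨χ, hχirr, hχK, hχ1⟩ := exists_deg_eq hZ hab H hHa hHfix hHcard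
    rw [he] at hχ1
    obtain ⟨St, hSt, hSt1⟩ := exists_steinberg hZ (Subgroup.normalizer (H : Set G)) hNa
    refine FeitCoherent.coherent_false H hTI hlt hC _ rfl ?_ star hstar hext h e hcardH hidx
      hidxN hcomm he1 (by omega) ⟨χ, ⟨hχirr, hχK⟩, hχ1⟩ ?_ ⟨St, hSt, funext hSt1, ?_⟩ ?_
    · -- a second member of `S`
      by_contra hcon
      push Not at hcon
      have hsum := FeitCount.sum_sq_natDeg (H.subgroupOf (Subgroup.normalizer (H : Set G))) ⊥
        bot_le
      have hsing : FeitCount.irrAbove (H.subgroupOf (Subgroup.normalizer (H : Set G))) ⊥ =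
          {χ} := by
        apply Finset.coe_injective
        rw [FeitCount.coe_irrAbove_bot, hset, Finset.coe_singleton]
        ext ξ
        constructor
        · intro hξ
          exact (hcon χ ⟨hχirr, hχK⟩ ξ hξ).symm
        · rintro rfl
          exact ⟨hχirr, hχK⟩
      rw [hsing, Finset.sum_singleton, FeitCount.natDeg_eq hχ1, hidx, Subgroup.index_bot,
        ← Subgroup.card_mul_index (H.subgroupOf (Subgroup.normalizer (H : Set G))), hcardK, hidx,
        hcardH] at hsum
      have h1 : (e + 1) * e = h * e := by rw [← hsum]; ring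
      have h2 := Nat.eq_of_mul_eq_mul_right (by omega) h1
      omega
    · intro μ hμ hμ1 hμH hμne
      refine indFun_linear hZ hab H hHa hHfix hHcard hodd' ?_ _ hNa μ hμ hμ1 hμH hμne
      rw [he]
      omega
    · -- the value of the Steinberg character
      intro u hu hu1
      have h1 := hSt1 u
      have hpre := Zassenhaus.isPretransitive hZ
      have h2 := congrFun (Cfsg.Agent.S0190.result (G := G) Ω a) u
      rw [← hNa] at h2
      have h3 : Nat.card (MulAction.fixedBy Ω u) = 1 := by
        rw [Nat.card_eq_one_iff_unique]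
        refine ⟨⟨?_⟩, ⟨⟨a, hHa hu⟩⟩⟩
        rintro ⟨c, hc⟩ ⟨d, hd⟩
        apply Subtype.ext
        show c = d
        rw [hHfix u hu hu1 c hc, hHfix u hu hu1 d hd]
      have h4 : ((Nat.card (MulAction.fixedBy Ω u) : ℕ) : ℂ) = 1 + St u := h2.trans h1
      rw [h3, Nat.cast_one] at h4
      linear_combination -h4
    · exact FeitClassCount.card_irr_ge H hTI hC e
        (Cfsg.Agent.S0884.result hZ hab h e hh he hodd hle H hHa hHcard hHfix)
  · -- the case of a nonabelian group of prime power order
    by_cases hp2 : p = 2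
    · subst hp2
      exact Or.inr (pgroup_concl H _ hHN e hidx m hm hnab hle')
    · exfalso
      have hpf := Fact.mk hp
      exact FeitOddP.false_of_odd hZ hab h e hh he hodd hle H hHa hHcard hHfix p hp hp2
        (IsPGroup.of_card (by rw [← hcardK]; exact hm))


/-- Let G be a finite Zassenhaus group on Ω with h + 1 points whose two-point stabilizer E has odd order e, and let H be the subgroup of the stabilizer of a consisting of the identity and the elements fixing no point other than a (given here as a subgroup of the stabilizer of order one less than the number of points whose non-identity elements fix only a; it is the Frobenius kernel of the stabilizer). Then either h - 1 ≤ 2 * e, or H is a non-abelian 2-group whose commutator subgroup has index at most 4 * e ^ 2 + 1 in H. -/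
theorem result {G Ω : Type*} [Group G] [Finite G] [MulAction G Ω] [Fintype Ω] (hZ : Cfsg.IsZassenhausGroup G Ω) {a b : Ω} (hab : a ≠ b) (h e : ℕ) (hh : Fintype.card Ω = h + 1) (he : Nat.card ↥(MulAction.stabilizer G a ⊓ MulAction.stabilizer G b : Subgroup G) = e) (hodd : Odd e) (H : Subgroup G) (hHa : H ≤ MulAction.stabilizer G a) (hHcard : Nat.card H + 1 = Fintype.card Ω) (hHfix : ∀ u ∈ H, u ≠ 1 → ∀ c : Ω, u • c = c → c = a) : h - 1 ≤ 2 * e ∨ (IsPGroup 2 H ∧ (∃ u v : H, u * v ≠ v * u) ∧ (commutator H).index ≤ 4 * e ^ 2 + 1) := by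
  exact FeitReduction.reduction
    (fun G Ω _ _ _ _ _ hZ _ _ hab h e hh he hodd H hHa hHcard hHfix =>
      simple_case hZ hab h e hh he hodd H hHa hHcard hHfix)
    (Nat.card G) G Ω rfl hZ hab h e hh he hodd H hHa hHcard hHfix

end Cfsg.Agent.S0885
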