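import Cfsg.Statements.S0340
import Cfsg.Agent.LieExceptional.ZassenhausKernel
import Cfsg.Agent.LieExceptional.PGLeqPSL
import Cfsg.Agent.S0344
import Cfsg.Agent.S0347
import Cfsg.Agent.S0727
import Cfsg.Agent.S0731
import Cfsg.Agent.S0738
import Cfsg.Agent.S0885

set_option autoImplicit false
open Cfsg

namespace Cfsg.Agent.S0340

theorem inj3 {Ω : Type*} {a b c : Ω} (hab : a ≠ b) (hac : a ≠ c) (hbc : b ≠ c) :
    Function.Injective ![a, b, c] := by
  intro i j hij
  fin_cases i <;> fin_cases j <;> simp_all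

open MulAction in
/-- A sharply 3-transitive group of degree `2^f + 1` is a `PSL₂`. -/
theorem of_sharp {G Ω : Type*} [Group G] [MulAction G Ω] [Fintype Ω]
    [FaithfulSMul G Ω] {f : ℕ} (hf : 1 ≤ f) (hcard : Fintype.card Ω = 2 ^ f + 1)
    (h3 : MulAction.IsMultiplyPretransitive G Ω 3)
    (hsharp : ∀ t : Fin 3 ↪ Ω, MulAction.stabilizer G t = ⊥) :
    ∃ (F : Type) (_ : Field F) (_ : Fintype F),
      Nonempty (G ≃* Matrix.ProjectiveSpecialLinearGroup (Fin 2) F) := by
  classical
  let φ : G →* Equiv.Perm Ω := MulAction.toPermHom G Ω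
  have hφ : Function.Injective φ := MulAction.toPerm_injective
  let e : G ≃* φ.range := MonoidHom.ofInjective hφ
  have he : ∀ (g : G) (x : Ω), (e g) • x = g • x := fun g x => rfl
  have h3' : MulAction.IsMultiplyPretransitive φ.range Ω 3 := by
    constructor
    intro x y
    obtain ⟨g, hg⟩ := h3.exists_smul_eq x y
    refine ⟨e g, ?_⟩
    rw [← hg]
    ext i
    rfl
  have hs' : ∀ x : Fin 3 ↪ Ω, MulAction.stabilizer φ.range x = ⊥ := by
    intro x
    rw [eq_bot_iff]
    intro σ hσ
    obtain ⟨g, rfl⟩ := e.surjective σ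
    have hg : g ∈ MulAction.stabilizer G x := by
      rw [MulAction.mem_stabilizer_iff] at hσ ⊢
      ext i
      exact congrArg (fun t : Fin 3 ↪ Ω => t i) hσ
    rw [hsharp x, Subgroup.mem_bot] at hg
    rw [hg, map_one]
    exact Subgroup.one_mem _
  obtain ⟨F, i1, i2, hF, ⟨ψ⟩⟩ := Cfsg.Agent.S0727.result hf hcard φ.range h3' hs'
  obtain ⟨θ⟩ := Cfsg.Agent.LieExceptional.PGLeqPSL.nonempty_pgl_mulEquiv_psl F
    (Cfsg.Agent.LieExceptional.PGLeqPSL.exists_sq_of_card_two_pow F hf hF)
  exact ⟨F, i1, i2, ⟨e.trans (ψ.trans θ)⟩⟩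

/-- Classification of Zassenhaus groups, simple case, order-level form: a finite simple Zassenhaus group is
isomorphic to `PSL₂(F)` for some finite field `F` or is simple of Suzuki order. -/
theorem result {G Ω : Type*} [Group G] [Finite G] [MulAction G Ω]
    [Finite Ω] (hZ : Cfsg.IsZassenhausGroup G Ω) [IsSimpleGroup G] :
    (∃ (F : Type) (_ : Field F) (_ : Fintype F), Nonempty (G ≃* Matrix.ProjectiveSpecialLinearGroup (Fin 2) F)) ∨ Cfsg.IsSuzuki G := by
  classical
  have := Fintype.ofFinite Ω
  have hfaith : FaithfulSMul G Ω := hZ.1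
  obtain ⟨g, hg, a, b, hab, hga, hgb⟩ := hZ.2.2.2.1
  by_cases heven : Even (Nat.card ↥(MulAction.stabilizer G a ⊓ MulAction.stabilizer G b))
  · obtain ⟨F, i1, i2, -, h⟩ := Cfsg.Agent.S0344.result hZ hab heven
    exact Or.inl ⟨F, i1, i2, h⟩
  have hodd := Nat.not_even_iff_odd.1 heven
  obtain ⟨H, hHa, hHn, hHcard, hHfix, hHreg⟩ :=
    Cfsg.Agent.LieExceptional.ZassenhausKernel.exists_kernel hZ a
  rw [Nat.card_eq_fintype_card (α := Ω)] at hHcard
  -- there are at least three points
  have hΩ3 : 3 ≤ Fintype.card Ω := by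
    obtain ⟨c, hca, hcb⟩ :=
      Cfsg.Agent.PermutationGroups.ZassenhausBasic.exists_third hZ hab
    have h : 2 < Fintype.card Ω := by
      rw [Fintype.two_lt_card_iff]
      exact ⟨a, b, c, hab, hca.symm, hcb.symm⟩
    exact h
  rcases Cfsg.Agent.S0885.result hZ hab (Fintype.card Ω - 1) _ (by omega) rfl
    hodd H hHa (by omega) hHfix with h | ⟨h2, h2na, -⟩
  · -- the large case
    obtain ⟨hcomm, p, f, hp, -, hcard⟩ := Cfsg.Agent.S0738.result hZ hab (by omega) H hHa hHn hHreg
    rcases Cfsg.Agent.S0731.result hZ a H hHa hHn hcomm hHreg with ⟨h3, hsharp⟩ | ⟨F, i1, i2, -, h⟩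
    · left
      -- order of the two-point stabiliser
      have hf0 : f ≠ 0 := by
        rintro rfl
        rw [pow_zero] at hcard
        omega
      have hp2 : p = 2 := by
        -- `G_{ab}` is regular on the remaining points
        obtain ⟨c, hca, hcb⟩ :=
          Cfsg.Agent.PermutationGroups.ZassenhausBasic.exists_third hZ hab
        have htr : ∀ d : Ω, d ≠ a → d ≠ b →
            ∃ g : ↥(MulAction.stabilizer G a ⊓ MulAction.stabilizer G b), (g : G) • c = d := by
          intro d hda hdb
          let x : Fin 3 ↪ Ω := ⟨![a, b, c], inj3 hab hca.symm hcb.symm⟩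
          let y : Fin 3 ↪ Ω := ⟨![a, b, d], inj3 hab (Ne.symm hda) (Ne.symm hdb)⟩
          obtain ⟨g, hg⟩ := h3.exists_smul_eq x y
          have h0 : g • a = a := congrArg (fun t : Fin 3 ↪ Ω => t 0) hg
          have h1 : g • b = b := congrArg (fun t : Fin 3 ↪ Ω => t 1) hg
          have h2 : g • c = d := congrArg (fun t : Fin 3 ↪ Ω => t 2) hg
          exact ⟨⟨g, h0, h1⟩, h2⟩
        have hinj : ∀ g g' : ↥(MulAction.stabilizer G a ⊓ MulAction.stabilizer G b),
            (g : G) • c = (g' : G) • c → g = g' := by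
          intro g g' hgg
          have h1 : ((g'⁻¹ * g : ↥(MulAction.stabilizer G a ⊓ MulAction.stabilizer G b)) : G) = 1 := by
            refine hZ.2.2.1 _ a b c hab hcb.symm hca.symm (g'⁻¹ * g).2.1 (g'⁻¹ * g).2.2 ?_
            rw [Subgroup.coe_mul, Subgroup.coe_inv, mul_smul, hgg, inv_smul_smul]
          have h2 : g'⁻¹ * g = 1 := Subtype.ext h1
          exact (inv_mul_eq_one.1 h2).symm
        have hcd : Nat.card ↥(MulAction.stabilizer G a ⊓ MulAction.stabilizer G b) =
            Fintype.card Ω - 2 := by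
          let φ : ↥(MulAction.stabilizer G a ⊓ MulAction.stabilizer G b) →
              {d : Ω // d ≠ a ∧ d ≠ b} := fun g => ⟨(g : G) • c, by
                constructor
                · intro h
                  exact hca (MulAction.injective (g : G) (h.trans (Eq.symm g.2.1)))
                · intro h
                  exact hcb (MulAction.injective (g : G) (h.trans (Eq.symm g.2.2)))⟩
          have hφ : Function.Bijective φ := by
            constructor
            · intro g g' hgg
              exact hinj g g' (congrArg Subtype.val hgg)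
            · rintro ⟨d, hda, hdb⟩
              obtain ⟨g, hg⟩ := htr d hda hdb
              exact ⟨g, Subtype.ext hg⟩
          rw [Nat.card_eq_of_bijective φ hφ, Nat.card_eq_fintype_card, Fintype.card_subtype]
          have h1 : (Finset.univ.filter (fun d : Ω => d ≠ a ∧ d ≠ b)) =
              (Finset.univ.erase a).erase b := by
            ext d
            simp [and_comm]
          rw [h1, Finset.card_erase_of_mem (Finset.mem_erase.2 ⟨hab.symm, Finset.mem_univ _⟩),
            Finset.card_erase_of_mem (Finset.mem_univ _), Finset.card_univ]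
          omega
        rw [hcd, hcard] at hodd
        by_contra hp2
        have hpodd : Odd (p ^ f) := (hp.odd_of_ne_two hp2).pow
        rcases hpodd with ⟨k, hk⟩
        rcases hodd with ⟨l, hl⟩
        omega
      subst hp2
      exact of_sharp (Nat.one_le_iff_ne_zero.2 hf0) hcard h3 hsharp
    · exact Or.inl ⟨F, i1, i2, h⟩
  · -- the non-abelian 2-group case
    right
    exact Cfsg.Agent.S0347.result hZ a H hHa hHn h2 h2na hHreg

end Cfsg.Agent.S0340
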