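import Cfsg.Statements.S1313
import Mathlib
import Cfsg.Agent.SignalizersComponents.Components
import Cfsg.Agent.SignalizersComponents.ComponentExists
-- import your own Cfsg.Agent.* helpers here

set_option autoImplicit false
open Cfsg

namespace Cfsg.Agent.S1313

open scoped Nat

theorem card_mulAut_le (F : Type*) [Group F] [Finite F] :
    Nat.card (MulAut F) ≤ (Nat.card F - 1)! := by
  classical
  have := Fintype.ofFinite F
  let ψ : MulAut F → Equiv.Perm {x : F // x ≠ 1} := fun f =>
    Equiv.Perm.subtypePerm f.toEquiv (fun x => by
      constructor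
      · intro h h'
        apply h
        subst h'
        exact map_one f
      · intro h h'
        apply h
        exact (map_eq_one_iff f f.injective).mp h')
  have hψ : Function.Injective ψ := by
    intro f g h
    ext x
    by_cases hx : x = 1
    · subst hx; rw [map_one, map_one]
    · have h1 := congrArg (fun (e : Equiv.Perm {x : F // x ≠ 1}) => ((e ⟨x, hx⟩ : {x : F // x ≠ 1}) : F)) h
      exact h1
  have h1 := Nat.card_le_card_of_injective ψ hψ
  refine h1.trans ?_
  rw [Nat.card_perm]
  have h2 : Nat.card {x : F // x ≠ 1} = Nat.card F - 1 := by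
    rw [Nat.card_eq_fintype_card, Nat.card_eq_fintype_card, Fintype.card_subtype_compl,
      Fintype.card_subtype_eq]
  rw [h2]

theorem centralizer_le (H : Type*) [Group H] [Finite H] :
    Subgroup.centralizer (generalizedFittingSubgroup H : Set H) ≤ generalizedFittingSubgroup H := by
  have hFn : (fittingSubgroup H).Normal :=
    SignalizersComponents.ComponentExists.fittingSubgroup_normal H
  have hLn : (layer H).Normal := SignalizersComponents.Components.layer_normal H
  have hn : (generalizedFittingSubgroup H).Normal := by
    show (layer H ⊔ fittingSubgroup H).Normal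
    infer_instance
  have hCn : (Subgroup.centralizer (generalizedFittingSubgroup H : Set H)).Normal := inferInstance
  have hF : fittingSubgroup H ≤ generalizedFittingSubgroup H := le_sup_right
  have hL : layer H ≤ generalizedFittingSubgroup H := le_sup_left
  have hcF : Subgroup.centralizer (generalizedFittingSubgroup H : Set H)
      ≤ Subgroup.centralizer (fittingSubgroup H : Set H) :=
    Subgroup.centralizer_le hF
  by_cases hs : Group.IsSolvable (Subgroup.centralizer (generalizedFittingSubgroup H : Set H))
  · exact (SignalizersComponents.ComponentExists.le_fitting_of_normal_of_isSolvable hCn hs hcF).trans hF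
  · exfalso
    obtain ⟨K, hK, hKC⟩ := SignalizersComponents.ComponentExists.exists_isComponent_le
      hCn.isSubnormal hs hcF
    have hKL := SignalizersComponents.Components.component_le_layer hK
    apply SignalizersComponents.Components.quasisimple_not_isMulCommutative hK.2
    refine ⟨⟨fun a b => ?_⟩⟩
    apply Subtype.ext
    have h1 := hKC a.2
    rw [Subgroup.mem_centralizer_iff] at h1
    exact (h1 b (hL (hKL b.2))).symm

/-- For a finite group H, |H| ≤ |F*(H)|!. -/
theorem result {H : Type*} [Group H] [Finite H] : Nat.card H ≤ Nat.factorial (Nat.card ↥(Cfsg.generalizedFittingSubgroup H)) := by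
  have hFn : (fittingSubgroup H).Normal :=
    SignalizersComponents.ComponentExists.fittingSubgroup_normal H
  have hLn : (layer H).Normal := SignalizersComponents.Components.layer_normal H
  have hn : (generalizedFittingSubgroup H).Normal := by
    show (layer H ⊔ fittingSubgroup H).Normal
    infer_instance
  let ψ : H →* MulAut ↥(generalizedFittingSubgroup H) := MulAut.conjNormal
  have hker : ψ.ker ≤ generalizedFittingSubgroup H := by
    refine le_trans ?_ (centralizer_le H)
    intro x hx
    rw [MonoidHom.mem_ker] at hx
    rw [Subgroup.mem_centralizer_iff]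
    intro y hy
    have h1 : ψ x ⟨y, hy⟩ = ⟨y, hy⟩ := by rw [hx]; rfl
    have h2 : x * y * x⁻¹ = y := by
      have := congrArg Subtype.val h1
      rwa [MulAut.conjNormal_apply] at this
    exact (mul_inv_eq_iff_eq_mul.mp h2).symm
  have h1 : Nat.card H = Nat.card (H ⧸ ψ.ker) * Nat.card ψ.ker :=
    Subgroup.card_eq_card_quotient_mul_card_subgroup ψ.ker
  have h2 : Nat.card (H ⧸ ψ.ker) ≤ (Nat.card ↥(generalizedFittingSubgroup H) - 1)! := by
    rw [Nat.card_congr (QuotientGroup.quotientKerEquivRange ψ).toEquiv]
    exact (Subgroup.card_le_card_group ψ.range).trans (card_mulAut_le _)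
  have h3 : Nat.card ψ.ker ≤ Nat.card ↥(generalizedFittingSubgroup H) :=
    Subgroup.card_le_of_le hker
  have hpos : 0 < Nat.card ↥(generalizedFittingSubgroup H) := Nat.card_pos
  rw [h1, ← Nat.mul_factorial_pred hpos.ne', mul_comm]
  exact Nat.mul_le_mul h3 h2

end Cfsg.Agent.S1313
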