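import Cfsg.Statements.S1755
import Cfsg.Agent.S1754
-- import your own Cfsg.Agent.* helpers here

set_option autoImplicit false
open Cfsg

namespace Cfsg.Agent.S1755

/-- The element of order two of a finite cyclic group is unique. -/
theorem eq_of_orderOf_two {H : Type*} [Group H] [Finite H] [IsCyclic H] {a b : H}
    (ha : orderOf a = 2) (hb : orderOf b = 2) : a = b := by
  classical
  have := Fintype.ofFinite H
  have h2 : 2 ∣ Fintype.card H := ha ▸ orderOf_dvd_card
  have hc := IsCyclic.card_orderOf_eq_totient h2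
  rw [Nat.totient_two, Finset.card_eq_one] at hc
  obtain ⟨c, hc⟩ := hc
  have h1 : a ∈ ({c} : Finset H) := by rw [← hc]; simpa using ha
  have h3 : b ∈ ({c} : Finset H) := by rw [← hc]; simpa using hb
  rw [Finset.mem_singleton] at h1 h3
  rw [h1, h3]

/-- Same inside a cyclic subgroup. -/
theorem eq_of_orderOf_two_mem {H : Type*} [Group H] [Finite H] {B : Subgroup H} (hB : IsCyclic B)
    {a b : H} (haB : a ∈ B) (hbB : b ∈ B) (ha : orderOf a = 2) (hb : orderOf b = 2) : a = b := by
  have := eq_of_orderOf_two (a := (⟨a, haB⟩ : B)) (b := ⟨b, hbB⟩)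
    (by rw [Subgroup.orderOf_mk]; exact ha) (by rw [Subgroup.orderOf_mk]; exact hb)
  exact congrArg Subtype.val this

/-- In a group of symplectic type, the involution of a characteristic abelian subgroup is the
involution of the centre. -/
theorem eq_central {Q : Type*} [Group Q] [Finite Q] (hQ : Cfsg.IsOfSymplecticType Q)
    {z : Q} (hz : orderOf z = 2) (hzc : z ∈ Subgroup.center Q)
    {B : Subgroup Q} (hBc : B.Characteristic) (hBa : IsMulCommutative B) {b : Q} (hb : b ∈ B)
    (hb2 : orderOf b = 2) : b = z := by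
  have hBcyc : IsCyclic B := hQ.2 B hBc hBa
  have hBn : B.Normal := inferInstance
  have hbc : b ∈ Subgroup.center Q := by
    rw [Subgroup.mem_center_iff]
    intro g
    have h1 : g * b * g⁻¹ ∈ B := hBn.conj_mem b hb g
    have h2 : orderOf (g * b * g⁻¹) = 2 := by
      have := orderOf_injective (MulAut.conj g).toMonoidHom (MulAut.conj g).injective b
      simpa [hb2] using this
    have h3 := eq_of_orderOf_two_mem hBcyc h1 hb h2 hb2
    calc g * b = g * b * g⁻¹ * g := by group
      _ = b * g := by rw [h3]
  have hcyc : IsCyclic (Subgroup.center Q) :=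
    hQ.2 (Subgroup.center Q) inferInstance inferInstance
  exact eq_of_orderOf_two_mem hcyc hbc hzc hb2 hz

theorem layer_normal (G : Type*) [Group G] : (Cfsg.layer G).Normal := by
  constructor
  intro n hn g
  have key : (Cfsg.layer G).map (MulAut.conj g).toMonoidHom ≤ Cfsg.layer G := by
    rw [Cfsg.layer, Subgroup.map_le_iff_le_comap]
    apply sSup_le
    intro K hK
    rw [← Subgroup.map_le_iff_le_comap]
    apply le_sSup
    refine ⟨hK.1.map (MulAut.conj g).surjective, ?_⟩
    have e : K ≃* K.map (MulAut.conj g).toMonoidHom :=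
      K.equivMapOfInjective _ (MulAut.conj g).injective
    exact Cfsg.Agent.S1754.isQuasisimple_of_mulEquiv e hK.2
  exact key ⟨n, hn, rfl⟩

theorem fitting_normal (G : Type*) [Group G] : (Cfsg.fittingSubgroup G).Normal :=
  Subgroup.sSup_normal _ (fun _ h => h.1)

theorem gfs_normal (G : Type*) [Group G] : (Cfsg.generalizedFittingSubgroup G).Normal := by
  have := layer_normal G
  have := fitting_normal G
  exact Subgroup.sup_normal _ _

theorem center_le_gfs (G : Type*) [Group G] :
    Subgroup.center G ≤ Cfsg.generalizedFittingSubgroup G := by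
  refine le_trans ?_ le_sup_right
  refine le_sSup ⟨inferInstance, ?_⟩
  have hcomm : ∀ a b : Subgroup.center G, a * b = b * a := fun a b =>
    Subtype.ext ((Subgroup.mem_center_iff.mp b.2) a)
  exact @CommGroup.isNilpotent _ { (inferInstance : Group (Subgroup.center G)) with mul_comm := hcomm }

/-- The general form: `Q` normal in `C = C_G(z)`, of symplectic type and containing the centre of `C`. -/
theorem general {G : Type*} [Group G] [Finite G] (z : G) (hz : orderOf z = 2) (C : Subgroup G)
    (hC : C = Subgroup.centralizer ({z} : Set G)) (Q : Subgroup C) (hQn : Q.Normal)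
    (hcen : Subgroup.center C ≤ Q) (hQ : Cfsg.IsOfSymplecticType Q)
    (B : Subgroup Q) (hBc : B.Characteristic) (hBa : IsMulCommutative B) (g : G) :
    ((B.map Q.subtype).map C.subtype).map (MulAut.conj g).toMonoidHom = (B.map Q.subtype).map C.subtype ∨
      ((B.map Q.subtype).map C.subtype).map (MulAut.conj g).toMonoidHom ⊓ (B.map Q.subtype).map C.subtype = ⊥ := by
  classical
  have hzC : z ∈ C := by rw [hC, Subgroup.mem_centralizer_singleton_iff]
  have hzcen : (⟨z, hzC⟩ : C) ∈ Subgroup.center C := by
    rw [Subgroup.mem_center_iff]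
    rintro ⟨x, hx⟩
    have hx' : x ∈ Subgroup.centralizer ({z} : Set G) := hC ▸ hx
    rw [Subgroup.mem_centralizer_singleton_iff] at hx'
    exact Subtype.ext hx'
  have hzQ : (⟨z, hzC⟩ : C) ∈ Q := hcen hzcen
  have hzQ2 : orderOf (⟨⟨z, hzC⟩, hzQ⟩ : Q) = 2 := by
    rw [Subgroup.orderOf_mk, Subgroup.orderOf_mk, hz]
  have hzQc : (⟨⟨z, hzC⟩, hzQ⟩ : Q) ∈ Subgroup.center Q := by
    rw [Subgroup.mem_center_iff]
    intro x
    exact Subtype.ext ((Subgroup.mem_center_iff.mp hzcen) x)
  -- every element of order two of `B` is `z`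
  have key : ∀ x ∈ (B.map Q.subtype).map C.subtype, orderOf x = 2 → x = z := by
    rintro x ⟨y, ⟨b, hb, rfl⟩, rfl⟩ hx
    have hb2 : orderOf b = 2 := by
      have h1 := orderOf_injective (C.subtype.comp Q.subtype)
        (C.subtype_injective.comp Q.subtype_injective) b
      rw [← h1]; exact hx
    have := eq_central hQ hzQ2 hzQc hBc hBa hb hb2
    rw [this]; rfl
  by_cases hne : ((B.map Q.subtype).map C.subtype).map (MulAut.conj g).toMonoidHom ⊓
      (B.map Q.subtype).map C.subtype = ⊥
  · exact Or.inr hne
  left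
  -- the intersection is a nontrivial `2`-group
  have hB2 : IsPGroup 2 B := hQ.1.to_subgroup B
  have hB2' : IsPGroup 2 ((B.map Q.subtype).map C.subtype : Subgroup G) :=
    (hB2.map Q.subtype).map C.subtype
  have hI : IsPGroup 2 (((B.map Q.subtype).map C.subtype).map (MulAut.conj g).toMonoidHom ⊓
      (B.map Q.subtype).map C.subtype : Subgroup G) := hB2'.to_le inf_le_right
  have hcard : 2 ∣ Nat.card (((B.map Q.subtype).map C.subtype).map (MulAut.conj g).toMonoidHom ⊓
      (B.map Q.subtype).map C.subtype : Subgroup G) := by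
    obtain ⟨n, hn⟩ := (IsPGroup.iff_card).mp hI
    rw [hn]
    rcases Nat.eq_zero_or_pos n with h0 | h0
    · exfalso
      apply hne
      rw [← Subgroup.card_eq_one, hn, h0, pow_zero]
    · exact dvd_pow_self 2 (by omega)
  have : Fact (Nat.Prime 2) := ⟨Nat.prime_two⟩
  obtain ⟨⟨x, hxm⟩, hx⟩ := exists_prime_orderOf_dvd_card' 2 hcard
  rw [Subgroup.orderOf_mk] at hx
  obtain ⟨hx1, hx2⟩ := Subgroup.mem_inf.mp hxm
  have hxz : x = z := key x hx2 hx
  obtain ⟨y, hy, hyx⟩ := Subgroup.mem_map.mp hx1
  have hy2 : orderOf y = 2 := by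
    rw [← orderOf_injective (MulAut.conj g).toMonoidHom (MulAut.conj g).injective y, hyx, hx]
  have hyz : y = z := key y hy hy2
  have hgC : g ∈ C := by
    rw [hC, Subgroup.mem_centralizer_singleton_iff]
    have h1 : g * z * g⁻¹ = z := by
      rw [hyz, hxz] at hyx
      simpa using hyx
    calc g * z = g * z * g⁻¹ * g := by group
      _ = z * g := by rw [h1]
  have hBn : (B.map Q.subtype).Normal := inferInstance
  -- conjugation by an element of `C` fixes a normal subgroup of `C`
  have hfix : ∀ (N : Subgroup C), N.Normal → ∀ c ∈ C,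
      (N.map C.subtype).map (MulAut.conj c).toMonoidHom ≤ N.map C.subtype := by
    rintro N hN c hc _ ⟨_, ⟨n, hn, rfl⟩, rfl⟩
    exact ⟨⟨c, hc⟩ * n * ⟨c, hc⟩⁻¹, hN.conj_mem n hn ⟨c, hc⟩, rfl⟩
  refine le_antisymm (hfix _ hBn g hgC) ?_
  intro x hx
  refine ⟨g⁻¹ * x * g, ?_, ?_⟩
  · have := hfix _ hBn g⁻¹ (C.inv_mem hgC) ⟨x, hx, rfl⟩
    simpa using this
  · simp [mul_assoc]

/-- Let G be a finite group and let z be an involution of G such that Q, the generalized Fitting subgroup of the centralizer C of z, is a 2-group of symplectic type (every characteristic abelian subgroup of Q is cyclic). Let B be a characteristic abelian subgroup of Q, viewed as a subgroup of G. Then for every g in G, the conjugate of B by g either equals B or meets B trivially. -/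
theorem result {G : Type*} [Group G] [Finite G] (z : G) (hz : orderOf z = 2) (hQ : Cfsg.IsOfSymplecticType ↥(Cfsg.generalizedFittingSubgroup ↥(Subgroup.centralizer ({z} : Set G))))
    (B : Subgroup ↥(Cfsg.generalizedFittingSubgroup ↥(Subgroup.centralizer ({z} : Set G)))) (hBc : B.Characteristic) (hBa : IsMulCommutative ↥B) (g : G) :
    ((B.map (Cfsg.generalizedFittingSubgroup ↥(Subgroup.centralizer ({z} : Set G))).subtype).map (Subgroup.centralizer ({z} : Set G)).subtype).map (MulAut.conj g).toMonoidHom =
        (B.map (Cfsg.generalizedFittingSubgroup ↥(Subgroup.centralizer ({z} : Set G))).subtype).map (Subgroup.centralizer ({z} : Set G)).subtype ∨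
      ((B.map (Cfsg.generalizedFittingSubgroup ↥(Subgroup.centralizer ({z} : Set G))).subtype).map (Subgroup.centralizer ({z} : Set G)).subtype).map (MulAut.conj g).toMonoidHom ⊓
        (B.map (Cfsg.generalizedFittingSubgroup ↥(Subgroup.centralizer ({z} : Set G))).subtype).map (Subgroup.centralizer ({z} : Set G)).subtype = ⊥ := by
  exact general z hz _ rfl _ (gfs_normal _) (center_le_gfs _) hQ B hBc hBa g

end Cfsg.Agent.S1755
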