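import Cfsg.Statements.S1757
-- import your own Cfsg.Agent.* helpers here

set_option autoImplicit false
open Cfsg

namespace Cfsg.Agent.S1757

/-- Let p be a prime and A, B p-subgroups of the finite group G, each of which meets every conjugate of itself other than itself trivially. Suppose the order of A is at most that of B, A and B intersect trivially, and B normalizes A. Then A and B commute elementwise. -/
theorem result {G : Type*} [Group G] [Finite G] (p : ℕ) [Fact p.Prime] (A B : Subgroup G)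
    (hA : IsPGroup p ↥A) (hB : IsPGroup p ↥B)
    (hAti : ∀ g : G, A.map (MulAut.conj g).toMonoidHom = A ∨ A.map (MulAut.conj g).toMonoidHom ⊓ A = ⊥)
    (hBti : ∀ g : G, B.map (MulAut.conj g).toMonoidHom = B ∨ B.map (MulAut.conj g).toMonoidHom ⊓ B = ⊥)
    (hle : Nat.card ↥A ≤ Nat.card ↥B) (hAB : A ⊓ B = ⊥) (hN : B ≤ Subgroup.normalizer (A : Set G)) : ⁅A, B⁆ = ⊥ := by
  classical
  by_contra hne
  have hex : ∃ a ∈ A, ∃ b ∈ B, a * b ≠ b * a := by
    by_contra hno
    push Not at hno
    apply hne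
    rw [Subgroup.commutator_eq_bot_iff_le_centralizer]
    intro a ha
    rw [Subgroup.mem_centralizer_iff]
    intro b hb
    exact (hno a ha b hb).symm
  obtain ⟨a, ha, b₀, hb₀, hab⟩ := hex
  -- conjugates of `a` by elements of `B` are distinct
  have hconj : ∀ b ∈ B, b * a * b⁻¹ ∈ A := fun b hb =>
    (Subgroup.mem_normalizer_iff.mp (hN hb) a).mp ha
  have hinj : Function.Injective (fun b : B => (⟨b.1 * a * b.1⁻¹, hconj b.1 b.2⟩ : A)) := by
    intro b c hbc
    simp only [Subtype.mk.injEq] at hbc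
    by_contra hbc'
    -- `d = c⁻¹ b` commutes with `a`
    set d : G := c.1⁻¹ * b.1 with hd
    have hdB : d ∈ B := B.mul_mem (B.inv_mem c.2) b.2
    have hd1 : d ≠ 1 := by
      intro h1
      apply hbc'
      apply Subtype.ext
      have : c.1⁻¹ * b.1 = 1 := h1
      calc b.1 = c.1 * (c.1⁻¹ * b.1) := by group
        _ = c.1 := by rw [this, mul_one]
    have hda : d * a = a * d := by
      have h2 : b.1 * a = c.1 * a * c.1⁻¹ * b.1 := by
        rw [← hbc]; group
      rw [hd]
      calc c.1⁻¹ * b.1 * a = c.1⁻¹ * (b.1 * a) := by group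
        _ = a * (c.1⁻¹ * b.1) := by rw [h2]; group
    have hadB : a * d * a⁻¹ = d := by rw [← hda]; group
    rcases hBti a with h | h
    · -- `a` normalizes `B`, hence centralizes `B`
      have hb₁ : a * b₀ * a⁻¹ ∈ B := by
        have : (MulAut.conj a).toMonoidHom b₀ ∈ B.map (MulAut.conj a).toMonoidHom :=
          Subgroup.mem_map_of_mem _ hb₀
        rw [h] at this
        simpa using this
      have h3 : a * b₀ * a⁻¹ * b₀⁻¹ ∈ A ⊓ B := by
        refine ⟨?_, B.mul_mem hb₁ (B.inv_mem hb₀)⟩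
        have : a * b₀ * a⁻¹ * b₀⁻¹ = a * (b₀ * a * b₀⁻¹)⁻¹ := by group
        rw [this]
        exact A.mul_mem ha (A.inv_mem (hconj b₀ hb₀))
      rw [hAB, Subgroup.mem_bot] at h3
      apply hab
      calc a * b₀ = (a * b₀ * a⁻¹ * b₀⁻¹) * b₀ * a := by group
        _ = b₀ * a := by rw [h3, one_mul]
    · have h4 : d ∈ B.map (MulAut.conj a).toMonoidHom ⊓ B := by
        refine ⟨?_, hdB⟩
        refine ⟨d, hdB, ?_⟩
        simpa using hadB
      rw [h, Subgroup.mem_bot] at h4
      exact hd1 h4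
  haveI : Finite A := inferInstance
  have hcard : Nat.card B ≤ Nat.card A := Nat.card_le_card_of_injective _ hinj
  have hbij : Function.Bijective (fun b : B => (⟨b.1 * a * b.1⁻¹, hconj b.1 b.2⟩ : A)) :=
    (Nat.bijective_iff_injective_and_card _).mpr ⟨hinj, le_antisymm hcard hle⟩
  obtain ⟨b, hb⟩ := hbij.2 1
  have hb' : b.1 * a * b.1⁻¹ = 1 := congrArg Subtype.val hb
  have ha1 : a = 1 := by
    have : a = b.1⁻¹ * (b.1 * a * b.1⁻¹) * b.1 := by group
    rw [this, hb']; group
  apply hab
  rw [ha1]; simp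

end Cfsg.Agent.S1757
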