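import Cfsg.Statements.S0358
import Cfsg.Agent.SporadicA.GolayBase

set_option autoImplicit false
open Cfsg

namespace Cfsg.Agent.S0358

open Cfsg.Agent.SporadicA.GolayBase

/-- The code words are numbered by the numbers below 4096. -/
noncomputable def codeEquiv : Fin 4096 ≃ golayCode :=
  Equiv.ofBijective (fun i => ⟨word (enc i), enc_mem i⟩) (by
    constructor
    · intro i j h
      have h1 : word (enc i) = word (enc j) := congrArg Subtype.val h
      have h2 : enc i = enc j := by
        rw [← maskW_word (enc_lt i), ← maskW_word (enc_lt j), h1]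
      exact Fin.ext (enc_injOn i.2 j.2 h2)
    · rintro ⟨w, hw⟩
      obtain ⟨i, hi, h⟩ := isCode_iff_exists.1 ((mem_golayCode_iff w).1 hw)
      refine ⟨⟨i, hi⟩, Subtype.ext ?_⟩
      change word (enc i) = w
      rw [← h, word_maskW])

theorem card_golayCode : Nat.card golayCode = 4096 := by
  rw [← Nat.card_congr codeEquiv, Nat.card_eq_fintype_card, Fintype.card_fin]

/-- The length-24 code built from the squares modulo 23 has dimension 12 over the field with two elements. -/
theorem result : Module.finrank (ZMod 2) Cfsg.golayCode = 12 := by
  have h := Module.natCard_eq_pow_finrank (K := ZMod 2) (V := golayCode)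
  rw [card_golayCode, Nat.card_eq_fintype_card, ZMod.card] at h
  have h2 : (2 : ℕ) ^ 12 = 2 ^ Module.finrank (ZMod 2) golayCode := by
    rw [← h]; norm_num
  exact (Nat.pow_right_injective le_rfl h2).symm

end Cfsg.Agent.S0358
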