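import Cfsg.Statements.S0432
-- import your own Cfsg.Agent.* helpers here

set_option autoImplicit false
open Cfsg

namespace Cfsg.Agent.S0432

open scoped Pointwise

/-- The filter of a composed vector is the translate of the filter by the inverse permutation. -/
theorem filter_comp_perm (σ : Equiv.Perm Cfsg.GolayPt) (P : Cfsg.GolayPt → Prop) [DecidablePred P] :
    (Finset.univ.filter fun i => P (σ i)) = σ⁻¹ • (Finset.univ.filter fun i => P i) := by
  ext i
  rw [Finset.mem_inv_smul_finset_iff]
  simp [Equiv.Perm.smul_def]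

/-- Coordinate permutations from the code's group preserve the generating set. -/
theorem leechSet_perm (σ : Equiv.Perm Cfsg.GolayPt) (hσ : σ ∈ Cfsg.M24) (x : Cfsg.GolayPt → ℤ)
    (hx : x ∈ Cfsg.leechSet) : (fun i => x (σ i)) ∈ Cfsg.leechSet := by
  obtain ⟨m, h1, h2, h3⟩ := hx
  refine ⟨m, fun i => h1 (σ i), ?_, fun k => ?_⟩
  · rw [Equiv.sum_comp σ x]
    exact h2
  · rw [filter_comp_perm σ (fun i => x i ≡ k [ZMOD 4])]
    have hσ' : σ⁻¹ ∈ Cfsg.M24 := inv_mem hσ
    have h4 := MulAction.mem_stabilizer_iff.mp hσ'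
    rw [← h4]
    exact Set.smul_mem_smul_set (h3 k)

/-- Coordinate permutations from the code's group preserve the lattice. -/
theorem result (σ : Equiv.Perm Cfsg.GolayPt) (hσ : σ ∈ Cfsg.M24) (x : Cfsg.GolayPt → ℤ) (hx : x ∈ Cfsg.leechLattice) : (fun i => x (σ i)) ∈ Cfsg.leechLattice := by
  have hx' : x ∈ AddSubgroup.closure Cfsg.leechSet := hx
  change (fun i => x (σ i)) ∈ AddSubgroup.closure Cfsg.leechSet
  induction hx' using AddSubgroup.closure_induction with
  | mem y hy => exact AddSubgroup.subset_closure (leechSet_perm σ hσ y hy)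
  | zero => exact zero_mem _
  | add y z hy hz ihy ihz => exact add_mem (ihy hy) (ihz hz)
  | neg y hy ihy => exact neg_mem (ihy hy)

end Cfsg.Agent.S0432
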