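import Cfsg.Statements.S0350

set_option autoImplicit false
open Cfsg

namespace Cfsg.Agent.S0350

/-- Counting pairs (t-subset, block containing it) in two ways: the number of blocks of a Steiner system with parameters (t, k, v), multiplied by C(k, t), equals C(v, t). -/
theorem result {α : Type*} [Fintype α] [DecidableEq α] {t k : ℕ} {B : Set (Finset α)} (hB : Cfsg.IsSteinerSystem t k B) : B.ncard * Nat.choose k t = Nat.choose (Fintype.card α) t := by
  classical
  have hfin : B.Finite := Set.toFinite B
  rw [Set.ncard_eq_toFinset_card B hfin]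
  have h := Finset.sum_card_bipartiteAbove_eq_sum_card_bipartiteBelow
    (s := Finset.powersetCard t (Finset.univ : Finset α)) (t := hfin.toFinset)
    (fun s b => s ⊆ b)
  have h1 : ∀ s ∈ Finset.powersetCard t (Finset.univ : Finset α),
      (Finset.bipartiteAbove (fun s b => s ⊆ b) hfin.toFinset s).card = 1 := by
    intro s hs
    rw [Finset.mem_powersetCard] at hs
    obtain ⟨b, ⟨hb, hsb⟩, huniq⟩ := hB.2 s hs.2
    rw [Finset.card_eq_one]
    refine ⟨b, ?_⟩
    ext c
    simp only [Finset.mem_bipartiteAbove, Set.Finite.mem_toFinset, Finset.mem_singleton]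
    constructor
    · rintro ⟨hc, hsc⟩
      exact huniq c ⟨hc, hsc⟩
    · rintro rfl
      exact ⟨hb, hsb⟩
  have h2 : ∀ b ∈ hfin.toFinset,
      (Finset.bipartiteBelow (fun s b => s ⊆ b) (Finset.powersetCard t (Finset.univ : Finset α)) b).card
        = Nat.choose k t := by
    intro b hb
    rw [Set.Finite.mem_toFinset] at hb
    rw [← hB.1 b hb, ← Finset.card_powersetCard]
    congr 1
    ext s
    simp only [Finset.mem_bipartiteBelow, Finset.mem_powersetCard, Finset.subset_univ, true_and]
    tauto
  rw [Finset.sum_congr rfl h1, Finset.sum_congr rfl h2] at h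
  simp only [Finset.sum_const, smul_eq_mul, mul_one, Finset.card_powersetCard, Finset.card_univ] at h
  exact h.symm

end Cfsg.Agent.S0350
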