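import Cfsg.Statements.S0365
-- import your own Cfsg.Agent.* helpers here
import Cfsg.Agent.SporadicA.DegreePrime
import Cfsg.Agent.S0364
import Cfsg.Agent.S0366

set_option autoImplicit false
open Cfsg

namespace Cfsg.Agent.S0365

/-- The permutation group preserving the length-24 code is simple. -/
theorem result : IsSimpleGroup Cfsg.M24 := by
  have h5 : MulAction.IsMultiplyPretransitive Cfsg.M24 Cfsg.GolayPt 5 := Cfsg.Agent.S0366.result
  have hc : Nat.card Cfsg.GolayPt = 24 := by
    rw [Nat.card_eq_fintype_card]; decide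
  have h2 : MulAction.IsMultiplyPretransitive Cfsg.M24 Cfsg.GolayPt 2 :=
    MulAction.isMultiplyPretransitive_of_le (n := 5) (by norm_num) (by
      rw [hc]; norm_num)
  exact Cfsg.Agent.SporadicA.DegreePrime.isSimpleGroup_of_card_degree24 hc h2
    Cfsg.Agent.S0364.result

end Cfsg.Agent.S0365
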