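import Cfsg.Statements.S0399
import Cfsg.Agent.S0364
import Cfsg.Agent.S0365
import Cfsg.Agent.S0366
import Cfsg.Agent.S0397
import Cfsg.Agent.S0398
import Cfsg.Agent.S1571
import Cfsg.Agent.SporadicA.Co1Simple

set_option autoImplicit false
open Cfsg

namespace Cfsg.Agent.S0399

theorem two_transitive (a b c d : GolayPt) (hab : a ≠ b) (hcd : c ≠ d) : ∃ σ : M24,
    (σ : Equiv.Perm GolayPt) a = c ∧ (σ : Equiv.Perm GolayPt) b = d := by
  have h5 := Cfsg.Agent.S0366.result
  have h2 : MulAction.IsMultiplyPretransitive M24 GolayPt 2 :=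
    MulAction.isMultiplyPretransitive_of_le (n := 5) (by norm_num) (by
      rw [Nat.card_eq_fintype_card, Cfsg.Agent.Leech.Code.card_golayPt]; norm_num)
  obtain ⟨g, hg1, hg2⟩ := MulAction.is_two_pretransitive_iff.1 h2 hab hcd
  exact ⟨g, hg1, hg2⟩

theorem card_N : Nat.card SporadicA.Co1Simple.N = 4096 * 244823040 := by
  rw [← Cfsg.Agent.S1571.result.2]
  exact Nat.card_congr (Equiv.subtypeEquivRight SporadicA.Co1Simple.mem_N_iff)

/-- Automorphism group of the lattice modulo its centre is simple of order 4157776806543360000. -/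
theorem result : Cfsg.IsCo1 (Cfsg.Co0 ⧸ Subgroup.center Cfsg.Co0) := by
  have hcard := Cfsg.Agent.S0397.result
  have hZ := Cfsg.Agent.S0398.result
  refine ⟨SporadicA.Co1Simple.isSimpleGroup hcard hZ card_N Cfsg.Agent.S0365.result
    two_transitive, ?_⟩
  have h := Subgroup.card_eq_card_quotient_mul_card_subgroup (Subgroup.center Co0)
  rw [hcard, hZ] at h
  omega

end Cfsg.Agent.S0399
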