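import Cfsg.Statements.S1572
import Cfsg.Agent.SporadicStructure.CrossMaxEnd
import Cfsg.Agent.Leech.Trans

set_option autoImplicit false
open scoped Pointwise
open Cfsg

namespace Cfsg.Agent.S1572

open Cfsg.Agent.SporadicStructure.MinShapes Cfsg.Agent.SporadicStructure.MonoSigns
open Cfsg.Agent.SporadicStructure.Co0Base Cfsg.Agent.SporadicStructure.MonoOrbits
open Cfsg.Agent.SporadicStructure.CrossMax Cfsg.Agent.SporadicStructure.CrossMaxEnd

theorem mono_cross (σ : Equiv.Perm GolayPt) (hσ : σ ∈ M24) (c : Finset GolayPt) (hc : c ∈ SC)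
    (x : leechLattice) (hx : InCross x) : InCross (monomial σ hσ c hc • x) := by
  obtain ⟨i, s, hs, hx⟩ := hx
  refine ⟨σ i, if σ i ∈ c then -s else s, ?_, ?_⟩
  · split_ifs
    · rcases hs with rfl | rfl
      · right; rfl
      · left; norm_num
    · exact hs
  · rw [monomial_smul, hx]
    funext j
    rw [signedPerm_apply]
    by_cases hj : j = σ i
    · subst hj
      rw [Equiv.symm_apply_apply, Pi.single_eq_same, Pi.single_eq_same]
    · have h1 : σ.symm j ≠ i := fun h => hj (by rw [← h, Equiv.apply_symm_apply])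
      rw [Pi.single_eq_of_ne h1, Pi.single_eq_of_ne hj]
      simp

/-- The stabiliser of the standard cross is a maximal proper subgroup of the lattice's automorphism group. -/
theorem result (H : Subgroup ↥Cfsg.Co0) (hH : (H : Set ↥Cfsg.Co0) = {g : ↥Cfsg.Co0 | (∀ v : ↥Cfsg.leechLattice, (v : Cfsg.GolayPt → ℤ) ∈ Cfsg.stdCross → ((g • v : ↥Cfsg.leechLattice) : Cfsg.GolayPt → ℤ) ∈ Cfsg.stdCross)}) : IsCoatom H := by
  have hmem : ∀ g : ↥Co0, g ∈ H ↔ ∀ x, InCross x → InCross (g • x) := by
    intro g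
    rw [← SetLike.mem_coe, hH]
    exact Iff.rfl
  constructor
  · intro htop
    -- an element moving an even minimal vector to an odd one
    have hno : sqNorm (o0 : GolayPt → ℤ) = 32 := by
      show sqNorm (odd none ∅) = 32
      decide +kernel
    obtain ⟨g, hg⟩ := Cfsg.Agent.Leech.Trans.co0_transitive_min v0 o0 norm_v0 hno
    have hgH : g⁻¹ ∈ H := by rw [htop]; trivial
    have hx : InCross (e8 none) := ⟨none, 8, Or.inl rfl, rfl⟩
    have h1 := (hmem g⁻¹).1 hgH (e8 none) hx
    obtain ⟨-, i, s, hs, hdot⟩ := cross_spec h1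
    have h2 := hdot (v0 : GolayPt → ℤ)
    rw [dot_smul_left, inv_inv, hg] at h2
    obtain ⟨-, j, s', hs', hdot'⟩ := cross_spec hx
    rw [hdot'] at h2
    have h4 := Sh4.coord (v := v0) ⟨{none, some 0}, ∅, by decide, by simp, rfl⟩ i
    have h5 : (o0 : GolayPt → ℤ) j = 1 ∨ (o0 : GolayPt → ℤ) j = -3 := by
      show odd none ∅ j = 1 ∨ odd none ∅ j = -3
      rw [odd_apply, if_neg (by simp)]
      split_ifs
      · right; rfl
      · left; rfl
    rcases hs with rfl | rfl <;> rcases hs' with rfl | rfl <;> rcases h5 with h5 | h5 <;>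
      rw [h5] at h2 <;> omega
  · intro K hK
    obtain ⟨hle, hnle⟩ := lt_iff_le_not_ge.1 hK
    have hM : ∀ (σ : Equiv.Perm GolayPt) (hσ : σ ∈ M24) (c : Finset GolayPt) (hc : c ∈ SC),
        monomial σ hσ c hc ∈ K := fun σ hσ c hc => hle ((hmem _).2 (mono_cross σ hσ c hc))
    refine eq_top K hM ?_ (fun g hg => hle ((hmem g).2 hg))
    by_contra hcon
    push Not at hcon
    apply hnle
    intro k hk
    rw [hmem]
    intro x hx
    exact hcon k hk x hx

end Cfsg.Agent.S1572
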