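import Cfsg.Statements.S1335

set_option autoImplicit false
open Cfsg

namespace Cfsg.Agent.S1335

/-- If `P` is a Sylow `p`-subgroup of `H ≤ G` whose normalizer in `G` lies in `H`, then `P` is a Sylow
`p`-subgroup of `G`. -/
theorem sylow_of_normalizer_le {G : Type*} [Group G] [Finite G] {p : ℕ} [Fact p.Prime]
    (H : Subgroup G) (P : Sylow p ↥H)
    (hN : Subgroup.normalizer (((P : Subgroup ↥H).map H.subtype : Subgroup G) : Set G) ≤ H) :
    ∃ Q : Sylow p G, (Q : Subgroup G) = (P : Subgroup ↥H).map H.subtype := by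
  set P' : Subgroup G := (P : Subgroup ↥H).map H.subtype with hP'
  have hPp : IsPGroup p P' := P.isPGroup'.map H.subtype
  obtain ⟨Q, hQ⟩ := hPp.exists_le_sylow
  refine ⟨Q, le_antisymm ?_ hQ⟩
  by_contra hne
  have hnil : Group.IsNilpotent ↥(Q : Subgroup G) := Q.isPGroup'.isNilpotent
  have hnc : NormalizerCondition ↥(Q : Subgroup G) := Group.normalizerCondition_of_isNilpotent
  have hlt : P'.subgroupOf (Q : Subgroup G) < ⊤ := by
    rw [lt_top_iff_ne_top]
    intro h
    exact hne (Subgroup.subgroupOf_eq_top.mp h)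
  have h2 := hnc _ hlt
  -- take an element of the normalizer
  obtain ⟨x, hx, hx'⟩ := SetLike.exists_of_lt h2
  have hxN : ((x : ↥(Q : Subgroup G)) : G) ∈ Subgroup.normalizer (P' : Set G) := by
    rw [Subgroup.mem_normalizer_iff] at hx ⊢
    intro h
    constructor
    · intro hh
      have := (hx ⟨h, hQ hh⟩).mp (by rw [Subgroup.mem_subgroupOf]; exact hh)
      rw [Subgroup.mem_subgroupOf] at this
      exact this
    · intro hh
      have hhQ : h ∈ (Q : Subgroup G) := by
        have h3 : (x : G) * h * (x : G)⁻¹ ∈ (Q : Subgroup G) := hQ hh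
        have h4 : h = (x : G)⁻¹ * ((x : G) * h * (x : G)⁻¹) * (x : G) := by group
        rw [h4]
        exact mul_mem (mul_mem (inv_mem x.2) h3) x.2
      have := (hx ⟨h, hhQ⟩).mpr (by rw [Subgroup.mem_subgroupOf]; exact hh)
      rw [Subgroup.mem_subgroupOf] at this
      exact this
  -- P' ⊔ zpowers x is a p-group inside H
  have hxH : (x : G) ∈ H := hN hxN
  let R : Subgroup ↥H := ((Q : Subgroup G)).subgroupOf H
  have hR : IsPGroup p R := Q.isPGroup'.comap_subtype
  have hPR : (P : Subgroup ↥H) ≤ R := by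
    intro y hy
    rw [Subgroup.mem_subgroupOf]
    exact hQ ⟨y, hy, rfl⟩
  have hRP : R = P := P.is_maximal' hR hPR
  have : (⟨(x : G), hxH⟩ : ↥H) ∈ R := by
    rw [Subgroup.mem_subgroupOf]
    exact x.2
  rw [hRP] at this
  exact hx' (by rw [Subgroup.mem_subgroupOf]; exact ⟨_, this, rfl⟩)

/-- Let H be a subgroup of the finite group G, p a prime, k ≥ 1, P a Sylow p-subgroup of H of p-rank at least k, and suppose N_G(X) ≤ H for every subgroup X ≤ P of p-rank at least k. Then P is a Sylow p-subgroup of G. -/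
theorem result {G : Type*} [Group G] [Finite G] {p : ℕ} [Fact p.Prime] (k : ℕ) (hk : 1 ≤ k) (H : Subgroup G) (P : Sylow p ↥H) (hP : ¬ Cfsg.PRankLE p (k - 1) ↥(P : Subgroup ↥H)) (hΓ : (∀ X : Subgroup G, X ≤ (P : Subgroup ↥H).map H.subtype → ¬ Cfsg.PRankLE p (k - 1) ↥X → Subgroup.normalizer (X : Set G) ≤ H)) : ∃ Q : Sylow p G, (Q : Subgroup G) = (P : Subgroup ↥H).map H.subtype := by
  apply sylow_of_normalizer_le
  apply hΓ _ le_rfl
  intro h
  apply hP
  intro A hA hAp
  -- transport along the isomorphism P ≃* P.map H.subtype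
  let e : ↥(P : Subgroup ↥H) ≃* ↥((P : Subgroup ↥H).map H.subtype) :=
    (P : Subgroup ↥H).equivMapOfInjective H.subtype H.subtype_injective
  have h1 := h (A.map e.toMonoidHom) ?_ ?_
  · rwa [Subgroup.card_map_of_injective e.injective] at h1
  · constructor
    constructor
    rintro ⟨_, a, ha, rfl⟩ ⟨_, b, hb, rfl⟩
    have := hA.is_comm.comm ⟨a, ha⟩ ⟨b, hb⟩
    apply Subtype.ext
    have h3 : a * b = b * a := congrArg Subtype.val this
    change e a * e b = e b * e a
    rw [← map_mul, ← map_mul, h3]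
  · rintro _ ⟨a, ha, rfl⟩
    change (e a) ^ p = 1
    rw [← map_pow, hAp a ha, map_one]

end Cfsg.Agent.S1335
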