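import Cfsg.Statements.S0404
-- import your own Cfsg.Agent.* helpers here
import Cfsg.Agent.SporadicA.ConfigSimple
import Cfsg.Agent.Leech.FrameStab
import Cfsg.Agent.Leech.FrameTriples
import Cfsg.Agent.S0378
import Cfsg.Agent.S0379
import Cfsg.Agent.S1634

set_option autoImplicit false
open Cfsg

namespace Cfsg.Agent.S0404

open MulAction Cfsg.Agent.Leech.FrameAux

/-- Joint stabiliser of two minimal vectors with coordinate dot product −8 is simple of order 898128000. -/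
theorem result (v w : Cfsg.leechLattice) (hv : Cfsg.sqNorm (v : Cfsg.GolayPt → ℤ) = 32) (hw : Cfsg.sqNorm (w : Cfsg.GolayPt → ℤ) = 32) (hvw : Cfsg.dotInt (v : Cfsg.GolayPt → ℤ) (w : Cfsg.GolayPt → ℤ) = -8) : Cfsg.IsMcL ↥(MulAction.stabilizer Cfsg.Co0 v ⊓ MulAction.stabilizer Cfsg.Co0 w) := by
  classical
  obtain ⟨hcard, htr, hsub⟩ := Cfsg.Agent.S1634.result v w hv hw hvw
  obtain ⟨S, hSdef⟩ : ∃ S : Set leechLattice, S = {x : ↥Cfsg.leechLattice |
    Cfsg.sqNorm (x : Cfsg.GolayPt → ℤ) = 32 ∧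
      Cfsg.dotInt (v : Cfsg.GolayPt → ℤ) (x : Cfsg.GolayPt → ℤ) = 0 ∧
      Cfsg.dotInt (w : Cfsg.GolayPt → ℤ) (x : Cfsg.GolayPt → ℤ) = 16} := ⟨_, rfl⟩
  rw [← hSdef] at hcard htr hsub
  have hSne : S.Nonempty := by
    rw [Set.nonempty_iff_ne_empty]
    intro h
    rw [h, Set.ncard_empty] at hcard
    exact absurd hcard (by norm_num)
  obtain ⟨x0, hx0⟩ := hSne
  have hx0' := hx0
  rw [hSdef] at hx0'
  obtain ⟨h32, h0, h16⟩ := hx0'
  have hS : ∀ g ∈ stabilizer Co0 v ⊓ stabilizer Co0 w, ∀ x ∈ S, g • x ∈ S := by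
    rintro g ⟨hg1, hg2⟩ x hx
    have hg1' : g • v = v := hg1
    have hg2' : g • w = w := hg2
    rw [hSdef] at hx ⊢
    refine ⟨by rw [co0_sqNorm]; exact hx.1, ?_, ?_⟩
    · conv_lhs => rw [← hg1']
      rw [co0_dot]; exact hx.2.1
    · conv_lhs => rw [← hg2']
      rw [co0_dot]; exact hx.2.2
  obtain ⟨e⟩ := Leech.FrameStab.mcl_triple_stab_of Leech.FrameTriples.trans64 v w x0 hv hw h32 hvw
    h0 h16
  have hne : (none : GolayPt) ≠ some 0 := by simp
  have hM : Nat.card ↥(stabilizer Co0 v ⊓ stabilizer Co0 w ⊓ stabilizer Co0 x0) = 443520 := by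
    rw [Nat.card_congr e.toEquiv]
    exact Cfsg.Agent.S0378.result _ _ hne
  have hMs : IsSimpleGroup ↥(stabilizer Co0 v ⊓ stabilizer Co0 w ⊓ stabilizer Co0 x0) := by
    have h1 := Cfsg.Agent.S0379.result _ _ hne
    have : Nontrivial ↥(stabilizer Co0 v ⊓ stabilizer Co0 w ⊓ stabilizer Co0 x0) :=
      e.symm.injective.nontrivial
    exact IsSimpleGroup.isSimpleGroup_of_surjective e.symm.toMonoidHom e.symm.surjective
  have htr' : ∀ x ∈ S, ∃ g ∈ stabilizer Co0 v ⊓ stabilizer Co0 w, g • x0 = x := by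
    intro x hx
    obtain ⟨g, h1, h2, h3⟩ := htr x0 hx0 x hx
    exact ⟨g, ⟨h1, h2⟩, h3⟩
  have hcardH := SporadicA.ConfigSimple.card_eq (stabilizer Co0 v ⊓ stabilizer Co0 w) S x0 hS hx0 htr'
  rw [hcard, hM] at hcardH
  refine ⟨?_, by rw [hcardH]⟩
  have hfin : Finite ↥(stabilizer Co0 v ⊓ stabilizer Co0 w) :=
    Nat.finite_of_card_ne_zero (by rw [hcardH]; norm_num)
  have hSfin : S.Finite := Set.finite_of_ncard_ne_zero (by rw [hcard]; norm_num)
  obtain ⟨y₁, hy₁, y₂, hy₂, y₃, hy₃, h1, h2, h3⟩ := hsub x0 hx0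
  obtain ⟨K, hK⟩ : ∃ K : Subgroup Co0, K = stabilizer Co0 v ⊓ stabilizer Co0 w ⊓
    stabilizer Co0 x0 := ⟨_, rfl⟩
  rw [← hK] at h1 h2 h3
  have hKx0 : ∀ g ∈ K, g • x0 = x0 := by
    intro g hg
    rw [hK] at hg
    exact hg.2
  have hKH : ∀ g ∈ K, g ∈ stabilizer Co0 v ⊓ stabilizer Co0 w := by
    intro g hg
    rw [hK] at hg
    exact hg.1
  -- orbits lie in S
  have horb : ∀ y ∈ S, orbit K y ⊆ S := by
    rintro y hy _ ⟨g, rfl⟩
    exact hS g (hKH g g.2) y hy
  have hdisj : ∀ y z : leechLattice, (orbit K y).ncard ≠ (orbit K z).ncard →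
      Disjoint (orbit K y) (orbit K z) := by
    intro y z hne
    rw [Set.disjoint_iff_forall_ne]
    rintro a ha b hb rfl
    apply hne
    rw [← orbit_eq_iff.2 ha, ← orbit_eq_iff.2 hb]
  have hx0O : ∀ y : leechLattice, (orbit K y).ncard ≠ 1 → x0 ∉ orbit K y := by
    intro y hy hx
    apply hy
    rw [← orbit_eq_iff.2 hx]
    have : orbit K x0 = {x0} := by
      ext z
      rw [mem_orbit_iff, Set.mem_singleton_iff]
      constructor
      · rintro ⟨g, rfl⟩
        exact hKx0 g g.2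
      · rintro rfl
        exact ⟨1, one_smul _ _⟩
    rw [this, Set.ncard_singleton]
  have hd12 := hdisj y₁ y₂ (by rw [h1, h2]; norm_num)
  have hd13 := hdisj y₁ y₃ (by rw [h1, h3]; norm_num)
  have hd23 := hdisj y₂ y₃ (by rw [h2, h3]; norm_num)
  have hn1 := hx0O y₁ (by rw [h1]; norm_num)
  have hn2 := hx0O y₂ (by rw [h2]; norm_num)
  have hn3 := hx0O y₃ (by rw [h3]; norm_num)
  have hf1 : (orbit K y₁).Finite := hSfin.subset (horb y₁ hy₁)
  have hf2 : (orbit K y₂).Finite := hSfin.subset (horb y₂ hy₂)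
  have hf3 : (orbit K y₃).Finite := hSfin.subset (horb y₃ hy₃)
  have hall : {x0} ∪ (orbit K y₁ ∪ (orbit K y₂ ∪ orbit K y₃)) = S := by
    apply Set.eq_of_subset_of_ncard_le _ _ hSfin
    · rintro x (hx | hx | hx | hx)
      · rw [Set.mem_singleton_iff.1 hx]; exact hx0
      · exact horb y₁ hy₁ hx
      · exact horb y₂ hy₂ hx
      · exact horb y₃ hy₃ hx
    · rw [Set.ncard_union_eq (Set.disjoint_singleton_left.2 (by
        rintro (h | h | h)
        · exact hn1 h
        · exact hn2 h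
        · exact hn3 h)) (Set.finite_singleton _) (hf1.union (hf2.union hf3)),
        Set.ncard_union_eq (Disjoint.union_right hd12 hd13) hf1 (hf2.union hf3),
        Set.ncard_union_eq hd23 hf2 hf3, h1, h2, h3, Set.ncard_singleton, hcard]
  refine SporadicA.ConfigSimple.isSimpleGroup_of_config _ S x0 hS hx0 htr' hMs
    (ι := Fin 3) ![orbit K y₁, orbit K y₂, orbit K y₃] ?_ ?_ ?_ ?_ ?_ ![330, 462, 1232] ?_ ?_ ?_ ?_
  · intro i
    fin_cases i
    · exact horb y₁ hy₁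
    · exact horb y₂ hy₂
    · exact horb y₃ hy₃
  · have key : ∀ y : leechLattice, ∀ a ∈ orbit K y, ∀ b ∈ orbit K y,
        ∃ g ∈ stabilizer Co0 v ⊓ stabilizer Co0 w, g • x0 = x0 ∧ g • a = b := by
      rintro y _ ⟨g, rfl⟩ _ ⟨k, rfl⟩
      refine ⟨(k : Co0) * (g : Co0)⁻¹, hKH _ (K.mul_mem k.2 (K.inv_mem g.2)),
        hKx0 _ (K.mul_mem k.2 (K.inv_mem g.2)), ?_⟩
      show ((k : Co0) * (g : Co0)⁻¹) • ((g : Co0) • y) = (k : Co0) • y
      rw [smul_smul, inv_mul_cancel_right]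
    intro i
    fin_cases i
    · exact key y₁
    · exact key y₂
    · exact key y₃
  · intro i j hij
    fin_cases i <;> fin_cases j
    · exact absurd rfl hij
    · exact hd12
    · exact hd13
    · exact hd12.symm
    · exact absurd rfl hij
    · exact hd23
    · exact hd13.symm
    · exact hd23.symm
    · exact absurd rfl hij
  · intro i
    fin_cases i
    · exact hn1
    · exact hn2
    · exact hn3
  · intro x hx
    rw [← hall] at hx
    rcases hx with hx | hx | hx | hx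
    · exact Or.inl hx
    · exact Or.inr ⟨0, hx⟩
    · exact Or.inr ⟨1, hx⟩
    · exact Or.inr ⟨2, hx⟩
  · intro i
    fin_cases i
    · exact h1
    · exact h2
    · exact h3
  · rw [hcard]; decide +kernel
  · exact ⟨0, by norm_num⟩
  · intro N hN hc
    rw [hcard] at hc ⊢
    exact SporadicA.PrimSimple.exists_normal_of_card_2025 N hN hc

end Cfsg.Agent.S0404
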