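import Cfsg.Statements.S0359
import Cfsg.Agent.SporadicA.GolayBase

set_option autoImplicit false
open Cfsg

namespace Cfsg.Agent.S0359

open Cfsg.Agent.SporadicA.GolayBase

theorem hammingNorm_eq_popcount (w : Cfsg.GolayPt → ZMod 2) :
    hammingNorm w = popcount (maskW w) := by
  have h : hammingNorm w = (support₂ w).card := by
    unfold hammingNorm
    congr 1
  rw [h, card_eq_popcount, maskOf_support₂]

/-- The weight of every word of the length-24 code is one of 0, 8, 12, 16, 24. -/
theorem result (w : Cfsg.GolayPt → ZMod 2) (hw : w ∈ Cfsg.golayCode) : hammingNorm w = 0 ∨ hammingNorm w = 8 ∨ hammingNorm w = 12 ∨ hammingNorm w = 16 ∨ hammingNorm w = 24 := by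
  rw [hammingNorm_eq_popcount]
  exact isCode_weight ((mem_golayCode_iff w).1 hw)

end Cfsg.Agent.S0359
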