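import Cfsg.Statements.S0401
import Cfsg.Agent.SporadicA.Norm6
import Cfsg.Agent.SporadicA.XiSextet
import Cfsg.Agent.SporadicA.Co0Basic
import Cfsg.Agent.SporadicStructure.LeechBase
import Cfsg.Agent.S0363

set_option autoImplicit false
open Cfsg

namespace Cfsg.Agent.S0401

theorem input : Cfsg.Agent.SporadicA.Norm6.Input where
  mem := Cfsg.Agent.SporadicStructure.LeechBase.mem_leechLattice_iff_mem_leechSet
  sign := by
    rintro c ⟨w, hw, rfl⟩
    refine ⟨Cfsg.Agent.SporadicA.Co0Basic.signCo0 w hw, fun v i => ?_⟩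
    have h := Cfsg.Agent.SporadicA.Co0Basic.signCo0_apply w hw v i
    refine h.trans ?_
    simp only [support₂, Finset.mem_filter, Finset.mem_univ, true_and]
    by_cases hwi : w i = 0
    · rw [if_pos hwi, if_neg (not_not.2 hwi)]
    · rw [if_neg hwi, if_pos hwi]
  xi := by
    intro S hS
    obtain ⟨T, hT, hT0⟩ := Cfsg.Agent.SporadicA.XiSextet.exists_isSextet
      Cfsg.Agent.S0363.result S hS
    refine ⟨T, hT.card, fun i => ?_, Cfsg.Agent.SporadicA.Xi.xiCo0 T hT, fun v i => ?_⟩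
    · rw [← hT0, Cfsg.Agent.SporadicA.Xi.mem_fib]
    · exact Cfsg.Agent.SporadicA.Xi.two_xiCo0_smul T hT v i

/-- Automorphisms of the lattice act transitively on vectors of sum of squares 48. -/
theorem result (v w : Cfsg.leechLattice) (hv : Cfsg.sqNorm (v : Cfsg.GolayPt → ℤ) = 48) (hw : Cfsg.sqNorm (w : Cfsg.GolayPt → ℤ) = 48) : ∃ g : Cfsg.Co0, g • v = w :=
  Cfsg.Agent.SporadicA.Norm6.transitive input v w hv hw

end Cfsg.Agent.S0401
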