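import Cfsg.Statements.S1580
import Cfsg.Agent.S0401
import Cfsg.Agent.Leech.Co3Trans

set_option autoImplicit false
open Cfsg

namespace Cfsg.Agent.S1580

open Leech.Co3Trans Leech.Co3Count

theorem mem_iff {u v : leechLattice} {b : Co0} (hu : b • u = u0L) (hv : b • v = v0L)
    (x : leechLattice) : (sqNorm (x : GolayPt → ℤ) = 32 ∧
      sqNorm ((u - x : leechLattice) : GolayPt → ℤ) = 32 ∧
      dotInt (v : GolayPt → ℤ) (x : GolayPt → ℤ) = 16) ↔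
    (sqNorm ((b • x : leechLattice) : GolayPt → ℤ) = 32 ∧
      dotInt u0 ((b • x : leechLattice) : GolayPt → ℤ) = 24 ∧
      dotInt (vecA 0) ((b • x : leechLattice) : GolayPt → ℤ) = 16) := by
  have h1 : dotInt (v : GolayPt → ℤ) (x : GolayPt → ℤ) =
      dotInt (vecA 0) ((b • x : leechLattice) : GolayPt → ℤ) := by
    rw [← dotInt_smul b v x, hv]; rfl
  have h2 : sqNorm ((u - x : leechLattice) : GolayPt → ℤ) =
      48 - 2 * dotInt u0 ((b • x : leechLattice) : GolayPt → ℤ)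
        + sqNorm ((b • x : leechLattice) : GolayPt → ℤ) := by
    rw [← sqNorm_smul b (u - x), smul_sub', hu, AddSubgroup.coe_sub, sqNorm_sub]
    rw [show sqNorm ((u0L : leechLattice) : GolayPt → ℤ) = 48 from sqNorm_u0]
    rfl
  rw [sqNorm_smul] at h2 ⊢
  rw [h1, h2]
  constructor
  · rintro ⟨h3, h4, h5⟩
    exact ⟨h3, by linarith, h5⟩
  · rintro ⟨h3, h4, h5⟩
    exact ⟨h3, by linarith, h5⟩

/-- The McLaughlin configuration: for u of customary norm 6 and v minimal with u − v minimal, there are 275 further such summands x of customary inner product 2 with v, permuted transitively by the stabiliser of u and v. -/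
theorem result (u v : ↥Cfsg.leechLattice) (hu : Cfsg.sqNorm (u : Cfsg.GolayPt → ℤ) = 48) (hv : Cfsg.sqNorm (v : Cfsg.GolayPt → ℤ) = 32 ∧ Cfsg.sqNorm ((u - v) : Cfsg.GolayPt → ℤ) = 32) : {x : ↥Cfsg.leechLattice | Cfsg.sqNorm (x : Cfsg.GolayPt → ℤ) = 32 ∧ Cfsg.sqNorm ((u - x) : Cfsg.GolayPt → ℤ) = 32 ∧ Cfsg.dotInt (v : Cfsg.GolayPt → ℤ) (x : Cfsg.GolayPt → ℤ) = 16}.ncard = 275 ∧ ∀ x ∈ {x : ↥Cfsg.leechLattice | Cfsg.sqNorm (x : Cfsg.GolayPt → ℤ) = 32 ∧ Cfsg.sqNorm ((u - x) : Cfsg.GolayPt → ℤ) = 32 ∧ Cfsg.dotInt (v : Cfsg.GolayPt → ℤ) (x : Cfsg.GolayPt → ℤ) = 16}, ∀ x' ∈ {x : ↥Cfsg.leechLattice | Cfsg.sqNorm (x : Cfsg.GolayPt → ℤ) = 32 ∧ Cfsg.sqNorm ((u - x) : Cfsg.GolayPt → ℤ) = 32 ∧ Cfsg.dotInt (v : Cfsg.GolayPt → ℤ) (x : Cfsg.GolayPt → ℤ) = 16}, ∃ g : ↥Cfsg.Co0, g • u = u ∧ g • v = v ∧ g • x = x' := by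
  obtain ⟨b, hb1, hb2⟩ := config S0401.result hu hv
  constructor
  · rw [← ncard_275]
    have himg : {x : GolayPt → ℤ | x ∈ leechLattice ∧ sqNorm x = 32 ∧ dotInt u0 x = 24 ∧
        dotInt (vecA 0) x = 16} = (fun x : leechLattice => ((b • x : leechLattice) : GolayPt → ℤ)) ''
        {x : ↥Cfsg.leechLattice | Cfsg.sqNorm (x : Cfsg.GolayPt → ℤ) = 32 ∧
          Cfsg.sqNorm ((u - x) : Cfsg.GolayPt → ℤ) = 32 ∧
          Cfsg.dotInt (v : Cfsg.GolayPt → ℤ) (x : Cfsg.GolayPt → ℤ) = 16} := by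
      ext y
      rw [Set.mem_image]
      constructor
      · rintro ⟨h1, h2, h3, h4⟩
        refine ⟨b⁻¹ • ⟨y, h1⟩, ?_, ?_⟩
        · apply (mem_iff hb1 hb2 _).2
          rw [smul_inv_smul]
          exact ⟨h2, h3, h4⟩
        · show ((b • b⁻¹ • (⟨y, h1⟩ : leechLattice) : leechLattice) : GolayPt → ℤ) = y
          rw [smul_inv_smul]
      · rintro ⟨x, hx, rfl⟩
        have := (mem_iff hb1 hb2 x).1 hx
        exact ⟨(b • x : leechLattice).2, this.1, this.2.1, this.2.2⟩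
    rw [himg, Set.ncard_image_of_injective]
    intro x y hxy
    have h1 : b • x = b • y := Subtype.ext hxy
    exact smul_left_cancel b h1
  · intro x hx x' hx'
    have h1 := (mem_iff hb1 hb2 x).1 hx
    have h2 := (mem_iff hb1 hb2 x').1 hx'
    obtain ⟨g, hg, h3⟩ := to_x0 (b • x) h1.1 h1.2.1 h1.2.2
    obtain ⟨g', hg', h4⟩ := to_x0 (b • x') h2.1 h2.2.1 h2.2.2
    have g1 : g • u0L = u0L := (Subgroup.mem_inf.1 hg).1
    have g2 : g • v0L = v0L := (Subgroup.mem_inf.1 hg).2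
    have g1' : g' • u0L = u0L := (Subgroup.mem_inf.1 hg').1
    have g2' : g' • v0L = v0L := (Subgroup.mem_inf.1 hg').2
    refine ⟨b⁻¹ * g'⁻¹ * g * b, ?_, ?_, ?_⟩
    · rw [mul_smul, hb1, mul_smul, g1, mul_smul, inv_smul_eq_iff, inv_smul_eq_iff, hb1, g1']
    · rw [mul_smul, hb2, mul_smul, g2, mul_smul, inv_smul_eq_iff, inv_smul_eq_iff, hb2, g2']
    · rw [mul_smul, mul_smul, mul_smul, h3, inv_smul_eq_iff, inv_smul_eq_iff, h4]

end Cfsg.Agent.S1580
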