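import Cfsg.Statements.S0310
-- import your own Cfsg.Agent.* helpers here

set_option autoImplicit false
open Cfsg

namespace Cfsg.Agent.S0310

theorem mem_dc {G : Type*} [Group G] (B : Subgroup G) (n g : G) :
    g ∈ DoubleCoset.doubleCoset n (B : Set G) B ↔ ∃ x ∈ B, ∃ y ∈ B, g = x * n * y := by
  rw [DoubleCoset.mem_doubleCoset]
  rfl

/-- left multiplication by a generator preserves the union of double cosets -/
theorem gen_mul {G : Type*} [Group G] (P : Cfsg.BNPair G) {J : Set G}
    (hJ : J ⊆ P.S) {s : G} (hs : s ∈ J) {g : G}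
    (hg : ∃ n ∈ Subgroup.closure J, g ∈ DoubleCoset.doubleCoset n (P.B : Set G) P.B) :
    ∃ n ∈ Subgroup.closure J, s * g ∈ DoubleCoset.doubleCoset n (P.B : Set G) P.B := by
  obtain ⟨n, hn, hg⟩ := hg
  rw [mem_dc] at hg
  obtain ⟨x, hx, y, hy, rfl⟩ := hg
  have hnN : n ∈ P.N := by
    have h1 : Subgroup.closure J ≤ P.N :=
      (Subgroup.closure_le _).2 (fun z hz => P.subset (hJ hz))
    exact h1 hn
  have hsJ : s ∈ Subgroup.closure J := Subgroup.subset_closure hs
  rcases P.mul_mem_union s (hJ hs) n hnN x hx with h | h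
  · rw [mem_dc] at h
    obtain ⟨u, hu, v, hv, h⟩ := h
    refine ⟨s * n, Subgroup.mul_mem _ hsJ hn, (mem_dc _ _ _).2 ⟨u, hu, v * y, P.B.mul_mem hv hy, ?_⟩⟩
    calc s * (x * n * y) = (s * x * n) * y := by group
      _ = _ := by rw [h]; group
  · rw [mem_dc] at h
    obtain ⟨u, hu, v, hv, h⟩ := h
    refine ⟨n, hn, (mem_dc _ _ _).2 ⟨u, hu, v * y, P.B.mul_mem hv hy, ?_⟩⟩
    calc s * (x * n * y) = (s * x * n) * y := by group
      _ = _ := by rw [h]; group

theorem b_mul {G : Type*} [Group G] (P : Cfsg.BNPair G) {J : Set G}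
    {b : G} (hb : b ∈ P.B) {g : G}
    (hg : ∃ n ∈ Subgroup.closure J, g ∈ DoubleCoset.doubleCoset n (P.B : Set G) P.B) :
    ∃ n ∈ Subgroup.closure J, b * g ∈ DoubleCoset.doubleCoset n (P.B : Set G) P.B := by
  obtain ⟨n, hn, hg⟩ := hg
  rw [mem_dc] at hg
  obtain ⟨x, hx, y, hy, rfl⟩ := hg
  exact ⟨n, hn, (mem_dc _ _ _).2 ⟨b * x, P.B.mul_mem hb hx, y, hy, by group⟩⟩

/-- For a set `J` of distinguished generators, the subgroup generated by `B` and `J` is exactly the union of
the double cosets `B n B` with `n` in the subgroup generated by `J` (so `B W_J B` is a subgroup). -/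
theorem result {G : Type*} [Group G] (P : Cfsg.BNPair G) {J : Set G}
    (hJ : J ⊆ P.S) (g : G) :
    g ∈ P.parabolic J ↔ ∃ n ∈ Subgroup.closure J, g ∈ DoubleCoset.doubleCoset n (P.B : Set G) P.B := by
  constructor
  · intro hg
    have hpar : P.parabolic J = Subgroup.closure ((P.B : Set G) ∪ J) := by
      show P.B ⊔ Subgroup.closure J = _
      rw [Subgroup.closure_union, Subgroup.closure_eq]
    rw [hpar] at hg
    induction hg using Subgroup.closure_induction_left with
    | one =>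
      exact ⟨1, Subgroup.one_mem _, (mem_dc _ _ _).2 ⟨1, P.B.one_mem, 1, P.B.one_mem, by group⟩⟩
    | mul_left x hx y hy ih =>
      rcases hx with hx | hx
      · exact b_mul P hx ih
      · exact gen_mul P hJ hx ih
    | inv_mul_cancel x hx y hy ih =>
      rcases hx with hx | hx
      · exact b_mul P (P.B.inv_mem hx) ih
      · have h1 := gen_mul P hJ hx ih
        have h2 := b_mul P (P.B.inv_mem (P.sq_mem x (hJ hx))) h1
        have h3 : (x * x)⁻¹ * (x * y) = x⁻¹ * y := by group
        rwa [h3] at h2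
  · rintro ⟨n, hn, hg⟩
    rw [mem_dc] at hg
    obtain ⟨x, hx, y, hy, rfl⟩ := hg
    have hB : P.B ≤ P.parabolic J := le_sup_left
    have hJ' : Subgroup.closure J ≤ P.parabolic J := le_sup_right
    exact Subgroup.mul_mem _ (Subgroup.mul_mem _ (hB hx) (hJ' hn)) (hB hy)

end Cfsg.Agent.S0310
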