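import Cfsg.Statements.S1100
import Cfsg.Agent.ChevalleyStructure.BruhatSplit
import Cfsg.Agent.S0308
import Cfsg.Agent.S0309
import Cfsg.Agent.S1036
import Cfsg.Agent.S1037
import Cfsg.Agent.S1038
import Cfsg.Agent.S1040
import Cfsg.Agent.S1042
import Cfsg.Agent.S1043

set_option autoImplicit false
open Cfsg

namespace Cfsg.Agent.S1100

open Cfsg.Lie Cfsg.Agent.ChevalleyStructure Cfsg.Agent.ChevalleyStructure.Elts
  Cfsg.Agent.ChevalleyStructure.BruhatSplit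

open scoped Pointwise

universe u

variable {D : ChevalleyDatum} {F : Type u} [Field F]

/-- elements of `B` are products `u h`. -/
theorem exists_mul_of_mem_borel (hD : InList D) {b : GL D.Idx F} (hb : b ∈ D.borelSubgroup F) :
    ∃ u ∈ D.posUnipotent F, ∃ h ∈ D.diagonalSubgroup F, b = u * h := by
  have hn := (Cfsg.Agent.S1036.result (F := F) D hD).1
  have h3 : ((D.posUnipotent F ⊔ D.diagonalSubgroup F : Subgroup (GL D.Idx F)) : Set (GL D.Idx F)) =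
      (D.posUnipotent F : Set (GL D.Idx F)) * (D.diagonalSubgroup F : Set (GL D.Idx F)) :=
    Subgroup.coe_mul_of_right_le_normalizer_left _ _ hn
  have h4 : b ∈ ((D.posUnipotent F ⊔ D.diagonalSubgroup F : Subgroup (GL D.Idx F)) : Set (GL D.Idx F)) := hb
  rw [h3] at h4
  obtain ⟨u, hu, h, hh, e⟩ := h4
  exact ⟨u, hu, h, hh, e.symm⟩

/-- conjugation by `n ∈ N` preserves `H`. -/
theorem conj_mem_diagonal (hD : InList D) {n h : GL D.Idx F} (hn : n ∈ D.monomialSubgroup F)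
    (hh : h ∈ D.diagonalSubgroup F) : n * h * n⁻¹ ∈ D.diagonalSubgroup F := by
  have hle := MonomialNormal.monomial_le_normalizer hD (SharpSign.sharp (F := F) hD) hn
  exact (Subgroup.mem_normalizer_iff.1 hle h).1 hh

/-- Bruhat decomposition `G = B N B` with explicit factors. -/
theorem exists_bruhat (hD : InList D) {g : GL D.Idx F} (hg : g ∈ D.group F) :
    ∃ b ∈ D.borelSubgroup F, ∃ n ∈ D.monomialSubgroup F, ∃ b' ∈ D.borelSubgroup F, g = b * n * b' := by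
  obtain ⟨P, hB, hN, -⟩ := Cfsg.Agent.S1042.result (F := F) D hD
  obtain ⟨n, hn, h⟩ := Cfsg.Agent.S0308.result P ⟨g, hg⟩
  rw [hN, Subgroup.mem_subgroupOf] at hn
  rw [DoubleCoset.mem_doubleCoset] at h
  obtain ⟨x, hx, y, hy, e⟩ := h
  rw [SetLike.mem_coe, hB, Subgroup.mem_subgroupOf] at hx hy
  exact ⟨x, hx, n, hn, y, hy, congrArg Subtype.val e⟩

/-- uniqueness of the class of `n` in the Bruhat decomposition. -/
theorem inv_mul_mem_of_bruhat (hD : InList D) {n n' b₁ b₂ b₁' b₂' : GL D.Idx F}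
    (hn : n ∈ D.monomialSubgroup F) (hn' : n' ∈ D.monomialSubgroup F)
    (h1 : b₁ ∈ D.borelSubgroup F) (h2 : b₂ ∈ D.borelSubgroup F) (h1' : b₁' ∈ D.borelSubgroup F)
    (h2' : b₂' ∈ D.borelSubgroup F) (h : b₁ * n * b₂ = b₁' * n' * b₂') : n⁻¹ * n' ∈ D.diagonalSubgroup F := by
  obtain ⟨P, hB, hN, -⟩ := Cfsg.Agent.S1042.result (F := F) D hD
  obtain ⟨hBG, hNG, -⟩ := Cfsg.Agent.S1043.result (F := F) D hD
  have hnP : (⟨n, hNG hn⟩ : ↥(D.group F)) ∈ P.N := by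
    rw [hN, Subgroup.mem_subgroupOf]
    exact hn
  have hnP' : (⟨n', hNG hn'⟩ : ↥(D.group F)) ∈ P.N := by
    rw [hN, Subgroup.mem_subgroupOf]
    exact hn'
  have hbP : ∀ b : GL D.Idx F, ∀ hb : b ∈ D.borelSubgroup F, (⟨b, hBG hb⟩ : ↥(D.group F)) ∈ P.B := by
    intro b hb
    rw [hB, Subgroup.mem_subgroupOf]
    exact hb
  have hmem : (⟨n, hNG hn⟩ : ↥(D.group F)) ∈
      DoubleCoset.doubleCoset (⟨n', hNG hn'⟩ : ↥(D.group F)) (P.B : Set ↥(D.group F)) P.B := by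
    rw [DoubleCoset.mem_doubleCoset]
    refine ⟨⟨b₁, hBG h1⟩⁻¹ * ⟨b₁', hBG h1'⟩, P.B.mul_mem (P.B.inv_mem (hbP _ h1)) (hbP _ h1'),
      ⟨b₂', hBG h2'⟩ * ⟨b₂, hBG h2⟩⁻¹, P.B.mul_mem (hbP _ h2') (P.B.inv_mem (hbP _ h2)), ?_⟩
    apply Subtype.ext
    show n = b₁⁻¹ * b₁' * n' * (b₂' * b₂⁻¹)
    calc n = b₁⁻¹ * (b₁ * n * b₂) * b₂⁻¹ := by group
      _ = b₁⁻¹ * (b₁' * n' * b₂') * b₂⁻¹ := by rw [h]
      _ = _ := by group
  have heq : DoubleCoset.doubleCoset (⟨n, hNG hn⟩ : ↥(D.group F)) (P.B : Set ↥(D.group F)) P.B =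
      DoubleCoset.doubleCoset (⟨n', hNG hn'⟩ : ↥(D.group F)) (P.B : Set ↥(D.group F)) P.B :=
    DoubleCoset.doubleCoset_eq_of_mem hmem
  have h3 := (Cfsg.Agent.S0309.result P hnP hnP').1 heq
  rw [hB, Subgroup.mem_subgroupOf] at h3
  have h4 : n⁻¹ * n' ∈ D.borelSubgroup F ⊓ D.monomialSubgroup F :=
    ⟨h3, Subgroup.mul_mem _ (Subgroup.inv_mem _ hn) hn'⟩
  rwa [(Cfsg.Agent.S1040.result (F := F) D hD).2] at h4

/-- Canonical form `g = b n_w u` (`b ∈ B`, `u ∈ U_w⁻ = ⟨X_r : r > 0, n_w X_r n_w⁻¹ ≤ V⟩`): such a decomposition exists for every element of the group; the coset `n_w H` is determined by `g`; and for a fixed representative `n_w` the factors `b`, `u` are unique. -/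
theorem result {F : Type*} [Field F] (D : Cfsg.Lie.ChevalleyDatum) (hD : D ∈ [Cfsg.Lie.chevG2, Cfsg.Lie.chevB2, Cfsg.Lie.chevD4, Cfsg.Lie.chevF4, Cfsg.Lie.chevE6, Cfsg.Lie.chevE7, Cfsg.Lie.chevE8]) :
    (∀ g ∈ D.group F, ∃ b ∈ D.borelSubgroup F, ∃ n ∈ D.monomialSubgroup F,
      ∃ u ∈ Subgroup.closure {x : GL D.Idx F | ∃ (r : ℕ) (t : F), D.IsPosRoot r ∧
            (D.rootSubgroup F r).map (MulAut.conj n).toMonoidHom ≤ D.negUnipotent F ∧ (x : Matrix D.Idx D.Idx F) = D.x F r t},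
        g = b * n * u) ∧
    (∀ (b b' n n' u u' : GL D.Idx F), b ∈ D.borelSubgroup F → b' ∈ D.borelSubgroup F →
      n ∈ D.monomialSubgroup F → n' ∈ D.monomialSubgroup F →
      u ∈ Subgroup.closure {x : GL D.Idx F | ∃ (r : ℕ) (t : F), D.IsPosRoot r ∧
            (D.rootSubgroup F r).map (MulAut.conj n).toMonoidHom ≤ D.negUnipotent F ∧ (x : Matrix D.Idx D.Idx F) = D.x F r t} →
      u' ∈ Subgroup.closure {x : GL D.Idx F | ∃ (r : ℕ) (t : F), D.IsPosRoot r ∧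
            (D.rootSubgroup F r).map (MulAut.conj n').toMonoidHom ≤ D.negUnipotent F ∧ (x : Matrix D.Idx D.Idx F) = D.x F r t} →
      b * n * u = b' * n' * u' → n⁻¹ * n' ∈ D.diagonalSubgroup F ∧ (n = n' → b = b' ∧ u = u')) := by
  refine ⟨fun g hg => ?_, ?_⟩
  · obtain ⟨b, hb, n, hn, b', hb', rfl⟩ := exists_bruhat hD hg
    obtain ⟨u', hu', h', hh', e⟩ := exists_mul_of_mem_borel hD (Subgroup.inv_mem _ hb')
    have e' : b' = h'⁻¹ * u'⁻¹ := by rw [← mul_inv_rev, ← e, inv_inv]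
    obtain ⟨a, ha, c, hc, hac, hna⟩ := split hD hn (Subgroup.inv_mem _ hu')
    have h1 := conj_mem_diagonal hD hn (Subgroup.inv_mem _ hh')
    refine ⟨b * (n * h'⁻¹ * n⁻¹) * (n * a * n⁻¹), Subgroup.mul_mem _ (Subgroup.mul_mem _ hb
      ((le_sup_right : D.diagonalSubgroup F ≤ _) h1)) ((le_sup_left : D.posUnipotent F ≤ _) hna), n, hn, c, hc, ?_⟩
    rw [e', hac]
    group
  · intro b b' n n' u u' hb hb' hn hn' hu hu' h
    have huB : u ∈ D.borelSubgroup F := (le_sup_left : D.posUnipotent F ≤ _) (Um_le n hu)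
    have huB' : u' ∈ D.borelSubgroup F := (le_sup_left : D.posUnipotent F ≤ _) (Um_le n' hu')
    refine ⟨inv_mul_mem_of_bruhat hD hn hn' hb huB hb' huB' h, ?_⟩
    rintro rfl
    have h1 : n * (u' * u⁻¹) * n⁻¹ ∈ D.negUnipotent F :=
      Um_conj_mem (Subgroup.mul_mem _ hu' (Subgroup.inv_mem _ hu))
    have h2 : n * (u' * u⁻¹) * n⁻¹ = b'⁻¹ * b := by
      calc n * (u' * u⁻¹) * n⁻¹ = b'⁻¹ * (b' * n * u') * u⁻¹ * n⁻¹ := by group
        _ = b'⁻¹ * (b * n * u) * u⁻¹ * n⁻¹ := by rw [h]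
        _ = b'⁻¹ * b := by group
    have h3 : b'⁻¹ * b ∈ D.borelSubgroup F ⊓ D.negUnipotent F :=
      ⟨Subgroup.mul_mem _ (Subgroup.inv_mem _ hb') hb, h2 ▸ h1⟩
    rw [(Cfsg.Agent.S1037.result (F := F) D hD).1, Subgroup.mem_bot] at h3
    have hbb : b = b' := (inv_mul_eq_one.1 h3).symm
    refine ⟨hbb, ?_⟩
    rw [hbb] at h
    exact mul_left_cancel h

end Cfsg.Agent.S1100
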