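import Cfsg.Statements.S0295
import Cfsg.Agent.LieClassical.OrthFinite
import Cfsg.Agent.LieClassical.OrthForms

set_option autoImplicit false
open Cfsg

namespace Cfsg.Agent.S0295

open Cfsg.Agent.LieClassical

/-- PΩ_{2m+1}(q), q odd, is simple for m at least 3. -/
theorem result {F : Type*} [Field F] [Fintype F] (hodd : Odd (Fintype.card F)) (m : ℕ) (hm : 3 ≤ m) : IsSimpleGroup (Cfsg.POmega F (Cfsg.quadFormOdd m F)) := by
  have h2 : (2 : F) ≠ 0 := by
    intro h2
    have hc2 : CharP F 2 := CharTwo.of_one_ne_zero_of_two_eq_zero one_ne_zero h2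
    have hr : ringChar F = 2 := ringChar.eq_iff.2 hc2
    have := FiniteField.even_card_of_char_two hr
    rw [Nat.odd_iff] at hodd
    omega
  rw [← OrthForms.coe_oddForm]
  apply OrthFinite.isSimpleGroup_POmega (OrthForms.nondeg_oddForm m F h2)
  rw [Fintype.card_sum, Fintype.card_sum, Fintype.card_fin]
  omega

end Cfsg.Agent.S0295
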