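import Cfsg.Statements.S0316
import Cfsg.Agent.LieExceptional.BNPairCore

set_option autoImplicit false
open Cfsg

namespace Cfsg.Agent.S0316

/-- Parabolic subgroups are monotone in the index set. -/
theorem parabolic_mono {G : Type*} [Group G] (P : Cfsg.BNPair G) {J K : Set G} (h : J ⊆ K) :
    P.parabolic J ≤ P.parabolic K :=
  sup_le_sup le_rfl (Subgroup.closure_mono h)

/-- `P_J ≤ P_K` exactly when `J ⊆ K`, for sets of distinguished generators. -/
theorem parabolic_le_iff {G : Type*} [Group G] (P : Cfsg.BNPair G) {J K : Set G}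
    (hJ : J ⊆ P.S) (hK : K ⊆ P.S) : P.parabolic J ≤ P.parabolic K ↔ J ⊆ K := by
  refine ⟨fun h s hs => ?_, parabolic_mono P⟩
  refine (Cfsg.Agent.LieExceptional.BNPairCore.mem_parabolic_gen_iff hK (hJ hs)).1 (h ?_)
  exact (Cfsg.Agent.LieExceptional.BNPairCore.mem_parabolic_gen_iff hJ (hJ hs)).2 hs

/-- The map `J ↦ P_J` is a lattice isomorphism from the power set of the set of distinguished generators onto the
subgroups containing `B`. -/
theorem result {G : Type*} [Group G] (P : Cfsg.BNPair G) :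
    ∃ e : Set P.S ≃o {M : Subgroup G // P.B ≤ M},
      ∀ J : Set P.S, ((e J : {M : Subgroup G // P.B ≤ M}) : Subgroup G) = P.parabolic (Subtype.val '' J) := by
  have hsub : ∀ J : Set P.S, (Subtype.val '' J : Set G) ⊆ P.S := by
    rintro J _ ⟨x, _, rfl⟩
    exact x.2
  let f : Set P.S → {M : Subgroup G // P.B ≤ M} := fun J => ⟨P.parabolic (Subtype.val '' J), le_sup_left⟩
  have hle : ∀ J K : Set P.S, f J ≤ f K ↔ J ≤ K := by
    intro J K
    change P.parabolic (Subtype.val '' J) ≤ P.parabolic (Subtype.val '' K) ↔ J ⊆ K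
    rw [parabolic_le_iff P (hsub J) (hsub K)]
    exact Set.image_subset_image_iff Subtype.val_injective
  have hsurj : Function.Surjective f := by
    rintro ⟨M, hM⟩
    have hJ : P.S ∩ (M : Set G) ⊆ P.S := Set.inter_subset_left
    refine ⟨Subtype.val ⁻¹' (P.S ∩ (M : Set G)), Subtype.ext ?_⟩
    change P.parabolic (Subtype.val '' (Subtype.val ⁻¹' (P.S ∩ (M : Set G)))) = M
    rw [Subtype.image_preimage_coe, Set.inter_eq_right.mpr hJ]
    exact (Cfsg.Agent.LieExceptional.BNPairCore.eq_parabolic hM).symm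
  let g : Set P.S ↪o {M : Subgroup G // P.B ≤ M} := OrderEmbedding.ofMapLEIff f hle
  exact ⟨RelIso.ofSurjective g hsurj, fun J => rfl⟩

end Cfsg.Agent.S0316
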