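import Cfsg.Statements.S0601
import Cfsg.Agent.PLocal.SylowFixed

set_option autoImplicit false
open Cfsg
open scoped Pointwise

namespace Cfsg.Agent.S0601

/-- The elements `x` of the centre of `H` with `x ^ p = 1`, as a subgroup. -/
def centerTorsion {G : Type*} [Group G] (p : ℕ) (H : Subgroup G) : Subgroup G where
  carrier := {x | x ∈ H ∧ x ∈ Subgroup.centralizer (H : Set G) ∧ x ^ p = 1}
  one_mem' := ⟨one_mem _, one_mem _, one_pow _⟩
  mul_mem' := by
    rintro a b ⟨ha, hac, hap⟩ ⟨hb, hbc, hbp⟩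
    refine ⟨mul_mem ha hb, mul_mem hac hbc, ?_⟩
    have hab : Commute a b := (Subgroup.mem_centralizer_iff.1 hbc a ha)
    rw [hab.mul_pow, hap, hbp, one_mul]
  inv_mem' := by
    rintro a ⟨ha, hac, hap⟩
    exact ⟨inv_mem ha, inv_mem hac, by rw [inv_pow, hap, inv_one]⟩

theorem mem_centerTorsion {G : Type*} [Group G] {p : ℕ} {H : Subgroup G} {x : G} :
    x ∈ centerTorsion p H ↔ x ∈ H ∧ x ∈ Subgroup.centralizer (H : Set G) ∧ x ^ p = 1 := Iff.rfl

/-- When O_p(G) contains its centralizer, the normal closure of Ω₁(Z(S)) is elementary abelian and G has no nontrivial normal p-subgroup modulo its centralizer. -/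
theorem result {G : Type*} [Group G] [Finite G] {p : ℕ} [Fact p.Prime] (hc : Subgroup.centralizer (Cfsg.pCore p G : Set G) ≤ Cfsg.pCore p G) : (⨆ S : Sylow p G, Cfsg.omegaOne p (((S : Subgroup G)) ⊓ Subgroup.centralizer ((S : Subgroup G) : Set G))).Normal ∧ Cfsg.IsElementaryAbelian p (⨆ S : Sylow p G, Cfsg.omegaOne p (((S : Subgroup G)) ⊓ Subgroup.centralizer ((S : Subgroup G) : Set G))) ∧ ∀ D : Subgroup G, D.Normal → Subgroup.centralizer ((⨆ S : Sylow p G, Cfsg.omegaOne p (((S : Subgroup G)) ⊓ Subgroup.centralizer ((S : Subgroup G) : Set G)) : Subgroup G) : Set G) ≤ D → (∃ k : ℕ, (Subgroup.centralizer ((⨆ S : Sylow p G, Cfsg.omegaOne p (((S : Subgroup G)) ⊓ Subgroup.centralizer ((S : Subgroup G) : Set G)) : Subgroup G) : Set G)).relIndex D = p ^ k) → D = Subgroup.centralizer ((⨆ S : Sylow p G, Cfsg.omegaOne p (((S : Subgroup G)) ⊓ Subgroup.centralizer ((S : Subgroup G) : Set G)) : Subgroup G) : Set G) := by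
  have hnormal : (⨆ S : Sylow p G, Cfsg.omegaOne p (((S : Subgroup G)) ⊓ Subgroup.centralizer ((S : Subgroup G) : Set G))).Normal := by
    constructor
    intro n hn g
    have h : (⨆ S : Sylow p G, Cfsg.omegaOne p (((S : Subgroup G)) ⊓ Subgroup.centralizer ((S : Subgroup G) : Set G))) ≤
        (⨆ S : Sylow p G, Cfsg.omegaOne p (((S : Subgroup G)) ⊓ Subgroup.centralizer ((S : Subgroup G) : Set G))).comap (MulAut.conj g).toMonoidHom := by
      refine iSup_le fun S => (Subgroup.closure_le _).2 ?_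
      rintro x ⟨⟨hxS, hxc⟩, hxp⟩
      change g * x * g⁻¹ ∈ (⨆ S : Sylow p G, Cfsg.omegaOne p (((S : Subgroup G)) ⊓ Subgroup.centralizer ((S : Subgroup G) : Set G)))
      refine Subgroup.mem_iSup_of_mem (g • S) (Subgroup.subset_closure ⟨⟨?_, ?_⟩, ?_⟩)
      · exact Subgroup.smul_mem_pointwise_smul x (MulAut.conj g) (S : Subgroup G) hxS
      · change g * x * g⁻¹ ∈ Subgroup.centralizer (((g • S : Sylow p G) : Subgroup G) : Set G)
        rw [Subgroup.mem_centralizer_iff]
        intro y hy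
        obtain ⟨z, hz, rfl⟩ := (hy : y ∈ MulAut.conj g • (S : Subgroup G))
        have := Subgroup.mem_centralizer_iff.1 hxc z hz
        simp only [MulDistribMulAction.toMonoidEnd_apply, MulDistribMulAction.toMonoidHom_apply, MulAut.smul_def, MulAut.conj_apply]
        calc g * z * g⁻¹ * (g * x * g⁻¹) = g * (z * x) * g⁻¹ := by group
          _ = g * (x * z) * g⁻¹ := by rw [this]
          _ = g * x * g⁻¹ * (g * z * g⁻¹) := by group
      · rw [conj_pow, hxp, mul_one, mul_inv_cancel]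
    exact h hn
  refine ⟨hnormal, ?_, ?_⟩
  · have hle : (⨆ S : Sylow p G, Cfsg.omegaOne p (((S : Subgroup G)) ⊓ Subgroup.centralizer ((S : Subgroup G) : Set G))) ≤ centerTorsion p (Cfsg.pCore p G) := by
      refine iSup_le fun S => (Subgroup.closure_le _).2 ?_
      rintro x ⟨⟨hxS, hxc⟩, hxp⟩
      have hS : Cfsg.pCore p G ≤ S := by
        refine sSup_le ?_
        rintro N ⟨hN, hNp⟩
        exact hNp.le_sylow_of_normal S
      have hx2 : x ∈ Subgroup.centralizer (Cfsg.pCore p G : Set G) :=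
        Subgroup.centralizer_le hS hxc
      exact ⟨hc hx2, hx2, hxp⟩
    refine ⟨⟨⟨?_⟩⟩, fun a ha => (hle ha).2.2⟩
    rintro ⟨a, ha⟩ ⟨b, hb⟩
    exact Subtype.ext (Subgroup.mem_centralizer_iff.1 (hle hb).2.1 a (hle ha).1)
  · intro D hD hCD hk
    refine le_antisymm ?_ hCD
    intro g hg
    refine PLocal.SylowFixed.mem_centralizer_of_forall
      (fun S : Sylow p G => Cfsg.omegaOne p (((S : Subgroup G)) ⊓ Subgroup.centralizer ((S : Subgroup G) : Set G)))
      (fun S : Sylow p G => (S : Subgroup G)) (fun S => ?_) (g := g) ?_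
    · refine (Subgroup.closure_le _).2 ?_
      rintro x ⟨⟨hxS, hxc⟩, hxp⟩
      exact hxc
    · intro S
      exact PLocal.SylowFixed.exists_mul_of_mem _ D hk S hg

end Cfsg.Agent.S0601
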