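import Cfsg.Statements.S0606
import Cfsg.Agent.PLocal.ElemAbSup
-- import your own Cfsg.Agent.* helpers here

set_option autoImplicit false
open Cfsg

namespace Cfsg.Agent.S0606

/-- Elementary abelian p-subgroups of maximal order are best offenders on any normal elementary abelian p-subgroup. -/
theorem result {G : Type*} [Group G] [Finite G] {p : ℕ} [Fact p.Prime] (V : Subgroup G) [V.Normal] (hV : Cfsg.IsElementaryAbelian p V) (A : Subgroup G) (hA : A ∈ Cfsg.maxElementaryAbelianSubgroups p G) : Cfsg.IsBestOffenderOn p V A := by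
  refine ⟨fun B hBA => Cfsg.Agent.PLocal.ElemAbSup.card_mul_card_centralizer_le hA hV hBA, ?_, ?_⟩
  · rw [Subgroup.commutator_le]
    intro a ha b hb
    have h1 : a * b = b * a := Cfsg.Agent.PLocal.ThompsonJ.isElementaryAbelian_comm hA.1 ha hb
    rw [commutatorElement_eq_one_iff_mul_comm.2 h1]
    exact Subgroup.one_mem _
  · intro a ha
    rw [Cfsg.Agent.PLocal.ThompsonJ.isElementaryAbelian_pow hA.1 ha]
    exact Subgroup.one_mem _

end Cfsg.Agent.S0606
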