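import Cfsg.Statements.S0611
import Cfsg.Agent.PLocal.OffenderStep
import Cfsg.Agent.PLocal.FFPair
import Cfsg.Agent.PLocal.CyclicCommutator

set_option autoImplicit false
open Cfsg

namespace Cfsg.Agent.S0611

/-- Minimal nontrivially-acting best offenders in such a faithful group have order p, commutator [V, B] of order p and fixed points of index p. -/
theorem result {G : Type*} [Group G] [Finite G] {p : ℕ} [Fact p.Prime] (V H : Subgroup G) (hV : Cfsg.IsElementaryAbelian p V) (hHV : H ≤ Subgroup.normalizer (V : Set G)) (hf : H ⊓ Subgroup.centralizer (V : Set G) = ⊥) (hS1 : Subgroup.centralizer (Cfsg.pPrimeCore p ↥H : Set ↥H) ≤ Cfsg.pPrimeCore p ↥H) (hS3 : H = ⨆ A : {A : Subgroup G // A ≤ H ∧ Cfsg.IsBestOffenderOn p V A}, (A : Subgroup G)) (hH1 : H ≠ ⊥) (A : Subgroup G) (hAH : A ≤ H) (hA : Cfsg.IsBestOffenderOn p V A) (hAV : ⁅V, A⁆ ≠ ⊥) (hmin : ∀ B : Subgroup G, B ≤ A → Cfsg.IsBestOffenderOn p V B → ⁅V, B⁆ ≠ ⊥ → B = A) : Nat.card A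 = p ∧ Nat.card ↥(⁅V, A⁆) = p ∧ ((V ⊓ Subgroup.centralizer (A : Set G))).relIndex V = p := by
  have hAe := Cfsg.Agent.PLocal.OffenderStep.isElementaryAbelian_of_isBestOffenderOn hf hAH hA
  have hA1 : A ≠ ⊥ := fun h =>
    hAV ((Cfsg.Agent.PLocal.FFPair.commutator_eq_bot_iff hf hAH).2 h)
  obtain ⟨a, ha, ha1⟩ : ∃ a ∈ A, a ≠ 1 := by
    obtain ⟨a, ha1⟩ := Subgroup.ne_bot_iff_exists_ne_one.1 hA1
    exact ⟨a, a.2, fun h' => ha1 (Subtype.ext h')⟩
  obtain ⟨B, hBA, hBi, haB, hB⟩ := Cfsg.Agent.PLocal.FFPair.exists_hyperplane_offender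
    V H hV hHV hf hS1 A hAH hA ha ha1
  have hB1 : B = ⊥ := by
    by_contra hne
    have h1 : ⁅V, B⁆ ≠ ⊥ := fun h =>
      hne ((Cfsg.Agent.PLocal.FFPair.commutator_eq_bot_iff hf (hBA.trans hAH)).1 h)
    have h2 := hmin B hBA hB h1
    rw [h2] at haB
    exact haB ha
  have hAp : Nat.card A = p := by
    rw [hB1, Subgroup.relIndex_bot_left] at hBi
    exact hBi
  have hcard := Cfsg.Agent.PLocal.FFPair.card_mul_card_eq V H hV hHV hf hS1 A hAH hA
  rw [hAp] at hcard
  have hpos : 0 < Nat.card ↥(V ⊓ Subgroup.centralizer (A : Set G)) := Nat.card_pos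
  have haA : Subgroup.zpowers a = A := by
    have h1 : Subgroup.zpowers a ≤ A := by
      rw [Subgroup.zpowers_le]; exact ha
    refine Subgroup.eq_of_le_of_card_ge h1 ?_
    have h2 : Nat.card (Subgroup.zpowers a) ∣ p := by
      rw [← hAp]; exact Subgroup.card_dvd_of_le h1
    have h3 : Nat.card (Subgroup.zpowers a) ≠ 1 := by
      rw [Nat.card_zpowers]
      intro h
      exact ha1 (orderOf_eq_one_iff.1 h)
    rw [hAp]
    exact ((Nat.Prime.eq_one_or_self_of_dvd (Fact.out : p.Prime) _ h2).resolve_left h3).ge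
  refine ⟨hAp, ?_, ?_⟩
  · have h1 := Cfsg.Agent.PLocal.CyclicCommutator.card_commutator_zpowers_mul V
      (Cfsg.Agent.PLocal.OffenderStep.comm_of_isElementaryAbelian hV) a (hHV (hAH ha))
    rw [haA, ← hcard] at h1
    exact Nat.eq_of_mul_eq_mul_right hpos h1
  · have h1 : (V ⊓ Subgroup.centralizer (A : Set G)).relIndex V *
        Nat.card ↥(V ⊓ Subgroup.centralizer (A : Set G)) = Nat.card V := by
      rw [mul_comm]
      have h2 := Subgroup.relIndex_mul_relIndex ⊥ (V ⊓ Subgroup.centralizer (A : Set G)) V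
        bot_le inf_le_left
      rwa [Subgroup.relIndex_bot_left, Subgroup.relIndex_bot_left] at h2
    rw [← hcard] at h1
    exact Nat.eq_of_mul_eq_mul_right hpos h1

end Cfsg.Agent.S0611
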