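import Cfsg.Statements.S0612
import Cfsg.Agent.PLocal.FFPair
import Cfsg.Agent.PLocal.OffenderProduct

set_option autoImplicit false
open Cfsg

namespace Cfsg.Agent.S0612

/-- In such a faithful group every nontrivial best offender decomposes as a direct product of minimal nontrivially-acting best offenders. -/
theorem result {G : Type*} [Group G] [Finite G] {p : ℕ} [Fact p.Prime] (V H : Subgroup G) (hV : Cfsg.IsElementaryAbelian p V) (hHV : H ≤ Subgroup.normalizer (V : Set G)) (hf : H ⊓ Subgroup.centralizer (V : Set G) = ⊥) (hS1 : Subgroup.centralizer (Cfsg.pPrimeCore p ↥H : Set ↥H) ≤ Cfsg.pPrimeCore p ↥H) (hS3 : H = ⨆ A : {A : Subgroup G // A ≤ H ∧ Cfsg.IsBestOffenderOn p V A}, (A : Subgroup G)) (hH1 : H ≠ ⊥) (A : Subgroup G) (hAH : A ≤ H) (hA : Cfsg.IsBestOffenderOn p V A) (hA1 : A ≠ ⊥) : ∃ (k : ℕ) (B : Fin k → Subgroup G), (∀ i, B i ≤ A ∧ Cfsg.IsBestOffenderOn p V (B i) ∧ ⁅V, B i⁆ ≠ ⊥ ∧ ∀ C : Subgroup G, C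 ≤ B i → Cfsg.IsBestOffenderOn p V C → ⁅V, C⁆ ≠ ⊥ → C = B i) ∧ iSupIndep B ∧ ⨆ i, B i = A := by
  obtain ⟨k, B, hBM, hind, hsup⟩ := Cfsg.Agent.PLocal.OffenderProduct.exists_independent_family
    (p := p) (fun C hC => hC.2.2)
    (Cfsg.Agent.PLocal.OffenderProduct.sSup_order_p V H hV hHV hf hS1 A hAH hA)
  refine ⟨k, B, fun i => ?_, hind, hsup⟩
  obtain ⟨hBA, hBo, hBp⟩ := hBM i
  refine ⟨hBA, hBo, ?_, ?_⟩
  · intro h
    have h1 := (Cfsg.Agent.PLocal.FFPair.commutator_eq_bot_iff hf (hBA.trans hAH)).1 h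
    rw [h1, Subgroup.card_bot] at hBp
    exact (Fact.out : p.Prime).one_lt.ne hBp
  · intro C hCB _ hVC
    have h1 : Nat.card C ∣ p := by
      rw [← hBp]; exact Subgroup.card_dvd_of_le hCB
    rcases (Nat.dvd_prime (Fact.out : p.Prime)).1 h1 with h2 | h2
    · exfalso
      apply hVC
      rw [Subgroup.card_eq_one.1 h2]
      exact Subgroup.commutator_bot_right V
    · exact Subgroup.eq_of_le_of_card_ge hCB (by rw [h2, hBp])

end Cfsg.Agent.S0612
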