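import Cfsg.Statements.S0613
import Cfsg.Agent.S0611
import Cfsg.Agent.Lib.Cores
import Cfsg.Agent.PLocal.TransvectionPair
import Cfsg.Agent.PLocal.SL2Perfect

set_option autoImplicit false
open Cfsg

namespace Cfsg.Agent.S0613

open Subgroup
open scoped commutatorElement

/-- `E = ⟨A, A^x⟩` for `x` in the `p'`-core `Q` of `H`, `A` abelian: `[E, E] ≤ Q`. -/
theorem commutator_le {G : Type*} [Group G] [Finite G] {p : ℕ} (H A : Subgroup G)
    (hAH : A ≤ H) (hAc : ∀ a ∈ A, ∀ b ∈ A, a * b = b * a) (x : G)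
    (hx : x ∈ ((Cfsg.pPrimeCore p ↥H).map H.subtype)) :
    ⁅A ⊔ A.map (MulAut.conj x).toMonoidHom, A ⊔ A.map (MulAut.conj x).toMonoidHom⁆ ≤
      (Cfsg.pPrimeCore p ↥H).map H.subtype := by
  obtain ⟨x', hx', rfl⟩ := hx
  have hn : (pPrimeCore p H).Normal := Cfsg.Agent.Lib.Cores.pPrimeCore_normal p
  let π : H →* H ⧸ pPrimeCore p H := QuotientGroup.mk' (pPrimeCore p H)
  have hπx : π x' = 1 := (QuotientGroup.eq_one_iff x').mpr hx'
  have hE : A ⊔ A.map (MulAut.conj (H.subtype x')).toMonoidHom ≤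
      ((((A.subgroupOf H).map π).comap π).map H.subtype) := by
    refine sup_le ?_ ?_
    · intro a ha
      exact ⟨⟨a, hAH ha⟩, ⟨⟨a, hAH ha⟩, ha, rfl⟩, rfl⟩
    · rintro _ ⟨a, ha, rfl⟩
      refine ⟨x' * ⟨a, hAH ha⟩ * x'⁻¹, ⟨⟨a, hAH ha⟩, ha, ?_⟩, rfl⟩
      rw [map_mul, map_mul, map_inv, hπx]
      simp
  rw [Subgroup.commutator_le]
  intro g1 hg1 g2 hg2
  obtain ⟨h1, ⟨a1, ha1, he1⟩, rfl⟩ := hE hg1
  obtain ⟨h2, ⟨a2, ha2, he2⟩, rfl⟩ := hE hg2
  refine ⟨⁅h1, h2⁆, ?_, by rw [map_commutatorElement]⟩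
  have h3 : π ⁅h1, h2⁆ = 1 := by
    rw [map_commutatorElement, ← he1, ← he2, ← map_commutatorElement]
    have h4 : ⁅a1, a2⁆ = 1 := by
      rw [commutatorElement_eq_one_iff_mul_comm]
      exact Subtype.ext (hAc a1 ha1 a2 ha2)
    rw [h4, map_one]
  exact (QuotientGroup.eq_one_iff _).mp h3

/-- A minimal nontrivially-acting best offender and a conjugate of it under a non-centralizing element of the p'-core generate SL(2, p) acting naturally on a plane, and p is 2 or 3. -/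
theorem result {G : Type*} [Group G] [Finite G] {p : ℕ} [Fact p.Prime] (V H : Subgroup G) (hV : Cfsg.IsElementaryAbelian p V) (hHV : H ≤ Subgroup.normalizer (V : Set G)) (hf : H ⊓ Subgroup.centralizer (V : Set G) = ⊥) (hS1 : Subgroup.centralizer (Cfsg.pPrimeCore p ↥H : Set ↥H) ≤ Cfsg.pPrimeCore p ↥H) (hS3 : H = ⨆ A : {A : Subgroup G // A ≤ H ∧ Cfsg.IsBestOffenderOn p V A}, (A : Subgroup G)) (hH1 : H ≠ ⊥) (A : Subgroup G) (hAH : A ≤ H) (hA : Cfsg.IsBestOffenderOn p V A) (hAV : ⁅V, A⁆ ≠ ⊥) (hmin : ∀ B : Subgroup G, B ≤ A → Cfsg.IsBestOffenderOn p V B → ⁅V, B⁆ ≠ ⊥ → B = A) (x : G) (hx : x ∈ ((Cfsg.pPrimeCore p ↥H).map H.subtype)) (hxA : x ∉ Subgroup.centralizer (A : Set G)) : (p = 2 ∨ p = 3) ∧ Nat.card ↥(⁅V, A ⊔ A.map (MulAut.conj x).toMonoidHom⁆) = p ^ 2 ∧ (A ⊔ A.map (MulAut.conj x).toMonoidHom) ⊓ Subgroup.centralizer ((⁅V, A ⊔ A.map (MulAut.conj x).toMonoidHom⁆ : Subgroup G) : Set G) = ⊥ ∧ Nonempty (↥(A ⊔ A.map (MulAut.conj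 x).toMonoidHom) ≃* Matrix.SpecialLinearGroup (Fin 2) (ZMod p)) := by
  have hp : p.Prime := Fact.out
  obtain ⟨cA, cVA, iA⟩ := Cfsg.Agent.S0611.result V H hV hHV hf hS1 hS3 hH1 A hAH hA hAV hmin
  have hQn : (pPrimeCore p H).Normal := Cfsg.Agent.Lib.Cores.pPrimeCore_normal p
  have hQc : (Nat.card (pPrimeCore p H)).Coprime p := Cfsg.Agent.Lib.Cores.pPrimeCore_coprime p
  have hxH : x ∈ H := by
    obtain ⟨x', -, rfl⟩ := hx
    exact x'.2
  have hinj : Function.Injective (MulAut.conj x).toMonoidHom := (MulAut.conj x).injective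
  have hApg : IsPGroup p A := IsPGroup.of_card (n := 1) (by rw [cA, pow_one])
  have hAc : ∀ a ∈ A, ∀ b ∈ A, a * b = b * a := by
    have : IsCyclic A := isCyclic_of_prime_card cA
    intro a ha b hb
    exact congrArg Subtype.val (IsCyclic.isMulCommutative.is_comm.comm (⟨a, ha⟩ : A) ⟨b, hb⟩)
  -- the conjugate
  obtain ⟨B, hB⟩ : ∃ B, B = A.map (MulAut.conj x).toMonoidHom := ⟨_, rfl⟩
  have hVx : V.map (MulAut.conj x).toMonoidHom = V := mem_normalizer_iff_map_conj_eq.mp (hHV hxH)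
  have hHx : H.map (MulAut.conj x).toMonoidHom = H :=
    mem_normalizer_iff_map_conj_eq.mp (H.le_normalizer hxH)
  have hBH : B ≤ H := by
    rw [hB, ← hHx]; exact map_mono hAH
  have hBpg : IsPGroup p B := by rw [hB]; exact hApg.map _
  have cVB : Nat.card ↥⁅V, B⁆ = p := by
    rw [hB]
    conv_lhs => rw [← hVx]
    rw [← map_commutator, ← cVA]
    exact Nat.card_congr (⁅V, A⁆.equivMapOfInjective _ hinj).symm.toEquiv
  have hcB : V ⊓ centralizer (B : Set G) =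
      (V ⊓ centralizer (A : Set G)).map (MulAut.conj x).toMonoidHom := by
    rw [map_inf _ _ _ hinj, hVx]
    congr 1
    rw [hB]
    ext g
    constructor
    · intro hg
      refine ⟨x⁻¹ * g * x, ?_, by simp [mul_assoc]⟩
      rw [SetLike.mem_coe, mem_centralizer_iff]
      intro a ha
      have h1 := mem_centralizer_iff.mp hg (x * a * x⁻¹) ⟨a, ha, rfl⟩
      have h2 : x * (a * (x⁻¹ * g * x)) * x⁻¹ = x * (x⁻¹ * g * x * a) * x⁻¹ := by
        calc x * (a * (x⁻¹ * g * x)) * x⁻¹ = x * a * x⁻¹ * g := by group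
          _ = g * (x * a * x⁻¹) := h1
          _ = x * (x⁻¹ * g * x * a) * x⁻¹ := by group
      exact mul_left_cancel (mul_right_cancel h2)
    · rintro ⟨h, hh, rfl⟩
      rw [mem_centralizer_iff]
      rintro _ ⟨a, ha, rfl⟩
      have h1 := mem_centralizer_iff.mp hh a ha
      have h2 : (MulAut.conj x).toMonoidHom (a * h) = (MulAut.conj x).toMonoidHom (h * a) := by
        rw [h1]
      rwa [map_mul, map_mul] at h2
  have iB : (V ⊓ centralizer (B : Set G)).relIndex V = p := by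
    have h1 := relIndex_map_map_of_injective (V ⊓ centralizer (A : Set G)) V hinj
    rwa [hVx, iA, ← hcB] at h1
  have hcomm := commutator_le (p := p) H A hAH hAc x hx
  rw [← hB] at hcomm ⊢
  have hEH : A ⊔ B ≤ H := sup_le hAH hBH
  have hfE : (A ⊔ B) ⊓ centralizer (V : Set G) = ⊥ := by
    rw [eq_bot_iff, ← hf]
    exact inf_le_inf hEH le_rfl
  have hcop : ∀ (P : Subgroup G), IsPGroup p P →
      P ⊓ ((pPrimeCore p ↥H).map H.subtype) = ⊥ := by
    intro P hP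
    obtain ⟨n, hn⟩ := IsPGroup.iff_card.mp hP
    apply disjoint_iff.mp
    apply disjoint_of_coprime_natCard
    rw [hn, Nat.card_congr ((pPrimeCore p ↥H).equivMapOfInjective _ H.subtype_injective).symm.toEquiv]
    exact (Nat.Coprime.pow_right n hQc).symm
  have hnp : ¬ IsPGroup p ↥(A ⊔ B) := by
    intro hE
    apply hxA
    rw [mem_centralizer_iff]
    intro a ha
    have h1 : x * a * x⁻¹ * a⁻¹ ∈ (A ⊔ B) ⊓ ((pPrimeCore p ↥H).map H.subtype) := by
      refine mem_inf.mpr ⟨?_, ?_⟩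
      · refine mul_mem (mem_sup_right ?_) (mem_sup_left (inv_mem ha))
        rw [hB]
        exact ⟨a, ha, rfl⟩
      · obtain ⟨x', hx', rfl⟩ := hx
        refine ⟨x' * (⟨a, hAH ha⟩ * x'⁻¹ * (⟨a, hAH ha⟩ : H)⁻¹), ?_, ?_⟩
        · exact mul_mem hx' (hQn.conj_mem _ (inv_mem hx') _)
        · simp [mul_assoc]
    rw [hcop _ hE, mem_bot, mul_inv_eq_one, mul_inv_eq_iff_eq_mul] at h1
    exact h1.symm
  obtain ⟨r1, -, -, r2, r3⟩ := Cfsg.Agent.PLocal.TransvectionPair.transvection_pair V A B hV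
    (hAH.trans hHV) (hBH.trans hHV) hApg hBpg cVA cVB iA iB hfE hnp
  refine ⟨?_, r1, r2, r3⟩
  by_contra h23
  push Not at h23
  obtain ⟨φ⟩ := r3
  have hperf := Cfsg.Agent.PLocal.SL2Perfect.commutator_eq_top (p := p) h23.1 h23.2
  have hperfE : ⁅A ⊔ B, A ⊔ B⁆ = A ⊔ B := by
    have h1 : commutator ↥(A ⊔ B) = ⊤ := by
      have h2 : (commutator ↥(A ⊔ B)).map φ.toMonoidHom = ⊤ := by
        rw [_root_.commutator_def, map_commutator, ← MonoidHom.range_eq_map,
          MonoidHom.range_eq_top.mpr φ.surjective]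
        exact hperf
      rw [eq_top_iff]
      intro e _
      have h3 : φ e ∈ (commutator ↥(A ⊔ B)).map φ.toMonoidHom := by rw [h2]; exact mem_top _
      obtain ⟨e', he', he⟩ := h3
      rwa [← φ.injective he]
    have h4 := congrArg (Subgroup.map (A ⊔ B).subtype) h1
    rw [_root_.commutator_def, map_commutator, ← MonoidHom.range_eq_map, range_subtype] at h4
    exact h4
  rw [hperfE] at hcomm
  have h5 : A ≤ A ⊓ ((pPrimeCore p ↥H).map H.subtype) := le_inf le_rfl (le_sup_left.trans hcomm)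
  rw [hcop A hApg, le_bot_iff] at h5
  rw [h5, card_bot] at cA
  exact hp.one_lt.ne cA

end Cfsg.Agent.S0613
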