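import Cfsg.Statements.S0616
import Cfsg.Agent.PLocal.FFMin

set_option autoImplicit false
open Cfsg

namespace Cfsg.Agent.S0616

open Cfsg.Agent.PLocal.FFPlane Cfsg.Agent.PLocal.FFMin

/-- Each minimal nontrivially-acting best offender spans, with its commutator on the p'-core, a direct factor E of H isomorphic to SL(2, p) with a 2-dimensional commutator module complementing C_V(E). -/
theorem result {G : Type*} [Group G] [Finite G] {p : ℕ} [Fact p.Prime] (V H : Subgroup G) (hV : Cfsg.IsElementaryAbelian p V) (hHV : H ≤ Subgroup.normalizer (V : Set G)) (hf : H ⊓ Subgroup.centralizer (V : Set G) = ⊥) (hS1 : Subgroup.centralizer (Cfsg.pPrimeCore p ↥H : Set ↥H) ≤ Cfsg.pPrimeCore p ↥H) (hS3 : H = ⨆ A : {A : Subgroup G // A ≤ H ∧ Cfsg.IsBestOffenderOn p V A}, (A : Subgroup G)) (hH1 : H ≠ ⊥) (A : Subgroup G) (hAH : A ≤ H) (hA : Cfsg.IsBestOffenderOn p V A) (hAV : ⁅V, A⁆ ≠ ⊥) (hmin : ∀ B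 : Subgroup G, B ≤ A → Cfsg.IsBestOffenderOn p V B → ⁅V, B⁆ ≠ ⊥ → B = A) : (p = 2 ∨ p = 3) ∧ Nonempty (↥(⁅((Cfsg.pPrimeCore p ↥H).map H.subtype), A⁆ ⊔ A) ≃* Matrix.SpecialLinearGroup (Fin 2) (ZMod p)) ∧ Nat.card ↥(⁅V, ⁅((Cfsg.pPrimeCore p ↥H).map H.subtype), A⁆ ⊔ A⁆) = p ^ 2 ∧ ⁅V, ⁅((Cfsg.pPrimeCore p ↥H).map H.subtype), A⁆ ⊔ A⁆ ⊓ (V ⊓ Subgroup.centralizer ((⁅((Cfsg.pPrimeCore p ↥H).map H.subtype), A⁆ ⊔ A : Subgroup G) : Set G)) = ⊥ ∧ ⁅V, ⁅((Cfsg.pPrimeCore p ↥H).map H.subtype), A⁆ ⊔ A⁆ ⊔ (V ⊓ Subgroup.centralizer ((⁅((Cfsg.pPrimeCore p ↥H).map H.subtype), A⁆ ⊔ A : Subgroup G) : Set G)) = V ∧ ⁅⁅((Cfsg.pPrimeCore p ↥H).map H.subtype), A⁆ ⊔ A, H ⊓ Subgroup.centralizer ((⁅V, ⁅((Cfsg.pPrimeCore p ↥H).map H.subtype), A⁆ ⊔ A⁆ : Subgroup G) : Set G)⁆ = ⊥ ∧ (⁅((Cfsg.pPrimeCore p ↥H).map H.subtype), A⁆ ⊔ A) ⊓ (H ⊓ Subgroup.centralizer ((⁅V, ⁅((Cfsg.pPrimeCore p ↥H).map H.subtype), A⁆ ⊔ A⁆ :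 Subgroup G) : Set G)) = ⊥ ∧ (⁅((Cfsg.pPrimeCore p ↥H).map H.subtype), A⁆ ⊔ A) ⊔ (H ⊓ Subgroup.centralizer ((⁅V, ⁅((Cfsg.pPrimeCore p ↥H).map H.subtype), A⁆ ⊔ A⁆ : Subgroup G) : Set G)) = H ∧ ⁅V, H ⊓ Subgroup.centralizer ((⁅V, ⁅((Cfsg.pPrimeCore p ↥H).map H.subtype), A⁆ ⊔ A⁆ : Subgroup G) : Set G)⁆ ≤ V ⊓ Subgroup.centralizer ((⁅((Cfsg.pPrimeCore p ↥H).map H.subtype), A⁆ ⊔ A : Subgroup G) : Set G) := by
  have hM : IsMin p V H A := ⟨hAH, hA, hAV, hmin⟩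
  obtain ⟨P, hp, hiso⟩ := isPlane_of_isMin hV hHV hf hS1 hS3 hH1 hM
  have hVc := Cfsg.Agent.PLocal.OffenderStep.comm_of_isElementaryAbelian hV
  set Q := (Cfsg.pPrimeCore p ↥H).map H.subtype with hQ
  have hQH : Q ≤ H := core_le p H
  set E := ⁅Q, A⁆ ⊔ A with hE
  set W := ⁅V, E⁆ with hW
  set F := H ⊓ Subgroup.centralizer (W : Set G) with hF
  have hEH : E ≤ H := sup_le (P.leQ.trans hQH) hAH
  -- every minimal best offender lies in `E` or centralizes `E` and `W`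
  have hdich : ∀ B, IsMin p V H B → B ≤ E ∨
      (B ≤ Subgroup.centralizer (E : Set G) ∧ B ≤ Subgroup.centralizer (W : Set G)) := by
    intro B hB
    obtain ⟨PB, -, -⟩ := isPlane_of_isMin hV hHV hf hS1 hS3 hH1 hB
    rcases P.dichotomy PB hVc hQH hAH hB.le hf with ⟨-, h⟩ | ⟨-, h1, -, h2⟩
    · left
      rw [hE, h]
      exact le_sup_right
    · right
      exact ⟨le_sup_right.trans h2, le_sup_right.trans h1⟩
  have hHE : H ≤ Subgroup.normalizer (E : Set G) := by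
    refine le_of_forall_isMin hV hHV hf hS1 hS3 hH1 fun B hB => ?_
    rcases hdich B hB with h | ⟨h, -⟩
    · exact h.trans Subgroup.le_normalizer
    · exact h.trans (Subgroup.centralizer_le_normalizer (E : Set G))
  have hHEF : H ≤ E ⊔ F := by
    refine le_of_forall_isMin hV hHV hf hS1 hS3 hH1 fun B hB => ?_
    rcases hdich B hB with h | ⟨-, h⟩
    · exact h.trans le_sup_left
    · exact (le_inf hB.le h).trans le_sup_right
  have hHW : H ≤ Subgroup.normalizer (W : Set G) := le_normalizer_commutator hHV hHE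
  have hHF : H ≤ Subgroup.normalizer (F : Set G) :=
    le_normalizer_inf Subgroup.le_normalizer (le_normalizer_centralizer hHW)
  have hEF : E ⊓ F = ⊥ := by
    rw [eq_bot_iff, ← P.faith]
    exact inf_le_inf_left _ inf_le_right
  have hcomm : ⁅E, F⁆ = ⊥ := by
    rw [eq_bot_iff, ← hEF]
    refine le_inf (commutator_le_of_le_normalizer (inf_le_left.trans hHE)) ?_
    rw [Subgroup.commutator_comm]
    exact commutator_le_of_le_normalizer (hEH.trans hHF)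
  refine ⟨hp, hiso, P.card, ?_, P.supC, hcomm, hEF, le_antisymm (sup_le hEH inf_le_left) hHEF, ?_⟩
  · rw [eq_bot_iff, ← P.infC]
    exact inf_le_inf_left _ inf_le_right
  · refine le_inf (commutator_le_of_le_normalizer (inf_le_left.trans hHV)) ?_
    rw [← Subgroup.commutator_eq_bot_iff_le_centralizer]
    refine Subgroup.commutator_commutator_eq_bot_of_rotate ?_ ?_
    · rw [Subgroup.commutator_comm F E, hcomm, Subgroup.commutator_bot_left]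
    · rw [Subgroup.commutator_comm E V, Subgroup.commutator_eq_bot_iff_le_centralizer,
        Subgroup.le_centralizer_iff]
      exact inf_le_right

end Cfsg.Agent.S0616
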