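import Cfsg.Statements.S0617
import Mathlib
import Cfsg.Agent.PLocal.FailureStructure
import Cfsg.Agent.S0611
import Cfsg.Agent.S0612
import Cfsg.Agent.S0616

set_option autoImplicit false
open Cfsg

namespace Cfsg.Agent.S0617

/-- Structure Theorem for failure of factorization: a faithful group generated by best offenders, with self-centralizing p'-core, is a direct product of copies of SL(2, p) (p = 2 or 3), each acting on its own plane in V, which is the direct product of these planes and C_V(H). -/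
theorem result {G : Type*} [Group G] [Finite G] {p : ℕ} [Fact p.Prime] (V H : Subgroup G) (hV : Cfsg.IsElementaryAbelian p V) (hHV : H ≤ Subgroup.normalizer (V : Set G)) (hf : H ⊓ Subgroup.centralizer (V : Set G) = ⊥) (hS1 : Subgroup.centralizer (Cfsg.pPrimeCore p ↥H : Set ↥H) ≤ Cfsg.pPrimeCore p ↥H) (hS3 : H = ⨆ A : {A : Subgroup G // A ≤ H ∧ Cfsg.IsBestOffenderOn p V A}, (A : Subgroup G)) (hH1 : H ≠ ⊥) : (p = 2 ∨ p = 3) ∧ (∀ E : {E : Subgroup G // ∃ A : Subgroup G, A ≤ H ∧ Cfsg.IsBestOffenderOn p V A ∧ ⁅V, A⁆ ≠ ⊥ ∧ (∀ B : Subgroup G, B ≤ A → Cfsg.IsBestOffenderOn p V B → ⁅V, B⁆ ≠ ⊥ → B = A) ∧ E = ⁅((Cfsg.pPrimeCore p ↥H).map H.subtype), A⁆ ⊔ A}, H ≤ Subgroup.normalizer ((E : Subgroup G) : Set G) ∧ Nonempty (↥(E : Subgroup G) ≃* Matrix.SpecialLinearGroup (Fin 2) (ZMod p)) ∧ Nat.card ↥(⁅V, (E : Subgroup G)⁆) = p ^ 2) ∧ iSupIndep (fun E : {E : Subgroup G // ∃ A : Subgroup G, A ≤ H ∧ Cfsg.IsBestOffenderOn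 p V A ∧ ⁅V, A⁆ ≠ ⊥ ∧ (∀ B : Subgroup G, B ≤ A → Cfsg.IsBestOffenderOn p V B → ⁅V, B⁆ ≠ ⊥ → B = A) ∧ E = ⁅((Cfsg.pPrimeCore p ↥H).map H.subtype), A⁆ ⊔ A} => (E : Subgroup G)) ∧ (⨆ E : {E : Subgroup G // ∃ A : Subgroup G, A ≤ H ∧ Cfsg.IsBestOffenderOn p V A ∧ ⁅V, A⁆ ≠ ⊥ ∧ (∀ B : Subgroup G, B ≤ A → Cfsg.IsBestOffenderOn p V B → ⁅V, B⁆ ≠ ⊥ → B = A) ∧ E = ⁅((Cfsg.pPrimeCore p ↥H).map H.subtype), A⁆ ⊔ A}, (E : Subgroup G)) = H ∧ iSupIndep (fun o : Option {E : Subgroup G // ∃ A : Subgroup G, A ≤ H ∧ Cfsg.IsBestOffenderOn p V A ∧ ⁅V, A⁆ ≠ ⊥ ∧ (∀ B : Subgroup G, B ≤ A → Cfsg.IsBestOffenderOn p V B → ⁅V, B⁆ ≠ ⊥ → B = A) ∧ E = ⁅((Cfsg.pPrimeCore p ↥H).map H.subtype), A⁆ ⊔ A} => o.elim (V ⊓ Subgroup.centralizer (H : Set G)) (fun E => ⁅V, (E : Subgroup G)⁆)) ∧ (V ⊓ Subgroup.centralizer (H : Set G)) ⊔ (⨆ E : {E : Subgroup G // ∃ A : Subgroup G, A ≤ H ∧ Cfsg.IsBestOffenderOn p V A ∧ ⁅V, A⁆ ≠ ⊥ ∧ (∀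 B : Subgroup G, B ≤ A → Cfsg.IsBestOffenderOn p V B → ⁅V, B⁆ ≠ ⊥ → B = A) ∧ E = ⁅((Cfsg.pPrimeCore p ↥H).map H.subtype), A⁆ ⊔ A}, ⁅V, (E : Subgroup G)⁆) = V := by
  classical
  have hVab : IsMulCommutative V := hV.1
  -- the subtype
  set Q : Subgroup G := (Cfsg.pPrimeCore p ↥H).map H.subtype with hQ
  set ι := {E : Subgroup G // ∃ A : Subgroup G, A ≤ H ∧ Cfsg.IsBestOffenderOn p V A ∧ ⁅V, A⁆ ≠ ⊥ ∧
    (∀ B : Subgroup G, B ≤ A → Cfsg.IsBestOffenderOn p V B → ⁅V, B⁆ ≠ ⊥ → B = A) ∧ E = ⁅Q, A⁆ ⊔ A} with hι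
  have hQH : Q ≤ H := by
    rw [hQ]; exact Subgroup.map_subtype_le _
  -- facts from S0616
  have hfacts := fun (A : Subgroup G) (h1 : A ≤ H) (h2 : Cfsg.IsBestOffenderOn p V A) (h3 : ⁅V, A⁆ ≠ ⊥)
    (h4 : ∀ B : Subgroup G, B ≤ A → Cfsg.IsBestOffenderOn p V B → ⁅V, B⁆ ≠ ⊥ → B = A) =>
    Cfsg.Agent.S0616.result V H hV hHV hf hS1 hS3 hH1 A h1 h2 h3 h4
  have hE : ∀ E : ι, (p = 2 ∨ p = 3) ∧
      Nonempty (↥(E : Subgroup G) ≃* Matrix.SpecialLinearGroup (Fin 2) (ZMod p)) ∧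
      Nat.card ↥(⁅V, (E : Subgroup G)⁆) = p ^ 2 ∧
      ⁅V, (E : Subgroup G)⁆ ⊓ (V ⊓ Subgroup.centralizer ((E : Subgroup G) : Set G)) = ⊥ ∧
      ⁅V, (E : Subgroup G)⁆ ⊔ (V ⊓ Subgroup.centralizer ((E : Subgroup G) : Set G)) = V ∧
      ⁅(E : Subgroup G), H ⊓ Subgroup.centralizer ((⁅V, (E : Subgroup G)⁆ : Subgroup G) : Set G)⁆ = ⊥ ∧
      (E : Subgroup G) ⊓ (H ⊓ Subgroup.centralizer ((⁅V, (E : Subgroup G)⁆ : Subgroup G) : Set G)) = ⊥ ∧
      (E : Subgroup G) ⊔ (H ⊓ Subgroup.centralizer ((⁅V, (E : Subgroup G)⁆ : Subgroup G) : Set G)) = H := by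
    rintro ⟨E, A, h1, h2, h3, h4, rfl⟩
    obtain ⟨a1, a2, a3, a4, a5, a6, a7, a8, _⟩ := hfacts A h1 h2 h3 h4
    exact ⟨a1, a2, a3, a4, a5, a6, a7, a8⟩
  have hWV : ∀ E : ι, ⁅V, (E : Subgroup G)⁆ ≤ V := by
    intro E
    have := (hE E).2.2.2.2.1
    exact le_sup_left.trans this.le
  have hEH : ∀ E : ι, (E : Subgroup G) ≤ H := by
    intro E
    have := (hE E).2.2.2.2.2.2.2
    exact le_sup_left.trans this.le
  have hCE : ∀ E : ι, H ⊓ Subgroup.centralizer ((⁅V, (E : Subgroup G)⁆ : Subgroup G) : Set G) ≤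
      Subgroup.centralizer ((E : Subgroup G) : Set G) := by
    intro E
    have := (hE E).2.2.2.2.2.1
    rw [Subgroup.commutator_comm, Subgroup.commutator_eq_bot_iff_le_centralizer] at this
    exact this
  have hEC : ∀ E : ι, (E : Subgroup G) ≤ Subgroup.centralizer
      ((H ⊓ Subgroup.centralizer ((⁅V, (E : Subgroup G)⁆ : Subgroup G) : Set G) : Subgroup G) : Set G) := by
    intro E
    have := (hE E).2.2.2.2.2.1
    rw [Subgroup.commutator_eq_bot_iff_le_centralizer] at this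
    exact this
  have hNE : ∀ E : ι, H ≤ Subgroup.normalizer ((E : Subgroup G) : Set G) := by
    intro E
    conv_lhs => rw [← (hE E).2.2.2.2.2.2.2]
    exact sup_le Subgroup.le_normalizer ((hCE E).trans (Subgroup.centralizer_le_normalizer _))
  have hNC : ∀ E : ι, H ≤ Subgroup.normalizer
      ((H ⊓ Subgroup.centralizer ((⁅V, (E : Subgroup G)⁆ : Subgroup G) : Set G) : Subgroup G) : Set G) := by
    intro E
    conv_lhs => rw [← (hE E).2.2.2.2.2.2.2]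
    exact sup_le ((hEC E).trans (Subgroup.centralizer_le_normalizer _)) Subgroup.le_normalizer
  have hdist : ∀ E E' : ι, E ≠ E' →
      (E' : Subgroup G) ≤ H ⊓ Subgroup.centralizer ((⁅V, (E : Subgroup G)⁆ : Subgroup G) : Set G) := by
    intro E E' hne
    obtain ⟨A, h1, h2, h3, h4, h5⟩ := E'.2
    have hidx := (Cfsg.Agent.S0611.result V H hV hHV hf hS1 hS3 hH1 A h1 h2 h3 h4).2.2
    rcases Cfsg.Agent.PLocal.FailureStructure.dichotomy hVab hHV hf (hWV E) (hE E).2.2.2.1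
      (hE E).2.2.2.2.1 (hE E).2.2.2.2.2.1 (hE E).2.2.2.2.2.2.2 h1 hidx with h | h
    · exfalso
      apply hne
      have hle : (E' : Subgroup G) ≤ (E : Subgroup G) := by
        rw [h5]
        refine sup_le ?_ h
        refine (Subgroup.commutator_mono hQH h).trans ?_
        exact (Subgroup.le_normalizer_iff_commutator_le_right).mp (hNE E)
      have hcard : Nat.card (E : Subgroup G) = Nat.card (E' : Subgroup G) := by
        obtain ⟨e1⟩ := (hE E).2.1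
        obtain ⟨e2⟩ := (hE E').2.1
        rw [Nat.card_congr e1.toEquiv, Nat.card_congr e2.toEquiv]
      apply Subtype.ext
      exact (Subgroup.eq_of_le_of_card_ge hle hcard.le).symm
    · rw [h5]
      refine sup_le ?_ h
      refine (Subgroup.commutator_mono hQH h).trans ?_
      exact (Subgroup.le_normalizer_iff_commutator_le_right).mp (hNC E)
  have hsup : (⨆ E : ι, (E : Subgroup G)) = H := by
    refine le_antisymm (iSup_le hEH) ?_
    conv_lhs => rw [hS3]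
    refine iSup_le ?_
    rintro ⟨A, hAH, hA⟩
    by_cases hA1 : A = ⊥
    · subst hA1; exact bot_le
    obtain ⟨k, B, hB, -, hBA⟩ := Cfsg.Agent.S0612.result V H hV hHV hf hS1 hS3 hH1 A hAH hA hA1
    show A ≤ _
    rw [← hBA]
    refine iSup_le ?_
    intro i
    obtain ⟨b1, b2, b3, b4⟩ := hB i
    have : B i ≤ ((⟨⁅Q, B i⁆ ⊔ B i, B i, b1.trans hAH, b2, b3, b4, rfl⟩ : ι) : Subgroup G) := le_sup_right
    exact this.trans (le_iSup (fun E : ι => (E : Subgroup G)) _)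
  have hne : Nonempty ι := by
    by_contra hno
    rw [not_nonempty_iff] at hno
    apply hH1
    rw [← hsup]
    exact iSup_of_empty _
  have hWE : ∀ E E' : ι, E ≠ E' → ⁅V, (E' : Subgroup G)⁆ ≤ V ⊓ Subgroup.centralizer ((E : Subgroup G) : Set G) := by
    intro E E' hne
    refine le_inf (hWV E') ?_
    have := (hdist E' E hne.symm).trans inf_le_right
    rw [Subgroup.le_centralizer_iff]
    exact this
  refine ⟨(hE hne.some).1, fun E => ⟨hNE E, (hE E).2.1, (hE E).2.2.1⟩, ?_, hsup, ?_, ?_⟩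
  · intro E
    rw [disjoint_iff, eq_bot_iff]
    refine le_trans ?_ (hE E).2.2.2.2.2.2.1.le
    refine inf_le_inf le_rfl (iSup₂_le ?_)
    intro E' hne'
    exact hdist E E' hne'.symm
  · refine Cfsg.Agent.PLocal.FailureStructure.option_indep (V := V) hVab
      (fun E : ι => ⁅V, (E : Subgroup G)⁆) (fun E : ι => V ⊓ Subgroup.centralizer ((E : Subgroup G) : Set G))
      hWV ?_ hWE (fun E => (hE E).2.2.2.1)
    intro E
    exact inf_le_inf le_rfl (Subgroup.centralizer_le (hEH E))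
  · have := Cfsg.Agent.PLocal.FailureStructure.sup_eq (V := V) hVab
      (fun E : ι => (E : Subgroup G)) (fun E : ι => ⁅V, (E : Subgroup G)⁆)
      hWV (fun E E' h => (hWE E E' h).trans inf_le_right) (fun E => (hE E).2.2.2.2.1)
    rw [hsup] at this
    exact this

end Cfsg.Agent.S0617
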