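import Cfsg.Statements.S0619
import Cfsg.Agent.PLocal.OffenderBound
import Cfsg.Agent.PLocal.HallHigmanPrime
import Cfsg.Agent.PLocal.PSolvable
import Cfsg.Agent.PLocal.ThompsonJ
import Cfsg.Agent.PLocal.ElemAbSup
import Cfsg.Agent.Lib.Cores

set_option autoImplicit false
open Cfsg

namespace Cfsg.Agent.S0619

open Cfsg.Agent.PLocal.OffenderBound Cfsg.Agent.PLocal.ThompsonJ Cfsg.Agent.PLocal.ElemAbSup

/-- The conjugation action of `G / C_G(V)` on `V`. -/
theorem exists_action {G : Type*} [Group G] (V : Subgroup G) [V.Normal] :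
    ∃ φ : (G ⧸ Subgroup.centralizer (V : Set G)) →* MulAut V,
      (∀ (g : G) (v : V), ((φ (QuotientGroup.mk g) v : V) : G) = g * v * g⁻¹) ∧
      Function.Injective φ := by
  have hker : ∀ g ∈ Subgroup.centralizer (V : Set G), (MulAut.conjNormal (H := V)) g = 1 := by
    intro g hg
    ext v
    rw [MulAut.conjNormal_apply, MulAut.one_apply, mul_inv_eq_iff_eq_mul]
    exact (Subgroup.mem_centralizer_iff.mp hg v v.2).symm
  refine ⟨QuotientGroup.lift _ (MulAut.conjNormal (H := V)) hker, fun g v => ?_, ?_⟩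
  · exact MulAut.conjNormal_apply g v
  · rw [injective_iff_map_eq_one]
    intro x hx
    obtain ⟨g, rfl⟩ := QuotientGroup.mk_surjective x
    rw [QuotientGroup.eq_one_iff, Subgroup.mem_centralizer_iff]
    intro v hv
    have h1 : (MulAut.conjNormal (H := V)) g ⟨v, hv⟩ = ⟨v, hv⟩ := by
      have h2 : (MulAut.conjNormal (H := V)) g = 1 := hx
      rw [h2, MulAut.one_apply]
    have h3 := congrArg Subtype.val h1
    rw [MulAut.conjNormal_apply, mul_inv_eq_iff_eq_mul] at h3
    exact h3.symm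

theorem commutator_le_of_max {G : Type*} [Group G] [Finite G] {p : ℕ} [Fact p.Prime]
    (hsep : Cfsg.IsPSolvable p G) (V : Subgroup G) [V.Normal] (hV : Cfsg.IsElementaryAbelian p V)
    (hO : Cfsg.pCore p (G ⧸ Subgroup.centralizer (V : Set G)) = ⊥)
    (A : Subgroup G) (hA : A ∈ Cfsg.maxElementaryAbelianSubgroups p G) :
    ⁅Cfsg.omegaOne p (Cfsg.centerThompsonOf p (Subgroup.centralizer (V : Set G))), A⁆ ≤ V := by
  set C := Subgroup.centralizer (V : Set G) with hC
  have hVc := (isElementaryAbelian_iff.mp hV).1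
  have hAc := (isElementaryAbelian_iff.mp hA.1).1
  have hAp := (isElementaryAbelian_iff.mp hA.1).2
  have hVC : V ≤ C := fun v hv => Subgroup.mem_centralizer_iff.mpr fun w hw => hVc w hw v hv
  obtain ⟨φ, hφ, hφi⟩ := exists_action V
  have hsepq : Cfsg.IsPSolvable p (G ⧸ C) := Cfsg.Agent.PLocal.PSolvable.isPSolvable_quotient hsep C
  have hHH := Cfsg.Agent.PLocal.HallHigmanPrime.centralizer_pPrimeCore_le_of_pSolvable p hsepq hO
  set Q := Cfsg.pPrimeCore p (G ⧸ C) with hQ
  have hQc : (Nat.card Q).Coprime p := Cfsg.Agent.Lib.Cores.pPrimeCore_coprime p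
  have hQn : Q.Normal := Cfsg.Agent.Lib.Cores.pPrimeCore_normal p
  set A' : Subgroup (G ⧸ C) := A.map (QuotientGroup.mk' C) with hA'
  have hA'e : Cfsg.IsElementaryAbelian p A' := isElementaryAbelian_map hA.1 _
  have hA'Q : A' ⊓ Subgroup.centralizer (Q : Set (G ⧸ C)) = ⊥ := by
    rw [eq_bot_iff]
    refine le_trans (inf_le_inf_left _ hHH) ?_
    intro x hx
    obtain ⟨hx1, hx2⟩ := Subgroup.mem_inf.mp hx
    have h1 : x ^ p = 1 := hA'e.2 x hx1
    have h2 : x ^ Nat.card Q = 1 := by
      have h4 := congrArg Subtype.val (pow_card_eq_one' (x := (⟨x, hx2⟩ : Q)))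
      rwa [SubmonoidClass.coe_pow] at h4
    have h3 : orderOf x ∣ 1 := by
      rw [← hQc]
      exact Nat.dvd_gcd (orderOf_dvd_of_pow_eq_one h2) (orderOf_dvd_of_pow_eq_one h1)
    rw [Subgroup.mem_bot, ← orderOf_eq_one_iff]
    exact Nat.dvd_one.mp h3
  let _ : CommGroup V := { (inferInstance : Group V) with mul_comm := fun a b => hV.1.is_comm.comm a b }
  have hVpg : IsPGroup p V := isPGroup_of_isElementaryAbelian hV
  have hineq := card_mul_card_fix_le φ hVpg Q hQc
    (fun x _ hx => hφi (by rw [hx, map_one])) (Nat.card A') A' le_rfl hA'e hA'Q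
  -- compare with subgroups of `G`
  have hcardA : Nat.card A = Nat.card A' * Nat.card ↥(A ⊓ C) := by
    have h1 := Subgroup.relIndex_mul_relIndex ⊥ (A ⊓ C) A bot_le inf_le_left
    rw [Subgroup.relIndex_bot_left, Subgroup.relIndex_bot_left] at h1
    have h2 : (A ⊓ C).relIndex A = Nat.card A' := by
      rw [inf_comm, Subgroup.inf_relIndex_right]
      have h3 := Subgroup.relIndex_ker (K := A) (QuotientGroup.mk' C)
      rwa [QuotientGroup.ker_mk'] at h3
    rw [← h1, h2, mul_comm]
  have hfixle : Nat.card ↥(A ⊓ V) ≤ Nat.card (fix φ A') := by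
    have h1 : (A ⊓ V).subgroupOf V ≤ fix φ A' := by
      intro v hv a ha
      obtain ⟨a, ha, rfl⟩ := ha
      apply Subtype.ext
      rw [QuotientGroup.mk'_apply, hφ, mul_inv_eq_iff_eq_mul]
      rw [Subgroup.mem_subgroupOf] at hv
      exact hAc a ha v hv.1
    have h2 : Nat.card ((A ⊓ V).subgroupOf V) = Nat.card ↥(A ⊓ V) :=
      Nat.card_congr (Subgroup.subgroupOfEquivOfLe inf_le_right).toEquiv
    rw [← h2]
    exact Subgroup.card_le_of_le h1
  -- the new subgroup
  set D : Subgroup G := (A ⊓ C) ⊔ V with hD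
  have hDC : D ≤ C := sup_le inf_le_right hVC
  have hVcent : V ≤ Subgroup.centralizer ((A ⊓ C : Subgroup G) : Set G) := by
    rw [Subgroup.le_centralizer_iff]
    exact inf_le_right
  have hDe : Cfsg.IsElementaryAbelian p D :=
    isElementaryAbelian_sup (isElementaryAbelian_mono hA.1 inf_le_left) hV hVcent
  have hDcard : Nat.card D * Nat.card ↥(A ⊓ V) = Nat.card ↥(A ⊓ C) * Nat.card V := by
    have h4 : (A ⊓ C) ⊓ V = A ⊓ V := by
      rw [inf_assoc, inf_eq_right.mpr hVC]
    rw [← h4]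
    exact card_sup_mul_card_inf hVcent
  have hAD : Nat.card A ≤ Nat.card D := by
    have hpos : 0 < Nat.card (fix φ A') := Nat.card_pos
    refine Nat.le_of_mul_le_mul_right ?_ hpos
    calc Nat.card A * Nat.card (fix φ A')
        = Nat.card ↥(A ⊓ C) * (Nat.card A' * Nat.card (fix φ A')) := by rw [hcardA]; ring
      _ ≤ Nat.card ↥(A ⊓ C) * Nat.card V := Nat.mul_le_mul_left _ hineq
      _ = Nat.card D * Nat.card ↥(A ⊓ V) := hDcard.symm
      _ ≤ Nat.card D * Nat.card (fix φ A') := Nat.mul_le_mul_left _ hfixle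
  have hDmax : D ∈ Cfsg.maxElementaryAbelianSubgroups p G := mem_max_of_card_eq hA hDe hAD
  have hDJ : D ≤ Cfsg.thompsonSubgroupOf p C := by
    rw [thompsonSubgroupOf_eq_sSup hDmax hDC]
    exact le_sSup ⟨hDmax, hDC⟩
  have hWD : Cfsg.omegaOne p (Cfsg.centerThompsonOf p C) ≤ D := by
    change Subgroup.closure {x : G | x ∈ Cfsg.centerThompsonOf p C ∧ x ^ p = 1} ≤ D
    rw [Subgroup.closure_le]
    rintro w ⟨hw, hwp⟩
    refine mem_of_mem_centralizer_of_mem_max hDmax ?_ hwp
    exact Subgroup.mem_centralizer_iff.mpr fun d hd => Subgroup.mem_centralizer_iff.mp hw.2 d (hDJ hd)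
  refine (Subgroup.commutator_mono hWD le_rfl).trans ?_
  rw [hD, Cfsg.Agent.Lib.Cores.sup_commutator_le_iff]
  constructor
  · rw [Subgroup.commutator_le]
    intro a ha b hb
    rw [commutatorElement_eq_one_iff_mul_comm.mpr (hAc a ha.1 b hb)]
    exact V.one_mem
  · exact Subgroup.commutator_le_left V A

/-- For a p-separable group and a normal elementary abelian p-subgroup V with no nontrivial normal p-subgroup modulo its centralizer C, the Thompson subgroup J(G) moves Ω₁(Z(J(C))) only inside V. -/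
theorem result {G : Type*} [Group G] [Finite G] {p : ℕ} [Fact p.Prime] (hsep : Cfsg.IsPSolvable p G) (V : Subgroup G) [V.Normal] (hV : Cfsg.IsElementaryAbelian p V) (hO : Cfsg.pCore p (G ⧸ Subgroup.centralizer (V : Set G)) = ⊥) : ⁅Cfsg.omegaOne p (Cfsg.centerThompsonOf p (Subgroup.centralizer (V : Set G))), Cfsg.thompsonSubgroup p G⁆ ≤ V := by
  rw [Subgroup.commutator_comm, Cfsg.Agent.Lib.Cores.commutator_le_iff_le_comap_centralizer,
    thompsonSubgroup_def]
  apply sSup_le
  intro A hA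
  rw [← Cfsg.Agent.Lib.Cores.commutator_le_iff_le_comap_centralizer, Subgroup.commutator_comm]
  exact commutator_le_of_max hsep V hV hO A hA

end Cfsg.Agent.S0619
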