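-- Statement S0518: ZN-groups.
import Cfsg.Statements.S0518
import Cfsg.Agent.ZN.Defs
import Cfsg.Agent.ZN.Choice
import Cfsg.Agent.ZN.Amalgam
import Cfsg.Agent.ZN.FinalBridge
import Cfsg.Agent.Classification.ZNFinal

set_option autoImplicit false
open Cfsg

namespace Cfsg.Agent.S0518

/-- The centralizer of `Ω₁(Z(S))` is the centralizer of the set of its generators. -/
theorem centralizer_zc {G : Type*} [Group G] (S : Subgroup G) :
    Subgroup.centralizer (Cfsg.Agent.ZN.zc S : Set G) =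
      Subgroup.centralizer {z : G | z ∈ S ∧ z ^ 2 = 1 ∧ ∀ s ∈ S, s * z = z * s} := by
  unfold Cfsg.Agent.ZN.zc Cfsg.omegaOne
  rw [Subgroup.centralizer_closure]
  congr 1
  ext z
  constructor
  · rintro ⟨h1, h2⟩
    obtain ⟨h3, h4⟩ := Subgroup.mem_inf.mp h1
    exact ⟨h3, h2, fun s hs => Subgroup.mem_centralizer_iff.mp h4 s hs⟩
  · rintro ⟨h1, h2, h3⟩
    exact ⟨Subgroup.mem_inf.mpr ⟨h1, Subgroup.mem_centralizer_iff.mpr h3⟩, h2⟩

/-- Let G be a finite group of characteristic 2 type with trivial 2-core in which every 2-local subgroup is solvable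
and, for every Sylow 2-subgroup S, the centralizer of the set of central involutions of S lies in the normalizer of S.
Then either G has a strongly embedded subgroup, or the subgroup generated by the elements of odd order has two distinct
maximal 2-local subgroups, each isomorphic to the symmetric group of degree 4, whose intersection has order 8. -/
theorem result {G : Type*} [Group G] [Finite G]
    (hL : Cfsg.IsCharacteristicTwoType G) (hO : Cfsg.pCore 2 G = ⊥)
    (hN : ∀ N : Subgroup G, Cfsg.IsTwoLocal N → Group.IsSolvable N)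
    (hZ : ∀ S : Sylow 2 G,
      Subgroup.centralizer {z : G | z ∈ (S : Subgroup G) ∧ z ^ 2 = 1 ∧ ∀ s ∈ (S : Subgroup G), s * z = z * s} ≤
        Subgroup.normalizer ((S : Subgroup G) : Set G))
    (H : Subgroup G) (hH : H = Subgroup.closure {g : G | Odd (orderOf g)}) :
    (∃ K : Subgroup G, Cfsg.IsStronglyEmbedded K) ∨
      ∃ M₁ M₂ : Subgroup H, M₁ ≠ M₂ ∧ Cfsg.IsMaximalTwoLocal M₁ ∧ Cfsg.IsMaximalTwoLocal M₂ ∧
        Nonempty (M₁ ≃* Equiv.Perm (Fin 4)) ∧ Nonempty (M₂ ≃* Equiv.Perm (Fin 4)) ∧ Nat.card ↥(M₁ ⊓ M₂) = 8 := by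
  by_cases hse : ∃ K : Subgroup G, Cfsg.IsStronglyEmbedded K
  · exact Or.inl hse
  · right
    obtain ⟨N, B, P, Q, hctx⟩ := Cfsg.Agent.ZN.Choice.exists_ctx hL hO hN
      (fun S => by rw [centralizer_zc]; exact hZ S) (fun K hK => hse ⟨K, hK⟩)
    obtain ⟨h1, h2, h3, h4⟩ := Cfsg.Agent.ZN.Amalgam.result hctx
    obtain ⟨e, he, hE₁, hE₂, hcard₁, hcard₂, hC₁, hC₂, hN₁, hN₂, h12, h21, hinf, hc⟩ :=
      Cfsg.Agent.ZN.FinalBridge.data hL hctx h1 h2 h3 h4
    exact Cfsg.Agent.Classification.ZNFinal.final_step hL hZ e he _ _ hE₁ hE₂ hcard₁ hcard₂ hC₁ hC₂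
      hN₁ hN₂ h12 h21 hinf hc H hH

end Cfsg.Agent.S0518
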