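import Cfsg.Statements.S0822
import Cfsg.Agent.Lib.FieldFour
import Cfsg.Agent.Lib.FieldThree
import Cfsg.Agent.Lib.GraphIsoCard
import Cfsg.Agent.LieClassical.FieldTransfer
import Cfsg.Agent.LieClassical.SympCenter
import Cfsg.Agent.LieClassical.GUOrder
import Cfsg.Agent.ClassicalGeometry.SympBasic
import Cfsg.Agent.S0245
import Cfsg.Agent.S0246
import Cfsg.Agent.S0279
import Cfsg.Agent.S0280
import Cfsg.Agent.S0765

set_option autoImplicit false
open Cfsg

namespace Cfsg.Agent.S0822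

open Matrix
open Cfsg.Agent.Lib.FieldFour (F4)
open Cfsg.Agent.Lib.FieldThree (F3)
open Cfsg.Agent.LieClassical.GUOrder

/-! ### Tables: 40 points of the symplectic 4-space over `F3` and 40 non-isotropic points of the Hermitian
4-space over `F4`, in matching order. -/

/-- Coordinate table of the points of the symplectic space. -/
def pa : Fin 40 → F3 :=
  ![.i, .i, .o, .i, .o, .i, .i, .i, .o, .i, .i, .i, .o, .i, .i, .i, .o, .i, .i, .i, .o, .i, .i, .i, .i, .o, .i, .i, .o, .o, .i, .i, .i, .i, .i, .o, .o, .i, .o, .o]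

/-- Coordinate table of the points of the symplectic space. -/
def pb : Fin 40 → F3 :=
  ![.o, .o, .o, .o, .i, .m, .i, .i, .i, .m, .m, .m, .i, .i, .i, .i, .i, .m, .m, .m, .i, .i, .i, .i, .o, .o, .m, .m, .o, .i, .o, .o, .i, .o, .o, .i, .i, .o, .i, .o]

/-- Coordinate table of the points of the symplectic space. -/
def pc : Fin 40 → F3 :=
  ![.o, .m, .i, .i, .m, .i, .m, .i, .m, .o, .m, .i, .i, .m, .o, .i, .m, .o, .m, .i, .i, .m, .o, .i, .m, .o, .o, .m, .i, .i, .i, .o, .o, .i, .o, .o, .o, .m, .o, .i]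

/-- Coordinate table of the points of the symplectic space. -/
def pd : Fin 40 → F3 :=
  ![.o, .o, .o, .o, .o, .o, .o, .o, .m, .o, .o, .i, .o, .m, .o, .m, .i, .i, .i, .m, .m, .i, .m, .i, .i, .i, .m, .m, .m, .i, .m, .i, .i, .i, .m, .i, .m, .m, .o, .i]

/-- Coordinate table of the non-isotropic points of the Hermitian space. -/
def na : Fin 40 → F4 :=
  ![.i, .i, .i, .i, .i, .i, .i, .i, .i, .o, .i, .i, .i, .i, .o, .i, .i, .o, .i, .i, .i, .i, .o, .i, .i, .o, .o, .i, .i, .i, .i, .o, .o, .i, .o, .o, .o, .i, .o, .i]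

/-- Coordinate table of the non-isotropic points of the Hermitian space. -/
def nb : Fin 40 → F4 :=
  ![.o, .o, .o, .o, .o, .o, .o, .o, .v, .o, .o, .w, .o, .i, .o, .w, .w, .i, .i, .i, .v, .v, .i, .i, .w, .i, .i, .v, .i, .w, .v, .i, .i, .v, .i, .i, .i, .w, .i, .i]

/-- Coordinate table of the non-isotropic points of the Hermitian space. -/
def nc : Fin 40 → F4 :=
  ![.o, .w, .i, .v, .w, .i, .v, .w, .i, .o, .i, .v, .v, .w, .i, .o, .o, .i, .o, .o, .o, .o, .v, .v, .o, .i, .i, .w, .o, .i, .o, .v, .w, .v, .w, .v, .w, .w, .o, .i]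

/-- Coordinate table of the non-isotropic points of the Hermitian space. -/
def nd : Fin 40 → F4 :=
  ![.o, .w, .i, .v, .v, .w, .i, .i, .o, .i, .v, .o, .w, .o, .o, .v, .i, .v, .w, .v, .i, .w, .i, .o, .w, .i, .w, .o, .i, .o, .v, .w, .i, .o, .v, .v, .w, .o, .o, .o]

/-- The permutation of the points induced by the generator. -/
def s0 : Fin 40 → Fin 40 :=
  ![0, 2, 3, 1, 5, 6, 4, 10, 11, 9, 12, 13, 7, 8, 14, 18, 19, 17, 20, 21, 15, 16, 22, 27, 28, 25, 26, 29, 30, 23, 24, 31, 32, 37, 34, 35, 36, 39, 38, 33]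

/-- The permutation of the points induced by the generator. -/
def s1 : Fin 40 → Fin 40 :=
  ![1, 3, 2, 0, 4, 9, 7, 14, 8, 10, 5, 17, 12, 15, 6, 22, 16, 18, 11, 26, 20, 23, 13, 32, 33, 25, 27, 19, 28, 29, 34, 24, 21, 31, 37, 35, 36, 30, 38, 39]

/-- The permutation of the points induced by the generator. -/
def s2 : Fin 40 → Fin 40 :=
  ![0, 4, 5, 6, 7, 10, 12, 1, 8, 9, 2, 11, 3, 13, 14, 16, 24, 25, 19, 28, 21, 30, 31, 23, 15, 26, 17, 27, 18, 29, 20, 35, 36, 33, 32, 22, 34, 37, 38, 39]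

/-- The permutation of the points induced by the generator. -/
def s3 : Fin 40 → Fin 40 :=
  ![0, 1, 2, 3, 8, 11, 13, 15, 16, 17, 18, 19, 20, 21, 22, 23, 4, 26, 27, 5, 29, 6, 32, 7, 24, 25, 9, 10, 28, 12, 30, 31, 14, 33, 34, 38, 35, 37, 36, 39]

/-- Parent generator. -/
def pg : Fin 40 → Fin 4 :=
  ![0, 1, 0, 1, 2, 2, 2, 2, 3, 1, 2, 3, 2, 3, 1, 3, 3, 3, 3, 3, 3, 3, 3, 3, 2, 2, 3, 3, 2, 3, 2, 2, 3, 1, 1, 2, 2, 0, 3, 0]

/-- Parent point. -/
def pp : Fin 40 → Fin 40 :=
  ![0, 0, 1, 1, 1, 2, 3, 4, 4, 5, 5, 5, 6, 6, 7, 7, 8, 9, 10, 11, 12, 13, 14, 15, 16, 17, 17, 18, 19, 20, 21, 22, 22, 24, 30, 31, 32, 33, 35, 37]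
/-- A vector of the symplectic space from its coordinates. -/
def vec3 (a b c d : F3) : Fin 2 ⊕ Fin 2 → F3 := Sum.elim ![a, b] ![c, d]

/-- The points of the symplectic space. -/
def P (i : Fin 40) : Fin 2 ⊕ Fin 2 → F3 := vec3 (pa i) (pb i) (pc i) (pd i)

/-- The non-isotropic points of the Hermitian space. -/
def N (i : Fin 40) : Fin 4 → F4 := ![na i, nb i, nc i, nd i]

theorem vec3_eq (x : Fin 2 ⊕ Fin 2 → F3) :
    x = vec3 (x (.inl 0)) (x (.inl 1)) (x (.inr 0)) (x (.inr 1)) := by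
  funext i
  rcases i with i | i <;> fin_cases i <;> rfl

theorem vec4_eq (x : Fin 4 → F4) : x = ![x 0, x 1, x 2, x 3] := by
  funext i
  fin_cases i <;> rfl

theorem vec3_inj {a b c d a' b' c' d' : F3} :
    vec3 a b c d = vec3 a' b' c' d' ↔ a = a' ∧ b = b' ∧ c = c' ∧ d = d' := by
  constructor
  · intro h
    exact ⟨congrFun h (.inl 0), congrFun h (.inl 1), congrFun h (.inr 0), congrFun h (.inr 1)⟩
  · rintro ⟨rfl, rfl, rfl, rfl⟩
    rfl

theorem vec4_inj {a b c d a' b' c' d' : F4} :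
    (![a, b, c, d] : Fin 4 → F4) = ![a', b', c', d'] ↔ a = a' ∧ b = b' ∧ c = c' ∧ d = d' := by
  constructor
  · intro h
    exact ⟨congrFun h 0, congrFun h 1, congrFun h 2, congrFun h 3⟩
  · rintro ⟨rfl, rfl, rfl, rfl⟩
    rfl

theorem neg_vec3 (a b c d : F3) : -vec3 a b c d = vec3 (-a) (-b) (-c) (-d) := by
  rw [vec3_eq (-vec3 a b c d)]
  rfl

theorem smul_vec4 (k a b c d : F4) : k • (![a, b, c, d] : Fin 4 → F4) = ![k * a, k * b, k * c, k * d] := by
  rw [vec4_eq (k • (![a, b, c, d] : Fin 4 → F4))]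
  rfl

theorem hF4 : Fintype.card F4 = 2 ^ 2 := rfl

/-! ### The generators -/

theorem transv_vec3 (v0 v1 v2 v3 x0 x1 x2 x3 : F3) :
    sympTransvection 2 (vec3 v0 v1 v2 v3) 1 *ᵥ vec3 x0 x1 x2 x3 =
      vec3 (x0 + (x2 * v0 - x0 * v2 + (x3 * v1 - x1 * v3)) * v0)
        (x1 + (x2 * v0 - x0 * v2 + (x3 * v1 - x1 * v3)) * v1)
        (x2 + (x2 * v0 - x0 * v2 + (x3 * v1 - x1 * v3)) * v2)
        (x3 + (x2 * v0 - x0 * v2 + (x3 * v1 - x1 * v3)) * v3) := by
  rw [Cfsg.Agent.ClassicalGeometry.SympBasic.sympTransvection_mulVec, one_mul,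
    Cfsg.Agent.ClassicalGeometry.SympBasic.sympForm_eq_sum, Fin.sum_univ_two]
  rw [vec3_eq (vec3 x0 x1 x2 x3 + _)]
  rfl

/-- The matrix of `x ↦ ω² x + ω h(x, n) n`. -/
def smat (n : Fin 4 → F4) : Matrix (Fin 4) (Fin 4) F4 :=
  F4.v • (1 : Matrix (Fin 4) (Fin 4) F4) + F4.w • Matrix.vecMulVec n (fun i => frob hF4 (n i))

theorem smat_mulVec (n x : Fin 4 → F4) :
    smat n *ᵥ x = F4.v • x + (F4.w * hermForm 4 F4 2 x n) • n := by
  rw [smat, Matrix.add_mulVec, Matrix.smul_mulVec, Matrix.one_mulVec, Matrix.smul_mulVec,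
    vecMulVec_mulVec_herm hF4, smul_smul]

theorem smat_isom {n : Fin 4 → F4} (hn : hermForm 4 F4 2 n n = 1) (x y : Fin 4 → F4) :
    hermForm 4 F4 2 (smat n *ᵥ x) (smat n *ᵥ y) = hermForm 4 F4 2 x y := by
  rw [smat_mulVec, smat_mulVec]
  simp only [herm_add_left hF4, herm_add_right hF4, herm_smul_left hF4, herm_smul_right hF4, map_mul,
    frob_herm hF4, hn]
  generalize hermForm 4 F4 2 x y = a
  generalize hermForm 4 F4 2 n y = b
  generalize hermForm 4 F4 2 x n = c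
  have hv : frob hF4 F4.v = F4.w := rfl
  have hw : frob hF4 F4.w = F4.v := rfl
  rw [hv, hw]
  revert a b c
  decide

/-- The elements of `SU` attached to four unit vectors. -/
def n0 : Fin 4 → F4 := ![.i, .o, .o, .o]
def n1 : Fin 4 → F4 := ![.i, .o, .i, .i]
def n2 : Fin 4 → F4 := ![.o, .o, .o, .i]
def n3 : Fin 4 → F4 := ![.o, .i, .i, .i]

theorem det0 : (smat n0).det = 1 := by decide +kernel
theorem det1 : (smat n1).det = 1 := by decide +kernel
theorem det2 : (smat n2).det = 1 := by decide +kernel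
theorem det3 : (smat n3).det = 1 := by decide +kernel

/-! ### The two groups and the relation -/

abbrev Sp := Matrix.symplecticGroup (Fin 2) F3
abbrev U := Cfsg.SU 4 F4 2

/-- `M` maps the `i`-th point to the `j`-th point. -/
def rel {ι F : Type} [Fintype ι] [Field F] (x : Fin 40 → ι → F) (M : Matrix ι ι F) (i j : Fin 40) : Prop :=
  ∃ c : F, c ≠ 0 ∧ M *ᵥ x i = c • x j

section rel

variable {ι F : Type} [Fintype ι] [DecidableEq ι] [Field F] {x : Fin 40 → ι → F}

theorem rel_mul {M M' : Matrix ι ι F} {i j k : Fin 40} (h : rel x M j k) (h' : rel x M' i j) :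
    rel x (M * M') i k := by
  obtain ⟨c, hc, h1⟩ := h
  obtain ⟨d, hd, h2⟩ := h'
  refine ⟨d * c, mul_ne_zero hd hc, ?_⟩
  rw [← Matrix.mulVec_mulVec, h2, Matrix.mulVec_smul, h1, smul_smul]

theorem rel_one (i : Fin 40) : rel x (1 : Matrix ι ι F) i i :=
  ⟨1, one_ne_zero, by rw [Matrix.one_mulVec, one_smul]⟩

theorem rel_inv {M M' : Matrix ι ι F} (hM : M' * M = 1) {i j : Fin 40} (h : rel x M i j) :
    rel x M' j i := by
  obtain ⟨c, hc, h1⟩ := h
  refine ⟨c⁻¹, inv_ne_zero hc, ?_⟩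
  have h2 : x j = c⁻¹ • (M *ᵥ x i) := by rw [h1, smul_smul, inv_mul_cancel₀ hc, one_smul]
  rw [h2, Matrix.mulVec_smul, Matrix.mulVec_mulVec, hM, Matrix.one_mulVec]

/-- A matrix having all coordinate vectors as eigenvectors is diagonal. -/
theorem apply_eq {M : Matrix ι ι F} {c : ι → F} (h : ∀ k, M *ᵥ Pi.single k 1 = c k • Pi.single k 1)
    (y : ι → F) (i : ι) : (M *ᵥ y) i = c i * y i := by
  have h1 : ∀ i k, M i k = c k * (Pi.single k (1 : F) : ι → F) i := by
    intro i k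
    have := congrFun (h k) i
    rw [Matrix.mulVec_single_one] at this
    exact this
  rw [Matrix.mulVec, dotProduct, Finset.sum_eq_single i]
  · rw [h1, Pi.single_eq_same, mul_one]
  · intro k _ hk
    rw [h1, Pi.single_eq_of_ne hk.symm, mul_zero, zero_mul]
  · intro h
    exact absurd (Finset.mem_univ i) h

end rel

theorem mul_inv_Sp (A : Sp) : (A⁻¹).1 * A.1 = 1 := congrArg Subtype.val (inv_mul_cancel A)

theorem mul_inv_U (B : U) : (B⁻¹).1.1 * B.1.1 = 1 :=
  congrArg (fun B : U => (B.1.1 : Matrix (Fin 4) (Fin 4) F4)) (inv_mul_cancel B)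

/-- The compatible pairs. -/
def R : Subgroup (Sp × U) where
  carrier := {p | ∃ σ : Equiv.Perm (Fin 40), ∀ i, rel P p.1.1 i (σ i) ∧ rel N p.2.1.1 i (σ i)}
  mul_mem' {p q} hp hq := by
    obtain ⟨σ, hσ⟩ := hp
    obtain ⟨τ, hτ⟩ := hq
    refine ⟨σ * τ, fun i => ?_⟩
    exact ⟨rel_mul (hσ (τ i)).1 (hτ i).1, rel_mul (hσ (τ i)).2 (hτ i).2⟩
  one_mem' := ⟨1, fun i => ⟨rel_one i, rel_one i⟩⟩
  inv_mem' {p} hp := by
    obtain ⟨σ, hσ⟩ := hp
    refine ⟨σ⁻¹, fun i => ?_⟩
    have h2 : σ (σ⁻¹ i) = i := by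
      rw [← Equiv.Perm.mul_apply, mul_inv_cancel, Equiv.Perm.one_apply]
    have h1 := hσ (σ⁻¹ i)
    rw [h2] at h1
    exact ⟨rel_inv (mul_inv_Sp p.1) h1.1, rel_inv (mul_inv_U p.2) h1.2⟩

theorem mem_R {A : Sp} {B : U} (s : Fin 40 → Fin 40) (hs : Function.Injective s)
    (h1 : ∀ i, rel P A.1 i (s i)) (h2 : ∀ i, rel N B.1.1 i (s i)) : (A, B) ∈ R :=
  ⟨Equiv.ofBijective s (Finite.injective_iff_bijective.mp hs), fun i => ⟨h1 i, h2 i⟩⟩

/-- The element of `SU` with matrix `smat n`. -/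
def su (n : Fin 4 → F4) (hn : hermForm 4 F4 2 n n = 1) (hd : (smat n).det = 1) : U :=
  ⟨⟨smat n, hd⟩, fun x y => smat_isom hn x y⟩

/-- The symplectic transvection as a group element. -/
abbrev tr (v : Fin 2 ⊕ Fin 2 → F3) (c : F3) : Sp := Cfsg.Agent.ClassicalGeometry.SympBasic.transv v c

theorem rel_P_of {v0 v1 v2 v3 : F3} {s : Fin 40 → Fin 40}
    (h : ∀ i : Fin 40, ∃ c : F3, c ≠ 0 ∧
      (pa i + (pc i * v0 - pa i * v2 + (pd i * v1 - pb i * v3)) * v0 = c * pa (s i) ∧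
       pb i + (pc i * v0 - pa i * v2 + (pd i * v1 - pb i * v3)) * v1 = c * pb (s i) ∧
       pc i + (pc i * v0 - pa i * v2 + (pd i * v1 - pb i * v3)) * v2 = c * pc (s i) ∧
       pd i + (pc i * v0 - pa i * v2 + (pd i * v1 - pb i * v3)) * v3 = c * pd (s i))) (i : Fin 40) :
    rel P (tr (vec3 v0 v1 v2 v3) 1).1 i (s i) := by
  obtain ⟨c, hc, h1, h2, h3, h4⟩ := h i
  refine ⟨c, hc, ?_⟩
  show sympTransvection 2 (vec3 v0 v1 v2 v3) 1 *ᵥ vec3 (pa i) (pb i) (pc i) (pd i) = _
  rw [transv_vec3, h1, h2, h3, h4]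
  rw [vec3_eq (c • P (s i))]
  rfl

theorem relP0 (i : Fin 40) : rel P (tr (vec3 .i .o .o .o) 1).1 i (s0 i) := rel_P_of (by decide +kernel) i
theorem relP1 (i : Fin 40) : rel P (tr (vec3 .o .o .i .o) 1).1 i (s1 i) := rel_P_of (by decide +kernel) i
theorem relP2 (i : Fin 40) : rel P (tr (vec3 .i .m .o .o) 1).1 i (s2 i) := rel_P_of (by decide +kernel) i
theorem relP3 (i : Fin 40) : rel P (tr (vec3 .o .o .o .i) 1).1 i (s3 i) := rel_P_of (by decide +kernel) i

theorem relN0 : ∀ i : Fin 40, ∃ c : F4, c ≠ 0 ∧ smat n0 *ᵥ N i = c • N (s0 i) := by decide +kernel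
theorem relN1 : ∀ i : Fin 40, ∃ c : F4, c ≠ 0 ∧ smat n1 *ᵥ N i = c • N (s1 i) := by decide +kernel
theorem relN2 : ∀ i : Fin 40, ∃ c : F4, c ≠ 0 ∧ smat n2 *ᵥ N i = c • N (s2 i) := by decide +kernel
theorem relN3 : ∀ i : Fin 40, ∃ c : F4, c ≠ 0 ∧ smat n3 *ᵥ N i = c • N (s3 i) := by decide +kernel

theorem inj0 : Function.Injective s0 := by decide +kernel
theorem inj1 : Function.Injective s1 := by decide +kernel
theorem inj2 : Function.Injective s2 := by decide +kernel
theorem inj3 : Function.Injective s3 := by decide +kernel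

theorem gen0 : (tr (vec3 .i .o .o .o) 1, su n0 (by decide +kernel) det0) ∈ R := mem_R s0 inj0 relP0 relN0
theorem gen1 : (tr (vec3 .o .o .i .o) 1, su n1 (by decide +kernel) det1) ∈ R := mem_R s1 inj1 relP1 relN1
theorem gen2 : (tr (vec3 .i .m .o .o) 1, su n2 (by decide +kernel) det2) ∈ R := mem_R s2 inj2 relP2 relN2
theorem gen3 : (tr (vec3 .o .o .o .i) 1, su n3 (by decide +kernel) det3) ∈ R := mem_R s3 inj3 relP3 relN3

/-! ### Every symplectic matrix has a partner -/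

/-- The elements having a partner. -/
def L : Subgroup Sp := R.map (MonoidHom.fst Sp U)

theorem mem_L_of {A : Sp} {B : U} (h : (A, B) ∈ R) : A ∈ L := ⟨(A, B), h, rfl⟩

theorem exists_of_mem_L {A : Sp} (h : A ∈ L) : ∃ B : U, (A, B) ∈ R := by
  obtain ⟨⟨A', B⟩, hp, rfl⟩ := h
  exact ⟨B, hp⟩

/-- The four generators. -/
def gen : Fin 4 → Sp := ![tr (vec3 .i .o .o .o) 1, tr (vec3 .o .o .i .o) 1, tr (vec3 .i .m .o .o) 1,
  tr (vec3 .o .o .o .i) 1]

/-- Their actions on the points. -/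
def ss : Fin 4 → Fin 40 → Fin 40 := ![s0, s1, s2, s3]

theorem gen_mem (k : Fin 4) : gen k ∈ L := by
  fin_cases k
  · exact mem_L_of gen0
  · exact mem_L_of gen1
  · exact mem_L_of gen2
  · exact mem_L_of gen3

theorem gen_rel (k : Fin 4) (i : Fin 40) : rel P (gen k).1 i (ss k i) := by
  fin_cases k
  · exact relP0 i
  · exact relP1 i
  · exact relP2 i
  · exact relP3 i

theorem tree : ∀ i : Fin 40, i ≠ 0 → pp i < i ∧ ss (pg i) (pp i) = i := by decide +kernel

theorem sq_eq_one : ∀ c : F3, c ≠ 0 → c ^ 2 = 1 := by decide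

theorem tr_smul {c : F3} (hc : c ≠ 0) (v : Fin 2 ⊕ Fin 2 → F3) (d : F3) : tr (c • v) d = tr v d := by
  apply Subtype.ext
  rw [Cfsg.Agent.ClassicalGeometry.SympBasic.coe_transv, Cfsg.Agent.ClassicalGeometry.SympBasic.coe_transv,
    Cfsg.Agent.ClassicalGeometry.SympBasic.sympTransvection_smul, sq_eq_one c hc, one_mul]

theorem tr_P_mem (i : Fin 40) : tr (P i) 1 ∈ L := by
  induction i using WellFoundedLT.induction with
  | ind i ih =>
    by_cases hi : i = 0
    · subst hi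
      exact gen_mem 0
    · obtain ⟨h1, h2⟩ := tree i hi
      have h3 := gen_rel (pg i) (pp i)
      rw [h2] at h3
      obtain ⟨c, hc, h4⟩ := h3
      have h5 := ih (pp i) h1
      have h6 : tr (P i) 1 = gen (pg i) * tr (P (pp i)) 1 * (gen (pg i))⁻¹ := by
        rw [eq_mul_inv_iff_mul_eq]
        apply Subtype.ext
        have h7 := Cfsg.Agent.ClassicalGeometry.SympBasic.mul_sympTransvection (gen (pg i)).2 (P (pp i)) 1
        rw [h4] at h7
        have h8 := congrArg Subtype.val (tr_smul hc (P i) 1)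
        rw [Cfsg.Agent.ClassicalGeometry.SympBasic.coe_transv,
          Cfsg.Agent.ClassicalGeometry.SympBasic.coe_transv] at h8
        rw [h8] at h7
        exact h7.symm
      rw [h6]
      exact L.mul_mem (L.mul_mem (gen_mem _) h5) (L.inv_mem (gen_mem _))

theorem exists_point_aux : ∀ a b c d : F3, (a = 0 ∧ b = 0 ∧ c = 0 ∧ d = 0) ∨
    ∃ i : Fin 40, ∃ k : F3, k ≠ 0 ∧ (a = k * pa i ∧ b = k * pb i ∧ c = k * pc i ∧ d = k * pd i) := by
  decide +kernel

theorem exists_point (v : Fin 2 ⊕ Fin 2 → F3) : v = 0 ∨ ∃ i : Fin 40, ∃ k : F3, k ≠ 0 ∧ v = k • P i := by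
  rcases exists_point_aux (v (.inl 0)) (v (.inl 1)) (v (.inr 0)) (v (.inr 1)) with
    ⟨h1, h2, h3, h4⟩ | ⟨i, k, hk, h1, h2, h3, h4⟩
  · left
    rw [vec3_eq v, h1, h2, h3, h4]
    rw [vec3_eq (0 : Fin 2 ⊕ Fin 2 → F3)]
    rfl
  · right
    refine ⟨i, k, hk, ?_⟩
    rw [vec3_eq v, h1, h2, h3, h4]
    rw [vec3_eq (k • P i)]
    rfl

theorem tr_mem (v : Fin 2 ⊕ Fin 2 → F3) (c : F3) : tr v c ∈ L := by
  have h1 : tr v 1 ∈ L := by
    rcases exists_point v with rfl | ⟨i, k, hk, rfl⟩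
    · have : tr (0 : Fin 2 ⊕ Fin 2 → F3) 1 = 1 := by
        apply Subtype.ext
        rw [Cfsg.Agent.ClassicalGeometry.SympBasic.coe_transv]
        show sympTransvection 2 (0 : Fin 2 ⊕ Fin 2 → F3) 1 = 1
        rw [Cfsg.Agent.ClassicalGeometry.SympBasic.sympTransvection_def, Matrix.mulVec_zero]
        simp
      rw [this]
      exact L.one_mem
    · rw [tr_smul hk]
      exact tr_P_mem i
  have hadd : ∀ c d : F3, tr v c * tr v d = tr v (c + d) := fun c d =>
    Subtype.ext (Cfsg.Agent.ClassicalGeometry.SympBasic.sympTransvection_mul v c d)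
  cases c with
  | o =>
    have h2 := hadd 1 .m
    have : (1 : F3) + .m = .o := rfl
    have h3 : tr v .o = 1 := Subtype.ext (Cfsg.Agent.ClassicalGeometry.SympBasic.sympTransvection_zero v)
    rw [h3]
    exact L.one_mem
  | i => exact h1
  | m =>
    have h2 := hadd 1 1
    have h3 : (1 : F3) + 1 = .m := rfl
    rw [h3] at h2
    rw [← h2]
    exact L.mul_mem h1 h1

theorem exists_partner (A : Sp) : ∃ B : U, (A, B) ∈ R := by
  apply exists_of_mem_L
  have h1 : A ∈ (⊤ : Subgroup Sp) := trivial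
  rw [← Cfsg.Agent.S0765.result (F := F3) 2] at h1
  refine (Subgroup.closure_le L).2 ?_ h1
  rintro B ⟨w, c, hB⟩
  have : B = tr w c := Subtype.ext hB
  rw [this]
  exact tr_mem w c

/-! ### The centres match -/

theorem P_inj_aux : ∀ i j : Fin 40, ∀ c : F3, (pa i = c * pa j ∧ pb i = c * pb j ∧ pc i = c * pc j ∧
    pd i = c * pd j) → i = j := by
  decide +kernel

theorem N_inj_aux : ∀ i j : Fin 40, ∀ c : F4, (na i = c * na j ∧ nb i = c * nb j ∧ nc i = c * nc j ∧
    nd i = c * nd j) → i = j := by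
  decide +kernel

theorem P_inj {i j : Fin 40} {c : F3} (h : P i = c • P j) : i = j :=
  P_inj_aux i j c ⟨congrFun h (.inl 0), congrFun h (.inl 1), congrFun h (.inr 0), congrFun h (.inr 1)⟩

theorem N_inj {i j : Fin 40} {c : F4} (h : N i = c • N j) : i = j :=
  N_inj_aux i j c ⟨congrFun h 0, congrFun h 1, congrFun h 2, congrFun h 3⟩

theorem card_center_U : Nat.card (Subgroup.center U) = 1 := by
  have h := Cfsg.Agent.S0279.result (F := F4) (q := 2) rfl 4 (by norm_num)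
  rw [h]
  rfl

theorem center_U : Subgroup.center U = ⊥ := Subgroup.eq_bot_of_card_eq _ card_center_U

theorem F4_pow : ∀ c : F4, c * c * c * c = 1 → c = 1 := by decide

theorem U_eq_one {B : U} (h : ∀ i, rel N B.1.1 i i) : B = 1 := by
  choose d hd0 hd using h
  have e : ∀ k, B.1.1 *ᵥ Pi.single k 1 = (d (![0, 38, 14, 9] k)) • (Pi.single k 1 : Fin 4 → F4) := by
    intro k
    have h1 : ∀ k : Fin 4, N (![0, 38, 14, 9] k) = Pi.single k 1 := by decide +kernel
    rw [← h1 k]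
    exact hd _
  have h1 := fun y i => apply_eq e y i
  have h2 : ∀ i j, d (![0, 38, 14, 9] i) * N j i = d j * N j i := by
    intro i j
    rw [← h1 (N j) i, hd j]
    rfl
  have k0 : d 0 = d 2 := by
    have := h2 0 2
    rwa [show N 2 0 = 1 from rfl, mul_one, mul_one] at this
  have k2 : d 14 = d 2 := by
    have := h2 2 2
    rwa [show N 2 2 = 1 from rfl, mul_one, mul_one] at this
  have k3 : d 9 = d 2 := by
    have := h2 3 2
    rwa [show N 2 3 = 1 from rfl, mul_one, mul_one] at this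
  have k1' : d 38 = d 25 := by
    have := h2 1 25
    rwa [show N 25 1 = 1 from rfl, mul_one, mul_one] at this
  have k3' : d 9 = d 25 := by
    have := h2 3 25
    rwa [show N 25 3 = 1 from rfl, mul_one, mul_one] at this
  have hall : ∀ k : Fin 4, d (![0, 38, 14, 9] k) = d 2 := by
    intro k
    fin_cases k
    · exact k0
    · exact k1'.trans (k3'.symm.trans k3)
    · exact k2
    · exact k3
  have hB : B.1.1 = Matrix.diagonal (fun _ => d 2) := by
    apply Matrix.ext_of_mulVec_single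
    intro k
    rw [e k, hall k]
    ext i
    rw [Matrix.mulVec_diagonal]
    rfl
  have hdet : d 2 = 1 := by
    have h3 : B.1.1.det = 1 := B.1.2
    rw [hB, Matrix.det_diagonal, Fin.prod_univ_four] at h3
    exact F4_pow _ h3
  apply Subtype.ext
  apply Subtype.ext
  rw [hB, hdet, Matrix.diagonal_one]
  rfl

theorem Sp_central {A : Sp} (h : ∀ i, rel P A.1 i i) : A ∈ Subgroup.center Sp := by
  choose d hd0 hd using h
  let ix : Fin 2 ⊕ Fin 2 → Fin 40 := Sum.elim ![0, 38] ![2, 25]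
  have e : ∀ k, A.1 *ᵥ Pi.single k 1 = (d (ix k)) • (Pi.single k 1 : Fin 2 ⊕ Fin 2 → F3) := by
    intro k
    have h1 : ∀ k : Fin 2 ⊕ Fin 2, P ((Sum.elim ![0, 38] ![2, 25] : Fin 2 ⊕ Fin 2 → Fin 40) k) =
      Pi.single k 1 := by decide +kernel
    rw [← h1 k]
    exact hd _
  have h1 := fun y i => apply_eq e y i
  have h2 : ∀ i j, d (ix i) * P j i = d j * P j i := by
    intro i j
    rw [← h1 (P j) i, hd j]
    rfl
  have a0 : d 0 = d 14 := by
    have := h2 (.inl 0) 14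
    rwa [show P 14 (.inl 0) = 1 from rfl, mul_one, mul_one] at this
  have a1 : d 38 = d 14 := by
    have := h2 (.inl 1) 14
    rwa [show P 14 (.inl 1) = 1 from rfl, mul_one, mul_one] at this
  have b0 : d 0 = d 3 := by
    have := h2 (.inl 0) 3
    rwa [show P 3 (.inl 0) = 1 from rfl, mul_one, mul_one] at this
  have b1 : d 2 = d 3 := by
    have := h2 (.inr 0) 3
    rwa [show P 3 (.inr 0) = 1 from rfl, mul_one, mul_one] at this
  have c0 : d 0 = d 31 := by
    have := h2 (.inl 0) 31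
    rwa [show P 31 (.inl 0) = 1 from rfl, mul_one, mul_one] at this
  have c1 : d 25 = d 31 := by
    have := h2 (.inr 1) 31
    rwa [show P 31 (.inr 1) = 1 from rfl, mul_one, mul_one] at this
  have hall : ∀ k : Fin 2 ⊕ Fin 2, d (ix k) = d 0 := by
    rintro (k | k) <;> fin_cases k
    · rfl
    · exact a1.trans a0.symm
    · exact b1.trans b0.symm
    · exact c1.trans c0.symm
  rw [Cfsg.Agent.LieClassical.SympCenter.mem_center_iff]
  refine ⟨d 0, ?_⟩
  apply Matrix.ext_of_mulVec_single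
  intro k
  rw [e k, hall k, Matrix.smul_mulVec, Matrix.one_mulVec]

theorem center_iff (A : Sp) (B : U) (h : (A, B) ∈ R) :
    A ∈ Subgroup.center Sp ↔ B ∈ Subgroup.center U := by
  obtain ⟨σ, hσ⟩ := h
  constructor
  · intro hA
    rw [Cfsg.Agent.LieClassical.SympCenter.mem_center_iff] at hA
    obtain ⟨a, ha⟩ := hA
    have hid : ∀ i, σ i = i := by
      intro i
      obtain ⟨c, hc, h1⟩ := (hσ i).1
      have h2 : a • P i = c • P (σ i) := by
        rw [← h1]
        show a • P i = A.1 *ᵥ P i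
        rw [ha, Matrix.smul_mulVec, Matrix.one_mulVec]
      have h3 : P (σ i) = (c⁻¹ * a) • P i := by
        rw [mul_smul, h2, smul_smul, inv_mul_cancel₀ hc, one_smul]
      exact P_inj h3
    have hB : B = 1 := U_eq_one (fun i => by
      have := (hσ i).2
      rwa [hid i] at this)
    rw [hB]
    exact Subgroup.one_mem _
  · intro hB
    rw [center_U, Subgroup.mem_bot] at hB
    subst hB
    have hid : ∀ i, σ i = i := by
      intro i
      obtain ⟨c, hc, h1⟩ := (hσ i).2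
      have h2 : N i = c • N (σ i) := by
        rw [← h1]
        exact (Matrix.one_mulVec (N i)).symm
      exact (N_inj h2).symm
    exact Sp_central (fun i => by
      have := (hσ i).1
      rwa [hid i] at this)

/-! ### The orders -/

theorem card_PSp : Nat.card (Cfsg.PSp 2 F3) = 25920 := by
  have h1 := Cfsg.Agent.S0245.result (F := F3) (q := 3) rfl 2
  have h2 := Cfsg.Agent.S0246.result (F := F3) (q := 3) rfl 2 (by norm_num)
  have h3 := Subgroup.card_eq_card_quotient_mul_card_subgroup (Subgroup.center Sp)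
  rw [h1, h2] at h3
  simp only [Finset.prod_range_succ, Finset.prod_range_zero] at h3
  norm_num at h3
  show Nat.card (Sp ⧸ Subgroup.center Sp) = 25920
  omega

theorem card_PSU : Nat.card (Cfsg.PSU 4 F4 2) = 25920 := by
  have h1 := Cfsg.Agent.S0280.result (F := F4) (q := 2) rfl 4 (by norm_num)
  have h2 : Nat.gcd 4 (2 + 1) = 1 := by norm_num
  have h3 : (∏ i ∈ Finset.range 4, (if Even i then 2 ^ (i + 1) + 1 else 2 ^ (i + 1) - 1)) = 1215 := by
    decide
  rw [h2, h3] at h1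
  norm_num at h1
  omega

/-- PSU_4(2) ≅ PSp_4(3): with |F| = 4 and |K| = 3, the projective special unitary group of the standard Hermitian form on F^4 is isomorphic to PSp_4(K). -/
theorem result {F K : Type*} [Field F] [Fintype F] [Field K] [Fintype K] (hF : Fintype.card F = 4) (hK : Fintype.card K = 3) : Nonempty (Cfsg.PSU 4 F 2 ≃* Cfsg.PSp 2 K) := by
  have e1 := Cfsg.Agent.LieClassical.FieldTransfer.psuCongr 4 2 (Cfsg.Agent.Lib.FieldFour.equivOfCard hF)
  have e2 := Cfsg.Agent.LieClassical.FieldTransfer.pspCongr 2 (Cfsg.Agent.Lib.FieldThree.equivOfCard hK)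
  have : Finite (U ⧸ Subgroup.center U) := by
    apply Nat.finite_of_card_ne_zero
    have : Nat.card (U ⧸ Subgroup.center U) = 25920 := card_PSU
    rw [this]
    norm_num
  obtain ⟨e⟩ := Cfsg.Agent.Lib.GraphIsoCard.nonempty_quotient_equiv R (Subgroup.center Sp)
    (Subgroup.center U) exists_partner center_iff (le_of_eq (card_PSU.trans card_PSp.symm))
  exact ⟨e1.trans (e.symm.trans e2.symm)⟩

end Cfsg.Agent.S0822
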