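import Cfsg.Statements.S0256
import Mathlib
import Cfsg.Agent.S0243
import Cfsg.Agent.S0249
import Cfsg.Agent.LieClassical.PSLTwoAlt
import Cfsg.Agent.LieClassical.SLFourTwo

set_option autoImplicit false
open Cfsg

namespace Cfsg.Agent.S0256

/-- PSL_4(2) is isomorphic to A_8. -/
theorem result {F : Type*} [Field F] [Fintype F] (hF : Fintype.card F = 2) : Nonempty (Matrix.ProjectiveSpecialLinearGroup (Fin 4) F ≃* alternatingGroup (Fin 8)) := by
  classical
  let e : ZMod 2 ≃+* F := ZMod.ringEquivOfPrime F Nat.prime_two hF
  have hunit : ∀ a : F, a ≠ 0 → a = 1 := by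
    intro a ha
    have h1 : e.symm a ≠ 0 := fun h => ha (by simpa using congrArg e h)
    have h2 : e.symm a = 1 := by
      revert h1
      generalize e.symm a = b
      revert b
      decide
    simpa using congrArg e h2
  -- the centre is trivial
  have hc : Subgroup.center (Matrix.SpecialLinearGroup (Fin 4) F) = ⊥ := by
    rw [eq_bot_iff]
    intro A hA
    rw [Matrix.SpecialLinearGroup.mem_center_iff] at hA
    obtain ⟨r, hr, hA⟩ := hA
    have hr0 : r ≠ 0 := by
      rintro rfl
      simp at hr
    have hr1 := hunit r hr0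
    subst hr1
    rw [Subgroup.mem_bot]
    apply Subtype.ext
    rw [← hA]
    simp
  let f0 : Matrix.SpecialLinearGroup (Fin 4) F →* Equiv.Perm (Fin 8) :=
    Cfsg.Agent.LieClassical.SLFourTwo.hom.comp
      (Matrix.SpecialLinearGroup.map (e.symm : F →+* ZMod 2))
  let f : Matrix.ProjectiveSpecialLinearGroup (Fin 4) F →* Equiv.Perm (Fin 8) :=
    QuotientGroup.lift _ f0 (fun A hA => by
      rw [hc, Subgroup.mem_bot] at hA
      rw [hA]
      exact one_mem _)
  have hs := Cfsg.Agent.S0249.result (F := F) 4 (by norm_num)
  have hf : Function.Injective f := by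
    rw [← MonoidHom.ker_eq_bot_iff]
    rcases Subgroup.Normal.eq_bot_or_eq_top (inferInstance : f.ker.Normal) with h | h
    · exact h
    · exfalso
      let A : Matrix.SpecialLinearGroup (Fin 4) F :=
        Matrix.SpecialLinearGroup.transvection (i := 0) (j := 1) (by decide) 1
      have h1 : f (QuotientGroup.mk A) = 1 := by
        rw [← MonoidHom.mem_ker, h]
        exact Subgroup.mem_top _
      have h2 : f (QuotientGroup.mk A) =
        Cfsg.Agent.LieClassical.SLFourTwo.hom
          (Matrix.SpecialLinearGroup.transvection (i := 0) (j := 1) (by decide) 1) := by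
        change Cfsg.Agent.LieClassical.SLFourTwo.hom _ = _
        congr 1
        apply Subtype.ext
        ext a b
        change e.symm ((1 + Matrix.single 0 1 (1 : F) : Matrix (Fin 4) (Fin 4) F) a b) =
          (1 + Matrix.single 0 1 (1 : ZMod 2) : Matrix (Fin 4) (Fin 4) (ZMod 2)) a b
        simp only [Matrix.add_apply, Matrix.one_apply, Matrix.single_apply, map_add]
        congr 1 <;> split_ifs <;> simp
      rw [h1, Cfsg.Agent.LieClassical.SLFourTwo.hom_transvection] at h2
      have h3 := DFunLike.congr_fun h2 0
      revert h3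
      change ¬ ((0 : Fin 8) = Cfsg.Agent.LieClassical.SLFourTwo.sig 0 1 0)
      decide
  refine Cfsg.Agent.LieClassical.PSLTwoAlt.equiv_alternating_of_injective (X := Fin 8)
    (by simp) f hf ?_
  have h := Cfsg.Agent.S0243.result hF 4 (by norm_num)
  simp only [Fin.prod_univ_four] at h
  norm_num [Nat.factorial] at h ⊢
  omega

end Cfsg.Agent.S0256
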