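import Cfsg.Statements.S0892
-- import your own Cfsg.Agent.* helpers here
import Cfsg.Agent.CharactersDeep.SchurAltFinal
import Cfsg.Agent.CharactersDeep.SchurAltFour

set_option autoImplicit false
open Cfsg

namespace Cfsg.Agent.S0892

/-- Let n ≥ 4 with n ≠ 6 and n ≠ 7, and let Γ be a finite group with a subgroup Z contained in both the centre and the commutator subgroup of Γ such that Γ / Z is isomorphic to the alternating group on n letters. Then Z has order at most 2. -/
theorem result (n : ℕ) (hn : 4 ≤ n) (h6 : n ≠ 6) (h7 : n ≠ 7) {Γ : Type*} [Group Γ] [Finite Γ] (Z : Subgroup Γ) [Z.Normal] (hZc : Z ≤ Subgroup.center Γ) (hZd : Z ≤ commutator Γ) (e : Γ ⧸ Z ≃* alternatingGroup (Fin n)) : Nat.card Z ≤ 2 := by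
  let π : Γ →* Equiv.Perm (Fin n) :=
    (alternatingGroup (Fin n)).subtype.comp (e.toMonoidHom.comp (QuotientGroup.mk' Z))
  have hk : π.ker = Z := by
    ext g
    rw [MonoidHom.mem_ker]
    change ((e (QuotientGroup.mk' Z g) : alternatingGroup (Fin n)) : Equiv.Perm (Fin n)) = 1 ↔ _
    rw [← Subgroup.coe_one (alternatingGroup (Fin n)), Subtype.coe_inj, e.map_eq_one_iff,
      ← MonoidHom.mem_ker, QuotientGroup.ker_mk']
  have hr : π.range = alternatingGroup (Fin n) := by
    apply le_antisymm
    · rintro _ ⟨g, rfl⟩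
      exact (e (QuotientGroup.mk' Z g)).2
    · intro g hg
      obtain ⟨q, hq⟩ := e.surjective ⟨g, hg⟩
      obtain ⟨γ, rfl⟩ := QuotientGroup.mk'_surjective Z q
      refine ⟨γ, ?_⟩
      change ((e (QuotientGroup.mk' Z γ) : alternatingGroup (Fin n)) : Equiv.Perm (Fin n)) = g
      rw [hq]
  have hker : π.ker ≤ Subgroup.center Γ := hk.le.trans hZc
  have hd : π.ker ≤ commutator Γ := hk.le.trans hZd
  have main : Nat.card π.ker ≤ 2 := by
    by_cases h4 : n = 4
    · subst h4
      exact Cfsg.Agent.CharactersDeep.SchurAltFour.card_ker_le_two π hker hr hd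
    · have hcard : Fintype.card (Fin n) = 5 ∨ 8 ≤ Fintype.card (Fin n) := by
        rw [Fintype.card_fin]; omega
      have h0 : 0 < n := by omega
      have h1 : 1 < n := by omega
      refine Cfsg.Agent.CharactersDeep.SchurAltFinal.card_ker_le_two π hker hr hcard hd (n - 2)
        (by rw [Fintype.card_fin]; omega) (o := ⟨0, h0⟩) (l := ⟨1, h1⟩)
        (by rw [Ne, Fin.mk.injEq]; omega)
        (fun i => if h : i + 2 < n then ⟨i + 2, h⟩ else ⟨0, h0⟩) ?_ ?_ ?_ ?_
      · intro i hi
        rw [dif_pos (by omega), Ne, Fin.mk.injEq]; omega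
      · intro i hi
        rw [dif_pos (by omega), Ne, Fin.mk.injEq]; omega
      · intro i hi j hj hij
        rw [dif_pos (by omega), dif_pos (by omega), Fin.mk.injEq] at hij
        omega
      · rintro ⟨c, hc⟩ hc0 hc1
        rw [Ne, Fin.mk.injEq] at hc0 hc1
        refine ⟨c - 2, by omega, ?_⟩
        rw [dif_pos (by omega), Fin.mk.injEq]
        omega
  rw [← hk]; exact main

end Cfsg.Agent.S0892
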