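import Cfsg.Statements.S0105
import Mathlib

set_option autoImplicit false
open Cfsg

namespace Cfsg.Agent.S0105

open Subgroup MonoidHom

section aux
variable {G : Type*} [Group G] [Finite G] {p : ℕ} [Fact p.Prime] (P : Sylow p G)
  (hP : IsMulCommutative P)

open scoped IsMulCommutative

/-- conjugate of an element of `P` by an element of the normaliser -/
def cj (n : Subgroup.normalizer (P : Set G)) : P →* P :=
  (((Subgroup.normalizerMonoidHom (P : Subgroup G)) n : MulAut (P : Subgroup G)) : (P : Subgroup G) →* (P : Subgroup G))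

theorem coe_cj (n : Subgroup.normalizer (P : Set G)) (x : P) :
    (cj P n x : G) = (n : G) * x * (n : G)⁻¹ := rfl

include hP in
theorem cj_eq_of_rel (x : P) (m n : Subgroup.normalizer (P : Set G))
    (h : (m : Subgroup.normalizer (P : Set G))⁻¹ * n ∈ (P : Subgroup G).subgroupOf (Subgroup.normalizer (P : Set G))) :
    cj P m x = cj P n x := by
  apply Subtype.ext
  rw [coe_cj, coe_cj]
  rw [Subgroup.mem_subgroupOf] at h
  have h1 : ((m : G)⁻¹ * n) * x = x * ((m : G)⁻¹ * n) := by
    have := hP.is_comm.comm (⟨_, h⟩ : P) x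
    exact congrArg Subtype.val this
  have h2 : (n : G) = m * ((m : G)⁻¹ * n) := by group
  rw [h2]
  rw [mul_inv_rev, show (m : G) * ((m : G)⁻¹ * n) * x * (((m : G)⁻¹ * n)⁻¹ * (m : G)⁻¹)
      = (m : G) * (((m : G)⁻¹ * n) * x) * (((m : G)⁻¹ * n)⁻¹ * (m : G)⁻¹) by group]
  rw [h1]
  group

/-- the value at a coset -/
noncomputable def cjQ (x : P) (q : Subgroup.normalizer (P : Set G) ⧸ (P : Subgroup G).subgroupOf (Subgroup.normalizer (P : Set G))) : P :=
  cj P q.out x

include hP in
theorem cjQ_mk (x : P) (n : Subgroup.normalizer (P : Set G)) :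
    cjQ P x (n : Subgroup.normalizer (P : Set G) ⧸ (P : Subgroup G).subgroupOf (Subgroup.normalizer (P : Set G))) = cj P n x := by
  unfold cjQ
  apply cj_eq_of_rel P hP
  rw [← QuotientGroup.eq]
  exact Quotient.out_eq' _

end aux

/-- With an abelian Sylow p-subgroup P, some quotient of G is isomorphic to the part of P central in N_G(P). -/
theorem result {G : Type*} [Group G] [Finite G] {p : ℕ} [Fact p.Prime] (P : Sylow p G) (hP : IsMulCommutative P) : ∃ (N : Subgroup G) (hN : N.Normal), Nonempty (G ⧸ N ≃* ((P : Subgroup G) ⊓ Subgroup.centralizer (Subgroup.normalizer (P : Set G) : Set G) : Subgroup G)) := by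
  classical
  have hPc : IsMulCommutative (P : Subgroup G) := hP
  letI : CommGroup (P : Subgroup G) := { (inferInstance : Group (P : Subgroup G)) with mul_comm := hP.is_comm.comm }
  let N := Subgroup.normalizer (P : Set G)
  let Q := N ⧸ (P : Subgroup G).subgroupOf N
  haveI : Fintype Q := Fintype.ofFinite _
  -- the averaging homomorphism
  let ν : P →* P :=
    { toFun := fun x => ∏ q : Q, cjQ P x q
      map_one' := by
        apply Finset.prod_eq_one
        intro q _
        exact map_one (cj P q.out)
      map_mul' := by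
        intro x y
        rw [← Finset.prod_mul_distrib]
        apply Finset.prod_congr rfl
        intro q _
        exact map_mul (cj P q.out) x y }
  have hν : ∀ (n : N) (x : P), cj P n (ν x) = ν x := by
    intro n x
    change cj P n (∏ q : Q, cjQ P x q) = ∏ q : Q, cjQ P x q
    rw [map_prod]
    apply Fintype.prod_equiv (MulAction.toPerm n)
    intro q
    induction q using QuotientGroup.induction_on with
    | H m =>
      have : (MulAction.toPerm n : Equiv.Perm Q) (m : Q) = ((n * m : N) : Q) := rfl
      rw [this, cjQ_mk P hP, cjQ_mk P hP]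
      apply Subtype.ext
      rw [coe_cj, coe_cj, coe_cj]
      push_cast
      group
  let D : Subgroup G := (P : Subgroup G) ⊓ Subgroup.centralizer (N : Set G)
  have hνD : ∀ x : P, (ν x : G) ∈ D := by
    intro x
    refine Subgroup.mem_inf.mpr ⟨(ν x).2, ?_⟩
    rw [Subgroup.mem_centralizer_iff]
    intro n hn
    have := congrArg Subtype.val (hν ⟨n, hn⟩ x)
    rw [coe_cj] at this
    simp only at this
    rw [mul_inv_eq_iff_eq_mul] at this
    exact this
  have hνpow : ∀ x : P, (x : G) ∈ D → ν x = x ^ (Fintype.card Q) := by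
    intro x hx
    change (∏ q : Q, cjQ P x q) = _
    rw [Finset.prod_congr rfl (g := fun _ => x)]
    · simp
    · intro q _
      apply Subtype.ext
      unfold cjQ
      rw [coe_cj]
      have h2 := (Subgroup.mem_inf.mp hx).2
      rw [Subgroup.mem_centralizer_iff] at h2
      rw [h2 _ q.out.2]
      group
  let V : G →* P := MonoidHom.transfer (MonoidHom.id P)
  have hV : ∀ x : P, (x : G) ∈ D → V x = x ^ (P : Subgroup G).index := by
    intro x hx
    have key : ∀ (k : ℕ) (g₀ : G), g₀⁻¹ * (x : G) ^ k * g₀ ∈ (P : Subgroup G) → g₀⁻¹ * (x : G) ^ k * g₀ = (x : G) ^ k := by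
      intro k g₀ hk
      obtain ⟨n, hn, h⟩ := P.conj_eq_normalizer_conj_of_mem ((x : G) ^ k) g₀ (Subgroup.pow_mem _ x.2 k) hk
      rw [h]
      have h3 : (x : G) ^ k ∈ Subgroup.centralizer (N : Set G) := Subgroup.pow_mem _ hx.2 k
      rw [Subgroup.mem_centralizer_iff] at h3
      have := h3 n hn
      rw [mul_assoc, ← this]
      group
    have := MonoidHom.transfer_eq_pow (MonoidHom.id P) (x : G) key
    rw [show V x = MonoidHom.transfer (MonoidHom.id P) (x : G) from rfl]
    rw [this]
    rfl
  let W : G →* D := 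
    { toFun := fun g => ⟨ν (V g), hνD _⟩
      map_one' := by
        apply Subtype.ext
        simp
      map_mul' := by
        intro x y
        apply Subtype.ext
        simp }
  have hW : ∀ x : D, W (x : G) = x ^ ((P : Subgroup G).index * Fintype.card Q) := by
    intro x
    apply Subtype.ext
    change ((ν (V x) : P) : G) = _
    have h1 : V (x : G) = (⟨x, x.2.1⟩ : P) ^ (P : Subgroup G).index := hV ⟨x, x.2.1⟩ x.2
    rw [h1, hνpow]
    · rw [← pow_mul]; rfl
    · exact Subgroup.pow_mem D x.2 _
  have hDp : IsPGroup p D := P.2.to_le inf_le_left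
  have hcop : ¬ p ∣ (P : Subgroup G).index * Fintype.card Q := by
    rw [(Fact.out : p.Prime).dvd_mul, not_or]
    refine ⟨P.not_dvd_index, ?_⟩
    intro h
    apply P.not_dvd_index
    apply h.trans
    rw [← Nat.card_eq_fintype_card]
    change (P : Subgroup G).relIndex N ∣ _
    exact Subgroup.relIndex_dvd_index_of_le P.le_normalizer
  have hsurj : Function.Surjective W := by
    intro y
    obtain ⟨x, hx⟩ := (hDp.powEquiv' hcop).surjective y
    exact ⟨x, (hW x).trans hx⟩
  exact ⟨W.ker, inferInstance, ⟨QuotientGroup.quotientKerEquivOfSurjective W hsurj⟩⟩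

end Cfsg.Agent.S0105
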