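import Cfsg.Statements.S0265
import Mathlib

set_option autoImplicit false
open Cfsg

namespace Cfsg.Agent.S0265

open Matrix in
theorem card_GL_eq_SL {F : Type*} [Field F] [Fintype F] {n : ℕ} (hn : n ≠ 0) :
    Nat.card (GL (Fin n) F) = Nat.card Fˣ * Nat.card (Matrix.SpecialLinearGroup (Fin n) F) := by
  have : Nonempty (Fin n) := ⟨⟨0, Nat.pos_of_ne_zero hn⟩⟩
  have h1 := Subgroup.card_eq_card_quotient_mul_card_subgroup
    (MonoidHom.ker (GeneralLinearGroup.det : GL (Fin n) F →* Fˣ))
  have h2 : Nat.card (GL (Fin n) F ⧸ MonoidHom.ker (GeneralLinearGroup.det : GL (Fin n) F →* Fˣ))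
      = Nat.card Fˣ :=
    Nat.card_congr (QuotientGroup.quotientKerEquivOfSurjective _
      GeneralLinearGroup.det_surjective).toEquiv
  have h3 : Nat.card (MonoidHom.ker (GeneralLinearGroup.det : GL (Fin n) F →* Fˣ)) =
      Nat.card (Matrix.SpecialLinearGroup (Fin n) F) := by
    refine Nat.card_congr ⟨fun g => ⟨g.1.1, ?_⟩, fun g => ⟨SpecialLinearGroup.toGL g, ?_⟩, ?_, ?_⟩
    · have := g.2
      rw [MonoidHom.mem_ker] at this
      simpa using congrArg Units.val this
    · rw [MonoidHom.mem_ker]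
      ext
      simp
    · intro g
      exact Subtype.ext (Units.ext rfl)
    · intro g
      exact Subtype.ext rfl
  rw [h1, h2, h3]

open Matrix in
theorem card_GL_eq_PGL {F : Type*} [Field F] [Fintype F] {n : ℕ} (hn : n ≠ 0) :
    Nat.card (GL (Fin n) F) = Nat.card Fˣ * Nat.card (Matrix.ProjGenLinGroup (Fin n) F) := by
  have : Nonempty (Fin n) := ⟨⟨0, Nat.pos_of_ne_zero hn⟩⟩
  have h1 := Subgroup.card_eq_card_quotient_mul_card_subgroup
    (Subgroup.center (GL (Fin n) F))
  have h2 : Nat.card (Subgroup.center (GL (Fin n) F)) = Nat.card Fˣ := by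
    rw [GeneralLinearGroup.center_eq_range_scalar]
    refine (Nat.card_congr (Equiv.ofInjective (GeneralLinearGroup.scalar (Fin n) : Fˣ →* GL (Fin n) F) ?_)).symm
    intro a b hab
    have := congrArg (fun g : GL (Fin n) F => g.1 ⟨0, Nat.pos_of_ne_zero hn⟩ ⟨0, Nat.pos_of_ne_zero hn⟩) hab
    ext
    simpa using this
  rw [h1, h2, mul_comm]
  rfl

/-- |PGL_n(q)| = |SL_n(q)|: GL_n modulo its centre (the q-1 non-zero scalars) has the same order as the kernel of det. -/
theorem result {F : Type*} [Field F] [Fintype F] (n : ℕ) : Nat.card (Matrix.ProjGenLinGroup (Fin n) F) = Nat.card (Matrix.SpecialLinearGroup (Fin n) F) := by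
  rcases eq_or_ne n 0 with rfl | hn
  · have : Subsingleton (Matrix.ProjGenLinGroup (Fin 0) F) :=
      Matrix.ProjGenLinGroup.mk_surjective.subsingleton
    have : Subsingleton (Matrix.SpecialLinearGroup (Fin 0) F) := inferInstance
    rw [Nat.card_of_subsingleton (1 : Matrix.ProjGenLinGroup (Fin 0) F),
      Nat.card_of_subsingleton (1 : Matrix.SpecialLinearGroup (Fin 0) F)]
  · have h := (card_GL_eq_PGL (F := F) hn).symm.trans (card_GL_eq_SL hn)
    exact Nat.eq_of_mul_eq_mul_left Nat.card_pos h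

end Cfsg.Agent.S0265
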