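import Cfsg.Statements.S0226
import Mathlib

set_option autoImplicit false
open Cfsg

namespace Cfsg.Agent.S0226

/-- A finite group of even order has an odd number of involutions. -/
theorem result {G : Type*} [Group G] [Finite G] (heven : Even (Nat.card G)) : Odd (Nat.card {t : G // orderOf t = 2}) := by
  classical
  have := Fintype.ofFinite G
  have h1 : Fintype.card G ≡ Fintype.card (Function.fixedPoints (fun x : G => x⁻¹)) [MOD 2] := by
    have := Equiv.Perm.card_fixedPoints_modEq (f := (fun x : G => x⁻¹ : Function.End G)) (p := 2) (n := 1)
      (by funext x; show x⁻¹⁻¹ = x; simp)
    exact this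
  have h2 : Nat.card (Function.fixedPoints (fun x : G => x⁻¹)) = Nat.card {t : G // orderOf t = 2} + 1 := by
    have e : (Function.fixedPoints (fun x : G => x⁻¹)) ≃ Option {t : G // orderOf t = 2} :=
      { toFun := fun x => if h : (x : G) = 1 then none else some ⟨x, by
          have hx : (x : G)⁻¹ = x := x.2
          apply orderOf_eq_prime _ h
          rw [sq]; nth_rewrite 1 [← hx]; simp⟩
        invFun := fun y => match y with
          | none => ⟨1, by simp [Function.IsFixedPt]⟩
          | some t => ⟨t, by
              have ht := t.2
              have h3 : (t : G) ^ 2 = 1 := orderOf_dvd_iff_pow_eq_one.mp (dvd_of_eq ht)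
              show (t : G)⁻¹ = t
              rw [inv_eq_iff_mul_eq_one, ← sq]; exact h3⟩
        left_inv := by
          intro x
          by_cases h : (x : G) = 1
          · simp [h]; exact Subtype.ext h.symm
          · simp [h]
        right_inv := by
          intro y
          match y with
          | none => simp
          | some t =>
            have : (t : G) ≠ 1 := by
              intro h
              have := t.2
              rw [h] at this
              simp at this
            simp [this] }
    rw [Nat.card_congr e, Finite.card_option]
  have h4 : Even (Nat.card {t : G // orderOf t = 2} + 1) := by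
    rw [← h2, Nat.card_eq_fintype_card, Nat.even_iff]
    rw [Nat.card_eq_fintype_card, Nat.even_iff] at heven
    rw [← heven]; exact h1.symm
  exact Nat.not_even_iff_odd.mp (Nat.even_add_one.mp h4)

end Cfsg.Agent.S0226
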