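import Cfsg.Statements.S1702
import Cfsg.Agent.Ly.Simple
import Cfsg.Agent.Ly.Index
import Cfsg.Agent.Ly.CardDvd

set_option autoImplicit false
open Cfsg

namespace Cfsg.Agent.S1702

/-- The presented Lyons group is simple of the expected order (that is, it is a simple group of the order of the Lyons group). -/
theorem result : Cfsg.IsLy Cfsg.Spor.Ly := by
  obtain ⟨hfin, hle⟩ := Cfsg.Agent.Ly.Index.card_ly_le
  refine Cfsg.Agent.Ly.Simple.isLy_of_le hle ?_
  have : Finite Cfsg.Agent.Ly.Rep111.rho.range :=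
    Finite.of_surjective _ Cfsg.Agent.Ly.Rep111.rho.rangeRestrict_surjective
  refine Cfsg.Agent.Ly.CardDvd.dvd _ Cfsg.Agent.Ly.Rep111.rho.range.subtype ?_
  intro i
  rw [Subgroup.range_subtype, ← Cfsg.Agent.Ly.Rep111.rho_gens]
  exact ⟨_, rfl⟩

end Cfsg.Agent.S1702
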