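import Cfsg.Statements.S0014
import Mathlib

set_option autoImplicit false
open Cfsg

namespace Cfsg.Agent.S0014

/-- In a finite `p`-group a maximal subgroup is normal of index `p`. -/
theorem coatom_normal_index {G : Type*} [Group G] [Finite G] {p : ℕ} [Fact p.Prime]
    (hG : IsPGroup p G) {M : Subgroup G} (hM : IsCoatom M) : M.Normal ∧ M.index = p := by
  haveI := hG.isNilpotent
  have hn : M.Normal := ((Group.isNilpotent_of_finite_tfae (G := G)).out 0 2 rfl rfl).mp this M hM
  refine ⟨hn, ?_⟩
  have hQ : IsPGroup p (G ⧸ M) := hG.to_quotient M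
  obtain ⟨k, hk⟩ := (IsPGroup.iff_card.mp hQ)
  have hidx : M.index = p ^ k := hk
  -- k ≠ 0
  have hk0 : k ≠ 0 := by
    rintro rfl
    have : M.index = 1 := by simpa using hidx
    exact hM.1 (Subgroup.index_eq_one.mp this)
  -- find an element of order p in the quotient
  have hdvd : p ∣ Nat.card (G ⧸ M) := by rw [hk]; exact dvd_pow_self p hk0
  obtain ⟨x, hx⟩ := exists_prime_orderOf_dvd_card' p hdvd
  have hle : M ≤ (Subgroup.zpowers x).comap (QuotientGroup.mk' M) := by
    intro y hy
    rw [Subgroup.mem_comap, QuotientGroup.mk'_apply, (QuotientGroup.eq_one_iff y).mpr hy]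
    exact one_mem _
  have htop : (Subgroup.zpowers x).comap (QuotientGroup.mk' M) = ⊤ := by
    rcases hle.lt_or_eq with h | h
    · exact hM.2 _ h
    · exfalso
      obtain ⟨y, rfl⟩ := QuotientGroup.mk'_surjective M x
      have hy : y ∈ M := by
        rw [h, Subgroup.mem_comap]
        exact Subgroup.mem_zpowers _
      have : (QuotientGroup.mk' M) y = 1 := (QuotientGroup.eq_one_iff y).mpr hy
      rw [this, orderOf_one] at hx
      exact (Fact.out : p.Prime).one_lt.ne hx
  have hztop : Subgroup.zpowers x = ⊤ := by
    rw [eq_top_iff]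
    intro z _
    obtain ⟨y, rfl⟩ := QuotientGroup.mk'_surjective M z
    have : y ∈ (Subgroup.zpowers x).comap (QuotientGroup.mk' M) := by rw [htop]; trivial
    exact this
  have : Nat.card (G ⧸ M) = p := by
    rw [← hx, ← Nat.card_zpowers, hztop, Subgroup.card_top]
  exact this

theorem pow_mem_frattini {G : Type*} [Group G] [Finite G] {p : ℕ} [Fact p.Prime]
    (hG : IsPGroup p G) (x : G) : x ^ p ∈ frattini G := by
  unfold frattini Order.radical
  rw [Subgroup.mem_iInf]
  intro M
  rw [Subgroup.mem_iInf]
  intro hM
  obtain ⟨h1, h2⟩ := coatom_normal_index hG (M := M) hM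
  have := Subgroup.pow_index_mem M x
  rwa [h2] at this

theorem commutator_mem_frattini {G : Type*} [Group G] [Finite G] {p : ℕ} [Fact p.Prime]
    (hG : IsPGroup p G) (x y : G) : x * y * x⁻¹ * y⁻¹ ∈ frattini G := by
  unfold frattini Order.radical
  rw [Subgroup.mem_iInf]
  intro M
  rw [Subgroup.mem_iInf]
  intro hM
  obtain ⟨h1, h2⟩ := coatom_normal_index hG (M := M) hM
  have hc : Nat.card (G ⧸ M) = p := h2
  haveI : IsCyclic (G ⧸ M) := isCyclic_of_prime_card hc
  have hcomm : ∀ a b : G ⧸ M, a * b = b * a := by
    intro a b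
    letI := IsCyclic.commGroup (α := G ⧸ M)
    exact mul_comm a b
  rw [← QuotientGroup.eq_one_iff]
  have : ((x * y * x⁻¹ * y⁻¹ : G) : G ⧸ M) = (x : G ⧸ M) * y * (x : G ⧸ M)⁻¹ * (y : G ⧸ M)⁻¹ := rfl
  rw [this, hcomm (x : G ⧸ M) y]
  group

theorem closure_eq_top_iff {G : Type*} [Group G] [Finite G] (S : Set G) :
    Subgroup.closure S = ⊤ ↔
      Subgroup.closure ((QuotientGroup.mk' (frattini G)) '' S) = ⊤ := by
  rw [← MonoidHom.map_closure]
  constructor
  · intro h
    rw [h]
    exact Subgroup.map_top_of_surjective _ (QuotientGroup.mk'_surjective _)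
  · intro h
    apply frattini_nongenerating
    have := congrArg (Subgroup.comap (QuotientGroup.mk' (frattini G))) h
    rw [Subgroup.comap_map_eq, QuotientGroup.ker_mk'] at this
    simpa using this

/-- The linear algebra behind the basis theorem. -/
theorem auxAdd {W : Type*} (p n : ℕ) [Fact p.Prime] [AddCommGroup W] [Module (ZMod p) W]
    [Finite W] {G : Type*} (hcard : Nat.card W = p ^ n) (f : G → W) :
    (∀ S : Finset G, AddSubgroup.closure (f '' (S : Set G)) = ⊤ →
      ∃ T : Finset G, T ⊆ S ∧ T.card = n ∧ AddSubgroup.closure (f '' (T : Set G)) = ⊤) ∧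
    (∀ T : Finset G, AddSubgroup.closure (f '' (T : Set G)) = ⊤ → n ≤ T.card) := by
  classical
  have hspan : ∀ S : Set W, AddSubgroup.closure S = ⊤ ↔
      Submodule.span (ZMod p) S = ⊤ := by
    intro S
    constructor
    · intro h
      rw [eq_top_iff]
      intro v _
      have hv : v ∈ AddSubgroup.closure S := by
        rw [h]; trivial
      induction hv using AddSubgroup.closure_induction with
      | mem x hx => exact Submodule.subset_span hx
      | zero => exact Submodule.zero_mem _
      | add x y _ _ hx hy => exact Submodule.add_mem _ (hx trivial) (hy trivial)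
      | neg x _ hx => exact Submodule.neg_mem _ (hx trivial)
    · intro h
      rw [eq_top_iff]
      intro v _
      have hv : v ∈ Submodule.span (ZMod p) S := by rw [h]; trivial
      induction hv using Submodule.span_induction with
      | mem x hx => exact AddSubgroup.subset_closure hx
      | zero => exact zero_mem _
      | add x y _ _ hx hy => exact add_mem (hx trivial) (hy trivial)
      | smul a x _ hx => exact ZMod.smul_mem (hx trivial) _
  have hrank : Module.finrank (ZMod p) W = n := by
    haveI := Fintype.ofFinite W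
    have h1 := Module.card_eq_pow_finrank (K := ZMod p) (V := W)
    rw [ZMod.card, ← Nat.card_eq_fintype_card, hcard] at h1
    exact (Nat.pow_right_injective (Fact.out : p.Prime).two_le h1).symm
  constructor
  · intro S hS
    obtain ⟨b, hbS, -, hbspan, hbind⟩ :=
      exists_linearIndepOn_extension (K := ZMod p) (v := f) (s := ∅) (t := (S : Set G))
        (linearIndepOn_empty _ _) (Set.empty_subset _)
    have hbfin : b.Finite := S.finite_toSet.subset hbS
    have htop : Submodule.span (ZMod p) (f '' b) = ⊤ := by
      rw [eq_top_iff, ← (hspan _).mp hS]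
      exact Submodule.span_le.mpr hbspan
    refine ⟨hbfin.toFinset, ?_, ?_, ?_⟩
    · intro x hx
      exact hbS (hbfin.mem_toFinset.mp hx)
    · haveI := hbfin.fintype
      have hli : LinearIndependent (ZMod p) (fun x : b => f x) := hbind
      have hr : Set.range (fun x : b => f x) = f '' b := by
        rw [Set.image_eq_range]
      have B := Module.Basis.mk hli (by rw [hr, htop])
      have := Module.finrank_eq_card_basis B
      rw [← hrank, this]
      rw [← Set.toFinset_card]
      congr 1
      ext x
      simp
    · rw [hspan, hbfin.coe_toFinset, htop]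
  · intro T hT
    have h := (hspan _).mp hT
    rw [← hrank, ← finrank_top (ZMod p) W, ← h, ← Finset.coe_image]
    exact (finrank_span_finset_le_card _).trans Finset.card_image_le

theorem closure_ofMul {V : Type*} [CommGroup V] (S : Set V) :
    Subgroup.closure S = ⊤ ↔ AddSubgroup.closure (Additive.ofMul '' S) = ⊤ := by
  constructor
  · intro h
    rw [eq_top_iff]
    intro v _
    have hv : v.toMul ∈ Subgroup.closure S := by rw [h]; trivial
    have key : ∀ w ∈ Subgroup.closure S, Additive.ofMul w ∈ AddSubgroup.closure (Additive.ofMul '' S) := by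
      intro w hw
      induction hw using Subgroup.closure_induction with
      | mem x hx => exact AddSubgroup.subset_closure ⟨x, hx, rfl⟩
      | one => exact zero_mem _
      | mul x y _ _ hx hy => exact add_mem hx hy
      | inv x _ hx => exact neg_mem hx
    exact key _ hv
  · intro h
    rw [eq_top_iff]
    intro v _
    have hv : Additive.ofMul v ∈ AddSubgroup.closure (Additive.ofMul '' S) := by rw [h]; trivial
    have key : ∀ w ∈ AddSubgroup.closure (Additive.ofMul '' S), w.toMul ∈ Subgroup.closure S := by
      intro w hw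
      induction hw using AddSubgroup.closure_induction with
      | mem x hx =>
        obtain ⟨y, hy, rfl⟩ := hx
        exact Subgroup.subset_closure hy
      | zero => exact one_mem _
      | add x y _ _ hx hy => exact mul_mem hx hy
      | neg x _ hx => exact inv_mem hx
    exact key _ hv

theorem aux {V : Type*} [CommGroup V] [Finite V] {G : Type*} (p n : ℕ) [Fact p.Prime]
    (hexp : ∀ v : V, v ^ p = 1) (hcard : Nat.card V = p ^ n) (g : G → V) :
    (∀ S : Finset G, Subgroup.closure (g '' (S : Set G)) = ⊤ →
      ∃ T : Finset G, T ⊆ S ∧ T.card = n ∧ Subgroup.closure (g '' (T : Set G)) = ⊤) ∧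
    (∀ T : Finset G, Subgroup.closure (g '' (T : Set G)) = ⊤ → n ≤ T.card) := by
  have hexp' : ∀ v : Additive V, p • v = 0 := fun v => hexp v.toMul
  letI : Module (ZMod p) (Additive V) := AddCommGroup.zmodModule hexp'
  have := auxAdd p n (W := Additive V) hcard (fun x => Additive.ofMul (g x))
  have himg : ∀ S : Set G, (fun x => Additive.ofMul (g x)) '' S = Additive.ofMul '' (g '' S) := by
    intro S
    rw [Set.image_image]
  simp only [himg, ← closure_ofMul] at this
  exact this

theorem result {G : Type*} [Group G] [Finite G] (p n : ℕ) [Fact p.Prime]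
    (hG : IsPGroup p G) (hn : (frattini G).index = p ^ n) :
    (∀ S : Finset G, Subgroup.closure (S : Set G) = ⊤ → ∃ T : Finset G, T ⊆ S ∧ T.card = n ∧ Subgroup.closure (T : Set G) = ⊤) ∧
    (∀ T : Finset G, Subgroup.closure (T : Set G) = ⊤ → n ≤ T.card) := by
  letI : CommGroup (G ⧸ frattini G) :=
    { (inferInstance : Group (G ⧸ frattini G)) with
      mul_comm := by
        intro a b
        obtain ⟨x, rfl⟩ := QuotientGroup.mk_surjective a
        obtain ⟨y, rfl⟩ := QuotientGroup.mk_surjective b
        have h := commutator_mem_frattini hG x y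
        rw [← QuotientGroup.eq_one_iff] at h
        have h1 : (x : G ⧸ frattini G) * y * (x : G ⧸ frattini G)⁻¹ * (y : G ⧸ frattini G)⁻¹ = 1 := h
        have h2 := mul_inv_eq_one.mp h1
        exact mul_inv_eq_iff_eq_mul.mp h2 }
  have hexp : ∀ v : G ⧸ frattini G, v ^ p = 1 := by
    intro v
    obtain ⟨x, rfl⟩ := QuotientGroup.mk_surjective v
    exact (QuotientGroup.eq_one_iff _).mpr (pow_mem_frattini hG x)
  obtain ⟨h1, h2⟩ := aux p n hexp hn (QuotientGroup.mk' (frattini G))
  constructor
  · intro S hS
    obtain ⟨T, hT1, hT2, hT3⟩ := h1 S ((closure_eq_top_iff _).mp hS)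
    exact ⟨T, hT1, hT2, (closure_eq_top_iff _).mpr hT3⟩
  · intro T hT
    exact h2 T ((closure_eq_top_iff _).mp hT)

end Cfsg.Agent.S0014
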