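import Cfsg.Statements.S1679
import Cfsg.Agent.SporRec.G24Match
import Cfsg.Agent.SporRec.G24Suz
import Cfsg.Agent.SporRec.G24Upper
import Cfsg.Agent.SporRec.G24Lower

set_option autoImplicit false
open Cfsg

namespace Cfsg.Agent.S1679

open Cfsg.Agent.SporRec Cfsg.Agent.SporRec.GF4 Cfsg.Agent.SporRec.G24Code Cfsg.Agent.SporRec.G24Mat
  Cfsg.Agent.SporRec.G24Match Cfsg.Agent.SporRec.G24Suz Cfsg.Agent.SporRec.G24Rel

/-- a surjection from a finite group onto a group at least as large is an isomorphism -/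
theorem equiv_of_surj {D H : Type*} [Group D] [Group H] [Finite D] (f : D →* H)
    (hf : Function.Surjective f) (hc : Nat.card D ≤ Nat.card H) : Nonempty (D ≃* H) := by
  have : Finite H := Finite.of_surjective f hf
  have h1 : Nat.card H ≤ Nat.card D := Nat.card_le_card_of_surjective f hf
  have hb : Function.Bijective f := (Nat.bijective_iff_surjective_and_card f).2 ⟨hf, le_antisymm hc h1⟩
  exact ⟨MulEquiv.ofBijective f hb⟩

theorem prod_pair {G₁ G₂ : Type*} [Group G₁] [Group G₂] (x : Fin 6 → G₁) (y : Fin 6 → G₂)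
    (w : List (Fin 6)) :
    (w.map fun i => (x i, y i)).prod = ((w.map x).prod, (w.map y).prod) := by
  induction w with
  | nil => rfl
  | cons i w ih => rw [List.map_cons, List.prod_cons, ih]; rfl

/-- abstract form: two groups with generators satisfying the relators and large enough are isomorphic -/
theorem iso_of_gens {G₁ G₂ : Type*} [Group G₁] [Group G₂] (x : Fin 6 → G₁) (y : Fin 6 → G₂)
    (hx : ∀ w ∈ R6, (w.map x).prod = 1) (hy : ∀ w ∈ R6, (w.map y).prod = 1)
    (H : Subgroup G₁) (K : Subgroup G₂) (hH : Subgroup.closure (Set.range x) = H)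
    (hK : Subgroup.closure (Set.range y) = K)
    (cH : Finite H → 251596800 ≤ Nat.card H) (cK : 251596800 ≤ Nat.card K) : Nonempty (H ≃* K) := by
  obtain ⟨hfin, hcard⟩ := G24Upper.card_closure_le (fun i => (x i, y i)) (fun w hw => by
    rw [prod_pair, hx w hw, hy w hw]; rfl)
  set D := Subgroup.closure (Set.range fun i => (x i, y i)) with hD
  have e1 : D.map (MonoidHom.fst G₁ G₂) = H := by
    rw [hD, MonoidHom.map_closure, ← hH, ← Set.range_comp]; rfl
  have e2 : D.map (MonoidHom.snd G₁ G₂) = K := by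
    rw [hD, MonoidHom.map_closure, ← hK, ← Set.range_comp]; rfl
  have fH : Finite H := by
    rw [← e1]
    exact Finite.of_surjective _ (MonoidHom.subgroupMap_surjective (MonoidHom.fst G₁ G₂) D)
  have i1 : Nonempty (D ≃* D.map (MonoidHom.fst G₁ G₂)) :=
    equiv_of_surj _ (MonoidHom.subgroupMap_surjective (MonoidHom.fst G₁ G₂) D)
      (by rw [e1]; exact hcard.trans (cH fH))
  have i2 : Nonempty (D ≃* D.map (MonoidHom.snd G₁ G₂)) :=
    equiv_of_surj _ (MonoidHom.subgroupMap_surjective (MonoidHom.snd G₁ G₂) D)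
      (by rw [e2]; exact hcard.trans cK)
  rw [e1] at i1
  rw [e2] at i2
  exact ⟨i1.some.symm.trans i2.some⟩

/-- In the presented sporadic Suzuki group (generators a, …, g), the subgroup generated by the images of a, …, f is isomorphic to the adjoint Chevalley group of type G₂ over a field with four elements. -/
theorem result : ∃ (K : Type) (_ : Field K) (_ : Fintype K), Fintype.card K = 4 ∧ Nonempty ((((Subgroup.closure ({Cfsg.Spor.Suz.a, Cfsg.Spor.Suz.b, Cfsg.Spor.Suz.c, Cfsg.Spor.Suz.d, Cfsg.Spor.Suz.e, Cfsg.Spor.Suz.f} : Set (FreeGroup Cfsg.Spor.Suz.Gen))).map (PresentedGroup.mk (Cfsg.Spor.coxRelators Cfsg.Spor.Suz.edges ∪ {r | r ∈ Cfsg.Spor.Suz.extra})))) ≃* Cfsg.Lie.chevG2.group K) := by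
  refine ⟨F4, inferInstance, inferInstance, F4.card_F4, ?_⟩
  obtain ⟨φ, hφ⟩ := G24Lower.exists_hom
  refine iso_of_gens xs A xs_rel A_rel _ Gp map_closure_eq.symm closure_A ?_ card_Gp_ge
  intro hfin
  refine hφ.trans ?_
  exact Nat.card_le_card_of_surjective _ (MonoidHom.subgroupMap_surjective φ _)

end Cfsg.Agent.S1679
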