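import Cfsg.Statements.S0680
import Cfsg.Agent.PermutationGroups.SharpTwo

set_option autoImplicit false
open Cfsg

namespace Cfsg.Agent.S0680

open MulAction Cfsg.Agent.PermutationGroups.SharpTwo

theorem aux {G α : Type*} [Group G] [Finite G] [MulAction G α] [Fintype α]
    [IsMultiplyPretransitive G α 2]
    (hsharp : ∀ x : Fin 2 ↪ α, stabilizer G x = ⊥) (h2 : 2 ≤ Fintype.card α) :
    ∃ p j : ℕ, p.Prime ∧ 1 ≤ j ∧ Fintype.card α = p ^ j ∧
      ∀ (_ : Fact p.Prime) (P : Sylow p G), (P : Subgroup G).Normal ∧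
        IsMulCommutative (P : Subgroup G) ∧ (∀ x ∈ (P : Subgroup G), x ^ p = 1) ∧
        MulAction.IsPretransitive (P : Subgroup G) α ∧
        (∀ a : α, MulAction.stabilizer (P : Subgroup G) a = ⊥) ∧
        ∀ g : G, g ∈ (P : Subgroup G) ↔ g = 1 ∨ ∀ a : α, g • a ≠ a := by
  classical
  set n := Fintype.card α with hn
  have hne : Nonempty α := Fintype.card_pos_iff.1 (by omega)
  have hnt : Nontrivial α := Fintype.one_lt_card_iff_nontrivial.1 (by omega)
  have hG : Nat.card G = n * (n - 1) := card_eq hsharp h2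
  have hst : ∀ a : α, Nat.card (stabilizer G a) = n - 1 := card_stabilizer hsharp h2
  have hF := card_fpf hsharp h2
  set F : Set G := {g : G | ∀ a : α, g • a ≠ a} with hFdef
  -- elements of prime order dividing `n` are fixed point free
  have hcop : Nat.Coprime n (n - 1) := by
    have := Nat.coprime_self_add_right (m := n - 1) (n := 1)
    rw [Nat.coprime_comm]
    have h3 : n = (n - 1) + 1 := by omega
    rw [h3]
    simp
  have hfpf : ∀ g : G, g ≠ 1 → (∃ k, orderOf g ∣ n ^ k) → g ∈ F := by
    intro g hg ⟨k, hk⟩ a ha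
    apply hg
    rw [← orderOf_eq_one_iff]
    have h1 : orderOf g ∣ n - 1 := by
      rw [← hst a]
      exact Subgroup.orderOf_dvd_natCard _ (mem_stabilizer_iff.2 ha)
    exact Nat.eq_one_of_dvd_coprimes (Nat.Coprime.pow_left k hcop) hk h1
  -- a centralizer of a fixed point free element is semiregular
  have hcent : ∀ z ∈ F, ∀ h ∈ Subgroup.centralizer {z}, ∀ a : α, h • a = a → h = 1 := by
    intro z hz h hh a ha
    refine eq_one_of_fix hsharp (a := a) (b := z • a) (fun e => hz a e.symm) ha ?_
    rw [Subgroup.mem_centralizer_singleton_iff] at hh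
    rw [smul_smul, hh, ← smul_smul, ha]
  have hcent_le : ∀ z ∈ F, Nat.card (Subgroup.centralizer {z}) ≤ n := by
    intro z hz
    obtain ⟨a⟩ := hne
    rw [hn, ← Nat.card_eq_fintype_card]
    refine Nat.card_le_card_of_injective
      (fun h : Subgroup.centralizer {z} => (h : G) • a) ?_
    intro x y hxy
    have : y⁻¹ * x = 1 := by
      apply Subtype.ext
      refine hcent z hz _ (y⁻¹ * x).2 a ?_
      simp only [Subgroup.coe_mul, Subgroup.coe_inv, mul_smul]
      rw [inv_smul_eq_iff]
      exact hxy
    exact (inv_mul_eq_one.1 this).symm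
  -- the conjugacy class
  have hclass : ∀ z ∈ F, (Set.ncard (MulAction.orbit (ConjAct G) z)) *
      Nat.card (Subgroup.centralizer {z}) = n * (n - 1) := by
    intro z hz
    have h1 := (stabilizer (ConjAct G) z).card_mul_index
    rw [index_stabilizer] at h1
    rw [mul_comm, ← hG, Subgroup.nat_card_centralizer_nat_card_stabilizer, h1]
    rfl
  have hsub : ∀ z ∈ F, MulAction.orbit (ConjAct G) z ⊆ F := by
    rintro z hz _ ⟨g, rfl⟩ a ha
    apply hz ((ConjAct.ofConjAct g)⁻¹ • a)
    simp only [ConjAct.smul_def, mul_smul] at ha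
    rw [eq_inv_smul_iff]
    exact ha
  have hboth : ∀ z ∈ F, MulAction.orbit (ConjAct G) z = F ∧
      Nat.card (Subgroup.centralizer {z}) = n := by
    intro z hz
    have h1 := hclass z hz
    have h3 := hcent_le z hz
    have h4 : Set.ncard (MulAction.orbit (ConjAct G) z) ≤ n - 1 := by
      rw [← hF]; exact Set.ncard_le_ncard (hsub z hz) (Set.toFinite _)
    have h5 : n - 1 ≤ Set.ncard (MulAction.orbit (ConjAct G) z) := by
      by_contra hlt
      have : Set.ncard (MulAction.orbit (ConjAct G) z) *
        Nat.card (Subgroup.centralizer {z}) < (n - 1) * n :=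
        Nat.mul_lt_mul_of_lt_of_le (by omega) h3 (by omega)
      rw [h1, mul_comm] at this
      exact lt_irrefl _ this
    have h6 : Set.ncard (MulAction.orbit (ConjAct G) z) = n - 1 := le_antisymm h4 h5
    refine ⟨Set.eq_of_subset_of_ncard_le (hsub z hz) (by rw [hF, h6]) (Set.toFinite _), ?_⟩
    rw [h6, mul_comm n] at h1
    exact Nat.eq_of_mul_eq_mul_left (by omega) h1
  -- choose the prime
  obtain ⟨p, hp, hpn⟩ := Nat.exists_prime_and_dvd (n := n) (by omega)
  have hF' : Fact p.Prime := ⟨hp⟩
  have hpG : p ∣ Nat.card G := by rw [hG]; exact Dvd.dvd.mul_right hpn _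
  obtain ⟨z, hz⟩ := exists_prime_orderOf_dvd_card' p hpG
  have hz1 : z ≠ 1 := by
    rintro rfl
    rw [orderOf_one] at hz
    exact hp.one_lt.ne hz
  have hzF : z ∈ F := hfpf z hz1 ⟨1, by rw [hz]; simpa using hpn⟩
  have hord : ∀ g ∈ F, orderOf g = p := by
    intro g hg
    rw [← (hboth z hzF).1] at hg
    obtain ⟨c, rfl⟩ := hg
    rw [← hz]
    simp only [ConjAct.smul_def]
    exact (orderOf_injective (MulAut.conj (ConjAct.ofConjAct c)).toMonoidHom
      (MulAut.conj (ConjAct.ofConjAct c)).injective z)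
  have hprime : ∀ q : ℕ, q.Prime → q ∣ n → q = p := by
    intro q hq hqn
    have : Fact q.Prime := ⟨hq⟩
    obtain ⟨y, hy⟩ := exists_prime_orderOf_dvd_card' q
      (show q ∣ Nat.card G by rw [hG]; exact Dvd.dvd.mul_right hqn _)
    have hy1 : y ≠ 1 := by
      rintro rfl
      rw [orderOf_one] at hy
      exact hq.one_lt.ne hy
    rw [← hy]
    exact hord y (hfpf y hy1 ⟨1, by rw [hy]; simpa using hqn⟩)
  have hn0 : n ≠ 0 := by omega
  obtain ⟨j, hj⟩ : ∃ j, n = p ^ j := by
    refine ⟨n.primeFactorsList.length, ?_⟩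
    exact Nat.eq_prime_pow_of_unique_prime_dvd hn0 (fun {q} hq hqn => hprime q hq hqn)
  have hj1 : 1 ≤ j := by
    rcases Nat.eq_zero_or_pos j with h | h
    · rw [h, pow_zero] at hj; omega
    · exact h
  refine ⟨p, j, hp, hj1, hj, ?_⟩
  intro _ P
  have hPcard : Nat.card P = n := by
    rw [P.card_eq_multiplicity, hG, Nat.factorization_mul hn0 (by omega), Finsupp.add_apply]
    have h3 : (n - 1).factorization p = 0 := by
      apply Nat.factorization_eq_zero_of_not_dvd
      intro h
      have := Nat.eq_one_of_dvd_coprimes hcop hpn h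
      exact hp.one_lt.ne' this
    rw [h3, add_zero, hj, Nat.Prime.factorization_pow hp, Finsupp.single_eq_same]
  -- the description of `P`
  have hPsub : (P : Set G) ⊆ insert 1 F := by
    intro x hx
    by_cases hx1 : x = 1
    · exact Or.inl hx1
    · right
      apply hfpf x hx1
      refine ⟨1, ?_⟩
      rw [pow_one, ← hPcard]
      exact Subgroup.orderOf_dvd_natCard _ hx
  have h1F : (1 : G) ∉ F := by
    obtain ⟨a⟩ := hne
    intro h
    exact h a (one_smul _ _)
  have hins : Set.ncard (insert 1 F) = n := by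
    rw [Set.ncard_insert_of_notMem h1F (Set.toFinite _), hF]
    omega
  have hPeq : (P : Set G) = insert 1 F := by
    refine Set.eq_of_subset_of_ncard_le hPsub ?_ (Set.toFinite _)
    rw [hins, ← hPcard]
    exact le_of_eq (Nat.card_coe_set_eq _)
  have hmem : ∀ g : G, g ∈ (P : Subgroup G) ↔ g = 1 ∨ ∀ a : α, g • a ≠ a := by
    intro g
    have : g ∈ (P : Set G) ↔ g ∈ insert 1 F := by rw [hPeq]
    exact this
  have hstabP : ∀ a : α, MulAction.stabilizer (P : Subgroup G) a = ⊥ := by
    intro a
    rw [eq_bot_iff]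
    rintro ⟨g, hg⟩ hga
    rw [Subgroup.mem_bot]
    apply Subtype.ext
    rcases (hmem g).1 hg with h | h
    · exact h
    · exact absurd hga (h a)
  refine ⟨?_, ?_, ?_, ?_, hstabP, hmem⟩
  · constructor
    intro x hx g
    rw [hmem] at hx ⊢
    rcases hx with rfl | hx
    · left; simp
    · right
      intro a ha
      apply hx (g⁻¹ • a)
      rw [eq_inv_smul_iff, smul_smul, smul_smul]
      exact ha
  · constructor
    constructor
    rintro ⟨x, hx⟩ ⟨y, hy⟩
    apply Subtype.ext
    show x * y = y * x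
    rcases (hmem x).1 hx with rfl | hxF
    · simp
    · -- the centralizer of `x` is `P`
      have hC : (Subgroup.centralizer {x} : Set G) = insert 1 F := by
        refine Set.eq_of_subset_of_ncard_le ?_ ?_ (Set.toFinite _)
        · intro h hh
          by_cases h1 : h = 1
          · exact Or.inl h1
          · right
            intro a ha
            exact h1 (hcent x hxF h hh a ha)
        · rw [hins, ← (hboth x hxF).2]
          exact le_of_eq (Nat.card_coe_set_eq _)
      have hyC : y ∈ (Subgroup.centralizer {x} : Set G) := by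
        rw [hC, ← hPeq]; exact hy
      exact (Subgroup.mem_centralizer_singleton_iff.1 hyC).symm
  · intro x hx
    rcases (hmem x).1 hx with rfl | hxF
    · simp
    · rw [← hord x hxF]
      exact pow_orderOf_eq_one x
  · obtain ⟨a⟩ := hne
    rw [isPretransitive_iff_orbit_eq_univ a]
    refine Set.eq_of_subset_of_ncard_le (Set.subset_univ _) ?_ (Set.toFinite _)
    rw [Set.ncard_univ, ← index_stabilizer (P : Subgroup G) a, hstabP a, Subgroup.index_bot,
      hPcard, Nat.card_eq_fintype_card]

/-- A finite sharply doubly transitive permutation group has degree a prime power `p ^ j`; a Sylow `p`-subgroup is normal, elementary abelian and regular, and consists of the identity together with the elements without fixed points. (Frobenius' Theorem is not needed.) -/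
theorem result {α : Type*} [Fintype α] [DecidableEq α] (G : Subgroup (Equiv.Perm α)) [MulAction.IsMultiplyPretransitive G α 2] (hsharp : ∀ x : Fin 2 ↪ α, MulAction.stabilizer G x = ⊥) (h2 : 2 ≤ Fintype.card α) : ∃ p j : ℕ, p.Prime ∧ 1 ≤ j ∧ Fintype.card α = p ^ j ∧ ∀ (hp : Fact p.Prime) (P : Sylow p G), (P : Subgroup G).Normal ∧ IsMulCommutative (P : Subgroup G) ∧ (∀ x ∈ (P : Subgroup G), x ^ p = 1) ∧ MulAction.IsPretransitive (P : Subgroup G) α ∧ (∀ a : α, MulAction.stabilizer (P : Subgroup G) a = ⊥) ∧ ∀ g : G, g ∈ (P : Subgroup G) ↔ g = 1 ∨ ∀ a : α, g • a ≠ a :=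
  aux hsharp h2

end Cfsg.Agent.S0680
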