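import Cfsg.Statements.S0405
-- import your own Cfsg.Agent.* helpers here
import Cfsg.Agent.SporadicA.ConfigSimple
import Cfsg.Agent.Leech.FrameStab
import Cfsg.Agent.Leech.FrameTriples
import Cfsg.Agent.S0378
import Cfsg.Agent.S0379
import Cfsg.Agent.S1583
import Cfsg.Agent.S1584

set_option autoImplicit false
open Cfsg

namespace Cfsg.Agent.S0405

open MulAction Cfsg.Agent.Leech.FrameAux

/-- Joint stabiliser of two vectors of sum of squares 48 with coordinate dot product −32 is simple of order 44352000. -/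
theorem result (v w : Cfsg.leechLattice) (hv : Cfsg.sqNorm (v : Cfsg.GolayPt → ℤ) = 48) (hw : Cfsg.sqNorm (w : Cfsg.GolayPt → ℤ) = 48) (hvw : Cfsg.dotInt (v : Cfsg.GolayPt → ℤ) (w : Cfsg.GolayPt → ℤ) = -32) : Cfsg.IsHS ↥(MulAction.stabilizer Cfsg.Co0 v ⊓ MulAction.stabilizer Cfsg.Co0 w) := by
  classical
  obtain ⟨hcard, htr⟩ := Cfsg.Agent.S1583.result v w hv hw hvw
  have hsub0 := fun x => Cfsg.Agent.S1584.result v w x hv hw hvw
  obtain ⟨S, hSdef⟩ : ∃ S : Set leechLattice, S = {x : ↥Cfsg.leechLattice |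
    Cfsg.sqNorm (x : Cfsg.GolayPt → ℤ) = 32 ∧
      Cfsg.dotInt (v : Cfsg.GolayPt → ℤ) (x : Cfsg.GolayPt → ℤ) = 24 ∧
      Cfsg.dotInt (w : Cfsg.GolayPt → ℤ) (x : Cfsg.GolayPt → ℤ) = -24} := ⟨_, rfl⟩
  rw [← hSdef] at hcard htr hsub0
  have hSne : S.Nonempty := by
    rw [Set.nonempty_iff_ne_empty]
    intro h
    rw [h, Set.ncard_empty] at hcard
    exact absurd hcard (by norm_num)
  obtain ⟨x0, hx0⟩ := hSne
  obtain ⟨h22, h77, hsub⟩ := hsub0 x0 hx0
  have hx0' := hx0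
  rw [hSdef] at hx0'
  obtain ⟨h32, h24, h24'⟩ := hx0'
  have hS : ∀ g ∈ stabilizer Co0 v ⊓ stabilizer Co0 w, ∀ x ∈ S, g • x ∈ S := by
    rintro g ⟨hg1, hg2⟩ x hx
    have hg1' : g • v = v := hg1
    have hg2' : g • w = w := hg2
    rw [hSdef] at hx ⊢
    refine ⟨by rw [co0_sqNorm]; exact hx.1, ?_, ?_⟩
    · conv_lhs => rw [← hg1']
      rw [co0_dot]; exact hx.2.1
    · conv_lhs => rw [← hg2']
      rw [co0_dot]; exact hx.2.2
  obtain ⟨e⟩ := Leech.FrameStab.hs_triple_stab_of Leech.FrameTriples.trans64 v w x0 hv hw hvw h32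
    h24 h24'
  have hne : (none : GolayPt) ≠ some 0 := by simp
  have hM : Nat.card ↥(stabilizer Co0 v ⊓ stabilizer Co0 w ⊓ stabilizer Co0 x0) = 443520 := by
    rw [Nat.card_congr e.toEquiv]
    exact Cfsg.Agent.S0378.result _ _ hne
  have hMs : IsSimpleGroup ↥(stabilizer Co0 v ⊓ stabilizer Co0 w ⊓ stabilizer Co0 x0) := by
    have h1 := Cfsg.Agent.S0379.result _ _ hne
    have : Nontrivial ↥(stabilizer Co0 v ⊓ stabilizer Co0 w ⊓ stabilizer Co0 x0) :=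
      e.symm.injective.nontrivial
    exact IsSimpleGroup.isSimpleGroup_of_surjective e.symm.toMonoidHom e.symm.surjective
  have htr' : ∀ x ∈ S, ∃ g ∈ stabilizer Co0 v ⊓ stabilizer Co0 w, g • x0 = x := by
    intro x hx
    obtain ⟨g, h1, h2, h3⟩ := htr x0 hx0 x hx
    exact ⟨g, ⟨h1, h2⟩, h3⟩
  have hcardH := SporadicA.ConfigSimple.card_eq (stabilizer Co0 v ⊓ stabilizer Co0 w) S x0 hS hx0 htr'
  rw [hcard, hM] at hcardH
  refine ⟨?_, by rw [hcardH]⟩
  have hfin : Finite ↥(stabilizer Co0 v ⊓ stabilizer Co0 w) :=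
    Nat.finite_of_card_ne_zero (by rw [hcardH]; norm_num)
  have hx0x0 : dotInt (x0 : GolayPt → ℤ) (x0 : GolayPt → ℤ) ≠ 8 := by
    rw [dot_self, h32]; norm_num
  refine SporadicA.ConfigSimple.isSimpleGroup_of_config _ S x0 hS hx0 htr' hMs
    (ι := Fin 2) ![{y : leechLattice | y ∈ S ∧ dotInt (x0 : GolayPt → ℤ) (y : GolayPt → ℤ) = 8},
      {y : leechLattice | y ∈ S ∧ y ≠ x0 ∧ dotInt (x0 : GolayPt → ℤ) (y : GolayPt → ℤ) ≠ 8}]
      ?_ ?_ ?_ ?_ ?_ ![22, 77] ?_ ?_ ?_ ?_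
  · intro i
    fin_cases i
    · exact fun y hy => hy.1
    · exact fun y hy => hy.1
  · intro i
    fin_cases i
    · rintro y ⟨hy, hy8⟩ z ⟨hz, hz8⟩
      obtain ⟨g, h1, h2, h3, h4⟩ := hsub y hy z hz (by rintro rfl; exact hx0x0 hy8)
        (by rintro rfl; exact hx0x0 hz8) ⟨fun _ => hz8, fun _ => hy8⟩
      exact ⟨g, ⟨h1, h2⟩, h3, h4⟩
    · rintro y ⟨hy, hyx, hy8⟩ z ⟨hz, hzx, hz8⟩
      obtain ⟨g, h1, h2, h3, h4⟩ := hsub y hy z hz hyx hzx
        ⟨fun h => absurd h hy8, fun h => absurd h hz8⟩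
      exact ⟨g, ⟨h1, h2⟩, h3, h4⟩
  · intro i j hij
    fin_cases i <;> fin_cases j
    · exact absurd rfl hij
    · exact Set.disjoint_left.2 fun y hy hy' => hy'.2.2 hy.2
    · exact Set.disjoint_left.2 fun y hy hy' => hy.2.2 hy'.2
    · exact absurd rfl hij
  · intro i
    fin_cases i
    · exact fun h => hx0x0 h.2
    · exact fun h => h.2.1 rfl
  · intro x hx
    by_cases h : x = x0
    · exact Or.inl h
    · by_cases h8 : dotInt (x0 : GolayPt → ℤ) (x : GolayPt → ℤ) = 8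
      · exact Or.inr ⟨0, hx, h8⟩
      · exact Or.inr ⟨1, hx, h, h8⟩
  · intro i
    fin_cases i
    · exact h22
    · exact h77
  · rw [hcard]; decide +kernel
  · exact ⟨0, by norm_num⟩
  · intro N hN hc
    rw [hcard] at hc ⊢
    exact SporadicA.PrimSimple.exists_normal_of_card_100 N hN hc

end Cfsg.Agent.S0405
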