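import Cfsg.Statements.S0428
import Cfsg.Agent.SporadicA.SteinerThreeSix

set_option autoImplicit false
open Cfsg

namespace Cfsg.Agent.S0428

open Cfsg.Agent.SporadicA.SteinerCount Cfsg.Agent.SporadicA.SteinerThreeSix

/-- The size of a set of vertices of the point-block graph: extra vertex, points, blocks. -/
theorem card_vertices {α : Type*} [Fintype α] [DecidableEq α] {B : Set (Finset α)} [Fintype B]
    (S : Set (Option (α ⊕ B))) [Fintype S] (F : Finset (Finset α)) (hF : ∀ b, b ∈ F ↔ b ∈ B)
    (P₀ : Prop) [Decidable P₀] (h₀ : none ∈ S ↔ P₀)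
    (P₁ : α → Prop) [DecidablePred P₁] (h₁ : ∀ a : α, some (Sum.inl a) ∈ S ↔ P₁ a)
    (P₂ : Finset α → Prop) [DecidablePred P₂] (h₂ : ∀ b : B, some (Sum.inr b) ∈ S ↔ P₂ b) :
    Fintype.card S = (if P₀ then 1 else 0) + ((Finset.univ.filter P₁).card +
      (F.filter P₂).card) := by
  classical
  have hb : (Finset.univ.filter (fun b : B => P₂ b)).card = (F.filter P₂).card := by
    refine Finset.card_bij (fun b _ => (b : Finset α)) ?_ ?_ ?_
    · intro b hb
      rw [Finset.mem_filter] at hb
      exact Finset.mem_filter.2 ⟨(hF _).2 b.2, hb.2⟩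
    · intro b _ c _ h
      exact Subtype.ext h
    · intro b hb
      rw [Finset.mem_filter] at hb
      exact ⟨⟨b, (hF b).1 hb.1⟩, Finset.mem_filter.2 ⟨Finset.mem_univ _, hb.2⟩, rfl⟩
  have hS : S.toFinset = Finset.univ.filter (fun v : Option (α ⊕ B) => v ∈ S) := by
    ext v
    simp
  rw [← Set.toFinset_card, hS, Finset.card_filter, Fintype.sum_option, Fintype.sum_sum_type,
    ← hb, Finset.card_filter, Finset.card_filter]
  simp only [h₀, h₁, h₂]

/-- The point-block graph of an S(3, 6, 22) is strongly regular with parameters (100, 22, 0, 6). -/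
theorem result {α : Type*} [Fintype α] (hα : Fintype.card α = 22) {B : Set (Finset α)} (hB : Cfsg.IsSteinerSystem 3 6 B) [Fintype B] [DecidableRel (Cfsg.pointBlockGraph B).Adj] : (Cfsg.pointBlockGraph B).IsSRGWith 100 22 0 6 := by
  classical
  set F : Finset (Finset α) := B.toFinset with hFdef
  have hF : ∀ b, b ∈ F ↔ b ∈ B := fun b => by rw [hFdef, Set.mem_toFinset]
  -- description of the adjacency
  have hadj : ∀ v w : Option (α ⊕ B), (pointBlockGraph B).Adj v w ↔
      v ≠ w ∧ (pointBlockRel B v w ∨ pointBlockRel B w v) := fun v w =>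
    SimpleGraph.fromRel_adj _ _ _
  have a00 : (pointBlockGraph B).Adj none none ↔ False := by
    simp
  have a01 : ∀ x : α, (pointBlockGraph B).Adj none (some (Sum.inl x)) ↔ True := by
    intro x
    rw [hadj]
    exact iff_true_intro ⟨by simp, Or.inl trivial⟩
  have a02 : ∀ b : B, (pointBlockGraph B).Adj none (some (Sum.inr b)) ↔ False := by
    intro b
    rw [hadj]
    exact iff_false_intro (fun h => h.2.elim id id)
  have a10 : ∀ x : α, (pointBlockGraph B).Adj (some (Sum.inl x)) none ↔ True := by
    intro x
    rw [SimpleGraph.adj_comm]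
    exact a01 x
  have a11 : ∀ x y : α, (pointBlockGraph B).Adj (some (Sum.inl x)) (some (Sum.inl y)) ↔ False := by
    intro x y
    rw [hadj]
    exact iff_false_intro (fun h => h.2.elim id id)
  have a12 : ∀ (x : α) (b : B), (pointBlockGraph B).Adj (some (Sum.inl x)) (some (Sum.inr b)) ↔
      x ∈ (b : Finset α) := by
    intro x b
    rw [hadj]
    constructor
    · rintro ⟨_, h | h⟩
      · exact h
      · exact h.elim
    · intro h
      exact ⟨by simp, Or.inl h⟩
  have a20 : ∀ b : B, (pointBlockGraph B).Adj (some (Sum.inr b)) none ↔ False := by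
    intro b
    rw [SimpleGraph.adj_comm]
    exact a02 b
  have a21 : ∀ (b : B) (x : α), (pointBlockGraph B).Adj (some (Sum.inr b)) (some (Sum.inl x)) ↔
      x ∈ (b : Finset α) := by
    intro b x
    rw [SimpleGraph.adj_comm]
    exact a12 x b
  have a22 : ∀ b c : B, (pointBlockGraph B).Adj (some (Sum.inr b)) (some (Sum.inr c)) ↔
      Disjoint (b : Finset α) (c : Finset α) := by
    intro b c
    rw [hadj]
    constructor
    · rintro ⟨_, h | h⟩
      · exact h
      · exact Disjoint.symm h
    · intro h
      refine ⟨?_, Or.inl h⟩
      intro hbc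
      have hbc' : b = c := by simpa using hbc
      subst hbc'
      have h6 := hB.1 b b.2
      rw [disjoint_self] at h
      rw [h] at h6
      simp at h6
  have hdeg : ∀ v, (pointBlockGraph B).degree v = 22 := by
    intro v
    rw [← SimpleGraph.card_neighborSet_eq_degree]
    rcases v with _ | x | b
    · rw [card_vertices ((pointBlockGraph B).neighborSet none) F hF False a00
        (fun _ => True) a01 (fun _ => False) a02]
      simp [hα]
    · rw [card_vertices ((pointBlockGraph B).neighborSet (some (Sum.inl x))) F hF True (a10 x)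
        (fun _ => False) (a11 x) (fun b => x ∈ b) (a12 x), card_point hα hB hF x]
      simp
    · rw [card_vertices ((pointBlockGraph B).neighborSet (some (Sum.inr b))) F hF False (a20 b)
        (fun x => x ∈ (b : Finset α)) (a21 b) (fun c => Disjoint (b : Finset α) c) (a22 b),
        card_disjoint hα hB hF ((hF _).2 b.2)]
      simp [hB.1 b b.2]
  -- common neighbours
  have cn : ∀ v w : Option (α ⊕ B), v ≠ w →
      Fintype.card ((pointBlockGraph B).commonNeighbors v w) =
        if (pointBlockGraph B).Adj v w then 0 else 6 := by
    have symm_cn : ∀ v w : Option (α ⊕ B),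
        Fintype.card ((pointBlockGraph B).commonNeighbors v w) =
        Fintype.card ((pointBlockGraph B).commonNeighbors w v) := by
      intro v w
      exact Fintype.card_congr (Equiv.setCongr ((pointBlockGraph B).commonNeighbors_symm v w))
    have c01 : ∀ x : α, Fintype.card ((pointBlockGraph B).commonNeighbors none
        (some (Sum.inl x))) = 0 := by
      intro x
      rw [card_vertices ((pointBlockGraph B).commonNeighbors none (some (Sum.inl x))) F hF
        False (by rw [SimpleGraph.mem_commonNeighbors, a00]; simp)
        (fun _ => False) (fun y => by rw [SimpleGraph.mem_commonNeighbors, a11]; simp)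
        (fun _ => False) (fun b => by rw [SimpleGraph.mem_commonNeighbors, a02]; simp)]
      simp
    have c02 : ∀ b : B, Fintype.card ((pointBlockGraph B).commonNeighbors none
        (some (Sum.inr b))) = 6 := by
      intro b
      rw [card_vertices ((pointBlockGraph B).commonNeighbors none (some (Sum.inr b))) F hF
        False (by rw [SimpleGraph.mem_commonNeighbors, a00]; simp)
        (fun x => x ∈ (b : Finset α))
        (fun y => by rw [SimpleGraph.mem_commonNeighbors, a01, a21]; simp)
        (fun _ => False) (fun b => by rw [SimpleGraph.mem_commonNeighbors, a02]; simp)]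
      simp [hB.1 b b.2]
    have c11 : ∀ x y : α, x ≠ y → Fintype.card ((pointBlockGraph B).commonNeighbors
        (some (Sum.inl x)) (some (Sum.inl y))) = 6 := by
      intro x y hxy
      rw [card_vertices ((pointBlockGraph B).commonNeighbors (some (Sum.inl x))
        (some (Sum.inl y))) F hF
        True (by rw [SimpleGraph.mem_commonNeighbors, a10, a10]; simp)
        (fun _ => False) (fun y => by rw [SimpleGraph.mem_commonNeighbors, a11]; simp)
        (fun b => x ∈ b ∧ y ∈ b)
        (fun b => by rw [SimpleGraph.mem_commonNeighbors, a12, a12]),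
        card_pair hα hB hF hxy]
      simp
    have c12 : ∀ (x : α) (b : B), Fintype.card ((pointBlockGraph B).commonNeighbors
        (some (Sum.inl x)) (some (Sum.inr b))) = if x ∈ (b : Finset α) then 0 else 6 := by
      intro x b
      rw [card_vertices ((pointBlockGraph B).commonNeighbors (some (Sum.inl x))
        (some (Sum.inr b))) F hF
        False (by rw [SimpleGraph.mem_commonNeighbors, a20]; simp)
        (fun _ => False) (fun y => by rw [SimpleGraph.mem_commonNeighbors, a11]; simp)
        (fun d => x ∈ d ∧ Disjoint (b : Finset α) d)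
        (fun d => by rw [SimpleGraph.mem_commonNeighbors, a12, a22])]
      by_cases hx : x ∈ (b : Finset α)
      · have h0 : F.filter (fun d => x ∈ d ∧ Disjoint (b : Finset α) d) = ∅ := by
          rw [Finset.filter_eq_empty_iff]
          rintro d _ ⟨h1, h2⟩
          exact Finset.disjoint_left.1 h2 hx h1
        rw [h0]
        simp [hx]
      · rw [card_point_disjoint hα hB hF ((hF _).2 b.2) hx]
        simp [hx]
    have c22 : ∀ b c : B, b ≠ c → Fintype.card ((pointBlockGraph B).commonNeighbors
        (some (Sum.inr b)) (some (Sum.inr c))) =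
        if Disjoint (b : Finset α) (c : Finset α) then 0 else 6 := by
      intro b c hbc
      have hne : (b : Finset α) ≠ c := fun h => hbc (Subtype.ext h)
      rw [card_vertices ((pointBlockGraph B).commonNeighbors (some (Sum.inr b))
        (some (Sum.inr c))) F hF
        False (by rw [SimpleGraph.mem_commonNeighbors, a20]; simp)
        (fun y => y ∈ (b : Finset α) ∧ y ∈ (c : Finset α))
        (fun y => by rw [SimpleGraph.mem_commonNeighbors, a21, a21])
        (fun d => Disjoint (b : Finset α) d ∧ Disjoint (c : Finset α) d)
        (fun d => by rw [SimpleGraph.mem_commonNeighbors, a22, a22]),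
        card_disjoint_both hα hB hF ((hF _).2 b.2) ((hF _).2 c.2) hne]
      have h1 : Finset.univ.filter (fun y => y ∈ (b : Finset α) ∧ y ∈ (c : Finset α)) =
          (b : Finset α) ∩ c := by
        ext y
        simp
      rw [h1]
      by_cases hd : Disjoint (b : Finset α) (c : Finset α)
      · rw [if_pos hd, Finset.disjoint_iff_inter_eq_empty.1 hd]
        simp
      · rw [if_neg hd]
        rcases inter_card hα hB hF ((hF _).2 c.2) ((hF _).2 b.2) hne with h | h
        · exact absurd (Finset.disjoint_iff_inter_eq_empty.2 (Finset.card_eq_zero.1 h)) hd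
        · rw [h]
          simp
    intro v w hvw
    rcases v with _ | x | b <;> rcases w with _ | y | c
    · exact absurd rfl hvw
    · rw [c01, if_pos ((a01 y).2 trivial)]
    · rw [c02, if_neg (fun h => (a02 c).1 h)]
    · rw [symm_cn, c01, if_pos ((a10 x).2 trivial)]
    · rw [c11 x y (fun h => hvw (by rw [h])), if_neg (fun h => (a11 x y).1 h)]
    · rw [c12]
      simp only [a12]
    · rw [symm_cn, c02, if_neg (fun h => (a20 b).1 h)]
    · rw [symm_cn, c12]
      simp only [a21]
    · rw [c22 b c (fun h => hvw (by rw [h]))]
      simp only [a22]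
  refine ⟨?_, ?_, ?_, ?_⟩
  · rw [Fintype.card_option, Fintype.card_sum, hα, ← Set.toFinset_card, ← hFdef,
      card_F hα hB hF]
  · exact hdeg
  · intro v w hvw
    rw [cn v w ((pointBlockGraph B).ne_of_adj hvw), if_pos hvw]
  · intro v w hne hvw
    rw [cn v w hne, if_neg hvw]

end Cfsg.Agent.S0428
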