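import Cfsg.Statements.S1586
import Cfsg.Agent.S0410
import Cfsg.Agent.S0414
import Cfsg.Agent.S0428
import Cfsg.Agent.SporadicStructure.PBGAut

set_option autoImplicit false
open Cfsg

namespace Cfsg.Agent.S1586

open Cfsg.Agent.SporadicStructure.SRGSteiner Cfsg.Agent.SporadicStructure.PBGAut

/-- Vertex transitivity of the point-block graph of an `S(3, 6, 22)`. -/
theorem exists_iso_to_none {α : Type*} [Fintype α] [DecidableEq α] (hα : Fintype.card α = 22)
    {B : Set (Finset α)} (hB : Cfsg.IsSteinerSystem 3 6 B) (x : Option (α ⊕ B)) :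
    ∃ φ : Cfsg.pointBlockGraph B ≃g Cfsg.pointBlockGraph B, φ x = none := by
  classical
  have hsrg := Cfsg.Agent.S0428.result hα hB
  obtain ⟨B', hB', e, he⟩ := exists_steiner_of_srg hsrg x
  have hcard : Fintype.card ((Cfsg.pointBlockGraph B).neighborSet x) = 22 := by
    rw [SimpleGraph.card_neighborSet_eq_degree, hsrg.regular.degree_eq x]
  obtain ⟨e', he'⟩ := pointBlockGraph_iso_of_setSystemIso
    (Cfsg.Agent.S0410.result hcard hα hB' hB)
  exact ⟨e.trans e', by rw [RelIso.trans_apply, he, he']⟩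

/-- The Higman–Sims graph built from an S(3, 6, 22) has exactly 88704000 automorphisms. -/
theorem result {α : Type*} [Fintype α] [DecidableEq α] (hα : Fintype.card α = 22) {B : Set (Finset α)} (hB : Cfsg.IsSteinerSystem 3 6 B) : Nat.card (Cfsg.pointBlockGraph B ≃g Cfsg.pointBlockGraph B) = 88704000 := by
  classical
  have horb : MulAction.orbit (Cfsg.pointBlockGraph B ≃g Cfsg.pointBlockGraph B)
      (none : Option (α ⊕ B)) = Set.univ := by
    rw [Set.eq_univ_iff_forall]
    intro x
    obtain ⟨φ, hφ⟩ := exists_iso_to_none hα hB x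
    refine ⟨φ⁻¹, ?_⟩
    show φ⁻¹ • (none : Option (α ⊕ B)) = x
    rw [inv_smul_eq_iff]
    exact hφ.symm
  have h1 := Subgroup.card_mul_index (MulAction.stabilizer
    (Cfsg.pointBlockGraph B ≃g Cfsg.pointBlockGraph B) (none : Option (α ⊕ B)))
  rw [MulAction.index_stabilizer, horb, Set.ncard_univ, card_stabilizer_none,
    (Cfsg.Agent.S0414.result hα hB).1, Nat.card_eq_fintype_card,
    (Cfsg.Agent.S0428.result hα hB).card] at h1
  rw [← h1]

end Cfsg.Agent.S1586
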