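import Cfsg.Statements.S1701
import Cfsg.Agent.HN.DistinctC
import Cfsg.Agent.HN.Central

set_option autoImplicit false
open Cfsg

namespace Cfsg.Agent.S1701

/-- The presented Harada–Norton group is simple of the expected order (that is, it is a simple group of the order of the Harada–Norton group). -/
theorem result : Cfsg.IsHN Cfsg.Spor.HN :=
  ⟨Cfsg.Agent.HN.SimpleHN.isSimpleGroup_HN Cfsg.Agent.HN.H0Basic.finite_H0 Cfsg.Agent.HN.H0Basic.card_H0_le
    Cfsg.Agent.HN.XSq.hx_sq_ne (Cfsg.Agent.HN.Index.card_HN Cfsg.Agent.HN.DistinctC.hdis)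
    Cfsg.Agent.HN.Central.centralizer_le,
    Cfsg.Agent.HN.Index.card_HN Cfsg.Agent.HN.DistinctC.hdis⟩

end Cfsg.Agent.S1701
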