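import Cfsg.Statements.S1716
import Cfsg.Agent.Held.Assembly
import Cfsg.Agent.HeldHe.HeCase

set_option autoImplicit false
open Cfsg

namespace Cfsg.Agent.S1716

open Cfsg.Agent.SporadicRecognition.HeldModel in
/-- Groups with the involution centraliser of SL(5, 2), at the level of isomorphism: let G be a finite group with an involution z whose centraliser is isomorphic to the centraliser of a transvection s of SL(5, 2), and suppose some conjugate of z different from z lies in O₂ of the centraliser of z. Then G is isomorphic to the stabiliser in SL(5, 2) of a non-zero vector of the natural module, or to SL(5, 2), or to the Mathieu group M₂₄, or to the presented Held group. -/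
theorem result {G : Type*} [Group G] [Finite G] (s : Matrix.SpecialLinearGroup (Fin 5) (ZMod 2)) (hs : (s : Matrix (Fin 5) (Fin 5) (ZMod 2)) = Matrix.transvection 0 1 1) (z : G) (hz : orderOf z = 2) (e : (Subgroup.centralizer ({z} : Set G)) ≃* Subgroup.centralizer ({s} : Set (Matrix.SpecialLinearGroup (Fin 5) (ZMod 2)))) (hnwc : ∃ g : G, (∃ hq : g * z * g⁻¹ ∈ Subgroup.centralizer ({z} : Set G), (⟨g * z * g⁻¹, hq⟩ : Subgroup.centralizer ({z} : Set G)) ∈ Cfsg.pCore 2 (Subgroup.centralizer ({z} : Set G))) ∧ g * z * g⁻¹ ≠ z) : (∃ v : Fin 5 → ZMod 2, v ≠ 0 ∧ Nonempty (G ≃* MulAction.stabilizer (Matrix.SpecialLinearGroup (Fin 5) (ZMod 2)) v)) ∨ Nonempty (G ≃* Matrix.SpecialLinearGroup (Fin 5) (ZMod 2)) ∨ Nonempty (G ≃* Cfsg.M24) ∨ Cfsg.Spor.IsoHe G := by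
  have hz1 : z ≠ 1 := by
    rintro rfl
    rw [orderOf_one] at hz
    omega
  obtain ⟨ι, h, -⟩ := exists_hyp s hs z hz e
  obtain ⟨g, ⟨hq, hq2⟩, hne⟩ := hnwc
  refine Held.Assembly.main h (Held.Assembly.fusion h) (Held.Assembly.exists_fusion h g hq hq2 hne) ?_
  intro ph y1 y2 hE c htop
  obtain ⟨f, hf, hr, -⟩ := HeldHe.HeCase.he11 hE hz1 c
  rw [htop] at hr
  exact ⟨(MulEquiv.ofBijective f ⟨hf, MonoidHom.range_eq_top.mp hr⟩).symm⟩

end Cfsg.Agent.S1716
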