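import Cfsg.Statements.S1057
-- import your own Cfsg.Agent.* helpers here
import Cfsg.Agent.ChevalleyStructure.FieldIso
import Cfsg.Agent.ChevalleyStructure.G2Two.Match

set_option autoImplicit false
open Cfsg

namespace Cfsg.Agent.S1057


/-- The commutator subgroups of isomorphic groups are isomorphic. -/
theorem commutator_equiv {A B : Type*} [Group A] [Group B] (E : A ≃* B) :
    Nonempty (↥(commutator A) ≃* ↥(commutator B)) := by
  have h : (commutator A).map E.toMonoidHom = commutator B := by
    rw [commutator_def, Subgroup.map_commutator, commutator_def]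
    rw [Subgroup.map_top_of_surjective E.toMonoidHom E.surjective]
  exact ⟨(E.subgroupMap (commutator A)).trans (MulEquiv.subgroupCongr h)⟩

/-- The commutator subgroup of a subgroup `H`, seen in `H` or in the ambient group. -/
theorem commutator_equiv_ambient {A : Type*} [Group A] (H : Subgroup A) :
    Nonempty (↥(commutator ↥H) ≃* ↥(⁅H, H⁆ : Subgroup A)) :=
  ⟨(Subgroup.equivMapOfInjective (commutator ↥H) H.subtype H.subtype_injective).trans
    (MulEquiv.subgroupCongr (Subgroup.map_subtype_commutator H))⟩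

/-- G₂(2)′ ≅ PSU₃(3). -/
theorem result {F K : Type*} [Field F] [Fintype F] [Field K] [Fintype K] (hF : Fintype.card F = 2) (hK : Fintype.card K = 9) :
    Nonempty (↥(commutator ↥(Cfsg.Lie.chevG2.group F)) ≃* Cfsg.PSU 3 K 3) := by
  have φF : F ≃+* ZMod 2 := (ZMod.ringEquivOfPrime F Nat.prime_two hF).symm
  have φK : K ≃+* Cfsg.Agent.ChevalleyStructure.NineField.F9 :=
    FiniteField.ringEquivOfCardEq (hK.trans Cfsg.Agent.ChevalleyStructure.NineField.F9.card_F9.symm)
  obtain ⟨e1⟩ := commutator_equiv (Cfsg.Agent.ChevalleyStructure.FieldIso.groupEquiv Cfsg.Lie.chevG2 φF)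
  obtain ⟨e2⟩ := commutator_equiv_ambient (Cfsg.Lie.chevG2.group (ZMod 2))
  obtain ⟨e3⟩ := Cfsg.Agent.ChevalleyStructure.G2Two.Match.HH_equiv_SU
  have e4 := Cfsg.Agent.ChevalleyStructure.FieldIso.PSUEquiv 3 3 φK
  have e5 : PSU 3 Cfsg.Agent.ChevalleyStructure.NineField.F9 3 ≃*
      SU 3 Cfsg.Agent.ChevalleyStructure.NineField.F9 3 :=
    (QuotientGroup.quotientMulEquivOfEq Cfsg.Agent.ChevalleyStructure.G2Two.Match.center_SU).trans
      QuotientGroup.quotientBot
  exact ⟨((e1.trans e2).trans
    ((MulEquiv.subgroupCongr Cfsg.Agent.ChevalleyStructure.G2Two.GSide.commutator_eq).trans e3)).trans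
      (e5.symm.trans e4.symm)⟩

end Cfsg.Agent.S1057
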