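import Cfsg.Statements.S1711
import Cfsg.Agent.J4.Pres
import Cfsg.Agent.J4.Simple
import Cfsg.Agent.S0365

set_option autoImplicit false
open Cfsg

namespace Cfsg.Agent.S1711

open Cfsg.Agent.J4.Pres Cfsg.Agent.J4.M24Hom Cfsg.Agent.J4.Rep112 in
theorem x_ne_one : Cfsg.Agent.J4.Rep112.x ≠ 1 := by
  intro h
  have h1 : xg = 1 := by rw [← rho_x, h, map_one]
  exact Cfsg.Agent.J4.Simple.ne_one_of_codes cx (by decide +kernel) (by decide +kernel) h1

open Cfsg.Agent.J4.Pres Cfsg.Agent.J4.M24Hom Cfsg.Agent.J4.Rep112 in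
theorem phi_injective : Function.Injective phi := by
  have : IsSimpleGroup M24 := Cfsg.Agent.S0365.result
  rw [← MonoidHom.ker_eq_bot_iff]
  rcases (inferInstance : phi.ker.Normal).eq_bot_or_eq_top with h | h
  · exact h
  · exfalso
    have hx : XM ∈ phi.ker := by rw [h]; trivial
    rw [MonoidHom.mem_ker, phi_X] at hx
    exact x_ne_one hx

/-- In the presented fourth Janko group (generators x, y, t), the subgroup generated by the images of x and y is isomorphic to the Mathieu group M₂₄. -/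
theorem result : Nonempty ((((Subgroup.closure ({Cfsg.Spor.J4.x, Cfsg.Spor.J4.y} : Set (FreeGroup Cfsg.Spor.J4.Gen))).map (PresentedGroup.mk (Cfsg.Spor.coxRelators Cfsg.Spor.J4.edges ∪ {r | r ∈ Cfsg.Spor.J4.extra})))) ≃* Cfsg.M24) := by
  have h : (Subgroup.closure ({Cfsg.Spor.J4.x, Cfsg.Spor.J4.y} :
      Set (FreeGroup Cfsg.Spor.J4.Gen))).map Cfsg.Agent.J4.Pres.mk =
      Cfsg.Agent.J4.Pres.phi.range := by
    rw [Cfsg.Agent.J4.Pres.phi_range, MonoidHom.map_closure, Set.image_pair]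
    rfl
  exact ⟨(MulEquiv.subgroupCongr h).trans (MonoidHom.ofInjective phi_injective).symm⟩

end Cfsg.Agent.S1711
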