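import Cfsg.Statements.S1604
import Cfsg.Agent.GolayOrbit.Hexads

set_option autoImplicit false
open scoped Pointwise
open Cfsg

namespace Cfsg.Agent.S1604

open Cfsg.Agent.GolayOrbit.Basic Cfsg.Agent.GolayOrbit.Code Cfsg.Agent.GolayOrbit.Walk
  Cfsg.Agent.GolayOrbit.Cover Cfsg.Agent.GolayOrbit.Flags

theorem count_eq {g : Equiv.Perm GolayPt} (hg : g ∈ M24) {p q : GolayPt} {o : Finset GolayPt}
    (hp : g p₀ = p) (hq : g q₀ = q) (ho : g • ofMask O₀ = o) (c : ℕ) :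
    {x : Finset GolayPt | x ∈ octads ∧ p ∈ x ∧ q ∈ x ∧ (o ∩ x).card = c}.ncard =
      {x : Finset GolayPt | x ∈ octads ∧ p₀ ∈ x ∧ q₀ ∈ x ∧ (ofMask O₀ ∩ x).card = c}.ncard := by
  symm
  apply ncard_eq_of_smul g
  intro x
  subst hp hq ho
  have h1 : g p₀ ∈ g • x ↔ p₀ ∈ x := Finset.smul_mem_smul_finset_iff g
  have h2 : g q₀ ∈ g • x ↔ q₀ ∈ x := Finset.smul_mem_smul_finset_iff g
  show _ ∧ _ ∧ _ ∧ _ ↔ _ ∧ _ ∧ _ ∧ _
  rw [smul_mem_octads_iff hg, h1, h2, ← Finset.smul_finset_inter, Finset.card_smul_finset]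

/-- A hexad stabiliser in the two-point stabiliser has orbits of sizes 1, 16, 60 on the 77 hexads: the 16 hexads disjoint from it and the 60 meeting it in two points. -/
theorem result (p q : Cfsg.GolayPt) (hpq : p ≠ q) (o o' o'' : Finset Cfsg.GolayPt) (ho : o ∈ Cfsg.octads) (ho' : o' ∈ Cfsg.octads) (ho'' : o'' ∈ Cfsg.octads) (hp : p ∈ o ∧ p ∈ o' ∧ p ∈ o'') (hq : q ∈ o ∧ q ∈ o' ∧ q ∈ o'') (h : (o ∩ o').card = (o ∩ o'').card) : {x : Finset Cfsg.GolayPt | x ∈ Cfsg.octads ∧ p ∈ x ∧ q ∈ x ∧ (o ∩ x).card = 2}.ncard = 16 ∧ {x : Finset Cfsg.GolayPt | x ∈ Cfsg.octads ∧ p ∈ x ∧ q ∈ x ∧ (o ∩ x).card = 4}.ncard = 60 ∧ ∃ g : Equiv.Perm Cfsg.GolayPt, g ∈ Cfsg.M24 ∧ g p = p ∧ g q = q ∧ g • o = o ∧ g • o' = o'' := by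
  obtain ⟨g, hg, hgo, hgp, hgq⟩ := flagIn ho hp.1 hq.1 hpq
  refine ⟨?_, ?_, ?_⟩
  · rw [count_eq hg hgp hgq hgo]
    exact Cfsg.Agent.GolayOrbit.Hexads.count (by decide +kernel)
  · rw [count_eq hg hgp hgq hgo]
    exact Cfsg.Agent.GolayOrbit.Hexads.count (by decide +kernel)
  · have hx' : g⁻¹ • o' ∈ octads := (smul_mem_octads_iff (M24.inv_mem hg) o').mpr ho'
    have hx'' : g⁻¹ • o'' ∈ octads := (smul_mem_octads_iff (M24.inv_mem hg) o'').mpr ho''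
    obtain ⟨m, hm, hmo⟩ := exists_of_mem_octads hx'
    obtain ⟨n, hn, hno⟩ := exists_of_mem_octads hx''
    have hgo' : g • ofMask m = o' := by rw [← hmo, smul_inv_smul]
    have hgo'' : g • ofMask n = o'' := by rw [← hno, smul_inv_smul]
    subst hgo' hgo'' hgp hgq hgo
    have e : ∀ (x : GolayPt) (s : Finset GolayPt), g x ∈ g • s ↔ x ∈ s :=
      fun x s => Finset.smul_mem_smul_finset_iff g
    rw [e, e, e] at hp hq
    rw [← Finset.smul_finset_inter, ← Finset.smul_finset_inter, Finset.card_smul_finset,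
      Finset.card_smul_finset] at h
    obtain ⟨k, hk, k1, k2, k3, k4⟩ := Cfsg.Agent.GolayOrbit.Hexads.base hm hn hp.2.1 hq.2.1 hp.2.2 hq.2.2 h
    refine ⟨g * k * g⁻¹, M24.mul_mem (M24.mul_mem hg hk) (M24.inv_mem hg), ?_, ?_, ?_, ?_⟩
    · simp [k1]
    · simp [k2]
    · rw [mul_smul, mul_smul, inv_smul_smul, k3]
    · rw [mul_smul, mul_smul, inv_smul_smul, k4]

end Cfsg.Agent.S1604
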