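import Cfsg.Statements.S1567
import Cfsg.Agent.SporadicStructure.OctadSpan

set_option autoImplicit false
open Cfsg

namespace Cfsg.Agent.S1567

open Cfsg.Agent.SporadicStructure.OctadSpan

abbrev N : AddSubgroup (GolayPt → ℤ) :=
  AddSubgroup.closure {x : GolayPt → ℤ | x ∈ leechLattice ∧ sqNorm x = 32}

theorem univ_mem : (Finset.univ : Finset GolayPt) ∈ supports (golayCode : Set (GolayPt → ZMod 2)) :=
  ⟨1, one_mem, by ext i; simp [support₂]⟩

theorem empty_mem : (∅ : Finset GolayPt) ∈ supports (golayCode : Set (GolayPt → ZMod 2)) :=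
  ⟨0, golayCode.zero_mem, by ext i; simp [support₂]⟩

theorem compl_mem {w : GolayPt → ZMod 2} (hw : w ∈ golayCode) :
    (support₂ w)ᶜ ∈ supports (golayCode : Set (GolayPt → ZMod 2)) := by
  refine ⟨1 + w, golayCode.add_mem one_mem hw, ?_⟩
  ext i
  have : ∀ a : ZMod 2, (1 + a ≠ 0) ↔ ¬ (a ≠ 0) := by decide
  simp only [support₂, Finset.mem_filter, Finset.mem_univ, true_and, Finset.mem_compl,
    Pi.add_apply, Pi.one_apply]
  exact this (w i)

/-- membership in `leechSet` for vectors all of whose coordinates are in one class mod 4. -/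
theorem mem_leech_const {x : GolayPt → ℤ} (r : ℤ) (hx : ∀ i, x i ≡ r [ZMOD 4])
    (hs : ∑ i, x i ≡ 4 * r [ZMOD 8]) : x ∈ leechLattice := by
  refine AddSubgroup.subset_closure ⟨r, fun i => (hx i).of_mul_right 2 |>.trans (by rfl), hs, ?_⟩
  intro k
  by_cases h : r ≡ k [ZMOD 4]
  · have : (Finset.univ.filter fun i => x i ≡ k [ZMOD 4]) = Finset.univ := by
      ext i; simp only [Finset.mem_filter, Finset.mem_univ, true_and, iff_true]
      exact (hx i).trans h
    rw [this]; exact univ_mem
  · have : (Finset.univ.filter fun i => x i ≡ k [ZMOD 4]) = ∅ := by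
      ext i; simp only [Finset.mem_filter, Finset.mem_univ, true_and, Finset.notMem_empty, iff_false]
      exact fun h' => h ((hx i).symm.trans h')
    rw [this]; exact empty_mem

/-- membership for vectors with entries `2 c_i` mod 4. -/
theorem mem_leech_word {x : GolayPt → ℤ} {w : GolayPt → ZMod 2} (hw : w ∈ golayCode)
    (hx : ∀ i, x i ≡ 2 * (w i).val [ZMOD 4])
    (hs : ∑ i, x i ≡ 0 [ZMOD 8]) : x ∈ leechLattice := by
  refine AddSubgroup.subset_closure ⟨0, fun i => ?_, by simpa using hs, ?_⟩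
  · have h := hx i
    have h2 : x i ≡ 2 * (w i).val [ZMOD 2] := h.of_mul_right 2 
    exact h2.trans (by simp [Int.ModEq])
  intro k
  have hwi : ∀ i, w i = 0 ∨ w i = 1 := fun i => by
    have : ∀ a : ZMod 2, a = 0 ∨ a = 1 := by decide
    exact this _
  have hx' : ∀ i, (w i = 0 ∧ x i % 4 = 0) ∨ (w i = 1 ∧ x i % 4 = 2) := by
    intro i
    rcases hwi i with h | h
    · left; refine ⟨h, ?_⟩
      have := hx i
      rw [h] at this
      simpa [Int.ModEq] using this
    · right; refine ⟨h, ?_⟩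
      have := hx i
      rw [h] at this
      simpa [Int.ModEq, ZMod.val_one] using this
  have hk : k % 4 = 0 ∨ k % 4 = 1 ∨ k % 4 = 2 ∨ k % 4 = 3 := by omega
  rcases hk with hk | hk | hk | hk
  · have : (Finset.univ.filter fun i => x i ≡ k [ZMOD 4]) = (support₂ w)ᶜ := by
      ext i
      simp only [support₂, Finset.mem_filter, Finset.mem_univ, true_and, Finset.mem_compl]
      rcases hx' i with ⟨h1, h2⟩ | ⟨h1, h2⟩ <;> rw [Int.ModEq, h1, h2, hk] <;> simp
    rw [this]; exact compl_mem hw
  · have : (Finset.univ.filter fun i => x i ≡ k [ZMOD 4]) = ∅ := by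
      ext i
      simp only [Finset.mem_filter, Finset.mem_univ, true_and, Finset.notMem_empty, iff_false]
      rcases hx' i with ⟨h1, h2⟩ | ⟨h1, h2⟩ <;> rw [Int.ModEq, h2, hk] <;> simp
    rw [this]; exact empty_mem
  · have : (Finset.univ.filter fun i => x i ≡ k [ZMOD 4]) = support₂ w := by
      ext i
      simp only [support₂, Finset.mem_filter, Finset.mem_univ, true_and]
      rcases hx' i with ⟨h1, h2⟩ | ⟨h1, h2⟩ <;> rw [Int.ModEq, h1, h2, hk] <;> simp
    rw [this]; exact ⟨w, hw, rfl⟩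
  · have : (Finset.univ.filter fun i => x i ≡ k [ZMOD 4]) = ∅ := by
      ext i
      simp only [Finset.mem_filter, Finset.mem_univ, true_and, Finset.notMem_empty, iff_false]
      rcases hx' i with ⟨h1, h2⟩ | ⟨h1, h2⟩ <;> rw [Int.ModEq, h2, hk] <;> simp
    rw [this]; exact empty_mem

/-- `4 e_i + 4 e_j` -/
theorem four_add_mem {i j : GolayPt} (hij : i ≠ j) :
    (Pi.single i 4 + Pi.single j 4 : GolayPt → ℤ) ∈ N := by
  refine AddSubgroup.subset_closure ⟨mem_leech_const 0 ?_ ?_, ?_⟩
  · intro k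
    by_cases h1 : k = i <;> by_cases h2 : k = j <;> simp_all [Int.ModEq]
  · simp [Finset.sum_add_distrib, Int.ModEq]
  · have : ∀ k, (Pi.single i 4 + Pi.single j 4 : GolayPt → ℤ) k ^ 2 =
      (Pi.single i 16 + Pi.single j 16 : GolayPt → ℤ) k := by
      intro k
      by_cases h1 : k = i <;> by_cases h2 : k = j <;> simp_all
    rw [sqNorm, Finset.sum_congr rfl (fun k _ => this k)]
    simp [Finset.sum_add_distrib]

/-- `4 e_i - 4 e_j` -/
theorem four_sub_mem {i j : GolayPt} (hij : i ≠ j) :
    (Pi.single i 4 - Pi.single j 4 : GolayPt → ℤ) ∈ N := by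
  refine AddSubgroup.subset_closure ⟨mem_leech_const 0 ?_ ?_, ?_⟩
  · intro k
    by_cases h1 : k = i <;> by_cases h2 : k = j <;> simp_all [Int.ModEq]
  · simp [Finset.sum_sub_distrib, Int.ModEq]
  · have : ∀ k, (Pi.single i 4 - Pi.single j 4 : GolayPt → ℤ) k ^ 2 =
      (Pi.single i 16 + Pi.single j 16 : GolayPt → ℤ) k := by
      intro k
      by_cases h1 : k = i <;> by_cases h2 : k = j <;> simp_all
    rw [sqNorm, Finset.sum_congr rfl (fun k _ => this k)]
    simp [Finset.sum_add_distrib]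

theorem eight_mem : (Pi.single none 8 : GolayPt → ℤ) ∈ N := by
  have h : (none : GolayPt) ≠ some 0 := by simp
  have := N.add_mem (four_add_mem h) (four_sub_mem h)
  convert this using 1
  funext k
  by_cases h1 : k = none <;> by_cases h2 : k = some 0 <;> simp_all

/-- all vectors `4 z` with even coordinate sum -/
theorem four_mul_mem {z : GolayPt → ℤ} (hz : Even (∑ i, z i)) : (fun i => 4 * z i) ∈ N := by
  obtain ⟨k, hk⟩ := hz
  have e : (fun i => 4 * z i) =
      (∑ i, z i • (Pi.single i 4 - Pi.single none 4 : GolayPt → ℤ)) + k • Pi.single none 8 := by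
    funext j
    simp only [Pi.add_apply, Finset.sum_apply, Pi.smul_apply, Pi.sub_apply, smul_eq_mul,
      mul_sub, Finset.sum_sub_distrib]
    rw [← Finset.sum_mul, hk]
    have : ∑ x, z x * (Pi.single x 4 : GolayPt → ℤ) j = 4 * z j := by
      rw [Finset.sum_eq_single j]
      · simp [mul_comm]
      · intro b _ hb
        rw [Pi.single_eq_of_ne (Ne.symm hb), mul_zero]
      · intro h; exact absurd (Finset.mem_univ _) h
    rw [this]
    by_cases h : j = none
    · subst h; simp; ring
    · simp [h]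
  rw [e]
  refine N.add_mem (N.sum_mem fun i _ => ?_) (N.zsmul_mem eight_mem _)
  by_cases h : i = none
  · subst h; simp
  · exact N.zsmul_mem (four_sub_mem h) _

theorem word_lift (w : GolayPt → ZMod 2) (hw : w ∈ golayCode) :
    ∃ y ∈ N, (∀ i, y i ≡ 2 * (w i).val [ZMOD 4]) ∧ ∑ i, y i ≡ 0 [ZMOD 8] := by
  refine golay_induction (P := fun w => ∃ y ∈ N, (∀ i, y i ≡ 2 * (w i).val [ZMOD 4]) ∧
    ∑ i, y i ≡ 0 [ZMOD 8]) ?_ ?_ ?_ w hw
  · exact ⟨0, N.zero_mem, by simp, by simp⟩
  · rintro v w - - ⟨y, hy, hy1, hy2⟩ ⟨z, hz, hz1, hz2⟩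
    refine ⟨y + z, N.add_mem hy hz, fun i => ?_, ?_⟩
    · have h1 := (hy1 i).add (hz1 i)
      refine h1.trans ?_
      have : ∀ a b : ZMod 2, 2 * (a.val : ℤ) + 2 * (b.val : ℤ) ≡ 2 * ((a + b).val : ℤ) [ZMOD 4] := by
        decide
      exact this _ _
    · simp only [Pi.add_apply, Finset.sum_add_distrib]
      exact hy2.add hz2
  · intro w hw hc
    have hval : ∀ a : ZMod 2, (a.val : ℤ) = if a ≠ 0 then 1 else 0 := by decide
    have hsum : ∑ i, 2 * ((w i).val : ℤ) = 16 := by
      rw [← Finset.mul_sum, Finset.sum_congr rfl (fun i _ => hval (w i)), Finset.sum_ite]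
      simp only [Finset.sum_const_zero, add_zero, Finset.sum_const, nsmul_eq_mul, mul_one]
      have : (Finset.univ.filter fun i => w i ≠ 0) = support₂ w := rfl
      rw [this, hc]; norm_num
    refine ⟨fun i => 2 * (w i).val, AddSubgroup.subset_closure ⟨mem_leech_word hw ?_ ?_, ?_⟩, ?_, ?_⟩
    · intro i; rfl
    · rw [hsum]; rfl
    · have : ∀ i, (2 * ((w i).val : ℤ)) ^ 2 = 2 * (2 * ((w i).val : ℤ)) := by
        intro i
        rw [hval]; split_ifs <;> norm_num
      rw [sqNorm, Finset.sum_congr rfl (fun k _ => this k), ← Finset.mul_sum, hsum]; norm_num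
    · intro i; rfl
    · rw [hsum]; rfl

theorem even_mem {x : GolayPt → ℤ} {w : GolayPt → ZMod 2} (hw : w ∈ golayCode)
    (hx : ∀ i, x i ≡ 2 * (w i).val [ZMOD 4])
    (hs : ∑ i, x i ≡ 0 [ZMOD 8]) : x ∈ N := by
  obtain ⟨y, hy, hy1, hy2⟩ := word_lift w hw
  have h1 : ∀ i, ∃ z, x i - y i = 4 * z := fun i => by
    have := ((hy1 i).trans (hx i).symm).dvd
    exact this
  choose z hz using h1
  have h2 : x = y + (fun i => 4 * z i) := by
    funext i
    have := hz i
    simp only [Pi.add_apply]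
    linarith
  rw [h2]
  refine N.add_mem hy (four_mul_mem ?_)
  have h3 : ∑ i, x i - ∑ i, y i = 4 * ∑ i, z i := by
    rw [← Finset.sum_sub_distrib, Finset.mul_sum]
    exact Finset.sum_congr rfl fun i _ => hz i
  have h4 : (8 : ℤ) ∣ ∑ i, x i - ∑ i, y i := (hy2.trans hs.symm).dvd
  rw [h3] at h4
  obtain ⟨k, hk⟩ := h4
  exact ⟨k, by linarith⟩

/-- the vector `(-3, 1, ..., 1)` -/
def vOdd : GolayPt → ℤ := fun i => if i = none then -3 else 1

theorem vOdd_mem : vOdd ∈ N := by
  refine AddSubgroup.subset_closure ⟨mem_leech_const 1 ?_ ?_, ?_⟩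
  · decide
  · decide +kernel
  · decide +kernel

theorem mem_of_leechSet {x : GolayPt → ℤ} (hx : x ∈ leechSet) : x ∈ N := by
  obtain ⟨m, hm, hs, hk⟩ := hx
  rcases Int.even_or_odd m with he | ho
  · obtain ⟨w, hw, hw2⟩ := hk 2
    refine even_mem hw ?_ ?_
    · intro i
      have h1 : w i ≠ 0 ↔ x i ≡ 2 [ZMOD 4] := by
        have := congrArg (fun s => i ∈ s) hw2
        simpa [support₂] using this
      have hval : ∀ a : ZMod 2, (a.val : ℤ) = if a ≠ 0 then 1 else 0 := by decide
      rw [hval]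
      have h2 := hm i
      obtain ⟨k, hk⟩ := he
      unfold Int.ModEq at *
      split_ifs with h
      · rw [h1.mp h]; rfl
      · have h5 : ¬ (x i % 4 = 2 % 4) := fun h' => h (h1.mpr h')
        omega
    · obtain ⟨k, hk⟩ := he
      unfold Int.ModEq at *
      omega
  · obtain ⟨w, hw, hw2⟩ := hk 3
    have : x - vOdd ∈ N := by
      refine even_mem hw ?_ ?_
      · intro i
        have h1 : w i ≠ 0 ↔ x i ≡ 3 [ZMOD 4] := by
          have := congrArg (fun s => i ∈ s) hw2
          simpa [support₂] using this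
        have hval : ∀ a : ZMod 2, (a.val : ℤ) = if a ≠ 0 then 1 else 0 := by decide
        rw [hval]
        have h2 := hm i
        have h3 : ∀ i, vOdd i % 4 = 1 := by decide
        have h3 := h3 i
        obtain ⟨k, hk⟩ := ho
        simp only [Pi.sub_apply]
        unfold Int.ModEq at *
        split_ifs with h
        · have h5 : x i % 4 = 3 % 4 := h1.mp h
          omega
        · have h5 : ¬ (x i % 4 = 3 % 4) := fun h' => h (h1.mpr h')
          omega
      · have h3 : ∑ i, vOdd i = 20 := by decide +kernel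
        simp only [Pi.sub_apply, Finset.sum_sub_distrib, h3]
        obtain ⟨k, hk⟩ := ho
        unfold Int.ModEq at *
        omega
    have h := N.add_mem this vOdd_mem
    rwa [sub_add_cancel] at h

/-- The rank-24 lattice is the additive subgroup generated by its 196560 minimal vectors. -/
theorem result : AddSubgroup.closure {x : Cfsg.GolayPt → ℤ | x ∈ Cfsg.leechLattice ∧ Cfsg.sqNorm x = 32} = Cfsg.leechLattice := by
  apply le_antisymm
  · exact (AddSubgroup.closure_le _).mpr fun x hx => hx.1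
  · exact (AddSubgroup.closure_le _).mpr fun x hx => mem_of_leechSet hx

end Cfsg.Agent.S1567
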