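import Cfsg.Statements.S1616
import Cfsg.Agent.S1613
import Cfsg.Agent.ThreeTransPolar.Main
import Cfsg.Agent.Fischer3.SpCase
import Cfsg.Agent.Fischer468.NReg

set_option autoImplicit false
open Cfsg

namespace Cfsg.Agent.S1616

theorem card_F4 : Fintype.card Cfsg.Agent.SporadicA.FieldFour.F4 = 4 := rfl

/-- If O₂(⟨D_x⟩) is not central in ⟨D_x⟩ for some transposition x, the 3-transposition group is some Sp(2n, 2) or PSU(n, 2). -/
theorem result {G : Type*} [Group G] [Finite G] (hsol : ∀ N : Subgroup G, N.Normal → Group.IsSolvable ↥N → N = ⊥) (hperf : ⁅commutator G, commutator G⁆ = commutator G) {D : Set G} (hD : Cfsg.IsThreeTranspositionClass D) (x : G) (hx : x ∈ D) (h : ¬ Cfsg.pCore 2 ↥(Subgroup.closure {y : G | y ∈ D ∧ y ≠ x ∧ Commute x y}) ≤ Subgroup.center ↥(Subgroup.closure {y : G | y ∈ D ∧ y ≠ x ∧ Commute x y})) : (∃ n : ℕ, Nonempty (G ≃* Matrix.symplecticGroup (Fin n) (ZMod 2))) ∨ ∃ (F : Type) (_ : Field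 F) (_ : Fintype F) (n : ℕ), Fintype.card F = 4 ∧ Nonempty (G ≃* Cfsg.PSU n F 2) := by
  rcases Cfsg.Agent.ThreeTransPolar.Main.polar_of_hyps hsol hperf hD
    (fun x hx => Cfsg.Agent.S1613.result hsol hperf hD x hx) hx h with P | P
  · left
    obtain ⟨m, e, -, -⟩ := Cfsg.Agent.Fischer3.SpCase.exists_equiv_sp
      (D := D) ⟨P.fd, P.center, P.noTwins, P.card, P.one, P.hyp⟩
    exact ⟨m, ⟨e⟩⟩
  · right
    obtain ⟨n, -, e, -⟩ := Cfsg.Agent.Fischer468.NReg.exists_equiv_psu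
      (D := D) ⟨P.fd, P.center, P.noTwins, P.card, P.one, P.ex, P.hyp⟩
    exact ⟨Cfsg.Agent.SporadicA.FieldFour.F4, inferInstance, inferInstance, n, card_F4, ⟨e⟩⟩

end Cfsg.Agent.S1616
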