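import Cfsg.Statements.S0353
-- import your own Cfsg.Agent.* helpers here
import Cfsg.Agent.S0352

set_option autoImplicit false
open Cfsg

namespace Cfsg.Agent.S0353

/-- In an S(5, 8, 24), the symmetric difference of two blocks meeting in four points is a block. -/
theorem result {α : Type*} [Fintype α] [DecidableEq α] (hα : Fintype.card α = 24) {B : Set (Finset α)} (hB : Cfsg.IsSteinerSystem 5 8 B) {b c : Finset α} (hb : b ∈ B) (hc : c ∈ B) (h4 : (b ∩ c).card = 4) : symmDiff b c ∈ B := by
  -- two distinct blocks share at most four points; the intersection is even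
  have hcard : ∀ {d : Finset α}, d ∈ B → d.card = 8 := fun hd => hB.1 _ hd
  have hev : ∀ {d e : Finset α}, d ∈ B → e ∈ B → d ≠ e →
      (d ∩ e).card = 0 ∨ (d ∩ e).card = 2 ∨ (d ∩ e).card = 4 :=
    fun hd he hde => Cfsg.Agent.S0352.result hα hB hd he hde
  have huniq : ∀ {s d e : Finset α}, s.card = 5 → d ∈ B → s ⊆ d → e ∈ B → s ⊆ e → d = e := by
    intro s d e hs hd hsd he hse
    obtain ⟨f, -, hf⟩ := hB.2 s hs
    exact (hf d ⟨hd, hsd⟩).trans (hf e ⟨he, hse⟩).symm
  have hex : ∀ {s : Finset α}, s.card = 5 → ∃ d, d ∈ B ∧ s ⊆ d := by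
    intro s hs
    obtain ⟨f, hf, -⟩ := hB.2 s hs
    exact ⟨f, hf⟩
  have hT2 : (b \ c).card = 4 := by
    have := Finset.card_sdiff_add_card_inter b c
    rw [hcard hb] at this; omega
  have hT3 : (c \ b).card = 4 := by
    have := Finset.card_sdiff_add_card_inter c b
    rw [hcard hc, Finset.inter_comm] at this; omega
  by_contra hnot
  -- the block through `b \ c` and a point of `c \ b`
  have step : ∀ x ∈ c \ b, ∃ d ∈ B, b \ c ⊆ d ∧ x ∈ d ∧ d ∩ b = b \ c ∧ (d ∩ c).card = 2 := by
    intro x hx
    rw [Finset.mem_sdiff] at hx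
    have hxT : x ∉ b \ c := fun h => hx.2 (Finset.mem_sdiff.1 h).1
    obtain ⟨d, hd, hsub⟩ := hex (s := insert x (b \ c)) (by
      rw [Finset.card_insert_of_notMem hxT, hT2])
    have hxd : x ∈ d := hsub (Finset.mem_insert_self _ _)
    have hTd : b \ c ⊆ d := (Finset.subset_insert _ _).trans hsub
    have hdb : d ≠ b := fun h => hx.2 (h ▸ hxd)
    have hTdb : b \ c ⊆ d ∩ b := Finset.subset_inter hTd Finset.sdiff_subset
    have hdbc : d ∩ b = b \ c := by
      symm
      refine Finset.eq_of_subset_of_card_le hTdb ?_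
      rcases hev hd hb hdb with h | h | h <;> omega
    have hdc : d ≠ c := by
      intro h
      have : b \ c = ∅ := by
        rw [h] at hTd
        ext y
        simp only [Finset.mem_sdiff, Finset.notMem_empty, iff_false, not_and, not_not]
        intro hy
        by_contra hyc
        exact hyc (hTd (Finset.mem_sdiff.2 ⟨hy, hyc⟩))
      rw [this] at hT2
      simp at hT2
    refine ⟨d, hd, hTd, hxd, hdbc, ?_⟩
    rcases hev hd hc hdc with h | h | h
    · exfalso
      rw [Finset.card_eq_zero] at h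
      have : x ∈ d ∩ c := Finset.mem_inter.2 ⟨hxd, hx.1⟩
      rw [h] at this
      simp at this
    · exact h
    · exfalso
      -- then `d = (b \ c) ∪ (c \ b)`
      have hsub3 : d ∩ c ⊆ c \ b := by
        intro y hy
        rw [Finset.mem_inter] at hy
        rw [Finset.mem_sdiff]
        refine ⟨hy.2, fun hyb => ?_⟩
        have : y ∈ d ∩ b := Finset.mem_inter.2 ⟨hy.1, hyb⟩
        rw [hdbc, Finset.mem_sdiff] at this
        exact this.2 hy.2
      have heq3 : d ∩ c = c \ b := Finset.eq_of_subset_of_card_le hsub3 (by omega)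
      have hsd : symmDiff b c ⊆ d := by
        intro y hy
        rw [Finset.mem_symmDiff] at hy
        rcases hy with hy | hy
        · exact hTd (Finset.mem_sdiff.2 hy)
        · have : y ∈ d ∩ c := by rw [heq3]; exact Finset.mem_sdiff.2 hy
          exact (Finset.mem_inter.1 this).1
      have hsdc : (symmDiff b c).card = 8 := by
        have : symmDiff b c = (b \ c) ∪ (c \ b) := rfl
        rw [this, Finset.card_union_of_disjoint disjoint_sdiff_sdiff, hT2, hT3]
      have : symmDiff b c = d := Finset.eq_of_subset_of_card_le hsd (by rw [hsdc, hcard hd])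
      exact hnot (this ▸ hd)
  -- choose two points of `c \ b` in different blocks
  obtain ⟨x, hx⟩ : (c \ b).Nonempty := by
    rw [← Finset.card_pos, hT3]; norm_num
  obtain ⟨d, hd, hTd, hxd, hdb, hdc⟩ := step x hx
  obtain ⟨y, hy, hyd⟩ : ∃ y ∈ c \ b, y ∉ d := by
    by_contra hall
    push Not at hall
    have hsub : c \ b ⊆ d ∩ c := fun y hy =>
      Finset.mem_inter.2 ⟨hall y hy, (Finset.mem_sdiff.1 hy).1⟩
    have := Finset.card_le_card hsub
    omega
  obtain ⟨e, he, hTe, hye, heb, hec⟩ := step y hy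
  have hde : d ≠ e := fun h => hyd (h ▸ hye)
  -- a point of `d` outside `b ∪ c`, and the same for `e`
  have houter : ∀ {f : Finset α}, f ∈ B → f ∩ b = b \ c → (f ∩ c).card = 2 →
      ∃ m ∈ f, m ∉ b ∧ m ∉ c := by
    intro f hf hfb hfc
    by_contra hall
    push Not at hall
    have hsub : f ⊆ (f ∩ b) ∪ (f ∩ c) := by
      intro z hz
      rw [Finset.mem_union, Finset.mem_inter, Finset.mem_inter]
      by_cases hzb : z ∈ b
      · exact Or.inl ⟨hz, hzb⟩
      · exact Or.inr ⟨hz, hall z hz hzb⟩
    have h1 := Finset.card_le_card hsub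
    have h2 := Finset.card_union_le (f ∩ b) (f ∩ c)
    rw [hcard hf] at h1
    rw [hfb, hT2, hfc] at h2
    rw [hfb] at h1
    omega
  obtain ⟨m, hmd, hmb, hmc⟩ := houter hd hdb hdc
  obtain ⟨o, hoe, hob, hoc⟩ := houter he heb hec
  -- `d ∩ e = b \ c`
  have hde4 : d ∩ e = b \ c := by
    symm
    refine Finset.eq_of_subset_of_card_le (Finset.subset_inter hTd hTe) ?_
    rcases hev hd he hde with h | h | h <;> omega
  have hmo : m ≠ o := by
    rintro rfl
    have : m ∈ d ∩ e := Finset.mem_inter.2 ⟨hmd, hoe⟩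
    rw [hde4] at this
    exact hmb (Finset.mem_sdiff.1 this).1
  -- three points of `b \ c`
  obtain ⟨U, hUsub, hUcard⟩ := Finset.exists_subset_card_eq (s := b \ c) (n := 3) (by omega)
  have hUb : U ⊆ b := hUsub.trans Finset.sdiff_subset
  have hoU : o ∉ U := fun h => hob (hUb h)
  have hmU : m ∉ insert o U := by
    rw [Finset.mem_insert]
    rintro (h | h)
    · exact hmo h
    · exact hmb (hUb h)
  obtain ⟨X, hX, hXsub⟩ := hex (s := insert m (insert o U)) (by
    rw [Finset.card_insert_of_notMem hmU, Finset.card_insert_of_notMem hoU, hUcard])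
  have hmX : m ∈ X := hXsub (Finset.mem_insert_self _ _)
  have hoX : o ∈ X := hXsub (Finset.mem_insert_of_mem (Finset.mem_insert_self _ _))
  have hUX : U ⊆ X := fun z hz => hXsub (Finset.mem_insert_of_mem (Finset.mem_insert_of_mem hz))
  -- `X` does not contain `b \ c`
  have hnT : ¬ b \ c ⊆ X := by
    intro hT
    have hmT : m ∉ b \ c := fun h => hmb (Finset.mem_sdiff.1 h).1
    have hoT : o ∉ b \ c := fun h => hob (Finset.mem_sdiff.1 h).1
    have h1 : X = d := huniq (s := insert m (b \ c))
      (by rw [Finset.card_insert_of_notMem hmT, hT2]) hX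
      (Finset.insert_subset hmX hT) hd (Finset.insert_subset hmd hTd)
    have h2 : X = e := huniq (s := insert o (b \ c))
      (by rw [Finset.card_insert_of_notMem hoT, hT2]) hX
      (Finset.insert_subset hoX hT) he (Finset.insert_subset hoe hTe)
    exact hde (h1.symm.trans h2)
  have hXb : X ≠ b := fun h => hmb (h ▸ hmX)
  have hXd : X ≠ d := fun h => hnT (h ▸ hTd)
  have hXe : X ≠ e := fun h => hnT (h ▸ hTe)
  -- `X ∩ (b \ c) = U`
  have hXT : X ∩ (b \ c) = U := by
    symm
    refine Finset.eq_of_subset_of_card_le (Finset.subset_inter hUX hUsub) ?_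
    rw [hUcard]
    by_contra hlt
    push Not at hlt
    have h1 : X ∩ (b \ c) = b \ c :=
      Finset.eq_of_subset_of_card_le Finset.inter_subset_right (by omega)
    exact hnT (h1 ▸ Finset.inter_subset_left)
  -- `X ∩ d = insert m U`, `X ∩ e = insert o U`
  have hXd4 : X ∩ d = insert m U := by
    symm
    have hmU' : m ∉ U := fun h => hmb (hUb h)
    refine Finset.eq_of_subset_of_card_le ?_ ?_
    · exact Finset.insert_subset (Finset.mem_inter.2 ⟨hmX, hmd⟩)
        (Finset.subset_inter hUX (hUsub.trans hTd))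
    · rw [Finset.card_insert_of_notMem hmU', hUcard]
      rcases hev hX hd hXd with h | h | h <;> omega
  have hXe4 : X ∩ e = insert o U := by
    symm
    refine Finset.eq_of_subset_of_card_le ?_ ?_
    · exact Finset.insert_subset (Finset.mem_inter.2 ⟨hoX, hoe⟩)
        (Finset.subset_inter hUX (hUsub.trans hTe))
    · rw [Finset.card_insert_of_notMem hoU, hUcard]
      rcases hev hX he hXe with h | h | h <;> omega
  -- `c \ b ⊆ d ∪ e`
  have hcover : ∀ z ∈ c \ b, z ∈ d ∨ z ∈ e := by
    have hdis : Disjoint (d ∩ c) (e ∩ c) := by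
      rw [Finset.disjoint_left]
      intro z hz1 hz2
      have : z ∈ d ∩ e := Finset.mem_inter.2 ⟨(Finset.mem_inter.1 hz1).1, (Finset.mem_inter.1 hz2).1⟩
      rw [hde4] at this
      exact (Finset.mem_sdiff.1 this).2 (Finset.mem_inter.1 hz1).2
    have hsub : ∀ {f : Finset α}, f ∩ b = b \ c → f ∩ c ⊆ c \ b := by
      intro f hfb z hz
      rw [Finset.mem_inter] at hz
      rw [Finset.mem_sdiff]
      refine ⟨hz.2, fun hzb => ?_⟩
      have : z ∈ f ∩ b := Finset.mem_inter.2 ⟨hz.1, hzb⟩
      rw [hfb, Finset.mem_sdiff] at this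
      exact this.2 hz.2
    have heq : (d ∩ c) ∪ (e ∩ c) = c \ b := by
      refine Finset.eq_of_subset_of_card_le (Finset.union_subset (hsub hdb) (hsub heb)) ?_
      rw [Finset.card_union_of_disjoint hdis, hdc, hec, hT3]
    intro z hz
    rw [← heq, Finset.mem_union, Finset.mem_inter, Finset.mem_inter] at hz
    exact hz.imp And.left And.left
  -- hence `X ∩ (c \ b) = ∅`
  have hXT3 : ∀ z ∈ X, z ∈ c → z ∈ b := by
    intro z hzX hzc
    by_contra hzb
    rcases hcover z (Finset.mem_sdiff.2 ⟨hzc, hzb⟩) with h | h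
    · have : z ∈ X ∩ d := Finset.mem_inter.2 ⟨hzX, h⟩
      rw [hXd4, Finset.mem_insert] at this
      rcases this with rfl | h'
      · exact hmc hzc
      · exact hzb (hUb h')
    · have : z ∈ X ∩ e := Finset.mem_inter.2 ⟨hzX, h⟩
      rw [hXe4, Finset.mem_insert] at this
      rcases this with rfl | h'
      · exact hoc hzc
      · exact hzb (hUb h')
  -- `|X ∩ b| = 4`, so `|X ∩ b ∩ c| = 1`, so `|X ∩ c| = 1`
  have hXb4 : (X ∩ b).card = 4 := by
    have h3 : U ⊆ X ∩ b := Finset.subset_inter hUX hUb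
    have := Finset.card_le_card h3
    rcases hev hX hb hXb with h | h | h <;> omega
  have hsplit : (X ∩ (b \ c)).card + (X ∩ c).card = (X ∩ b).card := by
    rw [← Finset.card_union_of_disjoint]
    · congr 1
      ext z
      simp only [Finset.mem_union, Finset.mem_inter, Finset.mem_sdiff]
      constructor
      · rintro (⟨h1, h2, -⟩ | ⟨h1, h2⟩)
        · exact ⟨h1, h2⟩
        · exact ⟨h1, hXT3 z h1 h2⟩
      · rintro ⟨h1, h2⟩
        by_cases h3 : z ∈ c
        · exact Or.inr ⟨h1, h3⟩
        · exact Or.inl ⟨h1, h2, h3⟩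
    · rw [Finset.disjoint_left]
      intro z hz1 hz2
      simp only [Finset.mem_inter, Finset.mem_sdiff] at hz1 hz2
      exact hz1.2.2 hz2.2
  rw [hXT, hUcard, hXb4] at hsplit
  have hXc : X ≠ c := fun h => hmc (h ▸ hmX)
  rcases hev hX hc hXc with h | h | h <;> omega

end Cfsg.Agent.S0353
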