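import Cfsg.Statements.S1068
import Cfsg.Agent.ChevalleyStructure.TwF4.OrderMain
import Cfsg.Agent.ChevalleyStructure.TwF4.BN

set_option autoImplicit false
open Cfsg

namespace Cfsg.Agent.S1068

/-- `|²F₄(q)| = q¹² (q - 1)(q³ + 1)(q⁴ - 1)(q⁶ + 1)` for `q = 2^(2m+1)` (θ = 2^m-th power map), every `m ≥ 0`. -/
theorem result {K : Type*} [Field K] [Fintype K] {m : ℕ} (hK : Fintype.card K = 2 ^ (2 * m + 1)) :
    Nat.card ↥(Cfsg.Lie.twistedF4 K (2 ^ m)) =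
      (2 ^ (2 * m + 1)) ^ 12 * (2 ^ (2 * m + 1) - 1) * ((2 ^ (2 * m + 1)) ^ 3 + 1) * ((2 ^ (2 * m + 1)) ^ 4 - 1) * ((2 ^ (2 * m + 1)) ^ 6 + 1) := by
  haveI := Cfsg.Agent.ChevalleyStructure.TwF4.Twisted.charP_two hK
  obtain ⟨φ, hφ⟩ := Cfsg.Agent.ChevalleyStructure.TwF4.TwistedFix.exists_rln hK
  exact Cfsg.Agent.ChevalleyStructure.TwF4.OrderMain.card_G hK
    (T := Cfsg.Agent.ChevalleyStructure.TwF4.BN.twistedData hφ)
    { hU := rfl
      hH := rfl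
      hN := rfl
      hG := rfl
      hn0 := Cfsg.Agent.ChevalleyStructure.TwF4.BN.nn_zero
      hn1 := Cfsg.Agent.ChevalleyStructure.TwF4.BN.nn_one
      hX0 := rfl
      hX1 := rfl
      hY0 := rfl
      hY1 := rfl }

end Cfsg.Agent.S1068
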