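import Cfsg.Statements.S1680
import Cfsg.Agent.SporadicRecognition.SuzOrder

set_option autoImplicit false
open Cfsg

namespace Cfsg.Agent.S1680

open Cfsg.Spor Cfsg.Agent.Lib.PermNet Cfsg.Agent.Lib.PermNetOrbit Cfsg.Agent.SporadicRecognition.SuzPhi
  Cfsg.Agent.SporadicRecognition.SuzBound Cfsg.Agent.SporadicRecognition.SuzOrder in
theorem map_eq_S6 : ((Subgroup.closure ({Cfsg.Spor.Suz.a, Cfsg.Spor.Suz.b, Cfsg.Spor.Suz.c, Cfsg.Spor.Suz.d, Cfsg.Spor.Suz.e, Cfsg.Spor.Suz.f} : Set (FreeGroup Cfsg.Spor.Suz.Gen))).map (PresentedGroup.mk (Cfsg.Spor.coxRelators Cfsg.Spor.Suz.edges ∪ {r | r ∈ Cfsg.Spor.Suz.extra}))) =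
    Subgroup.closure S6 := by
  rw [MonoidHom.map_closure]
  congr 1
  ext g
  constructor
  · rintro ⟨x, hx, rfl⟩
    simp only [Set.mem_insert_iff, Set.mem_singleton_iff] at hx
    rcases hx with rfl | rfl | rfl | rfl | rfl | rfl
    · exact ⟨[.a], by simp, by simp [el]; rfl⟩
    · exact ⟨[.b], by simp, by simp [el]; rfl⟩
    · exact ⟨[.c], by simp, by simp [el]; rfl⟩
    · exact ⟨[.d], by simp, by simp [el]; rfl⟩
    · exact ⟨[.e], by simp, by simp [el]; rfl⟩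
    · exact ⟨[.f], by simp, by simp [el]; rfl⟩
  · rintro ⟨w, hw, rfl⟩
    simp only [List.mem_cons, List.not_mem_nil, or_false] at hw
    rcases hw with rfl | rfl | rfl | rfl | rfl | rfl
    · exact ⟨Suz.a, by simp, by simp [el]; rfl⟩
    · exact ⟨Suz.b, by simp, by simp [el]; rfl⟩
    · exact ⟨Suz.c, by simp, by simp [el]; rfl⟩
    · exact ⟨Suz.d, by simp, by simp [el]; rfl⟩
    · exact ⟨Suz.e, by simp, by simp [el]; rfl⟩
    · exact ⟨Suz.f, by simp, by simp [el]; rfl⟩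

open Cfsg.Spor Cfsg.Agent.Lib.PermNet Cfsg.Agent.Lib.PermNetOrbit Cfsg.Agent.SporadicRecognition.SuzPhi
  Cfsg.Agent.SporadicRecognition.SuzBound Cfsg.Agent.SporadicRecognition.SuzOrder in
theorem S6_eq_image : S6 = sg '' {x | x < 6} := by
  ext g
  constructor
  · rintro ⟨w, hw, rfl⟩
    simp only [List.mem_cons, List.not_mem_nil, or_false] at hw
    rcases hw with rfl | rfl | rfl | rfl | rfl | rfl
    · exact ⟨0, by simp, by simp [el, sg, gn]⟩
    · exact ⟨1, by simp, by simp [el, sg, gn]⟩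
    · exact ⟨2, by simp, by simp [el, sg, gn]⟩
    · exact ⟨3, by simp, by simp [el, sg, gn]⟩
    · exact ⟨4, by simp, by simp [el, sg, gn]⟩
    · exact ⟨5, by simp, by simp [el, sg, gn]⟩
  · rintro ⟨n, hn, rfl⟩
    simp only [Set.mem_ofPred_eq] at hn
    interval_cases n
    · exact ⟨[.a], by simp, by simp [el, sg, gn]⟩
    · exact ⟨[.b], by simp, by simp [el, sg, gn]⟩
    · exact ⟨[.c], by simp, by simp [el, sg, gn]⟩
    · exact ⟨[.d], by simp, by simp [el, sg, gn]⟩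
    · exact ⟨[.e], by simp, by simp [el, sg, gn]⟩
    · exact ⟨[.f], by simp, by simp [el, sg, gn]⟩

open Cfsg.Spor Cfsg.Agent.Lib.PermNet Cfsg.Agent.Lib.PermNetOrbit Cfsg.Agent.SporadicRecognition.SuzPhi
  Cfsg.Agent.SporadicRecognition.SuzBound Cfsg.Agent.SporadicRecognition.SuzOrder in
theorem trans_point (p : ℕ) (hp : p < 1782) : ∃ g : Suz, φ g 0 = p := by
  have h : p ∈ {p | U0.testBit p = true} := by
    show U0.testBit p = true
    rw [U0_bits, decide_eq_true_eq]; exact hp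
  rw [← orb0] at h
  obtain ⟨x, _, hx⟩ := h
  exact ⟨x, hx⟩

open Cfsg.Spor Cfsg.Agent.Lib.PermNet Cfsg.Agent.Lib.PermNetOrbit Cfsg.Agent.SporadicRecognition.SuzPhi
  Cfsg.Agent.SporadicRecognition.SuzBound Cfsg.Agent.SporadicRecognition.SuzOrder in
theorem S6_main : (Subgroup.closure S6).index = 1782 ∧
    ∃ q₁ q₂ : Suz ⧸ (Subgroup.closure S6),
      (MulAction.orbit (Subgroup.closure S6) q₁).ncard = 416 ∧
      (MulAction.orbit (Subgroup.closure S6) q₂).ncard = 1365 := by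
  have hne : (Subgroup.closure S6).index ≠ 0 := by
    haveI : Finite Suz := finite_Suz
    exact Subgroup.index_ne_zero_of_finite
  have hle : (Subgroup.closure S6).index ≤ 1782 := by
    rw [S6_eq_image]; exact index_le
  obtain ⟨h1, h2, _⟩ := index_eq_of_action (Subgroup.closure S6) φ 1782 fix_S6 trans_point hle hne
  refine ⟨h1, ?_⟩
  obtain ⟨g1, hg1⟩ := trans_point 1366 (by norm_num)
  obtain ⟨g2, hg2⟩ := trans_point 1 (by norm_num)
  refine ⟨(g1 : Suz ⧸ (Subgroup.closure S6)), (g2 : Suz ⧸ (Subgroup.closure S6)), ?_, ?_⟩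
  · rw [ncard_orbit_quotient (Subgroup.closure S6) (Subgroup.closure S6) φ h2 g1, hg1, orb2]
    exact ncard_testBit (k := 11) (U := U2) (m := 416) (by decide +kernel) (by decide +kernel)
  · rw [ncard_orbit_quotient (Subgroup.closure S6) (Subgroup.closure S6) φ h2 g2, hg2, orb1]
    exact ncard_testBit (k := 11) (U := U1) (m := 1365) (by decide +kernel) (by decide +kernel)

/-- In the presented sporadic Suzuki group, let H be the subgroup generated by the images of a, …, f. Then H has index 1782, H has orbits of sizes 416 and 1365 on the cosets of H other than H itself (with the index 1782 this makes the action rank 3). -/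
theorem result : (((Subgroup.closure ({Cfsg.Spor.Suz.a, Cfsg.Spor.Suz.b, Cfsg.Spor.Suz.c, Cfsg.Spor.Suz.d, Cfsg.Spor.Suz.e, Cfsg.Spor.Suz.f} : Set (FreeGroup Cfsg.Spor.Suz.Gen))).map (PresentedGroup.mk (Cfsg.Spor.coxRelators Cfsg.Spor.Suz.edges ∪ {r | r ∈ Cfsg.Spor.Suz.extra})))).index = 1782 ∧ ∃ q₁ q₂ : Cfsg.Spor.Suz ⧸ (((Subgroup.closure ({Cfsg.Spor.Suz.a, Cfsg.Spor.Suz.b, Cfsg.Spor.Suz.c, Cfsg.Spor.Suz.d, Cfsg.Spor.Suz.e, Cfsg.Spor.Suz.f} : Set (FreeGroup Cfsg.Spor.Suz.Gen))).map (PresentedGroup.mk (Cfsg.Spor.coxRelators Cfsg.Spor.Suz.edges ∪ {r | r ∈ Cfsg.Spor.Suz.extra})))), (MulAction.orbit (((Subgroup.closure ({Cfsg.Spor.Suz.a, Cfsg.Spor.Suz.b, Cfsg.Spor.Suz.c, Cfsg.Spor.Suz.d, Cfsg.Spor.Suz.e, Cfsg.Spor.Suz.f} : Set (FreeGroup Cfsg.Spor.Suz.Gen))).map (PresentedGroup.mk (Cfsg.Spor.coxRelators Cfsg.Spor.Suz.edges ∪ {r | r ∈ Cfsg.Spor.Suz.extra})))) q₁).ncard = 416 ∧ (MulAction.orbit (((Subgroup.closure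 ({Cfsg.Spor.Suz.a, Cfsg.Spor.Suz.b, Cfsg.Spor.Suz.c, Cfsg.Spor.Suz.d, Cfsg.Spor.Suz.e, Cfsg.Spor.Suz.f} : Set (FreeGroup Cfsg.Spor.Suz.Gen))).map (PresentedGroup.mk (Cfsg.Spor.coxRelators Cfsg.Spor.Suz.edges ∪ {r | r ∈ Cfsg.Spor.Suz.extra})))) q₂).ncard = 1365 := by
  rw [map_eq_S6]
  exact S6_main

end Cfsg.Agent.S1680
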