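import Cfsg.Statements.S0814
import Cfsg.Agent.ClassicalGeometry.SympAutTwo
import Cfsg.Agent.ClassicalGeometry.SympAutExists

set_option autoImplicit false
open Cfsg

namespace Cfsg.Agent.S0814

/-- |Aut(PSp_2m(q))| = gcd(2, q−1) · f · |PSp_2m(q)| for q = p^f, m ≥ 2, (m, q) ≠ (2, 2), with an extra factor 2 exactly when m = 2 and p = 2. -/
theorem result {F : Type*} [Field F] [Fintype F] (p f : ℕ) [Fact p.Prime] (hf : 1 ≤ f) (hF : Fintype.card F = p ^ f) (m : ℕ) (hm : 2 ≤ m) (h22 : m = 2 → 3 ≤ p ^ f) : Nat.card (MulAut (Cfsg.PSp m F)) = (if m = 2 ∧ p = 2 then 2 else 1) * Nat.gcd 2 (p ^ f - 1) * f * Nat.card (Cfsg.PSp m F) := by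
  have hB : ∀ α : MulAut (Cfsg.PSp m F), Cfsg.Agent.ClassicalGeometry.AutPSpCount.Pres α →
      α ∈ (Cfsg.Agent.ClassicalGeometry.SympAutSemi.Psi m F).range := by
    intro α hα
    obtain ⟨g, hg⟩ := Cfsg.Agent.ClassicalGeometry.SympAutExists.exists_semi hm α hα
    exact ⟨g, hg⟩
  by_cases hcase : m = 2 ∧ p = 2
  · rw [if_pos hcase]
    obtain ⟨rfl, rfl⟩ := hcase
    have hchar : CharP F 2 := by
      obtain ⟨q, hq⟩ := CharP.exists F
      obtain ⟨n, hqp, hn⟩ := FiniteField.card F q
      have h1 : q ∣ 2 ^ f := by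
        rw [← hF, hn]
        exact dvd_pow_self q n.pos.ne'
      have h2 : q = 2 := (Nat.prime_dvd_prime_iff_eq hqp Nat.prime_two).1
        (hqp.dvd_of_dvd_pow h1)
      rwa [← h2]
    have ht : ∃ t : F, t ≠ 0 ∧ t ≠ 1 := by
      by_contra hcon
      push Not at hcon
      have h3 : Fintype.card F ≤ 2 := by
        classical
        have : (Finset.univ : Finset F) ⊆ {0, 1} := by
          intro t _
          by_cases h0 : t = 0
          · simp [h0]
          · simp [hcon t h0]
        exact (Finset.card_le_card this).trans (Finset.card_le_two)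
      have h4 := h22 rfl
      omega
    exact Cfsg.Agent.ClassicalGeometry.AutPSpCount.card_of_index_eq_two hf hF (by omega)
      (Cfsg.Agent.ClassicalGeometry.SympAutTwo.index_two ht hB)
  · rw [if_neg hcase, one_mul]
    apply Cfsg.Agent.ClassicalGeometry.AutPSpCount.card_of_range_eq_top hf hF (by omega)
    rw [eq_top_iff]
    intro α _
    apply hB
    refine Cfsg.Agent.ClassicalGeometry.SympAutOddA.recog hm ?_ α
    by_cases hm2 : m = 2
    · right
      intro h2
      apply hcase
      refine ⟨hm2, ?_⟩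
      have hchar : CharP F 2 := CharTwo.of_one_ne_zero_of_two_eq_zero one_ne_zero h2
      obtain ⟨n, -, hn⟩ := FiniteField.card F 2
      have h1 : p ∣ 2 ^ (n : ℕ) := by
        rw [← hn, hF]
        exact dvd_pow_self p (by omega)
      have hpp : p.Prime := Fact.out
      exact (Nat.prime_dvd_prime_iff_eq hpp Nat.prime_two).1 (hpp.dvd_of_dvd_pow h1)
    · left
      omega

end Cfsg.Agent.S0814
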