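import Cfsg.Statements.S1113
import Cfsg.Agent.ChevalleyStructure.F4Core
import Cfsg.Agent.ChevalleyStructure.F4Fixed

set_option autoImplicit false
set_option linter.unusedSectionVars false
open Cfsg

namespace Cfsg.Agent.S1113

open Cfsg.Lie Cfsg.Lie.ChevalleyDatum Cfsg.Agent.ChevalleyStructure.Sparse
  Cfsg.Agent.ChevalleyStructure.SparseHDiag Cfsg.Agent.ChevalleyStructure.FixTables
  Cfsg.Agent.ChevalleyStructure.SparseWordEq Cfsg.Agent.ChevalleyStructure.CoreTrivial
  Cfsg.Agent.ChevalleyStructure.F4Core Cfsg.Agent.ChevalleyStructure.F4Fixed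
  Cfsg.Agent.ChevalleyStructure.Elts Cfsg.Agent.ChevalleyStructure.HDiagF4

noncomputable section

/-- height function on the coordinates -/
def pos : chevF4.Idx → ℤ
  | Sum.inl _ => 24
  | Sum.inr s => if s.val < 24 then (s.val : ℤ) else (s.val : ℤ) + 1

theorem pos_inl (i : Fin chevF4.rank) : pos (Sum.inl i) = 24 := rfl
theorem pos_inr (s : Fin chevF4.nroots) :
    pos (Sum.inr s) = if s.val < 24 then (s.val : ℤ) else (s.val : ℤ) + 1 := rfl

/-- opposite coordinate -/
def opp : chevF4.Idx → chevF4.Idx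
  | Sum.inl i => Sum.inl i
  | Sum.inr s => Sum.inr ⟨47 - s.val, by show 47 - s.val < 48; omega⟩

theorem pos_opp (i : chevF4.Idx) : pos (opp i) = 48 - pos i := by
  rcases i with i | s
  · rfl
  · show (if 47 - s.val < 24 then ((47 - s.val : ℕ) : ℤ) else ((47 - s.val : ℕ) : ℤ) + 1) =
      48 - (if s.val < 24 then (s.val : ℤ) else (s.val : ℤ) + 1)
    have hs : s.val < 48 := s.isLt
    split_ifs <;> omega

theorem opp_opp (i : chevF4.Idx) : opp (opp i) = i := by
  rcases i with i | s
  · rfl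
  · show (Sum.inr ⟨47 - (47 - s.val), _⟩ : chevF4.Idx) = Sum.inr s
    congr 1
    apply Fin.ext
    show 47 - (47 - s.val) = s.val
    have hs : s.val < 48 := s.isLt
    omega

theorem idxNat_opp (i : chevF4.Idx) : idxNat chevF4 (opp i) = oppN (idxNat chevF4 i) := by
  rcases i with i | s
  · show i.val = oppN i.val
    have hi : i.val < 4 := i.isLt
    unfold oppN
    rw [show Nat.blt i.val 4 = true by simpa using hi, cond_true]
  · show 4 + (47 - s.val) = oppN (4 + s.val)
    have hs : s.val < 48 := s.isLt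
    unfold oppN
    rw [show Nat.blt (4 + s.val) 4 = false by rw [Bool.eq_false_iff]; simp, cond_false]
    show 4 + (47 - s.val) = 55 - (4 + s.val)
    omega

/-- the Cartan coordinates -/
def S0 : Set chevF4.Idx := Set.range Sum.inl

variable {K : Type*} [Field K]

theorem tri_of_key {M : Matrix chevF4.Idx chevF4.Idx K}
    (h : ∀ i j, Cfsg.Agent.ChevalleyStructure.Triangular.key chevF4 i < Cfsg.Agent.ChevalleyStructure.Triangular.key chevF4 j → M i j = 0)
    (h' : ∀ i j : Fin chevF4.rank, i ≠ j → M (Sum.inl i) (Sum.inl j) = 0) : Tri pos M := by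
  intro i j hij
  by_cases hne : i = j
  · exact Or.inl hne
  right
  have h1 : Cfsg.Agent.ChevalleyStructure.Triangular.key chevF4 j < Cfsg.Agent.ChevalleyStructure.Triangular.key chevF4 i := by
    rcases lt_trichotomy (Cfsg.Agent.ChevalleyStructure.Triangular.key chevF4 j) (Cfsg.Agent.ChevalleyStructure.Triangular.key chevF4 i) with h1 | h1 | h1
    · exact h1
    · exact absurd (Cfsg.Agent.ChevalleyStructure.Triangular.key_injective chevF4 h1).symm hne
    · exact absurd (h i j h1) hij
  rcases i with i | s <;> rcases j with j | u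
  · exact absurd (h' i j fun hh => hne (by rw [hh])) hij
  · have h2 : (if u.val < 24 then u.val else u.val + 4) < 24 + i.val := h1
    have h3 : i.val < 4 := i.isLt
    rw [pos_inl, pos_inr]
    split_ifs at h2 ⊢ <;> omega
  · have h2 : 24 + j.val < (if s.val < 24 then s.val else s.val + 4) := h1
    rw [pos_inl, pos_inr]
    split_ifs at h2 ⊢ <;> omega
  · have h2 : (if u.val < 24 then u.val else u.val + 4) < (if s.val < 24 then s.val else s.val + 4) := h1
    rw [pos_inr, pos_inr]
    split_ifs at h2 ⊢ <;> omega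

theorem hD : chevF4 ∈ Cfsg.Agent.ChevalleyStructure.Triangular.types := by simp [Cfsg.Agent.ChevalleyStructure.Triangular.types]

theorem borel_le : chevF4.borelSubgroup K ≤ triSubgroup K pos S0 := by
  unfold ChevalleyDatum.borelSubgroup
  refine sup_le ?_ ?_
  · unfold ChevalleyDatum.posUnipotent
    rw [Subgroup.closure_le]
    rintro g ⟨r, t, hr, hg⟩
    have hx : chevF4.x K r t = chevF4.xMat K ⟨r, hr.1⟩ t := dif_pos hr.1
    rw [SetLike.mem_coe, mem_triSubgroup, hg, hx]
    refine ⟨tri_of_key ?_ ?_, ?_⟩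
    · intro i j hij
      exact Cfsg.Agent.ChevalleyStructure.Triangular.xMat_lower hD ⟨r, hr.1⟩ (Cfsg.Agent.ChevalleyStructure.Triangular.pos_of_isPosRoot hD hr) t hij
    · intro i j hij
      rw [xMat_inl_inl, if_neg hij]
    · intro i _
      exact Cfsg.Agent.ChevalleyStructure.Triangular.xMat_diag hD _ t i
  · unfold ChevalleyDatum.diagonalSubgroup
    rw [Subgroup.closure_le]
    rintro g ⟨r, t, hr, ht, hg⟩
    rw [SetLike.mem_coe, mem_triSubgroup, hg, hMat_chevF4 hr ht]
    refine ⟨?_, ?_⟩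
    · intro i j hij
      left
      by_contra hne
      exact hij (Matrix.diagonal_apply_ne _ hne)
    · rintro i ⟨k, rfl⟩
      rw [Matrix.diagonal_apply_eq]
      rfl

theorem goodAll : goodLetters chevF4 lX1 = true ∧ goodLetters chevF4 lY1 = true ∧
    goodLetters chevF4 (lX2 1 0 1) = true ∧ goodLetters chevF4 (lX2 0 1 1) = true ∧
    goodLetters chevF4 (lY2 1 0 1) = true ∧ goodLetters chevF4 (lY2 0 1 1) = true := by decide +kernel

theorem links_mem : ∀ l ∈ links, l.1 = lX1 ∨ l.1 = lY1 ∨ l.1 = lX2 1 0 1 ∨ l.1 = lX2 0 1 1 ∨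
    l.1 = lY2 1 0 1 ∨ l.1 = lY2 0 1 1 := by
  intro l hl
  simp only [links, List.mem_cons, List.not_mem_nil, or_false] at hl
  rcases hl with rfl | rfl | rfl | rfl | rfl | rfl | rfl | rfl | rfl | rfl | rfl | rfl | rfl | rfl | rfl | rfl |
    rfl | rfl | rfl | rfl | rfl | rfl | rfl | rfl | rfl | rfl | rfl | rfl | rfl | rfl | rfl | rfl |
    rfl | rfl | rfl | rfl | rfl | rfl | rfl | rfl | rfl | rfl | rfl | rfl | rfl | rfl | rfl | rfl <;> simp

variable [Fintype K] {m : ℕ} (hK : Fintype.card K = 2 ^ (2 * m + 1))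

include hK

/-- evaluation at constants -/
abbrev V : Ev (opsP 2) K := evP (two_eq_zero hK) (1 : K)

omit [Fintype K] hK in
theorem toWord_append {E : Type} {O : Ops E} (W : Ev O K) (w v : List (Letter E)) :
    toWord W (w ++ v) = toWord W w ++ toWord W v := by
  unfold toWord
  exact List.map_append

/-- the word gives an element of the twisted group -/
def P (w : List (Letter ℕ)) : Prop := wordG inList (toWord (V hK) w) ∈ twistedF4 K (2 ^ m)

theorem P_append {w v : List (Letter ℕ)} (hw : P hK w) (hv : P hK v) : P hK (w ++ v) := by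
  unfold P
  rw [toWord_append, wordG_append]
  exact Subgroup.mul_mem _ hw hv

omit [Fintype K] hK in
theorem mem_of_word {e : ℕ} {w : List (ℕ × K)} (h : w ∈ f4Words K e) : wordG inList w ∈ twistedF4 K e :=
  Subgroup.subset_closure ⟨w, h, coe_wordG _ _⟩

theorem V_ev : (V hK).ev 0 = 1 := by
  show (1 : K) ^ 0 = 1
  simp

theorem P_X1 : P hK lX1 := by
  have : toWord (V hK) lX1 = f4PairWord (2 ^ m) f4p1 f4p4 (1 : K) := by
    simp [toWord, lX1, V_ev, f4PairWord]
  unfold P
  rw [this]
  exact mem_of_word (Or.inl ⟨1, Or.inl rfl⟩)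

theorem P_Y1 : P hK lY1 := by
  have : toWord (V hK) lY1 = f4PairWord (2 ^ m) f4m1 f4m4 (1 : K) := by
    simp [toWord, lY1, V_ev, f4PairWord]
  unfold P
  rw [this]
  exact mem_of_word (Or.inl ⟨1, Or.inr rfl⟩)

theorem P_X2 : P hK (lX2 1 0 1) := by
  have : toWord (V hK) (lX2 1 0 1) = b2ClassWord (2 ^ m) f4a f4b f4ab f4aab (1 : K) 0 := by
    simp [toWord, lX2, V_ev, b2ClassWord]
  unfold P
  rw [this]
  exact mem_of_word (Or.inr ⟨1, 0, Or.inl rfl⟩)

theorem P_X2' : P hK (lX2 0 1 1) := by
  have : toWord (V hK) (lX2 0 1 1) = b2ClassWord (2 ^ m) f4a f4b f4ab f4aab (0 : K) 1 := by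
    simp [toWord, lX2, V_ev, b2ClassWord]
  unfold P
  rw [this]
  exact mem_of_word (Or.inr ⟨0, 1, Or.inl rfl⟩)

theorem P_Y2 : P hK (lY2 1 0 1) := by
  have : toWord (V hK) (lY2 1 0 1) = b2ClassWord (2 ^ m) f4ma f4mb f4mab f4maab (1 : K) 0 := by
    simp [toWord, lY2, V_ev, b2ClassWord]
  unfold P
  rw [this]
  exact mem_of_word (Or.inr ⟨1, 0, Or.inr rfl⟩)

theorem P_Y2' : P hK (lY2 0 1 1) := by
  have : toWord (V hK) (lY2 0 1 1) = b2ClassWord (2 ^ m) f4ma f4mb f4mab f4maab (0 : K) 1 := by
    simp [toWord, lY2, V_ev, b2ClassWord]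
  unfold P
  rw [this]
  exact mem_of_word (Or.inr ⟨0, 1, Or.inr rfl⟩)

theorem P_Y2'' : P hK (lY2 1 1 0) := by
  have h2 : (1 : K) + 1 = 0 := by
    have := two_eq_zero hK
    push_cast at this
    rw [← this]; norm_num
  have : toWord (V hK) (lY2 1 1 0) = b2ClassWord (2 ^ m) f4ma f4mb f4mab f4maab (1 : K) 1 := by
    simp [toWord, lY2, V_ev, b2ClassWord, h2]
  unfold P
  rw [this]
  exact mem_of_word (Or.inr ⟨1, 1, Or.inr rfl⟩)

theorem P_l0 : P hK l0 := by
  have h1 : P hK lN1 := P_append hK (P_X1 hK) (P_append hK (P_Y1 hK) (P_X1 hK))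
  have h2 : P hK lN2 := P_append hK (P_X2' hK) (P_append hK (P_Y2'' hK) (P_X2 hK))
  have h3 : P hK lN := P_append hK h1 h2
  exact P_append hK h3 (P_append hK h3 (P_append hK h3 h3))

theorem reach_spec (χ : chevF4.Idx → K)
    (hχ : ∀ x ∈ twistedF4 K (2 ^ m), (∀ k, (x : Matrix chevF4.Idx chevF4.Idx K) k k ≠ 0) →
      ∀ i j, (x : Matrix chevF4.Idx chevF4.Idx K) i j ≠ 0 → χ i = χ j)
    (ls : List (List (Letter ℕ) × ℕ × ℕ))
    (hls : ∀ l ∈ ls, P hK l.1 ∧ goodLetters chevF4 l.1 = true ∧ diagOne l.1 = true)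
    (known : List ℕ) (hknown : ∀ i, idxNat chevF4 i ∈ known → χ i = 1) (h : reachOK ls known = true) :
    ∀ i, χ i = 1 := by
  induction ls generalizing known with
  | nil =>
    intro i
    apply hknown
    have h' : allRange (fun j => memN j known) 0 52 = true := h
    exact memN_spec (allRange_spec h' (idxNat chevF4 i) (Nat.zero_le _) (by
      have := idxNat_lt chevF4 i
      have : chevF4.rank + chevF4.nroots = 52 := rfl
      omega))
  | cons l ls ih =>
    have h' : (bif memN l.2.2 known then bif Nat.blt l.2.1 52 then bif Nat.blt l.2.2 52 then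
      bif entryOne l.1 l.2.1 l.2.2 then reachOK ls (l.2.1 :: known) else false else false else false else false)
        = true := h
    cases h1 : memN l.2.2 known
    · rw [h1] at h'; exact Bool.noConfusion h'
    cases h2 : Nat.blt l.2.1 52
    · rw [h1, h2] at h'; exact Bool.noConfusion h'
    cases h3 : Nat.blt l.2.2 52
    · rw [h1, h2, h3] at h'; exact Bool.noConfusion h'
    cases h4 : entryOne l.1 l.2.1 l.2.2
    · rw [h1, h2, h3, h4] at h'; exact Bool.noConfusion h'
    rw [h1, h2, h3, h4, cond_true, cond_true, cond_true, cond_true] at h'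
    refine ih (fun l' hl' => hls l' (List.mem_cons_of_mem _ hl')) (l.2.1 :: known) ?_ h'
    intro i hi
    rcases List.mem_cons.1 hi with hi | hi
    · obtain ⟨j, hj⟩ := exists_idx (j := l.2.2) (by simpa using h3)
      obtain ⟨hP, hg, hd⟩ := hls l List.mem_cons_self
      have hg' := good_of_mem hg
      have h5 : χ i = χ j := by
        apply hχ _ hP
        · intro k
          rw [coe_wordG, diagOne_spec (two_eq_zero hK) hg' hd]
          exact one_ne_zero
        · rw [coe_wordG, entryOne_spec (two_eq_zero hK) hg']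
          · exact one_ne_zero
          · rw [hi, hj]; exact h4
      rw [h5]
      apply hknown
      rw [hj]
      exact memN_spec h1
    · exact hknown i hi

end

/-- The normal core of `B¹ = G¹ ∩ B` in ²F₄(2^(2m+1)) is trivial. -/
theorem result {K : Type*} [Field K] [Fintype K] {m : ℕ} (hK : Fintype.card K = 2 ^ (2 * m + 1)) :
    ((Cfsg.Lie.chevF4.borelSubgroup K ⊓ Cfsg.Lie.twistedF4 K (2 ^ m)).subgroupOf (Cfsg.Lie.twistedF4 K (2 ^ m))).normalCore = ⊥ := by
  refine normalCore_eq_bot pos S0 _ _ borel_le (wordG inList (toWord (V hK) l0)) (P_l0 hK) opp ?_ ?_ ?_ ?_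
  · intro i j h
    rw [← opp_opp i, h, opp_opp]
  · intro i j _ h1 h2
    rw [pos_opp, pos_opp] at h2
    omega
  · intro i j hij
    by_contra hne
    apply hij
    rw [coe_wordG, word_apply (two_eq_zero hK) (good_of_mem good_letters)]
    have h1 := isE_eq (allRange_spec w0_check (idxNat chevF4 j) (Nat.zero_le _) (by
      have := idxNat_lt chevF4 j
      have : chevF4.rank + chevF4.nroots = 52 := rfl
      omega))
    rw [h1, evalV_cons, evalV_nil, evalTerm, if_neg, zero_add]
    intro h
    apply hne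
    apply idxNat_injective
    rw [← h, idxNat_opp]
  · intro χ h1 h2
    refine reach_spec hK χ h2 links ?_ [0, 1, 2, 3] ?_ reach_check
    · intro l hl
      obtain ⟨g1, g2, g3, g4, g5, g6⟩ := goodAll
      rcases links_mem l hl with h | h | h | h | h | h <;> rw [h]
      · exact ⟨P_X1 hK, g1, diag_X1⟩
      · exact ⟨P_Y1 hK, g2, diag_Y1⟩
      · exact ⟨P_X2 hK, g3, diag_X2⟩
      · exact ⟨P_X2' hK, g4, diag_X2'⟩
      · exact ⟨P_Y2 hK, g5, diag_Y2⟩
      · exact ⟨P_Y2' hK, g6, diag_Y2'⟩
    · intro i hi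
      apply h1
      rcases i with i | s
      · exact ⟨i, rfl⟩
      · exfalso
        have : idxNat chevF4 (Sum.inr s) = 4 + s.val := rfl
        rw [this] at hi
        simp only [List.mem_cons, List.not_mem_nil, or_false] at hi
        omega

end Cfsg.Agent.S1113
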