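import Cfsg.Statements.S0282
import Cfsg.Agent.LieClassical.SU32
import Cfsg.Agent.LieClassical.SUBasic
import Cfsg.Agent.LieClassical.Order72

set_option autoImplicit false
open Cfsg

namespace Cfsg.Agent.S0282

open Cfsg.Agent.LieClassical

/-- The centre of `SU_3(2)` has order 3. -/
theorem card_center {F : Type*} [Field F] [Fintype F] (hF : Fintype.card F = 4) :
    Nat.card (Subgroup.center (Cfsg.SU 3 F 2)) = 3 := by
  classical
  have hu : ∀ c : Fˣ, (c : F) ^ 3 = 1 := by
    intro c
    have h := pow_card_eq_one (x := c)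
    rw [Fintype.card_units, hF] at h
    have h' := congrArg (Units.val) h
    simpa using h'
  let φ : Fˣ → Subgroup.center (Cfsg.SU 3 F 2) := fun c =>
    ⟨SUBasic.suScalar 2 (c : F) (hu c) (hu c), SUBasic.suScalar_mem_center 2 (c : F) (hu c) (hu c)⟩
  have hφ : Function.Bijective φ := by
    constructor
    · intro c d hcd
      have h := congrArg (fun X : Subgroup.center (Cfsg.SU 3 F 2) =>
        (((X : Cfsg.SU 3 F 2) : Matrix.SpecialLinearGroup (Fin 3) F) :
          Matrix (Fin 3) (Fin 3) F) 0 0) hcd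
      ext
      simpa [φ] using h
    · rintro ⟨A, hA⟩
      obtain ⟨c, hcn, hcq, rfl⟩ :=
        (SUBasic.mem_center_SU_iff (q := 2) (n := 3) (by rw [hF]; norm_num) le_rfl A).1 hA
      have hc0 : c ≠ 0 := by
        rintro rfl
        simp at hcn
      exact ⟨Units.mk0 c hc0, rfl⟩
  rw [← Nat.card_congr (Equiv.ofBijective φ hφ), Nat.card_eq_fintype_card, Fintype.card_units, hF]

/-- PSU_3(2) is a solvable group of order 72. -/
theorem result {F : Type*} [Field F] [Fintype F] (hF : Fintype.card F = 4) : Nat.card (Cfsg.PSU 3 F 2) = 72 ∧ Group.IsSolvable (Cfsg.PSU 3 F 2) := by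
  have h1 := Subgroup.card_eq_card_quotient_mul_card_subgroup (Subgroup.center (Cfsg.SU 3 F 2))
  rw [SU32.card_SU hF, card_center hF] at h1
  have h2 : Nat.card (Cfsg.PSU 3 F 2) = 72 := by
    change Nat.card (Cfsg.SU 3 F 2 ⧸ Subgroup.center (Cfsg.SU 3 F 2)) = 72
    omega
  have : Finite (Cfsg.PSU 3 F 2) := Nat.finite_of_card_ne_zero (by rw [h2]; norm_num)
  exact ⟨h2, Order72.isSolvable_of_card_dvd (by rw [h2])⟩

end Cfsg.Agent.S0282
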