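import Cfsg.Statements.S1179
import Cfsg.Agent.WeakTI.Final
import Cfsg.Agent.WeakTI.ToS1179
import Cfsg.Agent.S1175

set_option autoImplicit false
open Cfsg

namespace Cfsg.Agent.S1179

/-- Let G be a non-abelian finite simple group and A a nontrivial elementary abelian 2-subgroup such that, for every a ∈ A with a ≠ 1, every conjugate of A contained in C_G(a) equals A. Then G is isomorphic to PSL(n,F) over a finite field F of characteristic 2 (n ≥ 2), has the order of a Suzuki group, is isomorphic to PSU(3) over a field with q² elements (q ≥ 4 a power of 2), to an alternating group of degree n with 6 ≤ n ≤ 9, or is simple of the order of M₂₂, M₂₃, M₂₄ or He. -/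
theorem result {G : Type*} [Group G] [Finite G] [IsSimpleGroup G] (hna : ¬ IsMulCommutative G) (A : Subgroup G) (hA : Cfsg.IsElementaryAbelian 2 A) (hA1 : A ≠ ⊥) (hwc : ∀ a ∈ A, a ≠ 1 → ∀ g : G, A.map (MulAut.conj g).toMonoidHom ≤ Subgroup.centralizer ({a} : Set G) → A.map (MulAut.conj g).toMonoidHom = A) : (∃ (n : ℕ) (F : Type) (_ : Field F) (_ : Fintype F), 2 ≤ n ∧ CharP F 2 ∧ Nonempty (G ≃* Matrix.ProjectiveSpecialLinearGroup (Fin n) F)) ∨ Cfsg.IsSuzuki G ∨ (∃ (F : Type) (_ : Field F) (_ : Fintype F) (q : ℕ), Fintype.card F = q ^ 2 ∧ Even q ∧ 4 ≤ q ∧ Nonempty (G ≃* Cfsg.PSU 3 F q)) ∨ (∃ n : ℕ, 6 ≤ n ∧ n ≤ 9 ∧ Nonempty (G ≃* alternatingGroup (Fin n))) ∨ Cfsg.IsM22 G ∨ Cfsg.IsM23 G ∨ Cfsg.IsM24 G ∨ Cfsg.IsHe G :=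
  Cfsg.Agent.WeakTI.ToS1179.s1179_of_main
    (fun A h => Cfsg.Agent.WeakTI.Final.main (fun X _ _ hs _ M hM z hz hzM h1 h2 h3 =>
      have : IsSimpleGroup X := hs
      Cfsg.Agent.S1175.result M hM z hz hzM h1 h2 h3) G A h) hna A hA hA1 hwc

end Cfsg.Agent.S1179
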