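import Cfsg.Statements.S1700
import Cfsg.Agent.Th.CoverMain
import Cfsg.Agent.Th.Lower
import Cfsg.Agent.Th.Simple19
import Cfsg.Agent.Th.CenterTh

set_option autoImplicit false
open Cfsg

namespace Cfsg.Agent.S1700

/-- The presented Thompson sporadic group is simple of the expected order (that is, it is a simple group of the order of the Thompson sporadic group). -/
theorem result : Cfsg.IsTh Cfsg.Spor.Th := by
  obtain ⟨g, hN, -⟩ := Cfsg.Agent.Th.CoverMain.nodesTh
  have h := Cfsg.Agent.Th.IndexUpper.final hN Cfsg.Agent.Th.Lower.hlow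
  have hfin : Finite Cfsg.Spor.Th := h.1
  have hcard := h.2.1
  have hinj : Function.Injective Cfsg.Agent.Th.Hom248.rho := by
    have h1 : Nat.card Cfsg.Agent.Th.Hom248.rho.range = Nat.card Cfsg.Spor.Th :=
      le_antisymm (Nat.le_of_dvd Nat.card_pos (Subgroup.card_range_dvd _))
        (by rw [hcard]; exact Cfsg.Agent.Th.Lower.card_range_ge)
    have h2 : Function.Surjective Cfsg.Agent.Th.Hom248.rho.rangeRestrict :=
      Cfsg.Agent.Th.Hom248.rho.rangeRestrict_surjective
    have : Finite Cfsg.Agent.Th.Hom248.rho.range := Finite.of_surjective _ h2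
    have h3 : Function.Bijective Cfsg.Agent.Th.Hom248.rho.rangeRestrict :=
      (Nat.bijective_iff_surjective_and_card _).mpr ⟨h2, h1.symm⟩
    intro x y hxy
    exact h3.1 (Subtype.ext hxy)
  exact ⟨Cfsg.Agent.Th.Simple19.isSimple hinj hcard
    (Cfsg.Agent.Th.CenterTh.center_Th hN Cfsg.Agent.Th.Lower.hlow), hcard⟩

end Cfsg.Agent.S1700
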