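import Cfsg.Statements.S0324
-- import your own Cfsg.Agent.* helpers here
import Cfsg.Agent.LieExceptional.SuzukiBasic

set_option autoImplicit false
open Cfsg

namespace Cfsg.Agent.S0324

open Cfsg.Agent.LieExceptional.SuzukiBasic in
/-- The stabiliser of infinity is parametrised by `F × F × Fˣ`, the rest by `F × F × Fˣ × F × F`. -/
theorem card_param {F : Type*} [Field F] [Fintype F] {m : ℕ} (hm : 1 ≤ m)
    (hF : Fintype.card F = 2 ^ (2 * m + 1)) :
    Nat.card (Cfsg.Sz F m) = Nat.card ((F × F × Fˣ) ⊕ (F × F × Fˣ × F × F)) := by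
  classical
  let f : (F × F × Fˣ) ⊕ (F × F × Fˣ × F × F) → Cfsg.Sz F m := fun x =>
    match x with
    | Sum.inl (a, b, k) => ⟨U m a b * H m k, mul_mem (U_mem hF a b) (H_mem hF k)⟩
    | Sum.inr (a, b, k, c, d) => ⟨U m a b * W F * H m k * U m c d,
        mul_mem (mul_mem (mul_mem (U_mem hF a b) (W_mem hF)) (H_mem hF k)) (U_mem hF c d)⟩
  refine (Nat.card_congr (Equiv.ofBijective f ⟨?_, ?_⟩)).symm
  · have key : ∀ (a b : F) (k : Fˣ) (a' b' : F) (k' : Fˣ) (c d : F),
        U m a b * H m k ≠ U m a' b' * W F * H m k' * U m c d := by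
      intro a b k a' b' k' c d h
      have h1 : (U m a b * H m k) • suzukiPointInfinity F = suzukiPointInfinity F := by
        rw [mul_smul, H_smul_infinity, U_smul_infinity]
      rw [h, mul_smul, mul_smul, mul_smul, U_smul_infinity, H_smul_infinity, W_smul_infinity,
        ← pt_zero_zero m, U_smul_pt hF] at h1
      exact pt_ne_infinity m _ _ h1
    rintro (⟨a, b, k⟩ | ⟨a, b, k, c, d⟩) (⟨a', b', k'⟩ | ⟨a', b', k', c', d'⟩) h
    · have h' : U m a b * H m k = U m a' b' * H m k' := congrArg Subtype.val h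
      obtain ⟨rfl, rfl, rfl⟩ := U_mul_H_inj hF h'
      rfl
    · exact absurd (congrArg Subtype.val h) (key a b k a' b' k' c' d')
    · exact absurd (congrArg Subtype.val h).symm (key a' b' k' a b k c d)
    · have h' : U m a b * W F * H m k * U m c d = U m a' b' * W F * H m k' * U m c' d' :=
        congrArg Subtype.val h
      obtain ⟨rfl, rfl, rfl, rfl, rfl⟩ := bruhat_inj hF h'
      rfl
  · rintro ⟨g, hg⟩
    rcases bruhat hm hF hg with ⟨a, b, k, rfl⟩ | ⟨a, b, k, c, d, rfl⟩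
    · exact ⟨Sum.inl (a, b, k), rfl⟩
    · exact ⟨Sum.inr (a, b, k, c, d), rfl⟩

/-- The Suzuki group over a field with `q = 2^(2m+1)` elements, `m ≥ 1`, has order `q² (q² + 1) (q - 1)`. -/
theorem result {F : Type*} [Field F] [Fintype F] {m : ℕ} (hm : 1 ≤ m)
    (hF : Fintype.card F = 2 ^ (2 * m + 1)) :
    Nat.card (Cfsg.Sz F m) = (2 ^ (2 * m + 1)) ^ 2 * ((2 ^ (2 * m + 1)) ^ 2 + 1) * (2 ^ (2 * m + 1) - 1) := by
  classical
  have hu : Nat.card Fˣ = 2 ^ (2 * m + 1) - 1 := by
    rw [Nat.card_units, Nat.card_eq_fintype_card, hF]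
  have hc : Nat.card F = 2 ^ (2 * m + 1) := by rw [Nat.card_eq_fintype_card, hF]
  rw [card_param hm hF, Nat.card_sum]
  simp only [Nat.card_prod, hu, hc]
  ring

end Cfsg.Agent.S0324
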