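import Cfsg.Statements.S0228
import Mathlib

set_option autoImplicit false
open Cfsg

namespace Cfsg.Agent.S0228

/-- In a group of order 12 with a normal subgroup of order three there is a central involution. -/
theorem exists_central_involution {G : Type*} [Group G] [Finite G] (hG : Nat.card G = 12)
    (P : Subgroup G) (hPn : P.Normal) (hP : Nat.card P = 3) :
    ∃ z : G, orderOf z = 2 ∧ z ∈ Subgroup.center G := by
  classical
  have h2 : Fact (Nat.Prime 2) := ⟨Nat.prime_two⟩
  have h3 : Fact (Nat.Prime 3) := ⟨Nat.prime_three⟩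
  obtain ⟨c, hc⟩ := exists_prime_orderOf_dvd_card' (G := P) 3 (by rw [hP])
  have hcP : (c : G) ∈ P := c.2
  have hc' : orderOf (c : G) = 3 := by rw [Subgroup.orderOf_coe, hc]
  have hPc : P = Subgroup.zpowers (c : G) := by
    symm
    apply Subgroup.eq_of_le_of_card_ge
    · rwa [Subgroup.zpowers_le]
    · rw [hP, Nat.card_zpowers, hc']
  have horb : ∀ g : G, g * c * g⁻¹ = c ∨ g * c * g⁻¹ = (c : G)⁻¹ := by
    intro g
    have h1 : g * c * g⁻¹ ∈ Subgroup.zpowers (c : G) := by
      rw [← hPc]; exact hPn.conj_mem _ hcP g
    rw [mem_zpowers_iff_mem_range_orderOf, hc', Finset.mem_image] at h1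
    obtain ⟨n, hn, hn'⟩ := h1
    rw [Finset.mem_range] at hn
    interval_cases n
    · exfalso
      rw [pow_zero] at hn'
      have : (c : G) = 1 := by
        have := hn'.symm
        rwa [conj_eq_one_iff] at this
      rw [this, orderOf_one] at hc'
      exact absurd hc' (by norm_num)
    · left; simpa using hn'.symm
    · right
      rw [← hn', eq_inv_iff_mul_eq_one, ← pow_succ]
      have := pow_orderOf_eq_one (c : G)
      rw [hc'] at this
      exact this
  -- the centralizer of `c` has even order
  set C := Subgroup.centralizer ({(c : G)} : Set G) with hC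
  have hCcard : 2 ∣ Nat.card C := by
    have h1 : C.index ≤ 2 := by
      have hst : MulAction.stabilizer (ConjAct G) (c : G) = C.comap (ConjAct.ofConjAct (G := G)).toMonoidHom := by
        ext g
        rw [MulAction.mem_stabilizer_iff, Subgroup.mem_comap, hC,
          Subgroup.mem_centralizer_singleton_iff, ConjAct.smul_def, mul_inv_eq_iff_eq_mul]
        rfl
      have h4 : (MulAction.stabilizer (ConjAct G) (c : G)).index = C.index := by
        rw [hst]
        exact Subgroup.index_comap_of_surjective _ (ConjAct.ofConjAct (G := G)).surjective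
      rw [← h4, MulAction.index_stabilizer]
      have h5 : MulAction.orbit (ConjAct G) (c : G) ⊆ {(c : G), (c : G)⁻¹} := by
        rintro x ⟨g, rfl⟩
        have := horb (ConjAct.ofConjAct g)
        simpa [ConjAct.smul_def] using this
      calc (MulAction.orbit (ConjAct G) (c : G)).ncard ≤ ({(c : G), (c : G)⁻¹} : Set G).ncard :=
            Set.ncard_le_ncard h5 (Set.toFinite _)
        _ ≤ 2 := (Set.ncard_insert_le _ _).trans (by rw [Set.ncard_singleton])
    have h6 := C.card_mul_index
    rw [hG] at h6
    have h7 : C.index ≠ 0 := Subgroup.FiniteIndex.index_ne_zero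
    interval_cases h : C.index
    · exact absurd rfl h7
    · omega
    · omega
  obtain ⟨z, hz⟩ := exists_prime_orderOf_dvd_card' (G := C) 2 hCcard
  have hz' : orderOf (z : G) = 2 := by rw [Subgroup.orderOf_coe, hz]
  refine ⟨z, hz', ?_⟩
  have hzc : (c : G) ∈ Subgroup.centralizer ({(z : G)} : Set G) := by
    have : (z : G) * c = c * z := Subgroup.mem_centralizer_singleton_iff.mp z.2
    rw [Subgroup.mem_centralizer_singleton_iff]
    exact this.symm
  have hzp : IsPGroup 2 (Subgroup.zpowers (z : G)) := by
    apply IsPGroup.of_card (n := 1)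
    rw [Nat.card_zpowers, hz', pow_one]
  obtain ⟨Q, hQ⟩ := hzp.exists_le_sylow
  have hQcard : Nat.card Q = 2 ^ 2 := by
    rw [Q.card_eq_multiplicity, hG]
    have : (12 : ℕ) = 2 ^ 2 * 3 := by norm_num
    have h8 : Nat.factorization 12 2 = 2 := by
      rw [this, Nat.factorization_mul (by norm_num) (by norm_num), Nat.factorization_pow]
      simp [Nat.Prime.factorization Nat.prime_two, Nat.Prime.factorization Nat.prime_three]
    rw [h8]
  have hQle : (Q : Subgroup G) ≤ Subgroup.centralizer ({(z : G)} : Set G) := by
    intro q hq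
    rw [Subgroup.mem_centralizer_singleton_iff]
    have hzQ : (z : G) ∈ (Q : Subgroup G) := hQ (Subgroup.mem_zpowers _)
    have hmc := IsPGroup.isMulCommutative_of_card_eq_prime_sq hQcard
    have := hmc.is_comm.comm (⟨q, hq⟩ : (Q : Subgroup G)) ⟨z, hzQ⟩
    exact congrArg Subtype.val this
  have hPle : P ≤ Subgroup.centralizer ({(z : G)} : Set G) := by
    rw [hPc, Subgroup.zpowers_le]; exact hzc
  have h9 : 12 ∣ Nat.card (Subgroup.centralizer ({(z : G)} : Set G)) := by
    have h10 : 4 ∣ Nat.card (Subgroup.centralizer ({(z : G)} : Set G)) := by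
      have := Subgroup.card_dvd_of_le hQle
      rwa [show Nat.card (Q : Subgroup G) = 2 ^ 2 from hQcard] at this
    have h11 : 3 ∣ Nat.card (Subgroup.centralizer ({(z : G)} : Set G)) := by
      have := Subgroup.card_dvd_of_le hPle
      rwa [hP] at this
    omega
  have h12 : Subgroup.centralizer ({(z : G)} : Set G) = ⊤ := by
    apply Subgroup.eq_top_of_card_eq
    rw [hG]
    exact Nat.dvd_antisymm (hG ▸ Subgroup.card_subgroup_dvd_card _) h9
  rw [Subgroup.mem_center_iff]
  intro g
  have : g ∈ Subgroup.centralizer ({(z : G)} : Set G) := by rw [h12]; trivial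
  rwa [Subgroup.mem_centralizer_singleton_iff] at this

/-- A group of order 12 in which no involution is central is isomorphic to the alternating group on four letters. -/
theorem result {G : Type*} [Group G] [Finite G] (hG : Nat.card G = 12) (hz : ∀ z : G, orderOf z = 2 → z ∉ Subgroup.center G) : Nonempty (G ≃* alternatingGroup (Fin 4)) := by
  classical
  have h3 : Fact (Nat.Prime 3) := ⟨Nat.prime_three⟩
  obtain ⟨c, hc⟩ := exists_prime_orderOf_dvd_card' (G := G) 3 (by rw [hG]; norm_num)
  set P := Subgroup.zpowers c with hPdef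
  have hP : Nat.card P = 3 := by rw [Nat.card_zpowers, hc]
  have hindex : P.index = 4 := by
    have := P.card_mul_index
    rw [hG, hP] at this
    omega
  have hPn : ¬ P.Normal := by
    intro hn
    obtain ⟨z, hz2, hzc⟩ := exists_central_involution hG P hn hP
    exact hz z hz2 hzc
  have hcore : P.normalCore = ⊥ := by
    have h1 : Nat.card P.normalCore ∣ 3 := hP ▸ Subgroup.card_dvd_of_le P.normalCore_le
    rcases (Nat.dvd_prime Nat.prime_three).mp h1 with h2 | h2
    · exact Subgroup.eq_bot_of_card_eq _ h2
    · exfalso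
      apply hPn
      have : P.normalCore = P := by
        apply Subgroup.eq_of_le_of_card_ge P.normalCore_le
        rw [h2, hP]
      rw [← this]
      exact P.normalCore_normal
  let f : G →* Equiv.Perm (G ⧸ P) := MulAction.toPermHom G (G ⧸ P)
  have hf : Function.Injective f := by
    rw [← MonoidHom.ker_eq_bot_iff, ← hcore]
    exact P.normalCore_eq_ker.symm
  have hcard : Nat.card (G ⧸ P) = 4 := hindex
  let e : (G ⧸ P) ≃ Fin 4 := (Finite.equivFin (G ⧸ P)).trans (finCongr hcard)
  let g : G →* Equiv.Perm (Fin 4) := (e.permCongrHom : Equiv.Perm (G ⧸ P) ≃* _).toMonoidHom.comp f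
  have hg : Function.Injective g := e.permCongrHom.injective.comp hf
  have h1 : Nat.card g.range = 12 := by
    rw [← hG]; exact Nat.card_congr (MonoidHom.ofInjective hg).symm.toEquiv
  have h2 : Nat.card (Equiv.Perm (Fin 4)) = 24 := by
    rw [Nat.card_perm, Nat.card_eq_fintype_card, Fintype.card_fin]; rfl
  have h4 := Subgroup.card_mul_index g.range
  have h5 : g.range.index = 2 := by
    rw [h1, h2] at h4
    omega
  have h6 := Equiv.Perm.eq_alternatingGroup_of_index_eq_two h5
  exact ⟨(MonoidHom.ofInjective hg).trans (MulEquiv.subgroupCongr h6)⟩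

end Cfsg.Agent.S0228
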