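-- Statement S0192 (Brauer's subgroup generation criterion).
import Cfsg.Statements.S0192
import Mathlib

set_option autoImplicit false
open Cfsg

namespace Cfsg.Agent.S0192

open scoped ComplexConjugate
open Representation Module

/-- The multiplicity of the principal character in the restriction to a subgroup is the dimension
of the space of fixed vectors. -/
theorem classInner_one_eq_finrank {G : Type*} [Group G] {V : Type*} [AddCommGroup V]
    [Module ℂ V] [FiniteDimensional ℂ V] (ρ : Representation ℂ G V) (H : Subgroup G)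
    [Fintype H] :
    Cfsg.classInner (fun x : H => ρ.character x) (fun _ => 1) =
      (finrank ℂ (invariants (ρ.comp H.subtype)) : ℂ) := by
  have hcard : (Nat.card H : ℂ) ≠ 0 := by exact_mod_cast Nat.card_pos.ne'
  have : Invertible (Nat.card H : ℂ) := invertibleOfNonzero hcard
  rw [← card_inv_mul_sum_char_eq_finrank (ρ.comp H.subtype)]
  show (Nat.card H : ℂ)⁻¹ * ∑ g : H, ρ.character g * conj (1 : ℂ) = _
  congr 1
  refine Finset.sum_congr rfl fun g _ => ?_
  rw [map_one, mul_one]
  rfl

/-- Brauer's generation criterion. Let G be a finite simple group, H₁ and H₂ subgroups, and χ a non-principal irreducible character. If the multiplicity of the principal character in χ restricted to H₁ ⊓ H₂ is less than the sum of the corresponding multiplicities for H₁ and H₂, then H₁ and H₂ do not generate G. -/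
theorem result {G : Type*} [Group G] [Fintype G] [IsSimpleGroup G] (H₁ H₂ : Subgroup G) [Fintype H₁] [Fintype H₂] [Fintype ↥(H₁ ⊓ H₂)] (χ : G → ℂ) (hχ : Cfsg.IsIrrCharacter G χ) (hχ1 : χ ≠ fun _ => 1) (hlt : (Cfsg.classInner (fun x : ↥(H₁ ⊓ H₂) => χ x) (fun _ => 1)).re < (Cfsg.classInner (fun x : H₁ => χ x) (fun _ => 1)).re + (Cfsg.classInner (fun x : H₂ => χ x) (fun _ => 1)).re) : H₁ ⊔ H₂ ≠ ⊤ := by
  classical
  obtain ⟨n, ρ, hρ, rfl⟩ := hχ
  intro htop
  have := hρ
  rw [classInner_one_eq_finrank, classInner_one_eq_finrank, classInner_one_eq_finrank] at hlt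
  simp only [Complex.natCast_re] at hlt
  have hlt' : finrank ℂ (invariants (ρ.comp (H₁ ⊓ H₂).subtype)) <
      finrank ℂ (invariants (ρ.comp H₁.subtype)) + finrank ℂ (invariants (ρ.comp H₂.subtype)) := by
    exact_mod_cast hlt
  have hle : invariants (ρ.comp H₁.subtype) ⊔ invariants (ρ.comp H₂.subtype) ≤
      invariants (ρ.comp (H₁ ⊓ H₂).subtype) := by
    refine sup_le ?_ ?_
    · intro v hv g
      exact hv ⟨g, g.2.1⟩
    · intro v hv g
      exact hv ⟨g, g.2.2⟩
  have h1 := Submodule.finrank_sup_add_finrank_inf_eq (invariants (ρ.comp H₁.subtype))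
    (invariants (ρ.comp H₂.subtype))
  have h2 := Submodule.finrank_mono hle
  have h3 : 0 < finrank ℂ ↥(invariants (ρ.comp H₁.subtype) ⊓ invariants (ρ.comp H₂.subtype)) := by
    omega
  have h4 : invariants (ρ.comp H₁.subtype) ⊓ invariants (ρ.comp H₂.subtype) ≠ ⊥ := by
    intro h
    rw [h, finrank_bot] at h3
    exact lt_irrefl _ h3
  obtain ⟨v, hv, hv0⟩ := Submodule.exists_mem_ne_zero_of_ne_bot h4
  -- the vector `v` is fixed by all of `G`
  let S : Subgroup G :=
    { carrier := {g | ρ g v = v}
      one_mem' := by simp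
      mul_mem' := by
        intro a b ha hb
        have ha' : ρ a v = v := ha
        have hb' : ρ b v = v := hb
        show ρ (a * b) v = v
        rw [map_mul, Module.End.mul_apply, hb', ha']
      inv_mem' := by
        intro a ha
        have ha' : ρ a v = v := ha
        show ρ a⁻¹ v = v
        have : ρ a⁻¹ (ρ a v) = v := by
          rw [← Module.End.mul_apply, ← map_mul, inv_mul_cancel, map_one, Module.End.one_apply]
        rwa [ha'] at this }
  have hS1 : H₁ ≤ S := fun g hg => hv.1 ⟨g, hg⟩
  have hS2 : H₂ ≤ S := fun g hg => hv.2 ⟨g, hg⟩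
  have hS : ∀ g : G, ρ g v = v := by
    intro g
    have : g ∈ S := by
      have : (⊤ : Subgroup G) ≤ S := htop ▸ sup_le hS1 hS2
      exact this (Subgroup.mem_top g)
    exact this
  -- so `G` acts trivially
  let W : Subrepresentation ρ :=
    { toSubmodule := invariants ρ
      apply_mem_toSubmodule := by
        intro g w hw
        have hw' : ρ g w = w := hw g
        rw [hw']
        exact hw }
  have hvW : v ∈ W.toSubmodule := hS
  have hW : W = ⊤ := by
    rcases eq_bot_or_eq_top W with h | h
    · exfalso
      rw [h] at hvW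
      exact hv0 ((Submodule.mem_bot ℂ).1 hvW)
    · exact h
  have htriv : ∀ g : G, ρ g = 1 := by
    intro g
    refine LinearMap.ext fun w => ?_
    have hw : w ∈ W.toSubmodule := by rw [hW]; trivial
    exact hw g
  have hchar : ∀ g : G, ρ.character g = n := by
    intro g
    show LinearMap.trace ℂ _ (ρ g) = n
    rw [htriv g]
    simp
  have hcard : (Nat.card G : ℂ) ≠ 0 := by exact_mod_cast Nat.card_pos.ne'
  have : Invertible (Nat.card G : ℂ) := invertibleOfNonzero hcard
  have horth := char_orthonormal ρ ρ
  rw [if_pos ⟨Representation.Equiv.refl ρ⟩] at horth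
  simp only [hchar, Finset.sum_const, Finset.card_univ, nsmul_eq_mul] at horth
  rw [← Nat.card_eq_fintype_card, inv_mul_cancel_left₀ hcard] at horth
  have hn : n = 1 := by
    have : n * n = 1 := by exact_mod_cast horth
    exact Nat.eq_one_of_mul_eq_one_left this
  apply hχ1
  funext g
  rw [hchar, hn, Nat.cast_one]

end Cfsg.Agent.S0192
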