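import Cfsg.Statements.S1660
import Cfsg.Agent.R10.Final
import Cfsg.Agent.R10.Close
import Cfsg.Agent.SporRec.LyFiveFinal

set_option autoImplicit false
open Cfsg

namespace Cfsg.Agent.S1660

/-- Uniqueness of the Lyons group at the level of isomorphism: a finite simple group having an involution whose centraliser is a non-split double cover of the alternating group of degree 11 is isomorphic to the presented Lyons group. -/
theorem result {G : Type*} [Group G] [Finite G] [IsSimpleGroup G] (t : G) (ht : orderOf t = 2) (hcov : Cfsg.IsNonsplitDoubleCover (Subgroup.centralizer ({t} : Set G)) (alternatingGroup (Fin 11))) : Cfsg.Spor.IsoLy G := by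
  obtain ⟨L, -⟩ := Cfsg.Agent.SporRec.LyType.exists_lyType t ht hcov
  obtain ⟨f, hf⟩ := Cfsg.Agent.SporRec.LyFiveFinal.exists_five L
  obtain ⟨-, M, -, -⟩ := Cfsg.Agent.SporRec.LyFiveFinal.exists_lyFive hf
  obtain ⟨L', F, a, b, c, z, -, -, -, h⟩ := Cfsg.Agent.R10.NGenMain.exists_nGen M
  obtain ⟨d, e, h44, -⟩ := Cfsg.Agent.R10.Rel44Of.exists_rel44_of_nGen h
  obtain ⟨φ, hφ⟩ := Cfsg.Agent.R10.Final.exists_hom h h44
  exact ⟨(MulEquiv.ofBijective φ (Cfsg.Agent.R10.Close.closing t ht hcov φ hφ)).symm⟩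

end Cfsg.Agent.S1660
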