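import Cfsg.Statements.S0621
import Cfsg.Agent.PLocal.FFCoprime
-- import your own Cfsg.Agent.* helpers here

set_option autoImplicit false
open Cfsg

namespace Cfsg.Agent.S0621

/-- Let K be p-separable with O_p'(K) = 1, normalized by an elementary abelian q-group X for a prime q not dividing the order of K. If the Thompson factorization fails in K, then p is 2 or 3 and the fixed points of X contain a plane W of order p² and a subgroup inducing SL(2, p) on it. -/
theorem result {G : Type*} [Group G] [Finite G] {p : ℕ} [Fact p.Prime] {q : ℕ} [Fact q.Prime] (K X : Subgroup G) (hXK : X ≤ Subgroup.normalizer (K : Set G)) (hX : Cfsg.IsElementaryAbelian q X) (hq : ¬ q ∣ Nat.card K) (hsep : Cfsg.IsPSolvable p ↥K) (hO : Cfsg.pPrimeCore p ↥K = ⊥) (hnf : ¬ Cfsg.IsThompsonFactorizable p ↥K) : (p = 2 ∨ p = 3) ∧ ∃ W D : Subgroup G, W ≤ K ⊓ Subgroup.centralizer (X : Set G) ∧ D ≤ K ⊓ Subgroup.centralizer (X : Set G) ∧ Cfsg.IsElementaryAbelian p W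 ∧ Nat.card W = p ^ 2 ∧ D ≤ Subgroup.normalizer (W : Set G) ∧ ∃ hn : ((Subgroup.centralizer (W : Set G)).subgroupOf D).Normal, Nonempty ((↥D ⧸ (Subgroup.centralizer (W : Set G)).subgroupOf D) ≃* Matrix.SpecialLinearGroup (Fin 2) (ZMod p)) := by
  classical
  set J : Subgroup ↥K := thompsonSubgroup p ↥K with hJ
  set V : Subgroup ↥K := Agent.PLocal.FFCoprime.omegaJoin p ↥K with hVdef
  have hVc : V.Characteristic := Agent.PLocal.FFCoprime.omegaJoin_characteristic p ↥K
  have hVn : V.Normal := inferInstance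
  have hJc : J.Characteristic := Agent.PLocal.ThompsonJ.thompsonSubgroup_characteristic p ↥K
  have hJn : J.Normal := inferInstance
  have hVe : IsElementaryAbelian p V := (Agent.S0601.result (p := p)
    (Agent.Lib.PSolvable.centralizer_pCore_le_of_pSolvable p hsep hO)).2.1
  obtain ⟨Γ, hΓ, hfin, f, j, Y, hcomp, hker, hYV, hYC, hYq, hqC, hfixV, hfix⟩ :=
    Agent.PLocal.FFCoprime.exists_setup (p := p) K X hXK hX hq V hVc
  have hJV : J.map f ≠ ⊥ := by
    intro hJV
    apply hnf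
    intro S g
    have hJC : J ≤ Subgroup.centralizer (V : Set ↥K) := by
      intro k hk
      rw [← hker]
      have : f k ∈ J.map f := ⟨k, hk, rfl⟩
      rw [hJV] at this
      simpa using this
    have hLn : (Subgroup.centralizer (V : Set ↥K)).Normal := inferInstance
    have h1 := Agent.PLocal.ThompsonFrattini.normalizer_thompson_sup_eq_top S
      (Subgroup.centralizer (V : Set ↥K)) hJC
    have h2 : g ∈ Subgroup.centralizer (V : Set ↥K) ⊔ Subgroup.normalizer
        (thompsonSubgroupOf p (S : Subgroup ↥K) : Set ↥K) := by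
      rw [sup_comm, h1]; trivial
    rw [Subgroup.mem_sup_of_normal_left] at h2
    obtain ⟨c, hc, n, hn, rfl⟩ := h2
    refine ⟨1, Subgroup.one_mem _, c, ?_, n, hn, by rw [one_mul]⟩
    refine Subgroup.centralizer_le ?_ hc
    exact le_iSup (fun S : Sylow p ↥K => omegaOne p ((S : Subgroup ↥K) ⊓
      Subgroup.centralizer ((S : Subgroup ↥K) : Set ↥K))) S
  obtain ⟨b1, b2, b3, b4, b5⟩ := Agent.PLocal.FFBridge.bridge hsep hO V rfl f j hcomp
    (fun k hk => (hker k).2 hk)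
  have hfam := Agent.PLocal.FFTransport.fffam j.range (J.map f) b1 b2 b3 b4 b5 hJV
  obtain ⟨W, D, hW, hD, hWcard, hDW, hDC, ⟨eD⟩⟩ := hfam.exists_plane (q := q) hJV hYV (hYC J hJc)
    (fun y hy E hE => Agent.PLocal.FFTransport.map_conj_mem_comps (hYV hy) (hYC J hJc hy) hE)
    hYq (hqC J)
  refine ⟨hfam.hp, ?_⟩
  -- the pull backs
  set W₀ : Subgroup ↥V := W.comap j with hW₀
  set W' : Subgroup G := (W₀.map V.subtype).map K.subtype with hW'
  set D' : Subgroup G := ((D.comap f) ⊓ (Subgroup.centralizer (X : Set G)).subgroupOf K).map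
    K.subtype with hD'
  have hjW : W₀.map j = W := by
    rw [hW₀, Subgroup.map_comap_eq, inf_eq_right]
    exact hW.trans inf_le_left
  have hmemW : ∀ k : ↥K, (k : G) ∈ W' ↔ ∃ hk : k ∈ V, j ⟨k, hk⟩ ∈ W := by
    intro k
    constructor
    · rintro ⟨_, ⟨v, hv, rfl⟩, hvk⟩
      have h1 : (v : ↥K) = k := Subtype.ext hvk
      subst h1
      exact ⟨v.2, hv⟩
    · rintro ⟨hk, hk'⟩
      exact ⟨k, ⟨⟨k, hk⟩, hk', rfl⟩, rfl⟩
  have hmemD : ∀ k : ↥K, (k : G) ∈ D' ↔ f k ∈ D ∧ (k : G) ∈ Subgroup.centralizer (X : Set G) := by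
    intro k
    constructor
    · rintro ⟨k', ⟨h1, h2⟩, h3⟩
      have h4 : k' = k := Subtype.ext h3
      subst h4
      exact ⟨h1, h2⟩
    · rintro ⟨h1, h2⟩
      exact ⟨k, ⟨h1, h2⟩, rfl⟩
  have hW'K : W' ≤ K := Subgroup.map_subtype_le _
  have hD'K : D' ≤ K := Subgroup.map_subtype_le _
  -- the action of `D'` on `W'`
  have hcent : ∀ d : ↥K, (d : G) ∈ D' → ((d : G) ∈ Subgroup.centralizer (W' : Set G) ↔ f d = 1) := by
    intro d hd
    constructor
    · intro hdc
      have h1 : f d ∈ D ⊓ Subgroup.centralizer (W : Set Γ) := by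
        refine Subgroup.mem_inf.2 ⟨((hmemD d).1 hd).1, ?_⟩
        rw [Subgroup.mem_centralizer_iff]
        intro w hw
        rw [← hjW] at hw
        obtain ⟨v, hv, rfl⟩ := hw
        have h2 := (Subgroup.mem_centralizer_iff.1 hdc) ((v : ↥K) : G)
          ((hmemW v).2 ⟨v.2, hv⟩)
        have h3 : Commute d (v : ↥K) := (Subtype.ext h2 : (v : ↥K) * d = d * v).symm
        exact ((hcomp.commute_iff d v).2 h3).symm
      rw [hDC] at h1
      simpa using h1
    · intro h1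
      rw [hker, Subgroup.mem_centralizer_iff] at h1
      rw [Subgroup.mem_centralizer_iff]
      intro w hw
      have hwK := hW'K hw
      obtain ⟨hwV, -⟩ := (hmemW ⟨w, hwK⟩).1 hw
      exact congrArg Subtype.val (h1 ⟨w, hwK⟩ hwV)
  refine ⟨W', D', ?_, ?_, ?_, ?_, ?_, ?_⟩
  · intro w hw
    have hwK := hW'K hw
    obtain ⟨hwV, hwW⟩ := (hmemW ⟨w, hwK⟩).1 hw
    exact Subgroup.mem_inf.2 ⟨hwK, hfixV ⟨⟨w, hwK⟩, hwV⟩ (Subgroup.mem_inf.1 (hW hwW)).2⟩
  · intro d hd
    exact Subgroup.mem_inf.2 ⟨hD'K hd, ((hmemD ⟨d, hD'K hd⟩).1 hd).2⟩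
  · have h1 : W₀.map V.subtype ≤ V := Subgroup.map_subtype_le _
    exact Agent.PLocal.ThompsonJ.isElementaryAbelian_map
      (Agent.PLocal.ThompsonJ.isElementaryAbelian_mono hVe h1) _
  · rw [hW', Agent.PLocal.ThompsonJ.card_map_injective _ K.subtype_injective,
      Agent.PLocal.ThompsonJ.card_map_injective _ V.subtype_injective,
      ← Agent.PLocal.ThompsonJ.card_map_injective _ hcomp.inj, hjW, hWcard]
  · -- normalization
    have hsub : ∀ d ∈ D', ∀ w ∈ W', d * w * d⁻¹ ∈ W' := by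
      intro d hd w hw
      have hdK := hD'K hd
      have hwK := hW'K hw
      obtain ⟨hwV, hwW⟩ := (hmemW ⟨w, hwK⟩).1 hw
      have h1 : (⟨d, hdK⟩ : ↥K) * ⟨w, hwK⟩ * (⟨d, hdK⟩ : ↥K)⁻¹ ∈ V := hVn.conj_mem _ hwV _
      refine (hmemW (⟨d, hdK⟩ * ⟨w, hwK⟩ * (⟨d, hdK⟩ : ↥K)⁻¹)).2 ⟨h1, ?_⟩
      rw [← hcomp.act ⟨d, hdK⟩ ⟨⟨w, hwK⟩, hwV⟩ _ rfl]
      exact (Subgroup.mem_normalizer_iff.1 (hDW ((hmemD ⟨d, hdK⟩).1 hd).1) _).1 hwW
    intro d hd
    rw [Subgroup.mem_normalizer_iff]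
    intro w
    constructor
    · exact hsub d hd w
    · intro hw
      have h1 := hsub d⁻¹ (D'.inv_mem hd) _ hw
      have h2 : d⁻¹ * (d * w * d⁻¹) * d⁻¹⁻¹ = w := by group
      rwa [h2] at h1
  · -- the quotient
    let g : ↥D' →* ↥D :=
      { toFun := fun d => ⟨f ⟨d, hD'K d.2⟩, ((hmemD ⟨d, hD'K d.2⟩).1 d.2).1⟩
        map_one' := Subtype.ext (map_one f)
        map_mul' := fun a b => Subtype.ext (map_mul f ⟨a, hD'K a.2⟩ ⟨b, hD'K b.2⟩) }
    have hg : Function.Surjective g := by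
      rintro ⟨δ, hδ⟩
      obtain ⟨hδ1, hδ2⟩ := Subgroup.mem_inf.1 (hD hδ)
      obtain ⟨k, hk1, hk2⟩ := hfix δ (Subgroup.map_le_range f _ hδ1) hδ2
      exact ⟨⟨k, (hmemD k).2 ⟨by rw [hk2]; exact hδ, hk1⟩⟩, Subtype.ext hk2⟩
    have hgk : g.ker = (Subgroup.centralizer (W' : Set G)).subgroupOf D' := by
      ext d
      rw [Subgroup.mem_subgroupOf, hcent ⟨d, hD'K d.2⟩ d.2, MonoidHom.mem_ker]
      constructor
      · intro h1
        exact congrArg Subtype.val h1
      · intro h1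
        exact Subtype.ext h1
    have hn : ((Subgroup.centralizer (W' : Set G)).subgroupOf D').Normal := by
      rw [← hgk]; infer_instance
    refine ⟨hn, ⟨?_⟩⟩
    exact ((QuotientGroup.quotientMulEquivOfEq hgk.symm).trans
      (QuotientGroup.quotientKerEquivOfSurjective g hg)).trans eD

end Cfsg.Agent.S0621
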