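import Cfsg.Statements.S0599
import Cfsg.Agent.PLocal.Timmesfeld

set_option autoImplicit false
open Cfsg
open scoped commutatorElement

namespace Cfsg.Agent.S0599

open PLocal.Timmesfeld

/-- The Timmesfeld replacement Theorem: replacing a best offender A by C_A([U, A]) gives a best offender with fixed points [U, A]C_V(A), still nontrivial on V if A was. -/
theorem result {G : Type*} [Group G] [Finite G] {p : ℕ} [Fact p.Prime] (V A : Subgroup G) (hV : Cfsg.IsElementaryAbelian p V) (hAV : A ≤ Subgroup.normalizer (V : Set G)) (hA : Cfsg.IsBestOffenderOn p V A) (U : Subgroup G) (hU : U ≤ V) : Cfsg.IsBestOffenderOn p V (A ⊓ Subgroup.centralizer ((⁅U, A⁆ : Subgroup G) : Set G)) ∧ V ⊓ Subgroup.centralizer ((A ⊓ Subgroup.centralizer ((⁅U, A⁆ : Subgroup G) : Set G) : Subgroup G) : Set G) = ⁅U, A⁆ ⊔ (V ⊓ Subgroup.centralizer (A : Set G)) ∧ (⁅V, A⁆ ≠ ⊥ → ⁅V, A ⊓ Subgroup.centralizer ((⁅U, A⁆ : Subgroup G) : Set G)⁆ ≠ ⊥) := by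
  classical
  obtain ⟨hbest, hAA, hAp⟩ := hA
  have hVc : ∀ x ∈ V, ∀ y ∈ V, x * y = y * x := fun x hx y hy =>
    congrArg Subtype.val (hV.1.1.1 (⟨x, hx⟩ : V) (⟨y, hy⟩ : V))
  set C : Subgroup G := V ⊓ Subgroup.centralizer (A : Set G) with hC
  set m : ℕ := Nat.card A * Nat.card C with hm
  have hmpos : 0 < m := Nat.mul_pos Nat.card_pos Nat.card_pos
  -- upper bound for the measure
  have hle : ∀ W : Subgroup G, W ≤ V → meas A W ≤ m := by
    intro W hW
    refine le_trans (Nat.mul_le_mul_left _ ?_) (hbest (A ⊓ Subgroup.centralizer (W : Set G)) inf_le_left)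
    refine Subgroup.card_le_of_le ?_
    refine le_inf hW ?_
    rw [Subgroup.le_centralizer_iff]
    exact inf_le_right
  -- commutators lie in V
  have hUV : ⁅U, A⁆ ≤ V := by
    rw [Subgroup.commutator_le]
    intro u hu a ha
    exact commutator_mem_of_mem hAV (hU hu) ha
  have hVA : ⁅V, A⁆ ≤ V := by
    rw [Subgroup.commutator_le]
    intro u hu a ha
    exact commutator_mem_of_mem hAV hu ha
  have hCV : C ≤ V := inf_le_left
  -- `[U, A]` is the join of the `[u, A]`
  let T : Finset G := (Set.toFinite (U : Set G)).toFinset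
  have hT : ∀ u, u ∈ T ↔ u ∈ U := fun u => by simp [T]
  have hsup : ⁅U, A⁆ ≤ T.sup (elemComm A) := by
    rw [Subgroup.commutator_le]
    intro u hu a ha
    exact Finset.le_sup (f := elemComm A) ((hT u).2 hu) (Subgroup.subset_closure ⟨a, ha, rfl⟩)
  have hsup' : T.sup (elemComm A) = ⁅U, A⁆ := by
    refine le_antisymm (Finset.sup_le fun u hu => (Subgroup.closure_le _).2 ?_) hsup
    rintro x ⟨a, ha, rfl⟩
    exact Subgroup.commutator_mem_commutator ((hT u).1 hu) ha
  have hmeasC : m ≤ meas A (⊥ ⊔ C) := by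
    rw [bot_sup_eq, meas_def]
    refine Nat.mul_le_mul_right _ (Subgroup.card_le_of_le ?_)
    refine le_inf le_rfl ?_
    rw [Subgroup.le_centralizer_iff]
    exact inf_le_right
  have hmain : (m ≤ meas A (⁅U, A⁆ ⊔ C)) ∧ ⁅U, A⁆ ≤ V := by
    rw [← hsup']
    refine Finset.sup_induction (p := fun W => m ≤ meas A (W ⊔ C) ∧ W ≤ V) ⟨hmeasC, bot_le⟩ ?_ ?_
    · rintro W₁ ⟨h₁, h₁'⟩ W₂ ⟨h₂, h₂'⟩
      refine ⟨?_, sup_le h₁' h₂'⟩
      have h3 := meas_mul_meas_le A (W₁ ⊔ C) (W₂ ⊔ C)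
      have h4 : (W₁ ⊔ C) ⊔ (W₂ ⊔ C) = W₁ ⊔ W₂ ⊔ C := (sup_sup_distrib_right W₁ W₂ C).symm
      rw [h4] at h3
      have h5 := hle ((W₁ ⊔ C) ⊓ (W₂ ⊔ C)) (inf_le_left.trans (sup_le h₁' hCV))
      have h6 : m * m ≤ meas A (W₁ ⊔ W₂ ⊔ C) * m :=
        (Nat.mul_le_mul h₁ h₂).trans (h3.trans (Nat.mul_le_mul_left _ h5))
      exact Nat.le_of_mul_le_mul_right h6 hmpos
    · intro u hu
      exact ⟨le_meas_elemComm hVc hAV hAA (hU ((hT u).1 hu)), elemComm_le hAV (hU ((hT u).1 hu))⟩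
  have hmain1 := hmain.1
  set X : Subgroup G := ⁅U, A⁆ with hX
  set B : Subgroup G := A ⊓ Subgroup.centralizer (X : Set G) with hB
  have hBW : A ⊓ Subgroup.centralizer ((X ⊔ C : Subgroup G) : Set G) = B := by
    refine le_antisymm (inf_le_inf_left _ (Subgroup.centralizer_le (SetLike.coe_subset_coe.2 le_sup_left))) ?_
    refine le_inf inf_le_left ?_
    rw [centralizer_sup]
    refine le_inf inf_le_right (inf_le_left.trans ?_)
    rw [Subgroup.le_centralizer_iff]
    exact inf_le_right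
  have hXC : X ⊔ C ≤ V ⊓ Subgroup.centralizer (B : Set G) := by
    refine le_inf (sup_le hUV hCV) ?_
    rw [Subgroup.le_centralizer_iff, ← hBW]
    exact inf_le_right
  have hcard1 : m ≤ Nat.card B * Nat.card (X ⊔ C : Subgroup G) := by
    rw [meas_def, hBW] at hmain1
    exact hmain1
  have hcard2 := hbest B inf_le_left
  have hcard3 : Nat.card (X ⊔ C : Subgroup G) = Nat.card (V ⊓ Subgroup.centralizer (B : Set G) : Subgroup G) := by
    refine le_antisymm (Subgroup.card_le_of_le hXC) ?_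
    exact Nat.le_of_mul_le_mul_left (hcard2.trans hcard1) Nat.card_pos
  have hfix : V ⊓ Subgroup.centralizer (B : Set G) = X ⊔ C :=
    (Subgroup.eq_of_le_of_card_ge hXC hcard3.ge).symm
  refine ⟨⟨?_, ?_, ?_⟩, hfix, ?_⟩
  · intro B' hB'
    refine (hbest B' (hB'.trans inf_le_left)).trans ?_
    rw [← hcard3]
    exact hcard1
  · exact (Subgroup.commutator_mono inf_le_left inf_le_left).trans hAA
  · intro a ha
    exact hAp a ha.1
  · intro hne hbot
    apply hne
    rw [Subgroup.commutator_eq_bot_iff_le_centralizer] at hbot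
    have h1 : V ≤ ⁅V, A⁆ ⊔ C := by
      have : V ≤ X ⊔ C := by
        rw [← hfix]
        exact le_inf le_rfl hbot
      exact this.trans (sup_le_sup_right (Subgroup.commutator_mono hU le_rfl) _)
    exact commutator_eq_bot_aux hV hAV hAp h1

end Cfsg.Agent.S0599
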