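import Cfsg.Statements.S1704
import Cfsg.Agent.BM.KHAll
-- import your own Cfsg.Agent.* helpers here

set_option autoImplicit false
open Cfsg

namespace Cfsg.Agent.S1704

/-- The presented Baby Monster is simple of the expected order (that is, it is a simple group of the order of the Baby Monster). -/
theorem result : Cfsg.IsB Cfsg.Spor.BabyMonster := by
  exact Cfsg.Agent.BM.KHAll.isB

end Cfsg.Agent.S1704
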