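import Cfsg.Statements.S1577
import Cfsg.Agent.S0280
import Cfsg.Agent.S0394
import Cfsg.Agent.S0397
import Cfsg.Agent.S0400
import Cfsg.Agent.S1573
import Cfsg.Agent.S1574
import Cfsg.Agent.SporadicStructure.U62Gamma

set_option autoImplicit false
open Cfsg

namespace Cfsg.Agent.S1577

open Cfsg.Agent.SporadicStructure.U62Gamma Cfsg.Agent.SporadicA.FieldFour

theorem card_co0 : Nat.card Co0 = 8315553613086720000 := Cfsg.Agent.S0397.result

theorem finite_co0 : Finite Co0 :=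
  Nat.finite_of_card_ne_zero (by rw [card_co0]; norm_num)

/-- Orbit-stabiliser inside a subgroup. -/
theorem ncard_mul_card_inf {G X : Type*} [Group G] [MulAction G X] (K : Subgroup G) (x : X)
    (O : Set X) (h1 : ∀ g ∈ K, g • x ∈ O) (h2 : ∀ y ∈ O, ∃ g ∈ K, g • x = y) :
    O.ncard * Nat.card ↥(K ⊓ MulAction.stabilizer G x) = Nat.card K := by
  have hO : MulAction.orbit K x = O := by
    ext y
    constructor
    · rintro ⟨g, rfl⟩
      exact h1 g g.2
    · intro hy
      obtain ⟨g, hg, rfl⟩ := h2 y hy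
      exact ⟨⟨g, hg⟩, rfl⟩
  have h3 := Nat.card_congr (MulAction.orbitProdStabilizerEquivGroup K x)
  rw [Nat.card_prod, Nat.card_coe_set_eq, hO] at h3
  rw [← h3]
  congr 1
  exact Nat.card_congr
    { toFun := fun g => ⟨⟨g.1, g.2.1⟩, g.2.2⟩
      invFun := fun g => ⟨g.1.1, g.1.2, g.2⟩
      left_inv := fun _ => rfl
      right_inv := fun _ => rfl }

theorem ncard_sub (P : (GolayPt → ℤ) → Prop) :
    ({w : leechLattice | P w}).ncard = {w : GolayPt → ℤ | w ∈ leechLattice ∧ P w}.ncard := by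
  rw [← Set.ncard_image_of_injective {w : leechLattice | P w} Subtype.val_injective]
  congr 1
  ext y
  constructor
  · rintro ⟨w, hw, rfl⟩
    exact ⟨w.2, hw⟩
  · rintro ⟨hy, hy'⟩
    exact ⟨⟨y, hy⟩, hy', rfl⟩

/-- The order of the joint stabiliser. -/
theorem card_G0 : Nat.card G0 = 9196830720 := by
  have hfin : Finite Co0 := finite_co0
  have c1 : ({w : leechLattice | sqNorm (w : GolayPt → ℤ) = 32}).ncard = 196560 := by
    rw [ncard_sub fun w => sqNorm w = 32]
    exact Cfsg.Agent.S0394.result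
  have e1 := ncard_mul_card_inf (⊤ : Subgroup Co0) v0
    {w : leechLattice | sqNorm (w : GolayPt → ℤ) = 32}
    (fun g _ => (Cfsg.Agent.LeechMat.Core.co0_sqNorm g v0).trans sqNorm_v0)
    (fun y hy => by
      obtain ⟨g, hg⟩ := Cfsg.Agent.S0400.result v0 y sqNorm_v0 hy
      exact ⟨g, trivial, hg⟩)
  have c2 : ({w : leechLattice | sqNorm (w : GolayPt → ℤ) = 32 ∧
      dotInt (v0 : GolayPt → ℤ) (w : GolayPt → ℤ) = -16}).ncard = 4600 := by
    rw [ncard_sub fun w => sqNorm w = 32 ∧ dotInt (v0 : GolayPt → ℤ) w = -16]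
    exact (Cfsg.Agent.S1573.result v0 v0.2 sqNorm_v0).1
  have e2 := ncard_mul_card_inf (MulAction.stabilizer Co0 v0) w0
    {w : leechLattice | sqNorm (w : GolayPt → ℤ) = 32 ∧
      dotInt (v0 : GolayPt → ℤ) (w : GolayPt → ℤ) = -16}
    (fun g hg => by
      have h1 : g • v0 = v0 := hg
      refine ⟨(Cfsg.Agent.LeechMat.Core.co0_sqNorm g w0).trans sqNorm_w0, ?_⟩
      have h2 := Cfsg.Agent.LeechMat.Core.co0_dotInt g v0 w0
      rw [h1] at h2
      exact h2.trans dot_v0_w0)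
    (fun y hy => by
      obtain ⟨g, hg, hg'⟩ := Cfsg.Agent.S1574.result v0 w0 y sqNorm_v0 sqNorm_w0 hy.1 dot_v0_w0 hy.2
      exact ⟨g, hg, hg'⟩)
  rw [c1, top_inf_eq, Subgroup.card_top, card_co0] at e1
  rw [c2] at e2
  change Nat.card ↥(MulAction.stabilizer Co0 v0 ⊓ MulAction.stabilizer Co0 w0) = 9196830720
  omega

theorem card_psu : Nat.card (Cfsg.PSU 6 F4 2) = 9196830720 := by
  have h := Cfsg.Agent.S0280.result (F := F4) (q := 2) F4.card_eq 6 (by norm_num)
  have h1 : Nat.gcd 6 (2 + 1) = 3 := by decide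
  have h2 : 2 ^ (6 * (6 - 1) / 2) * ∏ i ∈ Finset.range 6,
      (if Even i then 2 ^ (i + 1) + 1 else 2 ^ (i + 1) - 1) = 82771476480 := by decide
  rw [h1, h2] at h
  omega

/-- Conjugation carries a joint stabiliser to that of the moved pair. -/
theorem nonempty_stab_equiv {G X : Type*} [Group G] [MulAction G X] (g : G) (u v u' v' : X)
    (hu : g • u = u') (hv : g • v = v') :
    Nonempty (↥(MulAction.stabilizer G u ⊓ MulAction.stabilizer G v) ≃*
      ↥(MulAction.stabilizer G u' ⊓ MulAction.stabilizer G v')) := by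
  have key : ∀ (y y' : X), g • y = y' → ∀ k : G, k • y = y ↔ (MulAut.conj g k) • y' = y' := by
    rintro y _ rfl k
    rw [MulAut.conj_apply, mul_smul, mul_smul, inv_smul_smul, smul_left_cancel_iff]
  have hmap : (MulAction.stabilizer G u ⊓ MulAction.stabilizer G v).map
      (MulAut.conj g).toMonoidHom =
      MulAction.stabilizer G u' ⊓ MulAction.stabilizer G v' := by
    ext k
    constructor
    · rintro ⟨l, ⟨h1, h2⟩, rfl⟩
      exact ⟨(key u u' hu l).1 h1, (key v v' hv l).1 h2⟩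
    · rintro ⟨h1, h2⟩
      obtain ⟨l, rfl⟩ := (MulAut.conj g).surjective k
      exact ⟨l, ⟨(key u u' hu l).2 h1, (key v v' hv l).2 h2⟩, rfl⟩
  exact ⟨((MulAut.conj g).subgroupMap _).trans (MulEquiv.subgroupCongr hmap)⟩

/-- The joint stabiliser of two minimal vectors of customary inner product −2 is isomorphic to PSU(6, 2). -/
theorem result (v w : ↥Cfsg.leechLattice) (hv : Cfsg.sqNorm (v : Cfsg.GolayPt → ℤ) = 32) (hw : Cfsg.sqNorm (w : Cfsg.GolayPt → ℤ) = 32) (hd : Cfsg.dotInt (v : Cfsg.GolayPt → ℤ) (w : Cfsg.GolayPt → ℤ) = -16) (F : Type) [Field F] [Fintype F] (hF : Fintype.card F = 4) : Nonempty (↥(MulAction.stabilizer ↥Cfsg.Co0 v ⊓ MulAction.stabilizer ↥Cfsg.Co0 w) ≃* Cfsg.PSU 6 F 2) := by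
  have hfin : Finite Co0 := finite_co0
  obtain ⟨a, ha⟩ := Cfsg.Agent.S0400.result v v0 hv sqNorm_v0
  have haw : sqNorm ((a • w : leechLattice) : GolayPt → ℤ) = 32 :=
    (Cfsg.Agent.LeechMat.Core.co0_sqNorm a w).trans hw
  have had : dotInt (v0 : GolayPt → ℤ) ((a • w : leechLattice) : GolayPt → ℤ) = -16 := by
    have h2 := Cfsg.Agent.LeechMat.Core.co0_dotInt a v w
    rw [ha] at h2
    exact h2.trans hd
  obtain ⟨b, hb, hbw⟩ := Cfsg.Agent.S1574.result v0 (a • w) w0 sqNorm_v0 haw sqNorm_w0 had dot_v0_w0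
  obtain ⟨e⟩ := nonempty_stab_equiv (b * a) v w v0 w0 (by rw [mul_smul, ha, hb])
    (by rw [mul_smul, hbw])
  obtain ⟨e'⟩ := G0_iso_field (card_G0.le.trans card_psu.ge) F hF
  exact ⟨e.trans e'⟩

end Cfsg.Agent.S1577
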