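import Cfsg.Statements.S1072
import Cfsg.Agent.ChevalleyStructure.TwF4.BNIrred
import Cfsg.Agent.ChevalleyStructure.TwSimple
import Cfsg.Agent.S1050
import Cfsg.Agent.S1090
import Cfsg.Agent.S1112
import Cfsg.Agent.S1113

set_option autoImplicit false
open Cfsg

namespace Cfsg.Agent.S1072

/-- ²F₄(2^(2m+1)) is simple for `m ≥ 1`. -/
theorem result {K : Type*} [Field K] [Fintype K] {m : ℕ} (hm : 1 ≤ m) (hK : Fintype.card K = 2 ^ (2 * m + 1)) :
    IsSimpleGroup ↥(Cfsg.Lie.twistedF4 K (2 ^ m)) ∧ ¬ IsMulCommutative ↥(Cfsg.Lie.twistedF4 K (2 ^ m)) := by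
  haveI := Cfsg.Agent.ChevalleyStructure.TwF4.Twisted.charP_two hK
  obtain ⟨φ, hφ⟩ := Cfsg.Agent.ChevalleyStructure.TwF4.TwistedFix.exists_rln hK
  obtain ⟨P, hB, _, hirr, _⟩ := Cfsg.Agent.ChevalleyStructure.TwF4.BNIrred.exists_bnPair_irreducible hφ
  have hcard := Cfsg.Agent.S1090.result (K := K) (m := m) hK
  have hnt : ∃ g ∈ Cfsg.Lie.twistedF4 K (2 ^ m), g ≠ 1 := by
    by_contra hcon
    push Not at hcon
    have hbot : Cfsg.Lie.chevF4.posUnipotent K ⊓ Cfsg.Lie.twistedF4 K (2 ^ m) = ⊥ := by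
      rw [eq_bot_iff]
      intro g hg
      exact Subgroup.mem_bot.2 (hcon g (Subgroup.mem_inf.1 hg).2)
    rw [hbot, Subgroup.card_bot] at hcard
    have h2 : 1 < (2 ^ (2 * m + 1)) ^ 12 :=
      Nat.one_lt_pow (by norm_num) (Nat.one_lt_pow (by omega) (by norm_num))
    omega
  exact Cfsg.Agent.ChevalleyStructure.TwSimple.simple_of_bn (Cfsg.Lie.twistedF4 K (2 ^ m))
    (Cfsg.Lie.chevF4.borelSubgroup K) P (by rw [hB, Subgroup.inf_subgroupOf_right]) hirr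
    (Cfsg.Agent.S1050.result Cfsg.Lie.chevF4 (by simp))
    (Cfsg.Agent.S1112.result hK hm) (Cfsg.Agent.S1113.result hK) hnt

end Cfsg.Agent.S1072
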