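import Cfsg.Statements.S0262
import Cfsg.Agent.LieClassical.SLTwoTorus

set_option autoImplicit false
open Cfsg

namespace Cfsg.Agent.S0262

/-- A nontrivial subgroup of `SL_2(F)` of prime power order `r ^ n`, `r` odd and not the characteristic, is cyclic. -/
theorem isCyclic_of_isPGroup {F : Type*} [Field F] (p : ℕ) [Fact p.Prime] [CharP F p] (r : ℕ)
    [Fact r.Prime] (hr : r ≠ 2) (hrp : r ≠ p) (R : Subgroup (Matrix.SpecialLinearGroup (Fin 2) F))
    [Finite R] (hR : IsPGroup r R) : IsCyclic R := by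
  rcases subsingleton_or_nontrivial R with hsub | hnt
  · exact isCyclic_of_subsingleton
  have hcen := hR.center_nontrivial
  obtain ⟨⟨⟨z, hzR⟩, hzc⟩, hz1⟩ := exists_ne (1 : Subgroup.center R)
  have hz1' : z ≠ 1 := by
    intro h
    apply hz1
    apply Subtype.ext
    apply Subtype.ext
    exact h
  obtain ⟨k, hk⟩ := hR.exists_card_eq
  refine LieClassical.SLTwoTorus.isCyclic_of_commute p R ?_
    (z : Matrix (Fin 2) (Fin 2) F) ?_ ?_
  · rw [hk]
    exact Nat.Coprime.pow_left _ ((Nat.coprime_primes Fact.out Fact.out).mpr hrp)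
  · intro c hc
    have hdet : (z : Matrix (Fin 2) (Fin 2) F).det = 1 := z.det_coe
    rw [hc, Matrix.det_smul, Matrix.det_one, mul_one, Fintype.card_fin] at hdet
    have hz2 : z ^ 2 = 1 := by
      apply Subtype.ext
      have : ((z ^ 2 : Matrix.SpecialLinearGroup (Fin 2) F) : Matrix (Fin 2) (Fin 2) F) =
          (z : Matrix (Fin 2) (Fin 2) F) ^ 2 := by simp
      rw [this, hc, smul_pow, hdet, one_pow, one_smul]
      rfl
    have hd2 : orderOf z ∣ 2 := orderOf_dvd_of_pow_eq_one hz2
    have hdr : orderOf z ∣ r ^ k := by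
      have := orderOf_dvd_natCard (⟨z, hzR⟩ : R)
      rwa [Subgroup.orderOf_mk, hk] at this
    have hcop : Nat.Coprime 2 (r ^ k) :=
      Nat.Coprime.pow_right _ ((Nat.coprime_primes Nat.prime_two Fact.out).mpr (Ne.symm hr))
    have : orderOf z = 1 := Nat.eq_one_of_dvd_coprimes hcop hd2 hdr
    exact hz1' (orderOf_eq_one_iff.mp this)
  · intro h hh
    have := congrArg Subtype.val ((Subgroup.mem_center_iff.mp hzc) ⟨h, hh⟩)
    have := congrArg Subtype.val this
    simpa using this

/-- For an odd prime r different from the characteristic, the Sylow r-subgroups of SL_2(q) are cyclic. -/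
theorem result {F : Type*} [Field F] [Fintype F] (p : ℕ) [Fact p.Prime] [CharP F p] (r : ℕ) [Fact r.Prime] (hr : r ≠ 2) (hrp : r ≠ p) (R : Sylow r (Matrix.SpecialLinearGroup (Fin 2) F)) : IsCyclic (R : Subgroup (Matrix.SpecialLinearGroup (Fin 2) F)) := by
  have h := R.isPGroup'
  exact isCyclic_of_isPGroup p r hr hrp (R : Subgroup (Matrix.SpecialLinearGroup (Fin 2) F)) h

end Cfsg.Agent.S0262
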