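import Mathlib
import Cfsg.Statements.S0598

set_option autoImplicit false
open Cfsg
open scoped commutatorElement

namespace Cfsg.Agent.S0598

variable {G : Type*} [Group G]

section setup

variable (V A : Subgroup G)

/-- For `a b` acting on `u ∈ V`: if `[u,b]` commutes with `a` then
`[u,a]` commutes with `b`. -/
theorem comm_symm (hV : ∀ v ∈ V, ∀ w ∈ V, v * w = w * v) (hA : ∀ a ∈ A, ∀ v ∈ V, a * v * a⁻¹ ∈ V)
    (hab : ∀ a ∈ A, ∀ b ∈ A, ∀ v ∈ V, a * (b * v * b⁻¹) * a⁻¹ = b * (a * v * a⁻¹) * b⁻¹)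
    {u a b : G} (hu : u ∈ V) (ha : a ∈ A) (hb : b ∈ A)
    (h : ⁅u, b⁆ * a = a * ⁅u, b⁆) : ⁅u, a⁆ * b = b * ⁅u, a⁆ := by
  letI : CommGroup V := { (inferInstance : Group V) with
    mul_comm := fun x y => Subtype.ext (hV x x.2 y y.2) }
  have h2 := hab a ha b hb u hu
  have mx : a * u * a⁻¹ ∈ V := hA a ha u hu
  have my : b * u * b⁻¹ ∈ V := hA b hb u hu
  have mz : a * (b * u * b⁻¹) * a⁻¹ ∈ V := hA a ha _ my
  have e1 : ⁅u, b⁆ = u * (b * u * b⁻¹)⁻¹ := by rw [commutatorElement_def]; group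
  have e2 : ⁅u, a⁆ = u * (a * u * a⁻¹)⁻¹ := by rw [commutatorElement_def]; group
  have e3 : a * ⁅u, b⁆ * a⁻¹ = (a * u * a⁻¹) * (a * (b * u * b⁻¹) * a⁻¹)⁻¹ := by rw [e1]; group
  have e4 : b * ⁅u, a⁆ * b⁻¹ = (b * u * b⁻¹) * (a * (b * u * b⁻¹) * a⁻¹)⁻¹ := by
    rw [h2, e2]; group
  have e5 : (a * u * a⁻¹) * (a * (b * u * b⁻¹) * a⁻¹)⁻¹ = u * (b * u * b⁻¹)⁻¹ := by
    rw [← e3, ← e1, ← h]; group
  have e6 : (b * u * b⁻¹) * (a * (b * u * b⁻¹) * a⁻¹)⁻¹ = u * (a * u * a⁻¹)⁻¹ := by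
    have key : ∀ x y z w : V, x * z⁻¹ = w * y⁻¹ → y * z⁻¹ = w * x⁻¹ := by
      intro x y z w hh
      have : x * y = w * z := by
        calc x * y = (x * z⁻¹) * (z * y) := by group
          _ = (w * y⁻¹) * (y * z) := by rw [hh, mul_comm z y]
          _ = w * z := by group
      calc y * z⁻¹ = x⁻¹ * (x * y) * z⁻¹ := by group
        _ = x⁻¹ * (w * z) * z⁻¹ := by rw [this]
        _ = x⁻¹ * w := by group
        _ = w * x⁻¹ := mul_comm _ _
    have := key ⟨_, mx⟩ ⟨_, my⟩ ⟨_, mz⟩ ⟨_, hu⟩ (Subtype.ext e5)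
    exact congrArg Subtype.val this
  rw [← e2, ← e4] at e6
  calc ⁅u, a⁆ * b = (b * ⁅u, a⁆ * b⁻¹) * b := by rw [e6]
    _ = b * ⁅u, a⁆ := by group

/-- `a ∈ A` centralizes `[U,A]` iff `A` centralizes `[u,a]` for all `u ∈ U`. -/
theorem mem_centralizer_iff' (hV : ∀ v ∈ V, ∀ w ∈ V, v * w = w * v)
    (hA : ∀ a ∈ A, ∀ v ∈ V, a * v * a⁻¹ ∈ V)
    (hab : ∀ a ∈ A, ∀ b ∈ A, ∀ v ∈ V, a * (b * v * b⁻¹) * a⁻¹ = b * (a * v * a⁻¹) * b⁻¹)
    {U : Subgroup G} (hU : U ≤ V) {a : G} (ha : a ∈ A) :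
    a ∈ Subgroup.centralizer ((⁅U, A⁆ : Subgroup G) : Set G) ↔
      ∀ u ∈ U, ⁅u, a⁆ ∈ Subgroup.centralizer (A : Set G) := by
  constructor
  · intro h u hu
    rw [Subgroup.mem_centralizer_iff] at h ⊢
    intro b hb
    exact (comm_symm V A hV hA hab (hU hu) ha hb
      (h _ (Subgroup.commutator_mem_commutator hu hb))).symm
  · intro h
    have : (⁅U, A⁆ : Subgroup G) ≤ Subgroup.centralizer ({a} : Set G) := by
      rw [Subgroup.commutator_le]
      intro u hu b hb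
      rw [Subgroup.mem_centralizer_iff]
      intro x hx
      rw [Set.mem_singleton_iff] at hx
      subst hx
      have h1 := h u hu
      rw [Subgroup.mem_centralizer_iff] at h1
      exact (comm_symm V A hV hA hab (hU hu) hb ha (h1 b hb).symm).symm
    rw [Subgroup.mem_centralizer_iff]
    intro x hx
    have h2 := this hx
    rw [Subgroup.mem_centralizer_iff] at h2
    exact (h2 a rfl).symm

/-- elements of `V` whose commutators with `A` lie in `K`. -/
def comSub (hV : ∀ v ∈ V, ∀ w ∈ V, v * w = w * v) (hA : ∀ a ∈ A, ∀ v ∈ V, a * v * a⁻¹ ∈ V)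
    (K : Subgroup G) : Subgroup G where
  carrier := {v | v ∈ V ∧ ∀ a ∈ A, ⁅v, a⁆ ∈ K}
  one_mem' := ⟨V.one_mem, fun a _ => by rw [commutatorElement_one_left]; exact K.one_mem⟩
  mul_mem' := by
    rintro x y ⟨hx, hx'⟩ ⟨hy, hy'⟩
    refine ⟨V.mul_mem hx hy, fun a ha => ?_⟩
    have e : ⁅x * y, a⁆ = ⁅x, a⁆ * ⁅y, a⁆ := by
      have m1 : a * x⁻¹ * a⁻¹ ∈ V := hA a ha _ (V.inv_mem hx)
      have m2 : y * (a * y⁻¹ * a⁻¹) ∈ V := V.mul_mem hy (hA a ha _ (V.inv_mem hy))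
      calc ⁅x * y, a⁆ = x * ((y * (a * y⁻¹ * a⁻¹)) * (a * x⁻¹ * a⁻¹)) := by
            rw [commutatorElement_def]; group
        _ = x * ((a * x⁻¹ * a⁻¹) * (y * (a * y⁻¹ * a⁻¹))) := by rw [hV _ m2 _ m1]
        _ = ⁅x, a⁆ * ⁅y, a⁆ := by rw [commutatorElement_def, commutatorElement_def]; group
    rw [e]
    exact K.mul_mem (hx' a ha) (hy' a ha)
  inv_mem' := by
    rintro x ⟨hx, hx'⟩
    refine ⟨V.inv_mem hx, fun a ha => ?_⟩
    have m1 : a * x * a⁻¹ ∈ V := hA a ha _ hx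
    have e : ⁅x⁻¹, a⁆ = ⁅x, a⁆⁻¹ := by
      calc ⁅x⁻¹, a⁆ = x⁻¹ * (a * x * a⁻¹) := by rw [commutatorElement_def]; group
        _ = (a * x * a⁻¹) * x⁻¹ := hV _ (V.inv_mem hx) _ m1
        _ = ⁅x, a⁆⁻¹ := by rw [commutatorElement_def]; group
    rw [e]
    exact K.inv_mem (hx' a ha)

theorem commutator_sup (hV : ∀ v ∈ V, ∀ w ∈ V, v * w = w * v)
    (hA : ∀ a ∈ A, ∀ v ∈ V, a * v * a⁻¹ ∈ V) {U₁ U₂ : Subgroup G} (h₁ : U₁ ≤ V) (h₂ : U₂ ≤ V) :
    ⁅U₁ ⊔ U₂, A⁆ = ⁅U₁, A⁆ ⊔ ⁅U₂, A⁆ := by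
  apply le_antisymm
  · rw [Subgroup.commutator_le]
    have : U₁ ⊔ U₂ ≤ comSub V A hV hA (⁅U₁, A⁆ ⊔ ⁅U₂, A⁆) := by
      apply sup_le
      · intro u hu
        exact ⟨h₁ hu, fun a ha =>
          (le_sup_left : ⁅U₁, A⁆ ≤ _) (Subgroup.commutator_mem_commutator hu ha)⟩
      · intro u hu
        exact ⟨h₂ hu, fun a ha =>
          (le_sup_right : ⁅U₂, A⁆ ≤ _) (Subgroup.commutator_mem_commutator hu ha)⟩
    intro u hu a ha
    exact (this hu).2 a ha
  · exact sup_le (Subgroup.commutator_mono le_sup_left le_rfl)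
      (Subgroup.commutator_mono le_sup_right le_rfl)

theorem commutator_zpowers_le (hV : ∀ v ∈ V, ∀ w ∈ V, v * w = w * v)
    (hA : ∀ a ∈ A, ∀ v ∈ V, a * v * a⁻¹ ∈ V) {u : G} (hu : u ∈ V) {K : Subgroup G}
    (h : ∀ a ∈ A, ⁅u, a⁆ ∈ K) (x : G) (hx : x ∈ Subgroup.zpowers u) (a : G) (ha : a ∈ A) :
    ⁅x, a⁆ ∈ K := by
  have : Subgroup.zpowers u ≤ comSub V A hV hA K := by
    rw [Subgroup.zpowers_le]
    exact ⟨hu, h⟩
  exact (this hx).2 a ha

theorem card_mul_relIndex {B C : Subgroup G} (h : B ≤ C) :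
    Nat.card B * B.relIndex C = Nat.card C := by
  rw [← Subgroup.relIndex_bot_left, ← Subgroup.relIndex_bot_left]
  exact Subgroup.relIndex_mul_relIndex _ _ _ bot_le h

theorem card_mul_card_le [Finite G] (B C : Subgroup G) :
    Nat.card B * Nat.card C ≤ Nat.card ↥(B ⊔ C) * Nat.card ↥(B ⊓ C) := by
  have e1 := card_mul_relIndex (le_sup_left : B ≤ B ⊔ C)
  have e2 := card_mul_relIndex (inf_le_right : B ⊓ C ≤ C)
  rw [Subgroup.inf_relIndex_right] at e2
  have e3 : B.relIndex C ≤ B.relIndex (B ⊔ C) :=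
    Subgroup.relIndex_le_of_le_right le_sup_right (by
      intro h0
      rw [h0, mul_zero] at e1
      exact (Nat.card_pos (α := ↥(B ⊔ C))).ne e1)
  calc Nat.card B * Nat.card C = (Nat.card B * B.relIndex C) * Nat.card ↥(B ⊓ C) := by
        rw [← e2]; ring
    _ ≤ (Nat.card B * B.relIndex (B ⊔ C)) * Nat.card ↥(B ⊓ C) := by gcongr
    _ = _ := by rw [e1]

theorem card_step [Finite G] (hV : ∀ v ∈ V, ∀ w ∈ V, v * w = w * v)
    (hA : ∀ a ∈ A, ∀ v ∈ V, a * v * a⁻¹ ∈ V)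
    (hab : ∀ a ∈ A, ∀ b ∈ A, ∀ v ∈ V, a * (b * v * b⁻¹) * a⁻¹ = b * (a * v * a⁻¹) * b⁻¹)
    {u : G} (hu : u ∈ V) :
    Nat.card A * Nat.card ↥(V ⊓ Subgroup.centralizer (A : Set G)) ≤
      Nat.card ↥(A ⊓ Subgroup.centralizer ((⁅Subgroup.zpowers u, A⁆ : Subgroup G) : Set G)) *
      Nat.card ↥(⁅Subgroup.zpowers u, A⁆ ⊔ (V ⊓ Subgroup.centralizer (A : Set G))) := by
  set B := A ⊓ Subgroup.centralizer ((⁅Subgroup.zpowers u, A⁆ : Subgroup G) : Set G) with hB
  set C := V ⊓ Subgroup.centralizer (A : Set G) with hC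
  set X := ⁅Subgroup.zpowers u, A⁆ ⊔ C with hX
  have hBA : B ≤ A := inf_le_left
  have hCX : C ≤ X := le_sup_right
  have hU : Subgroup.zpowers u ≤ V := by rwa [Subgroup.zpowers_le]
  have hmem : ∀ a ∈ A, ⁅u, a⁆ ∈ V := by
    intro a ha
    have : ⁅u, a⁆ = u * (a * u⁻¹ * a⁻¹) := by rw [commutatorElement_def]; group
    rw [this]
    exact V.mul_mem hu (hA a ha _ (V.inv_mem hu))
  have hBmem : ∀ a ∈ A, ⁅u, a⁆ ∈ C → a ∈ B := by
    intro a ha h
    refine Subgroup.mem_inf.mpr ⟨ha, ?_⟩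
    rw [mem_centralizer_iff' V A hV hA hab hU ha]
    intro x hx
    have hpow : ∀ n : ℤ, ⁅u ^ n, a⁆ = ⁅u, a⁆ ^ n := by
      intro n
      have c : Commute u (a * u⁻¹ * a⁻¹) := hV _ hu _ (hA a ha _ (V.inv_mem hu))
      have e1 : ⁅u, a⁆ = u * (a * u⁻¹ * a⁻¹) := by rw [commutatorElement_def]; group
      rw [e1, c.mul_zpow, conj_zpow, commutatorElement_def]
      group
    obtain ⟨n, rfl⟩ := Subgroup.mem_zpowers_iff.mp hx
    rw [hpow]
    exact Subgroup.zpow_mem _ h.2 n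
  have key : B.relIndex A ≤ C.relIndex X := by
    have hout : ∀ q : A ⧸ B.subgroupOf A, ⁅u, (q.out : G)⁆ ∈ X := fun q =>
      (le_sup_left : ⁅Subgroup.zpowers u, A⁆ ≤ X)
        (Subgroup.commutator_mem_commutator (Subgroup.mem_zpowers u) q.out.2)
    let f : A ⧸ B.subgroupOf A → X ⧸ C.subgroupOf X := fun q =>
      QuotientGroup.mk ⟨⁅u, (q.out : G)⁆, hout q⟩
    have hf : Function.Injective f := by
      intro q q' h
      have h1 : (⟨⁅u, (q.out : G)⁆, hout q⟩ : X)⁻¹ * ⟨⁅u, (q'.out : G)⁆, hout q'⟩ ∈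
          C.subgroupOf X := QuotientGroup.eq.mp h
      rw [Subgroup.mem_subgroupOf] at h1
      have h2 : ⁅u, (q.out : G)⁆⁻¹ * ⁅u, (q'.out : G)⁆ ∈ C := h1
      rw [← q.out_eq', ← q'.out_eq']
      apply QuotientGroup.eq.mpr
      rw [Subgroup.mem_subgroupOf]
      show (q.out : G)⁻¹ * (q'.out : G) ∈ B
      generalize hq : (q.out : G) = a at h2 ⊢
      generalize hq' : (q'.out : G) = a' at h2 ⊢
      have ha : a ∈ A := hq ▸ q.out.2
      have ha' : a' ∈ A := hq' ▸ q'.out.2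
      apply hBmem _ (A.mul_mem (A.inv_mem ha) ha')
      -- `c := ⁅u,a⁆⁻¹ ⁅u,a'⁆`
      have hc : ∀ b ∈ A, b * (⁅u, a⁆⁻¹ * ⁅u, a'⁆) = (⁅u, a⁆⁻¹ * ⁅u, a'⁆) * b :=
        fun b hb => Subgroup.mem_centralizer_iff.mp h2.2 b hb
      have e : ⁅u, a⁻¹ * a'⁆ = ⁅u, a⁆⁻¹ * ⁅u, a'⁆ := by
        have e1 : ⁅u, a⁻¹ * a'⁆ = (u * (a⁻¹ * u⁻¹ * a⁻¹⁻¹)) * (a⁻¹ * ⁅u, a'⁆ * a⁻¹⁻¹) := by
          rw [commutatorElement_def, commutatorElement_def]; group
        have e2 : (u * (a⁻¹ * u⁻¹ * a⁻¹⁻¹)) = a⁻¹ * ⁅u, a⁆⁻¹ * a⁻¹⁻¹ := by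
          rw [commutatorElement_def]
          group
        rw [e1, e2]
        calc a⁻¹ * ⁅u, a⁆⁻¹ * a⁻¹⁻¹ * (a⁻¹ * ⁅u, a'⁆ * a⁻¹⁻¹)
            = a⁻¹ * (⁅u, a⁆⁻¹ * ⁅u, a'⁆) * a := by group
          _ = ⁅u, a⁆⁻¹ * ⁅u, a'⁆ := by rw [hc _ (A.inv_mem ha)]; group
      rw [e]
      exact h2
    exact Nat.card_le_card_of_injective f hf
  have e1 := card_mul_relIndex hBA
  have e2 := card_mul_relIndex hCX
  calc Nat.card A * Nat.card C = (Nat.card B * B.relIndex A) * Nat.card C := by rw [e1]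
    _ ≤ (Nat.card B * C.relIndex X) * Nat.card C := by gcongr
    _ = Nat.card B * (Nat.card C * C.relIndex X) := by ring
    _ = _ := by rw [e2]

/-- the induction property -/
theorem main [Finite G] (hV : ∀ v ∈ V, ∀ w ∈ V, v * w = w * v)
    (hA : ∀ a ∈ A, ∀ v ∈ V, a * v * a⁻¹ ∈ V)
    (hab : ∀ a ∈ A, ∀ b ∈ A, ∀ v ∈ V, a * (b * v * b⁻¹) * a⁻¹ = b * (a * v * a⁻¹) * b⁻¹)
    (hmax : ∀ B : Subgroup G, B ≤ A →
      Nat.card B * Nat.card ↥(V ⊓ Subgroup.centralizer (B : Set G)) ≤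
        Nat.card A * Nat.card ↥(V ⊓ Subgroup.centralizer (A : Set G)))
    (U : Subgroup G) (hU : U ≤ V) (B : Subgroup G)
    (hB : B = A ⊓ Subgroup.centralizer ((⁅U, A⁆ : Subgroup G) : Set G)) :
    V ⊓ Subgroup.centralizer (B : Set G) = ⁅U, A⁆ ⊔ (V ⊓ Subgroup.centralizer (A : Set G)) ∧
      Nat.card A * Nat.card ↥(V ⊓ Subgroup.centralizer (A : Set G)) =
        Nat.card B * Nat.card ↥(V ⊓ Subgroup.centralizer (B : Set G)) := by
  classical
  -- induct over finite sets generating `U`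
  have key : ∀ s : Set G, s.Finite → s ⊆ (V : Set G) → 
      ∀ B : Subgroup G, B = A ⊓ Subgroup.centralizer
        ((⁅Subgroup.closure s, A⁆ : Subgroup G) : Set G) →
    V ⊓ Subgroup.centralizer (B : Set G) =
      ⁅Subgroup.closure s, A⁆ ⊔ (V ⊓ Subgroup.centralizer (A : Set G)) ∧
      Nat.card A * Nat.card ↥(V ⊓ Subgroup.centralizer (A : Set G)) =
        Nat.card B * Nat.card ↥(V ⊓ Subgroup.centralizer (B : Set G)) := by
    intro s hs
    induction s, hs using Set.Finite.induction_on with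
    | empty =>
      intro _ B hB
      have h0 : ⁅Subgroup.closure (∅ : Set G), A⁆ = ⊥ := by
        rw [Subgroup.closure_empty, Subgroup.commutator_bot_left]
      have hBA : B = A := by
        rw [hB, h0, inf_eq_left]
        intro a _
        rw [Subgroup.mem_centralizer_iff]
        intro x hx
        have : x = 1 := by simpa using hx
        rw [this, one_mul, mul_one]
      rw [h0, hBA, bot_sup_eq]
      exact ⟨rfl, rfl⟩
    | @insert u s hu hs ih =>
      intro hsub B hB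
      have huV : u ∈ V := hsub (Set.mem_insert _ _)
      have hsV : s ⊆ (V : Set G) := fun x hx => hsub (Set.mem_insert_of_mem _ hx)
      obtain ⟨i1, i2⟩ := ih hsV _ rfl
      have hcl : Subgroup.closure (insert u s) = Subgroup.zpowers u ⊔ Subgroup.closure s := by
        rw [Set.insert_eq, Subgroup.closure_union, Subgroup.zpowers_eq_closure]
      have hUV : Subgroup.zpowers u ≤ V := by rwa [Subgroup.zpowers_le]
      have hSV : Subgroup.closure s ≤ V := by rwa [Subgroup.closure_le]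
      have hcom : ⁅Subgroup.closure (insert u s), A⁆ =
          ⁅Subgroup.zpowers u, A⁆ ⊔ ⁅Subgroup.closure s, A⁆ := by
        rw [hcl, commutator_sup V A hV hA hUV hSV]
      set D := V ⊓ Subgroup.centralizer (A : Set G) with hD
      set X₁ := ⁅Subgroup.zpowers u, A⁆ with hX₁
      set X₂ := ⁅Subgroup.closure s, A⁆ with hX₂
      set B₁ := A ⊓ Subgroup.centralizer ((X₁ : Subgroup G) : Set G) with hB₁
      set B₂ := A ⊓ Subgroup.centralizer ((X₂ : Subgroup G) : Set G) with hB₂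
      set M := Nat.card A * Nat.card D with hM
      have hX₁V : X₁ ≤ V := by
        rw [hX₁, Subgroup.commutator_le]
        intro x hx a ha
        have : ⁅x, a⁆ = x * (a * x⁻¹ * a⁻¹) := by rw [commutatorElement_def]; group
        rw [this]
        exact V.mul_mem (hUV hx) (hA a ha _ (V.inv_mem (hUV hx)))
      have hXC : ∀ X : Subgroup G, X ≤ V →
          X ⊔ D ≤ V ⊓ Subgroup.centralizer ((A ⊓ Subgroup.centralizer (X : Set G) : Subgroup G) : Set G) := by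
        intro X hX
        apply sup_le
        · apply le_inf hX
          intro x hx
          rw [Subgroup.mem_centralizer_iff]
          intro b hb
          exact (Subgroup.mem_centralizer_iff.mp hb.2 x hx).symm
        · apply inf_le_inf_left
          apply Subgroup.centralizer_le
          exact fun x hx => hx.1
      have hstep := card_step V A hV hA hab huV
      have h1 : V ⊓ Subgroup.centralizer (B₁ : Set G) = X₁ ⊔ D ∧
          M = Nat.card B₁ * Nat.card ↥(X₁ ⊔ D) := by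
        have a1 : X₁ ⊔ D ≤ V ⊓ Subgroup.centralizer (B₁ : Set G) := hXC X₁ hX₁V
        have a2 := hmax B₁ inf_le_left
        have a3 : Nat.card ↥(X₁ ⊔ D) ≤ Nat.card ↥(V ⊓ Subgroup.centralizer (B₁ : Set G)) :=
          Subgroup.card_le_of_le a1
        have a4 : Nat.card ↥(V ⊓ Subgroup.centralizer (B₁ : Set G)) ≤ Nat.card ↥(X₁ ⊔ D) := by
          have : Nat.card B₁ * Nat.card ↥(V ⊓ Subgroup.centralizer (B₁ : Set G)) ≤
              Nat.card B₁ * Nat.card ↥(X₁ ⊔ D) := le_trans a2 hstep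
          exact Nat.le_of_mul_le_mul_left this Nat.card_pos
        have a5 : X₁ ⊔ D = V ⊓ Subgroup.centralizer (B₁ : Set G) :=
          Subgroup.eq_of_le_of_card_ge a1 a4
        refine ⟨a5.symm, le_antisymm hstep ?_⟩
        rw [a5]
        exact a2
      obtain ⟨j1, j2⟩ := h1
      have hBB : B = B₁ ⊓ B₂ := by
        rw [hB, hcom, hB₁, hB₂]
        apply le_antisymm
        · refine le_inf (inf_le_inf_left _ ?_) (inf_le_inf_left _ ?_)
          · exact Subgroup.centralizer_le (SetLike.coe_subset_coe.mpr le_sup_left)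
          · exact Subgroup.centralizer_le (SetLike.coe_subset_coe.mpr le_sup_right)
        · rintro x ⟨⟨hxA, hx1⟩, ⟨_, hx2⟩⟩
          refine Subgroup.mem_inf.mpr ⟨hxA, ?_⟩
          have e1 : X₁ ≤ Subgroup.centralizer ({x} : Set G) := by
            intro y hy
            rw [Subgroup.mem_centralizer_iff]
            rintro z rfl
            exact (Subgroup.mem_centralizer_iff.mp hx1 y hy).symm
          have e2 : X₂ ≤ Subgroup.centralizer ({x} : Set G) := by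
            intro y hy
            rw [Subgroup.mem_centralizer_iff]
            rintro z rfl
            exact (Subgroup.mem_centralizer_iff.mp hx2 y hy).symm
          rw [Subgroup.mem_centralizer_iff]
          intro y hy
          exact (Subgroup.mem_centralizer_iff.mp ((sup_le e1 e2) hy) x rfl).symm
      have c1 : (X₁ ⊔ X₂) ⊔ D ≤ V ⊓ Subgroup.centralizer (B : Set G) := by
        have hX₂V : X₂ ≤ V := by
          have : X₂ ≤ X₂ ⊔ D := le_sup_left
          rw [← i1] at this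
          exact this.trans inf_le_left
        rw [hB, hcom]
        exact hXC _ (sup_le hX₁V hX₂V)
      have hY : (X₁ ⊔ X₂) ⊔ D = (X₁ ⊔ D) ⊔ (X₂ ⊔ D) := by
        rw [sup_sup_sup_comm, sup_idem]
      have c2 := card_mul_card_le B₁ B₂
      have c3 := card_mul_card_le (X₁ ⊔ D) (X₂ ⊔ D)
      have c4 : (X₁ ⊔ D) ⊓ (X₂ ⊔ D) ≤ V ⊓ Subgroup.centralizer ((B₁ ⊔ B₂ : Subgroup G) : Set G) := by
        rw [← i1, ← j1]
        intro x hx
        obtain ⟨hx1, hx2⟩ := Subgroup.mem_inf.mp hx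
        obtain ⟨hxV, hx1⟩ := Subgroup.mem_inf.mp hx1
        obtain ⟨_, hx2⟩ := Subgroup.mem_inf.mp hx2
        refine Subgroup.mem_inf.mpr ⟨hxV, ?_⟩
        have e1 : B₁ ≤ Subgroup.centralizer ({x} : Set G) := by
          intro y hy
          rw [Subgroup.mem_centralizer_iff]
          rintro z rfl
          exact (Subgroup.mem_centralizer_iff.mp hx1 y hy).symm
        have e2 : B₂ ≤ Subgroup.centralizer ({x} : Set G) := by
          intro y hy
          rw [Subgroup.mem_centralizer_iff]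
          rintro z rfl
          exact (Subgroup.mem_centralizer_iff.mp hx2 y hy).symm
        rw [Subgroup.mem_centralizer_iff]
        intro y hy
        exact (Subgroup.mem_centralizer_iff.mp ((sup_le e1 e2) hy) x rfl).symm
      have c4' := Subgroup.card_le_of_le c4
      have c5 := hmax (B₁ ⊔ B₂) (sup_le inf_le_left inf_le_left)
      have c6 := hmax B (by rw [hB]; exact inf_le_left)
      rw [← hY] at c3
      rw [← hBB] at c2
      rw [i1] at i2
      have c7 := Subgroup.card_le_of_le c1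
      have hMpos : 0 < M := by rw [hM]; exact Nat.mul_pos Nat.card_pos Nat.card_pos
      have c8 : M * M ≤ M * (Nat.card B * Nat.card ↥((X₁ ⊔ X₂) ⊔ D)) := by
        calc M * M = (Nat.card B₁ * Nat.card ↥(X₁ ⊔ D)) * (Nat.card B₂ * Nat.card ↥(X₂ ⊔ D)) := by
              conv_lhs => rw [j2]
              conv_lhs => rw [← j2]
              conv_lhs => rw [i2]
              rw [← i2, j2]
          _ = (Nat.card B₁ * Nat.card B₂) * (Nat.card ↥(X₁ ⊔ D) * Nat.card ↥(X₂ ⊔ D)) := by ring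
          _ ≤ (Nat.card ↥(B₁ ⊔ B₂) * Nat.card B) *
              (Nat.card ↥((X₁ ⊔ X₂) ⊔ D) * Nat.card ↥((X₁ ⊔ D) ⊓ (X₂ ⊔ D))) :=
              Nat.mul_le_mul c2 c3
          _ ≤ (Nat.card ↥(B₁ ⊔ B₂) * Nat.card B) *
              (Nat.card ↥((X₁ ⊔ X₂) ⊔ D) *
                Nat.card ↥(V ⊓ Subgroup.centralizer ((B₁ ⊔ B₂ : Subgroup G) : Set G))) := by
              gcongr
          _ = (Nat.card ↥(B₁ ⊔ B₂) *
                Nat.card ↥(V ⊓ Subgroup.centralizer ((B₁ ⊔ B₂ : Subgroup G) : Set G))) *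
                (Nat.card B * Nat.card ↥((X₁ ⊔ X₂) ⊔ D)) := by ring
          _ ≤ M * (Nat.card B * Nat.card ↥((X₁ ⊔ X₂) ⊔ D)) := by gcongr
      have c9 : M ≤ Nat.card B * Nat.card ↥((X₁ ⊔ X₂) ⊔ D) := Nat.le_of_mul_le_mul_left c8 hMpos
      have c10 : Nat.card ↥(V ⊓ Subgroup.centralizer (B : Set G)) ≤
          Nat.card ↥((X₁ ⊔ X₂) ⊔ D) :=
        Nat.le_of_mul_le_mul_left (c6.trans c9) Nat.card_pos
      have c11 := Subgroup.eq_of_le_of_card_ge c1 c10
      rw [hcom, ← c11]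
      refine ⟨rfl, le_antisymm c9 ?_⟩
      rw [c11]
      exact c6
  have hfin : (U : Set G).Finite := Set.toFinite _
  have := key U hfin (fun x hx => hU hx) B (by rw [Subgroup.closure_eq]; exact hB)
  rwa [Subgroup.closure_eq] at this

end setup

/-- Thompson's replacement dichotomy: for A acting with abelian image on an elementary abelian p-group V and U ≤ V, either some subgroup of A increases the product of its order with the order of its fixed points, or C_A([U,A]) preserves that product and has fixed points exactly [U,A]C_V(A). -/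
theorem result {G : Type*} [Group G] [Finite G] {p : ℕ} [Fact p.Prime] (V A : Subgroup G) (hV : Cfsg.IsElementaryAbelian p V) (hAV : A ≤ Subgroup.normalizer (V : Set G)) (hab : ⁅A, A⁆ ≤ Subgroup.centralizer (V : Set G)) (U : Subgroup G) (hU : U ≤ V) : ∃ B : Subgroup G, B ≤ A ∧ ((Nat.card A * Nat.card ↥(V ⊓ Subgroup.centralizer (A : Set G)) < Nat.card B * Nat.card ↥(V ⊓ Subgroup.centralizer (B : Set G))) ∨ (B = A ⊓ Subgroup.centralizer ((⁅U, A⁆ : Subgroup G) : Set G) ∧ (V ⊓ Subgroup.centralizer (B : Set G)) = ⁅U, A⁆ ⊔ (V ⊓ Subgroup.centralizer (A : Set G)) ∧ Nat.card A * Nat.card ↥(V ⊓ Subgroup.centralizer (A : Set G)) = Nat.card B * Nat.card ↥(V ⊓ Subgroup.centralizer (B : Set G)))) := by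
  by_cases hmax : ∀ B : Subgroup G, B ≤ A →
      Nat.card B * Nat.card ↥(V ⊓ Subgroup.centralizer (B : Set G)) ≤
        Nat.card A * Nat.card ↥(V ⊓ Subgroup.centralizer (A : Set G))
  · refine ⟨A ⊓ Subgroup.centralizer ((⁅U, A⁆ : Subgroup G) : Set G), inf_le_left, Or.inr ⟨rfl, ?_⟩⟩
    have hcomm : ∀ v ∈ V, ∀ w ∈ V, v * w = w * v := by
      intro v hv w hw
      have := hV.1.is_comm.comm ⟨v, hv⟩ ⟨w, hw⟩
      exact congrArg Subtype.val this
    have hA : ∀ a ∈ A, ∀ v ∈ V, a * v * a⁻¹ ∈ V := by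
      intro a ha v hv
      exact (Subgroup.mem_normalizer_iff.mp (hAV ha) v).mp hv
    have hab' : ∀ a ∈ A, ∀ b ∈ A, ∀ v ∈ V, a * (b * v * b⁻¹) * a⁻¹ = b * (a * v * a⁻¹) * b⁻¹ := by
      intro a ha b hb v hv
      have h1 : ⁅b, a⁆ ∈ Subgroup.centralizer (V : Set G) :=
        hab (Subgroup.commutator_mem_commutator hb ha)
      have h2 := Subgroup.mem_centralizer_iff.mp h1 _ (hA a ha _ (hA b hb _ hv))
      calc a * (b * v * b⁻¹) * a⁻¹
          = (a * (b * v * b⁻¹) * a⁻¹) * ⁅b, a⁆ * ⁅b, a⁆⁻¹ := by group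
        _ = ⁅b, a⁆ * (a * (b * v * b⁻¹) * a⁻¹) * ⁅b, a⁆⁻¹ := by rw [h2]
        _ = b * (a * v * a⁻¹) * b⁻¹ := by rw [commutatorElement_def]; group
    exact main V A hcomm hA hab' hmax U hU _ rfl
  · push Not at hmax
    obtain ⟨B, hB, h⟩ := hmax
    exact ⟨B, hB, Or.inl h⟩

end Cfsg.Agent.S0598
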