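import Cfsg.Statements.S0607
import Cfsg.Agent.S0598
import Cfsg.Agent.S0599
import Cfsg.Agent.S0606
import Cfsg.Agent.PLocal.ThompsonJ
import Cfsg.Agent.Lib.ProductSet

set_option autoImplicit false
open Cfsg
open scoped commutatorElement

namespace Cfsg.Agent.S0607

open Cfsg.Agent.PLocal.ThompsonJ

/-- `x ∈ X ⊔ B` iff `x = x' * b`, when `B` centralizes `X`. -/
theorem mem_sup_of_le_centralizer {G : Type*} [Group G] {X B : Subgroup G}
    (h : B ≤ Subgroup.centralizer (X : Set G)) {g : G} :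
    g ∈ X ⊔ B ↔ ∃ x ∈ X, ∃ b ∈ B, g = x * b := by
  have h1 : X ≤ Subgroup.normalizer (B : Set G) := by
    intro x hx
    refine Subgroup.centralizer_le_normalizer _ ?_
    rw [Subgroup.mem_centralizer_iff]
    intro b hb
    exact (Subgroup.mem_centralizer_iff.1 (h hb) x hx).symm
  have h2 := Subgroup.coe_mul_of_left_le_normalizer_right X B h1
  constructor
  · intro hg
    have : g ∈ ((X ⊔ B : Subgroup G) : Set G) := hg
    rw [h2] at this
    obtain ⟨x, hx, b, hb, e⟩ := this
    exact ⟨x, hx, b, hb, e.symm⟩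
  · rintro ⟨x, hx, b, hb, rfl⟩
    exact Subgroup.mul_mem_sup hx hb

theorem card_sup_mul_card_inf {G : Type*} [Group G] {X B : Subgroup G}
    (h : B ≤ Subgroup.centralizer (X : Set G)) :
    Nat.card ↥(X ⊔ B) * Nat.card ↥(X ⊓ B) = Nat.card X * Nat.card B := by
  have h1 : X ≤ Subgroup.normalizer (B : Set G) := by
    intro x hx
    refine Subgroup.centralizer_le_normalizer _ ?_
    rw [Subgroup.mem_centralizer_iff]
    intro b hb
    exact (Subgroup.mem_centralizer_iff.1 (h hb) x hx).symm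
  have h2 := Subgroup.coe_mul_of_left_le_normalizer_right X B h1
  rw [← Cfsg.Agent.Lib.ProductSet.card_mul_card_inf X B, ← h2]
  rfl

/-- The join of two commuting elementary abelian `p`-subgroups is elementary abelian. -/
theorem isElementaryAbelian_sup {G : Type*} [Group G] {p : ℕ} {X B : Subgroup G}
    (hX : IsElementaryAbelian p X) (hB : IsElementaryAbelian p B)
    (h : B ≤ Subgroup.centralizer (X : Set G)) : IsElementaryAbelian p (X ⊔ B) := by
  rw [isElementaryAbelian_iff] at hX hB ⊢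
  have hc : ∀ x ∈ X, ∀ b ∈ B, Commute x b := fun x hx b hb =>
    Subgroup.mem_centralizer_iff.1 (h hb) x hx
  have hx : ∀ x ∈ X, ∀ x' ∈ X, Commute x x' := hX.1
  have hb : ∀ x ∈ B, ∀ x' ∈ B, Commute x x' := hB.1
  constructor
  · intro g hg g' hg'
    obtain ⟨x, hx1, b, hb1, rfl⟩ := (mem_sup_of_le_centralizer h).1 hg
    obtain ⟨x', hx2, b', hb2, rfl⟩ := (mem_sup_of_le_centralizer h).1 hg'
    exact ((hx x hx1 x' hx2).mul_right (hc x hx1 b' hb2)).mul_left
      (((hc x' hx2 b hb1).symm).mul_right (hb b hb1 b' hb2))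
  · intro g hg
    obtain ⟨x, hx1, b, hb1, rfl⟩ := (mem_sup_of_le_centralizer h).1 hg
    rw [(hc x hx1 b hb1).mul_pow, hX.2 x hx1, hB.2 b hb1, mul_one]

/-- The replacement Theorem for the Thompson subgroup: from A of maximal order among elementary abelian p-subgroups one obtains A₀ = [V, A] C_A([V, A]) of the same kind, quadratic on V and nontrivial on V when A is. -/
theorem result {G : Type*} [Group G] [Finite G] {p : ℕ} [Fact p.Prime] (V : Subgroup G) [V.Normal] (hV : Cfsg.IsElementaryAbelian p V) (A : Subgroup G) (hA : A ∈ Cfsg.maxElementaryAbelianSubgroups p G) : (⁅V, A⁆ ⊔ (A ⊓ Subgroup.centralizer ((⁅V, A⁆ : Subgroup G) : Set G))) ∈ Cfsg.maxElementaryAbelianSubgroups p G ∧ ⁅⁅V, ⁅V, A⁆ ⊔ (A ⊓ Subgroup.centralizer ((⁅V, A⁆ : Subgroup G) : Set G))⁆, ⁅V, A⁆ ⊔ (A ⊓ Subgroup.centralizer ((⁅V, A⁆ : Subgroup G) : Set G))⁆ = ⊥ ∧ (⁅V, A⁆ ≠ ⊥ → ⁅V, ⁅V, A⁆ ⊔ (A ⊓ Subgroup.centralizer ((⁅V, A⁆ : Subgroup G) : Set G))⁆ ≠ ⊥) := by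
  have hbest := Cfsg.Agent.S0606.result V hV A hA
  have hAV : A ≤ Subgroup.normalizer (V : Set G) := Subgroup.le_normalizer_of_normal
  have h599 := Cfsg.Agent.S0599.result V A hV hAV hbest V le_rfl
  obtain ⟨B, hBA, h598⟩ := Cfsg.Agent.S0598.result V A hV hAV hbest.2.1 V le_rfl
  have hXV : ⁅V, A⁆ ≤ V := Subgroup.commutator_le_left V A
  generalize hX : ⁅V, A⁆ = X at *
  rcases h598 with h | ⟨hB, hC, hcard⟩
  · exact absurd (hbest.1 B hBA) (not_le.2 h)
  have hBX : B ≤ Subgroup.centralizer (X : Set G) := hB ▸ inf_le_right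
  rw [← hB] at h599 ⊢
  have hXe : IsElementaryAbelian p X := isElementaryAbelian_mono hV hXV
  have hBe : IsElementaryAbelian p B := isElementaryAbelian_mono hA.1 hBA
  -- `V ⊓ C(A) ≤ A`
  have hCA : V ⊓ Subgroup.centralizer (A : Set G) ≤ A := by
    have h1 : IsElementaryAbelian p (A ⊔ (V ⊓ Subgroup.centralizer (A : Set G))) :=
      isElementaryAbelian_sup hA.1 (isElementaryAbelian_mono hV inf_le_left) inf_le_right
    have h2 := eq_of_le_of_mem_max hA h1 le_sup_left
    exact le_sup_right.trans h2.ge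
  have hinf : X ⊓ B = X ⊓ (V ⊓ Subgroup.centralizer (A : Set G)) := by
    apply le_antisymm
    · refine le_inf inf_le_left (le_inf (inf_le_left.trans hXV) ?_)
      intro g hg
      rw [Subgroup.mem_centralizer_iff]
      intro a ha
      exact isElementaryAbelian_comm hA.1 ha (hBA hg.2)
    · rw [hB]
      refine le_inf inf_le_left (le_inf (inf_le_right.trans hCA) ?_)
      intro g hg
      rw [Subgroup.mem_centralizer_iff]
      intro a ha
      exact isElementaryAbelian_comm hXe ha hg.1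
  have hcardC : Nat.card ↥(V ⊓ Subgroup.centralizer (B : Set G)) * Nat.card ↥(X ⊓ B) =
      Nat.card X * Nat.card ↥(V ⊓ Subgroup.centralizer (A : Set G)) := by
    rw [hC, hinf]
    refine card_sup_mul_card_inf ?_
    intro g hg
    rw [Subgroup.mem_centralizer_iff]
    intro a ha
    exact isElementaryAbelian_comm hV (hXV ha) hg.1
  have hcard0 := card_sup_mul_card_inf hBX
  have hpos : 0 < Nat.card ↥(V ⊓ Subgroup.centralizer (A : Set G)) := Nat.card_pos
  have hpos2 : 0 < Nat.card ↥(X ⊓ B) := Nat.card_pos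
  have hfinal : Nat.card A = Nat.card ↥(X ⊔ B) := by
    apply Nat.eq_of_mul_eq_mul_right hpos2
    apply Nat.eq_of_mul_eq_mul_right hpos
    rw [hcard0]
    calc Nat.card A * Nat.card ↥(X ⊓ B) * Nat.card ↥(V ⊓ Subgroup.centralizer (A : Set G))
        = (Nat.card A * Nat.card ↥(V ⊓ Subgroup.centralizer (A : Set G))) * Nat.card ↥(X ⊓ B) := by ring
      _ = (Nat.card B * Nat.card ↥(V ⊓ Subgroup.centralizer (B : Set G))) * Nat.card ↥(X ⊓ B) := by rw [hcard]
      _ = Nat.card B * (Nat.card ↥(V ⊓ Subgroup.centralizer (B : Set G)) * Nat.card ↥(X ⊓ B)) := by ring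
      _ = Nat.card B * (Nat.card X * Nat.card ↥(V ⊓ Subgroup.centralizer (A : Set G))) := by rw [hcardC]
      _ = _ := by ring
  refine ⟨mem_max_of_card_eq hA (isElementaryAbelian_sup hXe hBe hBX) hfinal.le, ?_, ?_⟩
  · -- `X ⊔ B` centralizes `X`
    have hcen : X ⊔ B ≤ Subgroup.centralizer (X : Set G) := by
      refine sup_le ?_ hBX
      intro g hg
      rw [Subgroup.mem_centralizer_iff]
      intro a ha
      exact isElementaryAbelian_comm hXe ha hg
    -- `⁅V, X ⊔ B⁆ ≤ X`
    have hle : ⁅V, X ⊔ B⁆ ≤ X := by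
      rw [Subgroup.commutator_le]
      intro v hv g hg
      obtain ⟨x, hx, b, hb, rfl⟩ := (mem_sup_of_le_centralizer hBX).1 hg
      have h1 : ⁅v, b⁆ ∈ X := by
        rw [← hX]
        exact Subgroup.commutator_mem_commutator hv (hBA hb)
      have h2 : v * x = x * v := isElementaryAbelian_comm hV hv (hXV hx)
      have h3 : ⁅v, x * b⁆ = x * ⁅v, b⁆ * x⁻¹ := by
        rw [commutatorElement_def, commutatorElement_def, ← mul_assoc, h2]
        group
      rw [h3]
      exact X.mul_mem (X.mul_mem hx h1) (X.inv_mem hx)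
    rw [eq_bot_iff]
    refine (Subgroup.commutator_mono hle hcen).trans ?_
    rw [Subgroup.commutator_comm, le_bot_iff, Subgroup.commutator_eq_bot_iff_le_centralizer]
  · intro hne h
    refine h599.2.2 hne ?_
    rw [eq_bot_iff, ← h]
    exact Subgroup.commutator_mono le_rfl le_sup_right

end Cfsg.Agent.S0607
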