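import Cfsg.Statements.S0255
-- import your own Cfsg.Agent.* helpers here
import Cfsg.Agent.S0243
import Cfsg.Agent.LieClassical.PSLTwoSeven

set_option autoImplicit false
open Cfsg

namespace Cfsg.Agent.S0255

/-- PSL_2(7) is isomorphic to PSL_3(2). -/
theorem result {F K : Type*} [Field F] [Fintype F] [Field K] [Fintype K] (hF : Fintype.card F = 7) (hK : Fintype.card K = 2) : Nonempty (Matrix.ProjectiveSpecialLinearGroup (Fin 2) F ≃* Matrix.ProjectiveSpecialLinearGroup (Fin 3) K) := by
  obtain ⟨f, hf⟩ := Cfsg.Agent.LieClassical.PSLTwoSeven.exists_injective hF hK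
  have h1 : Nat.card (Matrix.ProjectiveSpecialLinearGroup (Fin 2) F) = 168 := by
    have h := Cfsg.Agent.S0243.result hF 2 le_rfl
    rw [Fin.prod_univ_two] at h
    norm_num at h
    omega
  have h2 : Nat.card (Matrix.ProjectiveSpecialLinearGroup (Fin 3) K) = 168 := by
    have h := Cfsg.Agent.S0243.result hK 3 (by norm_num)
    rw [Fin.prod_univ_three] at h
    norm_num at h
    omega
  have : Finite (Matrix.ProjectiveSpecialLinearGroup (Fin 3) K) :=
    Nat.finite_of_card_ne_zero (by rw [h2]; norm_num)
  have hb : Function.Bijective f := by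
    rw [Nat.bijective_iff_injective_and_card]
    exact ⟨hf, by rw [h1, h2]⟩
  exact ⟨MulEquiv.ofBijective f hb⟩

end Cfsg.Agent.S0255
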