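import Cfsg.Statements.S0298
import Cfsg.Agent.LieClassical.OrthThreeOmega

set_option autoImplicit false
open Cfsg

namespace Cfsg.Agent.S0298

/-- PΩ_3(q) is isomorphic to PSL_2(q) for q odd. -/
theorem result {F : Type*} [Field F] [Fintype F] (hodd : Odd (Fintype.card F)) : Nonempty (Cfsg.POmega F (Cfsg.quadFormOdd 1 F) ≃* Matrix.ProjectiveSpecialLinearGroup (Fin 2) F) := by
  have h2 : (2 : F) ≠ 0 := by
    apply Ring.two_ne_zero
    intro h
    have h3 := FiniteField.even_card_iff_char_two.1 h
    rw [Nat.odd_iff] at hodd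
    omega
  refine Cfsg.Agent.LieClassical.OrthThreeOmega.nonempty_equiv ⟨2, h2, ?_⟩ h2
  intro h
  apply one_ne_zero (α := F)
  linear_combination h

end Cfsg.Agent.S0298
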