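import Cfsg.Statements.S0301
import Cfsg.Agent.LieClassical.OmegaFive

set_option autoImplicit false
open Cfsg

namespace Cfsg.Agent.S0301

/-- PΩ_5(q) is isomorphic to PSp_4(q) for q odd. -/
theorem result {F : Type*} [Field F] [Fintype F] (hodd : Odd (Fintype.card F)) : Nonempty (Cfsg.POmega F (Cfsg.quadFormOdd 2 F) ≃* Cfsg.PSp 2 F) := by
  refine Cfsg.Agent.LieClassical.OmegaFive.nonempty_equiv ?_
  intro h
  have h2 : ringChar F = 2 := by
    have h3 : ringChar F ∣ 2 := ringChar.dvd (by exact_mod_cast h)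
    rcases (Nat.dvd_prime Nat.prime_two).1 h3 with h4 | h4
    · exact absurd h4 (CharP.ringChar_ne_one)
    · exact h4
  have h5 := (FiniteField.even_card_iff_char_two (F := F)).1 h2
  rw [Nat.odd_iff] at hodd
  omega

end Cfsg.Agent.S0301
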