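import Cfsg.Statements.S1675
import Cfsg.Agent.Co2Type.Assemble
import Cfsg.Agent.Co2Type.IsoFib
import Cfsg.Agent.Co2Type.SimpleCo2
import Cfsg.Agent.Co2Type.Co2Gen
import Cfsg.Agent.Co2Type.UpMain

set_option autoImplicit false
open Cfsg

namespace Cfsg.Agent.S1675

open Cfsg.Agent.Co2Type

theorem emb_val {G K : Type*} [Group G] [Group K] {S : Set G} (E : Subgroup.closure S ≃* K) {x : G} {y : K}
    (hx : x ∈ S) (hy : ∀ hx : x ∈ Subgroup.closure S, E ⟨x, hx⟩ = y) :
    ((Subgroup.closure S).subtype.comp E.symm.toMonoidHom) y = x := by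
  have hxH : x ∈ Subgroup.closure S := Subgroup.subset_closure hx
  rw [← hy hxH]
  show ((E.symm (E ⟨x, hxH⟩) : Subgroup.closure S) : G) = x
  rw [E.symm_apply_apply]

/-- the embedding of `Co₂` -/
theorem exists_emb {G : Type*} [Group G] {t a b c d e f g h : G} (L : LocalMain.Loc t a b c d e f g h)
    {a' b' c' d' e' f' g' h' i' : Spor.Co2} (P' : PresDef.PG a' b' c' d' e' f' g' h' i')
    (hgen : Subgroup.closure ({a', b', c', d', e', f', g', h', i'} : Set Spor.Co2) = ⊤) :
    ∃ φ : Spor.Co2 →* G, Function.Injective φ ∧ φ a' = a ∧ φ b' = b ∧ φ c' = c ∧ φ d' = d ∧ φ e' = e ∧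
      φ f' = f ∧ φ g' = g ∧ φ i' = t := by
  have hs := SimpleCo2.simple_co2
  obtain ⟨E, h1, h2, h3, h4, h5, h6, h7, -, h9⟩ := IsoFib.exists_iso (n := 42305421312000) (by norm_num)
    (fun X _ _ _ _ _ _ _ _ _ _ P => UpMain.card_le P) (Assemble.pg_of_loc L) L.t1 P' hgen CardCo2.card_co2
  have key := fun (x : G) (y : Spor.Co2) => emb_val E (x := x) (y := y)
  refine ⟨(Subgroup.closure ({a, b, c, d, e, f, g, h, t} : Set G)).subtype.comp E.symm.toMonoidHom,
    (Subgroup.subtype_injective _).comp E.symm.injective, key _ _ (by simp) h1,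
    key _ _ (by simp) h2, key _ _ (by simp) h3, key _ _ (by simp) h4, key _ _ (by simp) h5, key _ _ (by simp) h6,
    key _ _ (by simp) h7, key _ _ (by simp) h9⟩

/-- The second Conway group from an involution centraliser: let G be a finite group with no non-trivial normal subgroup of odd order and trivial centre, and let t be an involution whose centraliser C is 2-constrained with O₂(C) extraspecial of order 2 ^ 9 and C / O₂(C) isomorphic to the symplectic group Sp(6, 2). Then G is isomorphic to the second Conway group (the stabiliser in the Leech lattice automorphism group of a minimal vector). -/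
theorem result {G : Type*} [Group G] [Finite G] (hO : Cfsg.oddCore G = ⊥) (hZ : Subgroup.center G = ⊥) (t : G) (ht : orderOf t = 2) (hcon : Cfsg.IsPConstrained 2 (Subgroup.centralizer ({t} : Set G))) (hQ : Cfsg.IsExtraspecial 2 (Cfsg.pCore 2 (Subgroup.centralizer ({t} : Set G)))) (hcard : Nat.card (Cfsg.pCore 2 (Subgroup.centralizer ({t} : Set G))) = 2 ^ 9) (e : (Subgroup.centralizer ({t} : Set G)) ⧸ Cfsg.pCore 2 (Subgroup.centralizer ({t} : Set G)) ≃* Matrix.symplecticGroup (Fin 3) (ZMod 2)) : Cfsg.Spor.IsoCo2 G := by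
  obtain ⟨a, b, c, d, e', f, g, h, L⟩ := LocalMain.exists_loc hO hZ t ht hcon hQ hcard e
  obtain ⟨a', b', c', d', e'', f', g', h', i', P', -, hgen, trI, trA, trR⟩ := Co2Gen.exists_gens
  obtain ⟨φ, hφ, h1, h2, h3, h4, h5, h6, h7, h8⟩ := exists_emb L P' hgen
  refine Assemble.iso_of_loc L φ hφ h1 h2 h3 h4 h5 h6 h7 h8 trI trA ?_
  rw [show i' * (e'' * g' * b') = i' * e'' * g' * b' by simp only [mul_assoc]]
  exact trR

end Cfsg.Agent.S1675
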