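import Cfsg.Statements.S1349
-- import your own Cfsg.Agent.* helpers here
import Cfsg.Agent.SignalizersComponents.ClassTwo
import Cfsg.Agent.SignalizersComponents.OddWeights
import Cfsg.Agent.SignalizersComponents.DihedralIso

set_option autoImplicit false
open Cfsg

namespace Cfsg.Agent.S1349

open Cfsg.Agent.SignalizersComponents

section

variable {G : Type*} [Group G] [Finite G]

/-- Reduction: there is a subgroup `K` of `L` of which every weight element is central, on which `A` acts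
faithfully. -/
theorem exists_reduced (L A : Subgroup G) (hLs : Group.IsSolvable ↥L) (hLodd : Odd (Nat.card ↥L))
    (hAc : ∀ a ∈ A, ∀ b ∈ A, a * b = b * a) (hA2 : ∀ a ∈ A, a * a = 1)
    (hAL : ∀ a ∈ A, ∀ x ∈ L, a * x * a⁻¹ ∈ L)
    (hfaith : ∀ a ∈ A, (∀ x ∈ L, a * x * a⁻¹ = x) → a = 1) :
    ∃ K : Subgroup G, K ≤ L ∧
      (∀ a ∈ A, (∀ x ∈ OddWeights.weights K (A : Set G), a * x * a⁻¹ = x) → a = 1) ∧
      (∀ x ∈ OddWeights.weights K (A : Set G), ∀ y ∈ OddWeights.weights K (A : Set G),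
        x * y = y * x) := by
  classical
  obtain ⟨m, hm⟩ := id hLodd
  have hLm : ∀ x ∈ L, x ^ (2 * m + 1) = 1 := by
    intro x hx
    have := pow_card_eq_one' (G := ↥L) (x := ⟨x, hx⟩)
    rw [hm] at this
    simpa using congrArg Subtype.val this
  have oddOf : ∀ K : Subgroup G, K ≤ L → Odd (Nat.card ↥K) := by
    intro K hK
    exact Odd.of_dvd_nat hLodd (Subgroup.card_dvd_of_le hK)
  -- minimal choice
  obtain ⟨K, ⟨hKL, hAK, hKf⟩, hmin⟩ := (Set.toFinite {K : Subgroup G | K ≤ L ∧
      (∀ a ∈ A, ∀ x ∈ K, a * x * a⁻¹ ∈ K) ∧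
      (∀ a ∈ A, (∀ x ∈ K, a * x * a⁻¹ = x) → a = 1)}).exists_minimal ⟨L, le_rfl, hAL, hfaith⟩
  have hKs : Group.IsSolvable ↥K := by
    have := hLs
    exact Group.isSolvable_of_isSolvable_injective (Subgroup.inclusion_injective hKL)
  -- `K` is nilpotent
  have hKn : Group.IsNilpotent ↥K := by
    obtain ⟨W, hWK, hWc, hWT, hCW⟩ := ClassTwo.exists_classTwo K A hKs
      (Subgroup.le_normalizer_iff.mpr hAK)
    have hWT' := Subgroup.le_normalizer_iff.mp hWT
    have hAW : ∀ a ∈ A, ∀ x ∈ W, a * x * a⁻¹ ∈ W := fun a ha x hx =>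
      hWT' a (Subgroup.mem_sup_right ha) x hx
    have hWf : ∀ a ∈ A, (∀ x ∈ W, a * x * a⁻¹ = x) → a = 1 := by
      intro a ha haW
      apply hKf a ha
      intro g hg
      have hgK : g⁻¹ * (a * g * a⁻¹) ∈ K := mul_mem (inv_mem hg) (hAK a ha g hg)
      apply ClassTwo.fixed_of_centralizes m W a g (hA2 a ha) _
        (fun w hw => hWT' g (Subgroup.mem_sup_left hg) w hw) (hLm _ (hKL hgK))
      · intro hcen
        exact haW _ (hCW ⟨hgK, hcen⟩)
      · rw [Subgroup.mem_centralizer_iff]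
        intro w hw
        have := haW w hw
        rw [mul_inv_eq_iff_eq_mul] at this
        exact this.symm
    have : K ≤ W := hmin ⟨hWK.trans hKL, hAW, hWf⟩ hWK
    have hKW : K = W := le_antisymm this hWK
    rw [hKW]
    exact ClassTwo.isNilpotent_of_classTwo hWc
  -- weight elements are central
  have hcentral : ∀ x ∈ OddWeights.weights K (A : Set G), ∀ y ∈ K, x * y = y * x := by
    intro x hx
    obtain ⟨hxK, hxw⟩ := hx
    set D : Subgroup G := K ⊓ Subgroup.centralizer {x} with hD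
    have memD : ∀ y, y ∈ D ↔ y ∈ K ∧ x * y = y * x := by
      intro y
      rw [hD, Subgroup.mem_inf, Subgroup.mem_centralizer_singleton_iff]
      exact and_congr_right fun _ => eq_comm
    have hAD : ∀ a ∈ A, ∀ y ∈ D, a * y * a⁻¹ ∈ D := by
      intro a ha y hy
      rw [memD] at hy ⊢
      refine ⟨hAK a ha y hy.1, ?_⟩
      have h1 : (a * x * a⁻¹) * (a * y * a⁻¹) = (a * y * a⁻¹) * (a * x * a⁻¹) := by
        calc (a * x * a⁻¹) * (a * y * a⁻¹) = a * (x * y) * a⁻¹ := by group
          _ = a * (y * x) * a⁻¹ := by rw [hy.2]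
          _ = (a * y * a⁻¹) * (a * x * a⁻¹) := by group
      rcases hxw a ha with h | h
      · rwa [h] at h1
      · rw [h] at h1
        have h2 : Commute x⁻¹ (a * y * a⁻¹) := h1
        exact (Commute.inv_left_iff.mp h2).eq
    have hDf : ∀ a ∈ A, (∀ y ∈ D, a * y * a⁻¹ = y) → a = 1 := by
      intro a ha haD
      apply hKf a ha
      have hax : a * x * a⁻¹ = x := haD x ((memD x).mpr ⟨hxK, rfl⟩)
      apply ClassTwo.centralizes_of_nilpotent K hKn (oddOf K hKL) a (hA2 a ha) (hAK a ha)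
      intro y hy hcen
      exact haD y ((memD y).mpr ⟨hy, hcen x hxK hax⟩)
    have hDK : D ≤ K := inf_le_left
    have hKD : K ≤ D := hmin ⟨hDK.trans hKL, hAD, hDf⟩ hDK
    intro y hy
    exact ((memD y).mp (hKD hy)).2
  refine ⟨K, hKL, ?_, fun x hx y hy => hcentral x hx y hy.1⟩
  intro a ha haw
  apply hKf a ha
  have hcl := OddWeights.closure_weights K A (oddOf K hKL) hAc hA2 hAK
  intro x hx
  rw [← hcl] at hx
  have hle : Subgroup.closure (OddWeights.weights K (A : Set G)) ≤ Subgroup.centralizer {a} := by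
    rw [Subgroup.closure_le]
    intro y hy
    rw [SetLike.mem_coe, Subgroup.mem_centralizer_singleton_iff]
    have := haw y hy
    rw [mul_inv_eq_iff_eq_mul] at this
    exact this.symm
  have := Subgroup.mem_centralizer_singleton_iff.mp (hle hx)
  rw [mul_inv_eq_iff_eq_mul]
  exact this.symm

/-- Selection: a finite set `X` of commuting elements, each centralized or inverted by each element of the elementary
abelian `2`-group `A`, faithfully acted on, minimal as such: then `A` has a dual basis. -/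
theorem exists_dual (A : Subgroup G) (Y : Set G)
    (hY : ∀ y ∈ Y, ∀ a ∈ A, a * y * a⁻¹ = y ∨ a * y * a⁻¹ = y⁻¹)
    (hYf : ∀ a ∈ A, (∀ y ∈ Y, a * y * a⁻¹ = y) → a = 1) :
    ∃ (X : Finset G) (α : G → G), (X : Set G) ⊆ Y ∧ (∀ x ∈ X, α x ∈ A) ∧
      (∀ x ∈ X, α x * x * (α x)⁻¹ = x⁻¹ ∧ α x * x * (α x)⁻¹ ≠ x) ∧
      (∀ x ∈ X, ∀ y ∈ X, y ≠ x → α x * y * (α x)⁻¹ = y) ∧
      (∀ a ∈ A, (∀ x ∈ X, a * x * a⁻¹ = x) → a = 1) := by
  classical
  have hYfin : Y.Finite := Set.toFinite _
  have hex : ∃ X : Finset G, (X : Set G) ⊆ Y ∧ ∀ a ∈ A, (∀ x ∈ X, a * x * a⁻¹ = x) → a = 1 :=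
    ⟨hYfin.toFinset, by simp, by simpa using hYf⟩
  have hwf : WellFounded ((· < ·) : Finset G → Finset G → Prop) := wellFounded_lt
  obtain ⟨X, ⟨hXY, hXf⟩, hmin⟩ := hwf.has_min
    {X : Finset G | (X : Set G) ⊆ Y ∧ ∀ a ∈ A, (∀ x ∈ X, a * x * a⁻¹ = x) → a = 1} hex
  have hsel : ∀ x ∈ X, ∃ a ∈ A, a ≠ 1 ∧ ∀ y ∈ X, y ≠ x → a * y * a⁻¹ = y := by
    intro x hx
    by_contra hcon
    push Not at hcon
    apply hmin (X.erase x) _ (Finset.erase_ssubset hx)
    refine ⟨fun y hy => hXY (Finset.mem_of_mem_erase (Finset.mem_coe.mp hy)), ?_⟩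
    intro a ha h
    by_contra hane
    obtain ⟨y, hy, hyx, hne⟩ := hcon a ha hane
    exact hne (h y (Finset.mem_erase.mpr ⟨hyx, hy⟩))
  have hsel' : ∀ x : G, ∃ a : G, x ∈ X → a ∈ A ∧ a ≠ 1 ∧ ∀ y ∈ X, y ≠ x → a * y * a⁻¹ = y := by
    intro x
    by_cases hx : x ∈ X
    · obtain ⟨a, h1, h2, h3⟩ := hsel x hx
      exact ⟨a, fun _ => ⟨h1, h2, h3⟩⟩
    · exact ⟨1, fun h => absurd h hx⟩
  choose α hα using hsel'
  refine ⟨X, α, hXY, fun x hx => (hα x hx).1, ?_, fun x hx => (hα x hx).2.2, hXf⟩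
  intro x hx
  have hne : α x * x * (α x)⁻¹ ≠ x := by
    intro heq
    apply (hα x hx).2.1
    apply hXf _ (hα x hx).1
    intro y hy
    by_cases hyx : y = x
    · rw [hyx]; exact heq
    · exact (hα x hx).2.2 y hy hyx
  refine ⟨?_, hne⟩
  rcases hY x (hXY hx) (α x) (hα x hx).1 with h | h
  · exact absurd h hne
  · exact h

/-- In the situation of a dual basis, each subset of `X` is the set of elements inverted by some element of the
group generated by the dual basis. -/
theorem exists_pattern (X : Finset G) (α : G → G)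
    (hα : ∀ x ∈ X, α x * x * (α x)⁻¹ = x⁻¹)
    (hα' : ∀ x ∈ X, ∀ y ∈ X, y ≠ x → α x * y * (α x)⁻¹ = y)
    [DecidableEq G] (Y : Finset G) (hYX : Y ⊆ X) :
    ∃ a ∈ Subgroup.closure (α '' (X : Set G)), (∀ x ∈ Y, a * x * a⁻¹ = x⁻¹) ∧
      ∀ x ∈ X, x ∉ Y → a * x * a⁻¹ = x := by
  induction Y using Finset.induction_on with
  | empty =>
    refine ⟨1, one_mem _, by simp, by simp⟩
  | insert b Y hbY ih =>
    have hbX : b ∈ X := hYX (Finset.mem_insert_self b Y)
    obtain ⟨a, haC, ha1, ha2⟩ := ih (fun y hy => hYX (Finset.mem_insert_of_mem hy))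
    refine ⟨α b * a, mul_mem (Subgroup.subset_closure ⟨b, hbX, rfl⟩) haC, ?_, ?_⟩
    · intro x hx
      rcases Finset.mem_insert.mp hx with rfl | hxY
      · calc α x * a * x * (α x * a)⁻¹ = α x * (a * x * a⁻¹) * (α x)⁻¹ := by group
          _ = α x * x * (α x)⁻¹ := by rw [ha2 x hbX hbY]
          _ = x⁻¹ := hα x hbX
      · have hxX : x ∈ X := hYX hx
        have hxb : x ≠ b := by rintro rfl; exact hbY hxY
        calc α b * a * x * (α b * a)⁻¹ = α b * (a * x * a⁻¹) * (α b)⁻¹ := by group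
          _ = α b * x⁻¹ * (α b)⁻¹ := by rw [ha1 x hxY]
          _ = (α b * x * (α b)⁻¹)⁻¹ := by group
          _ = x⁻¹ := by rw [hα' b hbX x hxX hxb]
    · intro x hxX hx
      rw [Finset.mem_insert, not_or] at hx
      calc α b * a * x * (α b * a)⁻¹ = α b * (a * x * a⁻¹) * (α b)⁻¹ := by group
        _ = α b * x * (α b)⁻¹ := by rw [ha2 x hxX hx.2]
        _ = x := hα' b hbX x hxX hx.1

end

/-- Let G be finite, L ≤ G solvable of odd order, and A an elementary abelian 2-subgroup of order 2^d (d ≥ 1) normalizing L with C_A(L) = 1. Then there are subgroups A_1, …, A_d of A of order 2 generating A and subgroups L_1, …, L_d of L such that each A_i ⊔ L_i is dihedral of order 2 n_i with n_i odd and at least 3, and A_i ⊔ L_i commutes elementwise with A_j ⊔ L_j for i ≠ j. -/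
theorem result {G : Type*} [Group G] [Finite G] (L A : Subgroup G) (hLs : Group.IsSolvable ↥L) (hLodd : Odd (Nat.card ↥L)) (hA : Cfsg.IsElementaryAbelian 2 A) (d : ℕ) (hd : 1 ≤ d) (hAd : Nat.card ↥A = 2 ^ d) (hAL : A ≤ Subgroup.normalizer (L : Set G)) (hfaith : A ⊓ Subgroup.centralizer (L : Set G) = ⊥) : ∃ (Ai : Fin d → Subgroup G) (Li : Fin d → Subgroup G) (n : Fin d → ℕ), (∀ i, Ai i ≤ A ∧ Nat.card ↥(Ai i) = 2 ∧ Li i ≤ L ∧ Odd (n i) ∧ 3 ≤ n i ∧ Nonempty (↥(Ai i ⊔ Li i) ≃* DihedralGroup (n i))) ∧ (⨆ i, Ai i) = A ∧ ∀ i j, i ≠ j → ∀ x ∈ Ai i ⊔ Li i, ∀ y ∈ Ai j ⊔ Li j, x * y = y * x := by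
  classical
  obtain ⟨hAcomm, hA2⟩ := hA
  have hAc : ∀ a ∈ A, ∀ b ∈ A, a * b = b * a := by
    intro a ha b hb
    have := hAcomm.is_comm.comm (⟨a, ha⟩ : ↥A) ⟨b, hb⟩
    exact congrArg Subtype.val this
  have hA2' : ∀ a ∈ A, a * a = 1 := fun a ha => by rw [← pow_two]; exact hA2 a ha
  have hf : ∀ a ∈ A, (∀ x ∈ L, a * x * a⁻¹ = x) → a = 1 := by
    intro a ha h
    have : a ∈ A ⊓ Subgroup.centralizer (L : Set G) := by
      refine Subgroup.mem_inf.mpr ⟨ha, Subgroup.mem_centralizer_iff.mpr ?_⟩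
      intro x hx
      have := h x hx
      rw [mul_inv_eq_iff_eq_mul] at this
      exact this.symm
    rw [hfaith] at this
    exact Subgroup.mem_bot.mp this
  obtain ⟨K, hKL, hKf, hKc⟩ := exists_reduced L A hLs hLodd hAc hA2'
    (Subgroup.le_normalizer_iff.mp hAL) hf
  obtain ⟨X, α, hXY, hαA, hα, hα', hXf⟩ := exists_dual A (OddWeights.weights K (A : Set G))
    (fun y hy => hy.2) hKf
  have hα1 : ∀ x ∈ X, α x * x * (α x)⁻¹ = x⁻¹ := fun x hx => (hα x hx).1
  have hαne : ∀ x ∈ X, α x ≠ 1 := by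
    intro x hx h
    apply (hα x hx).2
    rw [h]; simp
  have hodd : ∀ x ∈ X, Odd (orderOf x) := by
    intro x hx
    have hxL : x ∈ L := hKL (hXY hx).1
    have : orderOf (⟨x, hxL⟩ : ↥L) ∣ Nat.card ↥L := orderOf_dvd_natCard _
    rw [Subgroup.orderOf_mk] at this
    exact Odd.of_dvd_nat hLodd this
  have hne1 : ∀ x ∈ X, orderOf x ≠ 1 := by
    intro x hx h
    rw [orderOf_eq_one_iff] at h
    apply (hα x hx).2
    rw [h]; simp
  have hinv_ne : ∀ x ∈ X, x⁻¹ ≠ x := by
    intro x hx h
    apply (hα x hx).2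
    rw [hα1 x hx, h]
  -- the pattern map
  have hpat := fun (Y : Finset G) (hY : Y ⊆ X) => exists_pattern X α hα1 hα' Y hY
  have hclA : Subgroup.closure (α '' (X : Set G)) ≤ A := by
    rw [Subgroup.closure_le]
    rintro _ ⟨x, hx, rfl⟩
    exact hαA x hx
  have huniq : ∀ a ∈ A, ∀ b ∈ A, (∀ x ∈ X, (a * x * a⁻¹ = x ↔ b * x * b⁻¹ = x)) → a = b := by
    intro a ha b hb h
    have : b⁻¹ * a = 1 := by
      apply hXf _ (mul_mem (inv_mem hb) ha)
      intro x hx
      have hw := (hXY hx).2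
      rcases hw a ha with h1 | h1
      · have h2 := (h x hx).mp h1
        calc b⁻¹ * a * x * (b⁻¹ * a)⁻¹ = b⁻¹ * (a * x * a⁻¹) * b := by group
          _ = b⁻¹ * (b * x * b⁻¹) * b := by rw [h1, h2]
          _ = x := by group
      · rcases hw b hb with h2 | h2
        · have h3 := (h x hx).mpr h2
          exact absurd (h1.symm.trans h3) (hinv_ne x hx)
        · calc b⁻¹ * a * x * (b⁻¹ * a)⁻¹ = b⁻¹ * (a * x * a⁻¹) * b := by group
            _ = b⁻¹ * (b * x * b⁻¹) * b := by rw [h1, h2]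
            _ = x := by group
    rw [inv_mul_eq_one] at this
    exact this.symm
  -- bijection between `A` and the powerset of `X`
  let φ : ↥A → ↥(X.powerset) := fun a =>
    ⟨X.filter (fun x => (a : G) * x * (a : G)⁻¹ ≠ x), by
      rw [Finset.mem_powerset]; exact Finset.filter_subset _ _⟩
  have hφ : Function.Bijective φ := by
    constructor
    · intro a b hab
      apply Subtype.ext
      apply huniq a a.2 b b.2
      intro x hx
      have h1 : x ∈ X.filter (fun x => (a : G) * x * (a : G)⁻¹ ≠ x) ↔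
          x ∈ X.filter (fun x => (b : G) * x * (b : G)⁻¹ ≠ x) := by
        have := congrArg Subtype.val hab
        simp only [φ] at this
        rw [this]
      simp only [Finset.mem_filter, hx, true_and] at h1
      exact not_iff_not.mp h1
    · rintro ⟨Y, hY⟩
      have hYX := Finset.mem_powerset.mp hY
      obtain ⟨a, haC, ha1, ha2⟩ := hpat Y hYX
      refine ⟨⟨a, hclA haC⟩, ?_⟩
      apply Subtype.ext
      ext x
      simp only [φ, Finset.mem_filter]
      constructor
      · rintro ⟨hx, hne⟩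
        by_contra hxY
        exact hne (ha2 x hx hxY)
      · intro hxY
        refine ⟨hYX hxY, ?_⟩
        rw [ha1 x hxY]
        exact hinv_ne x (hYX hxY)
  have hcard : X.card = d := by
    have h1 : Nat.card ↥A = Nat.card ↥(X.powerset) := Nat.card_congr (Equiv.ofBijective φ hφ)
    rw [hAd, Nat.card_eq_fintype_card, Fintype.card_coe, Finset.card_powerset] at h1
    exact (Nat.pow_right_injective le_rfl h1).symm
  -- generation
  have hgen : A ≤ Subgroup.closure (α '' (X : Set G)) := by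
    intro a ha
    obtain ⟨b, hbC, hb1, hb2⟩ := hpat (X.filter (fun x => a * x * a⁻¹ ≠ x))
      (Finset.filter_subset _ _)
    have : a = b := by
      apply huniq a ha b (hclA hbC)
      intro x hx
      constructor
      · intro h
        apply hb2 x hx
        simp [h]
      · intro h
        by_contra hne
        have := hb1 x (by simp [hx, hne])
        exact hinv_ne x hx (this.symm.trans h)
    rw [this]
    exact hbC
  -- index by `Fin d`
  let e : Fin d ≃ ↥X := (finCongr hcard.symm).trans X.equivFin.symm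
  have heX : ∀ i, ((e i : ↥X) : G) ∈ X := fun i => (e i).2
  have hord : ∀ i, orderOf (α (e i)) = 2 := by
    intro i
    exact orderOf_eq_prime (hA2 _ (hαA _ (heX i))) (hαne _ (heX i))
  refine ⟨fun i => Subgroup.zpowers (α (e i)), fun i => Subgroup.zpowers (e i : G),
    fun i => orderOf (e i : G), ?_, ?_, ?_⟩
  · intro i
    refine ⟨?_, ?_, ?_, hodd _ (heX i), ?_, ?_⟩
    · rw [Subgroup.zpowers_le]
      exact hαA _ (heX i)
    · rw [Nat.card_zpowers, hord i]
    · rw [Subgroup.zpowers_le]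
      exact hKL (hXY (heX i)).1
    · have h1 := hodd _ (heX i)
      have h2 := hne1 _ (heX i)
      obtain ⟨k, hk⟩ := h1
      show 3 ≤ orderOf (e i : G)
      omega
    · exact DihedralIso.nonempty_mulEquiv_of_odd _ _ (hord i) (hα1 _ (heX i)) (hodd _ (heX i))
  · apply le_antisymm
    · apply iSup_le
      intro i
      rw [Subgroup.zpowers_le]
      exact hαA _ (heX i)
    · refine hgen.trans ?_
      rw [Subgroup.closure_le]
      rintro _ ⟨x, hx, rfl⟩
      have : α x ∈ Subgroup.zpowers (α (e (e.symm ⟨x, hx⟩))) := by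
        rw [Equiv.apply_symm_apply]
        exact Subgroup.mem_zpowers _
      exact (le_iSup (fun i => Subgroup.zpowers (α (e i))) (e.symm ⟨x, hx⟩)) this
  · intro i j hij
    have hne : (e i : G) ≠ (e j : G) := by
      intro h
      exact hij (e.injective (Subtype.ext h))
    have c1 : α (e i) * α (e j) = α (e j) * α (e i) := hAc _ (hαA _ (heX i)) _ (hαA _ (heX j))
    have c2 : (e i : G) * (e j : G) = (e j : G) * (e i : G) :=
      hKc _ (hXY (heX i)) _ (hXY (heX j))
    have c3 : α (e i) * (e j : G) = (e j : G) * α (e i) := by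
      have := hα' _ (heX i) _ (heX j) hne.symm
      rwa [mul_inv_eq_iff_eq_mul] at this
    have c4 : α (e j) * (e i : G) = (e i : G) * α (e j) := by
      have := hα' _ (heX j) _ (heX i) hne
      rwa [mul_inv_eq_iff_eq_mul] at this
    have hle : Subgroup.zpowers (α (e i)) ⊔ Subgroup.zpowers (e i : G) ≤
        Subgroup.centralizer ((Subgroup.zpowers (α (e j)) ⊔ Subgroup.zpowers (e j : G) :
          Subgroup G) : Set G) := by
      rw [Subgroup.le_centralizer_iff]
      apply sup_le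
      · rw [Subgroup.zpowers_le, Subgroup.mem_centralizer_iff]
        intro h hh
        have : Subgroup.zpowers (α (e i)) ⊔ Subgroup.zpowers (e i : G) ≤
            Subgroup.centralizer {α (e j)} := by
          apply sup_le
          · rw [Subgroup.zpowers_le, Subgroup.mem_centralizer_singleton_iff]
            exact c1
          · rw [Subgroup.zpowers_le, Subgroup.mem_centralizer_singleton_iff]
            exact c4.symm
        exact Subgroup.mem_centralizer_singleton_iff.mp (this hh)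
      · rw [Subgroup.zpowers_le, Subgroup.mem_centralizer_iff]
        intro h hh
        have : Subgroup.zpowers (α (e i)) ⊔ Subgroup.zpowers (e i : G) ≤
            Subgroup.centralizer {(e j : G)} := by
          apply sup_le
          · rw [Subgroup.zpowers_le, Subgroup.mem_centralizer_singleton_iff]
            exact c3
          · rw [Subgroup.zpowers_le, Subgroup.mem_centralizer_singleton_iff]
            exact c2
        exact Subgroup.mem_centralizer_singleton_iff.mp (this hh)
    intro x hx y hy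
    exact ((Subgroup.mem_centralizer_iff.mp (hle hx)) y hy).symm

end Cfsg.Agent.S1349
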