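import Cfsg.Statements.S0314
import Cfsg.Agent.S0309
import Cfsg.Agent.S0310
import Cfsg.Agent.S0317

set_option autoImplicit false
open Cfsg

namespace Cfsg.Agent.S0314

/-- If `P_J ≤ P_K` for sets of distinguished generators, then `J ⊆ K`. -/
theorem subset_of_parabolic_le {G : Type*} [Group G] (P : Cfsg.BNPair G) {J K : Set G}
    (hJ : J ⊆ P.S) (hK : K ⊆ P.S) (h : P.parabolic J ≤ P.parabolic K) : J ⊆ K := by
  intro s hs
  by_contra hsK
  have hsS : s ∈ P.S := hJ hs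
  -- `s` lies in `P_K`
  have h1 : s ∈ P.parabolic K :=
    h ((le_sup_right : Subgroup.closure J ≤ P.B ⊔ Subgroup.closure J) (Subgroup.subset_closure hs))
  obtain ⟨n, hn, hsn⟩ := (Cfsg.Agent.S0310.result P hK s).1 h1
  have hKN : Subgroup.closure K ≤ P.N :=
    (Subgroup.closure_le _).2 (hK.trans P.subset)
  have hnN : n ∈ P.N := hKN hn
  have hsN : s ∈ P.N := P.subset hsS
  -- the double cosets of `s` and `n` coincide
  have h2 : DoubleCoset.doubleCoset n (P.B : Set G) P.B = DoubleCoset.doubleCoset s (P.B : Set G) P.B := by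
    exact (DoubleCoset.doubleCoset_eq_of_mem hsn).symm
  have h3 : n⁻¹ * s ∈ P.B := (Cfsg.Agent.S0309.result P hnN hsN).1 h2
  -- so `s = n * (n⁻¹ * s)` lies in `⟨S \ {s}⟩ (B ∩ N)`
  refine Cfsg.Agent.S0317.result P hsS ?_
  have h4 : K ⊆ P.S \ {s} := fun k hk => ⟨hK hk, fun hks => hsK (hks ▸ hk)⟩
  have h5 : n ∈ Subgroup.closure (P.S \ {s}) ⊔ (P.B ⊓ P.N) :=
    (le_sup_left : Subgroup.closure (P.S \ {s}) ≤ Subgroup.closure (P.S \ {s}) ⊔ (P.B ⊓ P.N))
      (Subgroup.closure_mono h4 hn)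
  have h6 : n⁻¹ * s ∈ Subgroup.closure (P.S \ {s}) ⊔ (P.B ⊓ P.N) :=
    (le_sup_right : P.B ⊓ P.N ≤ Subgroup.closure (P.S \ {s}) ⊔ (P.B ⊓ P.N))
      ⟨h3, P.N.mul_mem (P.N.inv_mem hnN) hsN⟩
  have h7 := Subgroup.mul_mem _ h5 h6
  simpa using h7

/-- Distinct sets of distinguished generators give distinct standard parabolic subgroups. -/
theorem result {G : Type*} [Group G] (P : Cfsg.BNPair G) {J K : Set G}
    (hJ : J ⊆ P.S) (hK : K ⊆ P.S) (h : P.parabolic J = P.parabolic K) : J = K :=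
  Set.Subset.antisymm (subset_of_parabolic_le P hJ hK h.le) (subset_of_parabolic_le P hK hJ h.ge)

end Cfsg.Agent.S0314
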