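import Cfsg.Statements.S0480
import Cfsg.Agent.Fischer480.AllPieces
import Cfsg.Agent.Fischer891.FinalSp
import Cfsg.Agent.Fischer891.FinalSym
import Cfsg.Agent.Fischer891.FinalO
import Cfsg.Agent.Fischer919.FinalU
import Cfsg.Agent.Fischer919.OmegaMain
import Cfsg.Agent.Fischer545.TEight
import Cfsg.Agent.TSp.Orders

set_option autoImplicit false
open Cfsg

namespace Cfsg.Agent.S0480

/-- The simple 3-transposition groups: if a finite non-abelian simple group G is generated by a conjugacy class of 3-transpositions, then G is isomorphic to a symplectic group Sp(2n, 2), or to a projective special unitary group PSU(n, 2) (defined over the field with four elements), or to the projective commutator subgroup of an orthogonal group in odd dimension over the field with three elements, or G has order 64561751654400, or G has order 4089470473293004800. -/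
theorem result {G : Type*} [Group G] [Finite G] [IsSimpleGroup G] (hna : ∃ x y : G, x * y ≠ y * x) {D : Set G} (hD : Cfsg.IsThreeTranspositionClass D) : (∃ n : ℕ, Nonempty (G ≃* Matrix.symplecticGroup (Fin n) (ZMod 2))) ∨ (∃ (F : Type) (_ : Field F) (_ : Fintype F) (n : ℕ), Fintype.card F = 4 ∧ Nonempty (G ≃* Cfsg.PSU n F 2)) ∨ (∃ m : ℕ, Nonempty (G ≃* Cfsg.POmega (ZMod 3) (Cfsg.quadFormOdd m (ZMod 3)))) ∨ Cfsg.IsFi22 G ∨ Cfsg.IsFi23 G := by
  have hF := Cfsg.Agent.Fischer480.AllPieces.fgroup hna hD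
  have R := Cfsg.Agent.Fischer891.Cases.rk_of_fgroup hF
  rcases Cfsg.Agent.Fischer480.AllPieces.inList hF with
    ⟨n, hn, h⟩ | ⟨n, hn, h⟩ | ⟨n, hn, h⟩ | ⟨n, hn, h⟩ | ⟨n, hn, h⟩ | h | h | h
  · exact (Cfsg.Agent.Fischer891.FinalSym.not_simple_of_isSym R hn h).elim
  · exact Or.inl (Cfsg.Agent.Fischer891.FinalSp.exists_equiv_of_isSp R h)
  · exact (Cfsg.Agent.Fischer891.FinalO.not_simple_of_isO R hn h).elim
  · exact Or.inr (Or.inl (Cfsg.Agent.Fischer919.FinalU.psu_of_isU hna hF hn h))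
  · exact Or.inr (Or.inr (Or.inl (Cfsg.Agent.Fischer919.OmegaMain.pomega_of_isR hna hF hn h)))
  · refine Or.inr (Or.inr (Or.inr (Or.inl ⟨inferInstance, ?_⟩)))
    exact Cfsg.Agent.TSp.Orders.card_N6 ⟨R.fd, hF.sol, hF.perf⟩
      ⟨h.1, h.2.1, h.2.2⟩
  · refine Or.inr (Or.inr (Or.inr (Or.inr ⟨inferInstance, ?_⟩)))
    exact Cfsg.Agent.TSp.Orders.card_N7 ⟨R.fd, hF.sol, hF.perf⟩
      ⟨h.1, fun x hx => ⟨(h.2.1 x hx).1, (h.2.1 x hx).2.1, (h.2.1 x hx).2.2⟩, h.2.2⟩
  · exact (Cfsg.Agent.Fischer545.TEight.not_simple hD h inferInstance).elim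

end Cfsg.Agent.S0480
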