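import Cfsg.Statements.S1770
import Cfsg.Agent.HexGlob.GlobFrame
import Cfsg.Agent.HexRec.Instances
import Cfsg.Agent.HexTwoGlob.TwoUncond

set_option autoImplicit false
open Cfsg

namespace Cfsg.Agent.S1770

/-- Let G be a finite simple group and S a Sylow 2-subgroup of G. (1) If S is isomorphic to a Sylow 2-subgroup of the Chevalley group of type G₂ over a field F with 2^r elements, r ≥ 2, then G is isomorphic to that group. (2) If S is isomorphic to a Sylow 2-subgroup of the triality-twisted group of type D₄ with parameter 2^r (realised over a field K with 8^r elements), r ≥ 1, then G is isomorphic to that group. -/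
theorem result {G : Type*} [Group G] [Finite G] [IsSimpleGroup G]
    (S : Sylow 2 G) (r : ℕ) :
    (∀ (F : Type) [Field F] [Fintype F], 2 ≤ r → Fintype.card F = 2 ^ r →
        ∀ P : Sylow 2 ↥(Cfsg.Lie.chevG2.group F), Nonempty (↥(S : Subgroup G) ≃* ↥(P : Subgroup ↥(Cfsg.Lie.chevG2.group F))) →
          Nonempty (G ≃* ↥(Cfsg.Lie.chevG2.group F))) ∧
      (∀ (K : Type) [Field K] [Fintype K], 1 ≤ r → Fintype.card K = 8 ^ r →
        ∀ P : Sylow 2 ↥(Cfsg.Lie.twistedD4 K (2 ^ r)), Nonempty (↥(S : Subgroup G) ≃* ↥(P : Subgroup ↥(Cfsg.Lie.twistedD4 K (2 ^ r)))) →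
          Nonempty (G ≃* ↥(Cfsg.Lie.twistedD4 K (2 ^ r)))) := by
  exact Cfsg.Agent.HexGlob.FinalS.main Cfsg.Agent.HexGlob.GlobFrame.globalFrame
    Cfsg.Agent.HexRec.Instances.instG2 Cfsg.Agent.HexRec.Instances.instD4
    Cfsg.Agent.HexTwoGlob.TwoUncond.twoD4 S r

end Cfsg.Agent.S1770
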