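import Cfsg.Statements.S0537
import Cfsg.Agent.S0536
import Mathlib

set_option autoImplicit false
open Cfsg

namespace Cfsg.Agent.S0537

/-- If `g` normalizes the abelian `q`-group `Q`, has order prime to `q` and centralizes all
elements of order dividing `q` of `Q`, then it centralizes `Q`. -/
theorem commute_of_commute_omega {G : Type*} [Group G] (Q : Subgroup G) (q : ℕ)
    (hQab : ∀ x ∈ Q, ∀ y ∈ Q, x * y = y * x) (g : G)
    (hg : ∀ x ∈ Q, g * x * g⁻¹ ∈ Q) (n : ℕ) (hn : Nat.Coprime n q) (hgn : g ^ n = 1)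
    (hom : ∀ x ∈ Q, x ^ q = 1 → g * x = x * g) (k : ℕ) :
    ∀ x ∈ Q, x ^ (q ^ k) = 1 → g * x = x * g := by
  induction k with
  | zero =>
    intro x _ hx
    have : x = 1 := by simpa using hx
    subst this
    simp
  | succ k ih =>
    intro x hxQ hx
    -- y = x^q is centralized by g
    have hxq : g * x ^ q = x ^ q * g := by
      apply ih (x ^ q) (pow_mem hxQ q)
      rw [← pow_mul, ← pow_succ']
      exact hx
    -- z = g x g⁻¹ x⁻¹
    set z : G := g * x * g⁻¹ * x⁻¹ with hz
    have hzQ : z ∈ Q := mul_mem (hg x hxQ) (inv_mem hxQ)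
    have hgxg : g * x * g⁻¹ = z * x := by rw [hz]; group
    have hzq : z ^ q = 1 := by
      have hc : Commute (g * x * g⁻¹) x⁻¹ :=
        hQab _ (hg x hxQ) _ (inv_mem hxQ)
      rw [hz, hc.mul_pow, conj_pow, hxq]
      group
    have hzg : g * z = z * g := hom z hzQ hzq
    have hzx : z * x = x * z := hQab _ hzQ _ hxQ
    -- g^m x g^-m = z^m x
    have hpow : ∀ m : ℕ, g ^ m * x = z ^ m * x * g ^ m := by
      intro m
      induction m with
      | zero => simp
      | succ m ihm =>
        have h1 : g * x = z * x * g := by rw [← hgxg]; group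
        have hzm : g * z ^ m = z ^ m * g := (Commute.pow_right (show Commute g z from hzg) m)
        calc g ^ (m + 1) * x = g * (g ^ m * x) := by rw [pow_succ']; group
          _ = g * (z ^ m * x * g ^ m) := by rw [ihm]
          _ = (g * z ^ m) * x * g ^ m := by group
          _ = z ^ m * (g * x) * g ^ m := by rw [hzm]; group
          _ = z ^ m * (z * x * g) * g ^ m := by rw [h1]
          _ = z ^ (m + 1) * x * g ^ (m + 1) := by rw [pow_succ z, pow_succ' g]; group
    have hzn : z ^ n = 1 := by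
      have := hpow n
      rw [hgn] at this
      simp only [one_mul, mul_one] at this
      have h2 : z ^ n * x = 1 * x := by rw [one_mul]; exact this.symm
      exact mul_right_cancel h2
    have hz1 : z = 1 := by
      have h1 : orderOf z ∣ n := orderOf_dvd_of_pow_eq_one hzn
      have h2 : orderOf z ∣ q := orderOf_dvd_of_pow_eq_one hzq
      have h3 : orderOf z ∣ Nat.gcd n q := Nat.dvd_gcd h1 h2
      rw [hn] at h3
      exact orderOf_eq_one_iff.mp (Nat.dvd_one.mp h3)
    rw [hz1] at hgxg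
    calc g * x = (g * x * g⁻¹) * g := by group
      _ = 1 * x * g := by rw [hgxg]
      _ = x * g := by group

/-- A finite nilpotent non-abelian group all of whose proper subgroups are abelian is a `p`-group. -/
theorem isPGroup_of_isNilpotent {G : Type*} [Group G] [Finite G] (hna : ¬ IsMulCommutative G)
    (h : ∀ H : Subgroup G, H ≠ ⊤ → IsMulCommutative H) (hnil : Group.IsNilpotent G) :
    ∃ p : ℕ, p.Prime ∧ IsPGroup p G := by
  classical
  by_contra hcon
  push Not at hcon
  apply hna
  -- every Sylow subgroup is abelian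
  have hsyl : ∀ (p : ℕ) (_ : Fact p.Prime) (P : Sylow p G), IsMulCommutative (P : Subgroup G) := by
    intro p hp P
    apply h
    intro htop
    apply hcon p hp.out
    have := P.isPGroup'
    rw [htop] at this
    exact this.of_equiv Subgroup.topEquiv
  haveI := hnil
  obtain ⟨e⟩ := (Group.isNilpotent_of_finite_tfae (G := G)).out 0 4 |>.mp hnil
  have hcomm : ∀ a b : (∀ p : (Nat.card G).primeFactors, ∀ P : Sylow p G, (P : Subgroup G)), a * b = b * a := by
    intro a b
    funext p P
    have hp : Fact (p : ℕ).Prime := ⟨Nat.prime_of_mem_primeFactors p.2⟩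
    have := hsyl p hp P
    exact this.is_comm.comm (a p P) (b p P)
  constructor
  constructor
  intro x y
  have := hcomm (e.symm x) (e.symm y)
  have h2 := congrArg e this
  simpa using h2

theorem result {G : Type*} [Group G] [Finite G] (hna : ¬ IsMulCommutative G) (h : ∀ H : Subgroup G, H ≠ ⊤ → IsMulCommutative H) : (∃ p : ℕ, p.Prime ∧ IsPGroup p G) ∨ ∃ p q : ℕ, p.Prime ∧ q.Prime ∧ p ≠ q ∧ ∃ (P : Sylow p G) (Q : Sylow q G), IsCyclic P ∧ (Q : Subgroup G).Normal ∧ Cfsg.IsElementaryAbelian q (Q : Subgroup G) ∧ (P : Subgroup G) ⊔ Q = ⊤ := by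
  by_cases hnil : Group.IsNilpotent G
  · exact Or.inl (isPGroup_of_isNilpotent hna h hnil)
  right
  have hmin : Cfsg.IsMinimalNonNilpotent G := by
    refine ⟨hnil, fun H hH => ?_⟩
    have := h H hH
    letI : CommGroup H := { mul_comm := this.is_comm.comm }
    infer_instance
  obtain ⟨p, q, hp, hq, hpq, P, Q, hPc, hQn, hsup⟩ := Cfsg.Agent.S0536.result hmin
  refine ⟨p, q, hp, hq, hpq, P, Q, hPc, hQn, ?_, hsup⟩
  haveI : Fact p.Prime := ⟨hp⟩
  haveI : Fact q.Prime := ⟨hq⟩
  have hQtop : (Q : Subgroup G) ≠ ⊤ := by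
    intro htop
    apply hnil
    have h1 := Q.isPGroup'
    rw [htop] at h1
    have h2 : IsPGroup q G := h1.of_equiv Subgroup.topEquiv
    exact h2.isNilpotent
  have hQab := h _ hQtop
  have hQab' : ∀ x ∈ (Q : Subgroup G), ∀ y ∈ (Q : Subgroup G), x * y = y * x := by
    intro x hx y hy
    have := hQab.is_comm.comm (⟨x, hx⟩ : (Q : Subgroup G)) ⟨y, hy⟩
    exact congrArg Subtype.val this
  refine ⟨hQab, ?_⟩
  -- the subgroup of elements killed by q
  let R : Subgroup G :=
    { carrier := {x | x ∈ (Q : Subgroup G) ∧ x ^ q = 1}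
      one_mem' := ⟨one_mem _, one_pow _⟩
      mul_mem' := by
        rintro a b ⟨ha, ha'⟩ ⟨hb, hb'⟩
        refine ⟨mul_mem ha hb, ?_⟩
        have hc : Commute a b := hQab' a ha b hb
        rw [hc.mul_pow, ha', hb', one_mul]
      inv_mem' := by
        rintro a ⟨ha, ha'⟩
        exact ⟨inv_mem ha, by rw [inv_pow, ha', inv_one]⟩ }
  have hRQ : R ≤ (Q : Subgroup G) := fun x hx => hx.1
  haveI hRn : R.Normal := by
    constructor
    rintro x ⟨hx, hx'⟩ g
    exact ⟨hQn.conj_mem x hx g, by rw [conj_pow, hx']; group⟩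
  by_contra hcon
  -- R P is proper
  have hRP : R ⊔ (P : Subgroup G) ≠ ⊤ := by
    intro htop
    apply hcon
    intro a ha
    -- a = r * s, r ∈ R, s ∈ P
    have ha' : a ∈ R ⊔ (P : Subgroup G) := by rw [htop]; trivial
    rw [← SetLike.mem_coe, Subgroup.normal_mul] at ha'
    obtain ⟨r, hr, s, hs, rfl⟩ := Set.mem_mul.mp ha'
    have hsQ : s ∈ (Q : Subgroup G) := by
      have := mul_mem (inv_mem (hRQ hr)) ha
      simpa using this
    have hdisj : Disjoint (P : Subgroup G) (Q : Subgroup G) :=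
      IsPGroup.disjoint_of_ne p q hpq _ _ P.isPGroup' Q.isPGroup'
    have hs1 : s = 1 := by
      have : s ∈ (P : Subgroup G) ⊓ Q := ⟨hs, hsQ⟩
      rw [hdisj.eq_bot] at this
      exact this
    rw [hs1, mul_one]
    exact hr.2
  have hRPab := h _ hRP
  -- P centralizes Q
  have hPQ : ∀ g ∈ (P : Subgroup G), ∀ x ∈ (Q : Subgroup G), g * x = x * g := by
    intro g hg x hx
    obtain ⟨k, hk⟩ := P.isPGroup' ⟨g, hg⟩
    obtain ⟨l, hl⟩ := Q.isPGroup' ⟨x, hx⟩
    have hk' : g ^ (p ^ k) = 1 := congrArg Subtype.val hk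
    have hl' : x ^ (q ^ l) = 1 := congrArg Subtype.val hl
    refine commute_of_commute_omega (Q : Subgroup G) q hQab' g (fun y hy => hQn.conj_mem y hy g)
      (p ^ k) (Nat.Coprime.pow_left k ((Nat.coprime_primes hp hq).mpr hpq)) hk' ?_ l x hx hl'
    intro y hy hy'
    have hyR : y ∈ R ⊔ (P : Subgroup G) := Subgroup.mem_sup_left ⟨hy, hy'⟩
    have hgR : g ∈ R ⊔ (P : Subgroup G) := Subgroup.mem_sup_right hg
    have := hRPab.is_comm.comm (⟨g, hgR⟩ : (R ⊔ (P : Subgroup G) : Subgroup G)) ⟨y, hyR⟩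
    exact congrArg Subtype.val this
  have hPtop : (P : Subgroup G) ≠ ⊤ := by
    intro htop
    apply hnil
    have h1 := P.isPGroup'
    rw [htop] at h1
    have h2 : IsPGroup p G := h1.of_equiv Subgroup.topEquiv
    exact h2.isNilpotent
  have hPab := h _ hPtop
  have hPab' : ∀ x ∈ (P : Subgroup G), ∀ y ∈ (P : Subgroup G), x * y = y * x := by
    intro x hx y hy
    have := hPab.is_comm.comm (⟨x, hx⟩ : (P : Subgroup G)) ⟨y, hy⟩
    exact congrArg Subtype.val this
  -- G is abelian
  apply hna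
  constructor
  constructor
  intro x y
  have hmem : ∀ a : G, ∃ s ∈ (P : Subgroup G), ∃ t ∈ (Q : Subgroup G), s * t = a := by
    intro a
    have ha : a ∈ (P : Subgroup G) ⊔ Q := by rw [hsup]; trivial
    rw [← SetLike.mem_coe, Subgroup.mul_normal] at ha
    obtain ⟨s, hs, t, ht, rfl⟩ := Set.mem_mul.mp ha
    exact ⟨s, hs, t, ht, rfl⟩
  obtain ⟨s, hs, t, ht, rfl⟩ := hmem x
  obtain ⟨u, hu, v, hv, rfl⟩ := hmem y
  calc s * t * (u * v) = s * (t * u) * v := by group
    _ = s * (u * t) * v := by rw [hPQ u hu t ht]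
    _ = (s * u) * (t * v) := by group
    _ = (u * s) * (v * t) := by rw [hPab' s hs u hu, hQab' t ht v hv]
    _ = u * (s * v) * t := by group
    _ = u * (v * s) * t := by rw [hPQ s hs v hv]
    _ = u * v * (s * t) := by group

end Cfsg.Agent.S0537
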