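import Cfsg.Statements.S0910
import Cfsg.Agent.Blocks.Local
import Cfsg.Agent.Characters.Central
import Cfsg.Agent.S0138
import Cfsg.Agent.S0142

set_option autoImplicit false
open Cfsg

namespace Cfsg.Agent.S0910

/-- Some nonidentity element of a nontrivial finite group has a centralizer of index prime to `p`. -/
theorem exists_ne_one_not_dvd_index {G : Type*} [Group G] [Finite G] [Nontrivial G] (p : ℕ)
    [Fact p.Prime] :
    ∃ x : G, x ≠ 1 ∧ ¬ p ∣ (Subgroup.centralizer ({x} : Set G)).index := by
  obtain ⟨P⟩ : Nonempty (Sylow p G) := inferInstance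
  obtain ⟨x, hx1, hx⟩ : ∃ x : G, x ≠ 1 ∧ (P : Subgroup G) ≤ Subgroup.centralizer ({x} : Set G) := by
    by_cases hP : (P : Subgroup G) = ⊥
    · obtain ⟨x, hx⟩ := exists_ne (1 : G)
      exact ⟨x, hx, by rw [hP]; exact bot_le⟩
    · have hnt : Nontrivial P := (Subgroup.nontrivial_iff_ne_bot _).mpr hP
      have hc : Nontrivial (Subgroup.center P) := IsPGroup.center_nontrivial P.isPGroup'
      obtain ⟨z, hz⟩ := exists_ne (1 : Subgroup.center P)
      refine ⟨((z : P) : G), ?_, ?_⟩
      · intro h
        apply hz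
        ext
        simpa using h
      · intro y hy
        rw [Subgroup.mem_centralizer_singleton_iff]
        have h1 := Subgroup.mem_center_iff.mp z.2 ⟨y, hy⟩
        have h2 := congrArg (Subtype.val : P → G) h1
        exact h2
  refine ⟨x, hx1, fun hdvd => ?_⟩
  exact P.not_dvd_index (hdvd.trans (Subgroup.index_dvd_of_le hx))

/-- Let G be a non-abelian finite simple group and p a prime. If an irreducible character χ lies in the principal block (relative to a maximal ideal of the algebraic integers containing p) and χ 1 is a power of p, then χ is the principal character. -/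
theorem result {G : Type*} [Group G] [Finite G] (p : ℕ) [Fact p.Prime] (M : Ideal Cfsg.AlgInt) (hM : Cfsg.IsPModular p M) [IsSimpleGroup G] (hna : ∃ a b : G, a * b ≠ b * a) (χ : Cfsg.IrrCharacter G) (hχ : χ ∈ Cfsg.principalBlock M G) (k : ℕ) (hdeg : (χ : G → ℂ) 1 = (p : ℂ) ^ k) : (χ : G → ℂ) = fun _ => 1 := by
  obtain ⟨χ, n, ρ, hρ, rfl⟩ := χ
  have hn : n = p ^ k := by
    have h1 : ρ.character 1 = (p : ℂ) ^ k := hdeg
    rw [Representation.char_one, Module.finrank_fin_fun] at h1
    exact_mod_cast h1
  obtain ⟨x, hx1, hx⟩ := exists_ne_one_not_dvd_index (G := G) p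
  have hp : p.Prime := Fact.out
  have hcop : Nat.Coprime (Module.finrank ℂ (Fin n → ℂ))
      (Subgroup.centralizer ({x} : Set G)).index := by
    rw [Module.finrank_fin_fun, hn]
    exact Nat.Coprime.pow_left k ((Nat.Prime.coprime_iff_not_dvd hp).mpr hx)
  have hPr := Cfsg.Agent.Blocks.Local.isPrime_of_isPModular hM
  have hchx : ρ.character x ≠ 0 := by
    intro h0
    have h1 : MemLocalIdeal M (centralChar (fun _ : G => (1 : ℂ)) x - centralChar ρ.character x) :=
      hχ x
    have h2 : centralChar (fun _ : G => (1 : ℂ)) x - centralChar ρ.character x =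
        ((Subgroup.centralizer ({x} : Set G)).index : ℂ) := by
      simp [centralChar, h0]
    rw [h2, Cfsg.Agent.Blocks.Local.memLocalIdeal_natCast_iff hM] at h1
    exact hx h1
  have := hρ
  have hnorm := (Cfsg.Agent.S0142.result ρ x hcop).resolve_left hchx
  obtain ⟨w, hw⟩ := (Cfsg.Agent.S0138.result ρ x).mp hnorm
  -- the elements acting as scalars form a normal subgroup
  let Z : Subgroup G :=
    { carrier := {g | ∃ c : ℂ, ρ g = c • (LinearMap.id : (Fin n → ℂ) →ₗ[ℂ] (Fin n → ℂ))}
      one_mem' := ⟨1, by rw [map_one, one_smul]; rfl⟩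
      mul_mem' := by
        rintro a b ⟨c, hc⟩ ⟨d, hd⟩
        refine ⟨c * d, ?_⟩
        rw [map_mul, hc, hd]
        ext v i
        simp [mul_assoc, mul_left_comm]
      inv_mem' := by
        rintro a ⟨c, hc⟩
        refine ⟨c⁻¹, ?_⟩
        by_cases hc0 : c = 0
        · have h1 : ρ a⁻¹ * ρ a = 1 := by rw [← map_mul, inv_mul_cancel, map_one]
          rw [hc, hc0, zero_smul, mul_zero] at h1
          have h2 : ∀ f : Module.End ℂ (Fin n → ℂ), f = 0 := fun f => by
            rw [← mul_one f, ← h1, mul_zero]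
          rw [h2 (ρ a⁻¹), hc0, inv_zero, zero_smul]
        · have h1 : ρ a⁻¹ * ρ a = 1 := by rw [← map_mul, inv_mul_cancel, map_one]
          rw [hc] at h1
          have h2 : c • ρ a⁻¹ = 1 := by
            rw [← h1]
            ext v i
            simp
          rw [← inv_smul_smul₀ hc0 (ρ a⁻¹), h2]
          rfl }
  have hZn : Z.Normal := by
    constructor
    rintro a ⟨c, hc⟩ g
    refine ⟨c, ?_⟩
    have h1 : ρ g * ρ g⁻¹ = 1 := by rw [← map_mul, mul_inv_cancel, map_one]
    rw [map_mul, map_mul, hc]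
    have : ρ g * (c • (LinearMap.id : (Fin n → ℂ) →ₗ[ℂ] (Fin n → ℂ))) * ρ g⁻¹ =
        c • (ρ g * ρ g⁻¹) := by
      ext v i
      simp
    rw [this, h1]
    rfl
  have hZtop : Z = ⊤ := by
    rcases hZn.eq_bot_or_eq_top with h | h
    · exact absurd ((Subgroup.mem_bot).mp (h ▸ (⟨w, hw⟩ : x ∈ Z))) hx1
    · exact h
  have hZall : ∀ g : G, ∃ c : ℂ, ρ g = c • (LinearMap.id : (Fin n → ℂ) →ₗ[ℂ] (Fin n → ℂ)) := by
    intro g
    have : g ∈ Z := by rw [hZtop]; trivial
    exact this
  -- the kernel is everything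
  have hker : (MonoidHom.ker ρ : Subgroup G) = ⊤ := by
    rcases (MonoidHom.normal_ker ρ).eq_bot_or_eq_top with h | h
    · exfalso
      obtain ⟨a, b, hab⟩ := hna
      have h1 : a * b * (b * a)⁻¹ ∈ (MonoidHom.ker ρ : Subgroup G) := by
        rw [MonoidHom.mem_ker]
        have h2 : ρ (a * b) = ρ (b * a) := by
          obtain ⟨c, hc⟩ := hZall a
          obtain ⟨d, hd⟩ := hZall b
          rw [map_mul, map_mul, hc, hd]
          ext v i
          simp [mul_left_comm]
        rw [map_mul, h2, ← map_mul, mul_inv_cancel, map_one]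
      rw [h, Subgroup.mem_bot, mul_inv_eq_one] at h1
      exact hab h1
    · exact h
  have hchar : ∀ g : G, ρ.character g = (n : ℂ) := by
    intro g
    have h1 : g ∈ (MonoidHom.ker ρ : Subgroup G) := by rw [hker]; trivial
    rw [MonoidHom.mem_ker] at h1
    change LinearMap.trace ℂ _ (ρ g) = _
    rw [h1, LinearMap.trace_one, Module.finrank_fin_fun]
  have := Fintype.ofFinite G
  have hsum := Cfsg.Agent.Characters.Central.sum_char_mul_char_inv ρ hρ
  simp only [hchar, Finset.sum_const, Finset.card_univ, Fintype.card_eq_nat_card,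
    nsmul_eq_mul] at hsum
  have hG : (Nat.card G : ℂ) ≠ 0 := by exact_mod_cast Nat.card_pos.ne'
  have hnn : (n : ℂ) * n = 1 := by
    have := mul_left_cancel₀ hG (hsum.trans (mul_one _).symm)
    exact this
  have hn1 : n = 1 := by
    have h2 : n * n = 1 := by exact_mod_cast hnn
    exact Nat.eq_one_of_mul_eq_one_left h2
  funext g
  change ρ.character g = 1
  rw [hchar g, hn1, Nat.cast_one]

end Cfsg.Agent.S0910
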