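import Cfsg.Statements.S0904
import Mathlib
import Cfsg.Agent.S0907
import Cfsg.Agent.S0910
import Cfsg.Agent.S0165
import Cfsg.Agent.S0135
import Cfsg.Agent.Characters.Core
import Cfsg.Agent.Characters.Values
import Cfsg.Agent.Blocks.Local
import Cfsg.Agent.Blocks.ExistsModular

set_option autoImplicit false
open Cfsg

namespace Cfsg.Agent.S0904

open scoped ComplexConjugate
open Cfsg.Agent.Blocks.ExistsModular

universe u

/-- A finite sum of multiples of `q` by algebraic integers is such a multiple. -/
theorem sum_mul {ι : Type*} (q : ℂ) (s : Finset ι) (f : ι → ℂ)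
    (h : ∀ i ∈ s, ∃ z : ℂ, IsIntegral ℤ z ∧ f i = q * z) :
    ∃ z : ℂ, IsIntegral ℤ z ∧ ∑ i ∈ s, f i = q * z := by
  classical
  induction s using Finset.induction_on with
  | empty => exact ⟨0, isIntegral_zero, by simp⟩
  | insert a s ha ih =>
    obtain ⟨z, hz, hz'⟩ := h a (Finset.mem_insert_self _ _)
    obtain ⟨w, hw, hw'⟩ := ih fun i hi => h i (Finset.mem_insert_of_mem hi)
    exact ⟨z + w, hz.add hw, by rw [Finset.sum_insert ha, hz', hw']; ring⟩

theorem key {G : Type u} [Group G] [Finite G] [IsSimpleGroup G]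
    (hna : ∃ a b : G, a * b ≠ b * a) (p q r a b : ℕ) (hp : p.Prime) (hq : q.Prime)
    (hr : r.Prime) (hpr : p ≠ r) (hqr : q ≠ r)
    (hcard : Nat.card G = p ^ a * q ^ b * r) (g : G) (hpg : p ∣ orderOf g)
    (hrg : r ∣ orderOf g) : False := by
  classical
  have : Fact p.Prime := ⟨hp⟩
  have : Finite (IrrCharacter G) := Cfsg.Agent.Characters.Core.finite_irr
  obtain ⟨M, hM⟩ := exists_isPModular hp
  let χ₁ : IrrCharacter G := ⟨fun _ => 1, Cfsg.Agent.Characters.Core.isIrr_one⟩
  have hprime := Cfsg.Agent.Blocks.Local.isPrime_of_isPModular hM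
  have h1B : χ₁ ∈ principalBlock M G := by
    intro g
    show MemLocalIdeal M _
    rw [sub_self]
    exact Cfsg.Agent.Blocks.Local.memLocalIdeal_zero
  have hsum := Cfsg.Agent.S0907.result p M hM (principalBlock M G) ⟨χ₁, rfl⟩ 1 g
    (by rw [orderOf_one]; exact fun h => hp.one_lt.ne' (Nat.dvd_one.1 h)) hpg
  have hfin : (principalBlock M G).Finite := Set.toFinite _
  rw [finsum_mem_eq_finite_toFinset_sum _ hfin,
    ← Finset.add_sum_erase _ _ (hfin.mem_toFinset.2 h1B)] at hsum
  obtain ⟨z, hz, hz'⟩ := sum_mul (q : ℂ) (hfin.toFinset.erase χ₁)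
    (fun χ => (χ : G → ℂ) 1 * conj ((χ : G → ℂ) g)) (by
      intro χ hχ
      rw [Finset.mem_erase, hfin.mem_toFinset] at hχ
      obtain ⟨hχ1, hχB⟩ := hχ
      obtain ⟨n, ρ, hρ, hρχ⟩ := χ.2
      have := hρ
      have hn : (χ : G → ℂ) 1 = (n : ℂ) := by
        rw [← hρχ, Representation.char_one]
        simp
      have hint : IsIntegral ℤ ((χ : G → ℂ) g) := by
        rw [← hρχ]
        exact Cfsg.Agent.Characters.Values.character_isIntegral ρ g
      have hint' : IsIntegral ℤ (conj ((χ : G → ℂ) g)) :=
        hint.map ((starRingEnd ℂ).toIntAlgHom)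
      by_cases hrn : r ∣ n
      · refine ⟨0, isIntegral_zero, ?_⟩
        have h0 : (χ : G → ℂ) g = 0 := by
          rw [← hρχ]
          refine Cfsg.Agent.S0165.result ρ r 1 hr ?_ ?_ ?_ g hrg
          · rw [pow_one, hcard]
            exact Dvd.intro_left _ rfl
          · rw [hcard]
            intro hd
            have hd' : r * r ∣ p ^ a * q ^ b * r := by
              simpa [pow_succ] using hd
            have hd'' : r ∣ p ^ a * q ^ b := Nat.dvd_of_mul_dvd_mul_right hr.pos hd'
            rcases (Nat.Prime.dvd_mul hr).1 hd'' with h | h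
            · exact hpr ((Nat.prime_dvd_prime_iff_eq hr hp).1 (hr.dvd_of_dvd_pow h)).symm
            · exact hqr ((Nat.prime_dvd_prime_iff_eq hr hq).1 (hr.dvd_of_dvd_pow h)).symm
          · simpa using hrn
        simp [h0]
      by_cases hqn : q ∣ n
      · obtain ⟨m, rfl⟩ := hqn
        refine ⟨m * conj ((χ : G → ℂ) g), (isIntegral_natCast m).mul hint', ?_⟩
        rw [hn]
        push_cast
        ring
      · exfalso
        have hdvd : n ∣ Nat.card G := by
          have := Cfsg.Agent.S0135.result ρ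
          simpa using this
        rw [hcard] at hdvd
        have h1 : n ∣ p ^ a * q ^ b :=
          Nat.Coprime.dvd_of_dvd_mul_right
            ((Nat.Prime.coprime_iff_not_dvd hr).2 hrn).symm hdvd
        have h2 : n ∣ p ^ a :=
          Nat.Coprime.dvd_of_dvd_mul_right
            (((Nat.Prime.coprime_iff_not_dvd hq).2 hqn).symm.pow_right b) h1
        obtain ⟨k, _, hk⟩ := (Nat.dvd_prime_pow hp).1 h2
        apply hχ1
        apply Subtype.ext
        refine Cfsg.Agent.S0910.result p M hM hna χ hχB k ?_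
        rw [hn, hk]
        push_cast
        rfl)
  rw [hz'] at hsum
  have h2 : (1 : ℂ) + q * z = 0 := by
    have h3 : ((χ₁ : G → ℂ) 1 * conj ((χ₁ : G → ℂ) g)) = 1 := by
      show (1 : ℂ) * conj (1 : ℂ) = 1
      simp
    rw [h3] at hsum
    exact hsum
  have hq0 : (q : ℂ) ≠ 0 := by exact_mod_cast hq.ne_zero
  have h4 : (q : ℂ)⁻¹ = -z := by
    field_simp
    linear_combination h2
  exact not_isIntegral_inv hq (h4 ▸ hz.neg)

/-- Let G be a finite simple group of order p ^ a * q ^ b * r with p, q, r distinct primes. Then every Sylow r-subgroup S of G satisfies C_G(S) = S. -/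
theorem result {G : Type*} [Group G] [Finite G] [IsSimpleGroup G] (p q r a b : ℕ) (hp : p.Prime) (hq : q.Prime) [Fact r.Prime] (hpq : p ≠ q) (hpr : p ≠ r) (hqr : q ≠ r) (hcard : Nat.card G = p ^ a * q ^ b * r) (S : Sylow r G) : Subgroup.centralizer (S : Set G) = (S : Subgroup G) := by
  have hr : r.Prime := Fact.out
  have hrr : ¬ r ∣ p ^ a * q ^ b := by
    intro h
    rcases (Nat.Prime.dvd_mul hr).1 h with h | h
    · exact hpr ((Nat.prime_dvd_prime_iff_eq hr hp).1 (hr.dvd_of_dvd_pow h)).symm
    · exact hqr ((Nat.prime_dvd_prime_iff_eq hr hq).1 (hr.dvd_of_dvd_pow h)).symm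
  have hScard : Nat.card (S : Subgroup G) = r := by
    rw [S.card_eq_multiplicity, hcard]
    have hne : p ^ a * q ^ b ≠ 0 :=
      mul_ne_zero (pow_ne_zero _ hp.ne_zero) (pow_ne_zero _ hq.ne_zero)
    rw [Nat.factorization_mul hne hr.ne_zero, Finsupp.add_apply,
      Nat.factorization_eq_zero_of_not_dvd hrr, hr.factorization_self, zero_add, pow_one]
  by_cases hna : ∃ a b : G, a * b ≠ b * a
  · have : IsCyclic (S : Subgroup G) := isCyclic_of_prime_card hScard
    have hle : (S : Subgroup G) ≤ Subgroup.centralizer (S : Set G) := by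
      intro x hx
      rw [Subgroup.mem_centralizer_iff]
      intro y hy
      have hcomm : IsMulCommutative (S : Subgroup G) := IsCyclic.isMulCommutative
      have h2 := hcomm.is_comm.comm ⟨y, hy⟩ ⟨x, hx⟩
      exact congrArg Subtype.val h2
    by_contra hne
    have hcardC : Nat.card (Subgroup.centralizer (S : Set G)) ∣ p ^ a * q ^ b * r := by
      rw [← hcard]
      exact Subgroup.card_subgroup_dvd_card _
    have hdvd : r ∣ Nat.card (Subgroup.centralizer (S : Set G)) := by
      have := Subgroup.card_dvd_of_le hle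
      rwa [hScard] at this
    obtain ⟨m, hm⟩ := hdvd
    have hm1 : m ≠ 1 := by
      rintro rfl
      rw [mul_one] at hm
      apply hne
      exact (Subgroup.eq_of_le_of_card_ge hle (by rw [hm, hScard])).symm
    obtain ⟨l, hl, hlm⟩ := Nat.exists_prime_and_dvd hm1
    have hm2 : m ∣ p ^ a * q ^ b := by
      rw [hm, mul_comm (p ^ a * q ^ b) r] at hcardC
      exact Nat.dvd_of_mul_dvd_mul_left hr.pos hcardC
    have hlC : l ∣ Nat.card (Subgroup.centralizer (S : Set G)) := by
      rw [hm]
      exact hlm.mul_left r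
    have : Fact l.Prime := ⟨hl⟩
    obtain ⟨x, hx⟩ := exists_prime_orderOf_dvd_card' l hlC
    obtain ⟨y, hy⟩ := exists_prime_orderOf_dvd_card' r (G := (S : Subgroup G)) (by rw [hScard])
    have hlr : l ≠ r := by
      rintro rfl
      exact hrr (hlm.trans hm2)
    have hcomm : Commute (x : G) (y : G) := by
      have := Subgroup.mem_centralizer_iff.1 x.2 y y.2
      exact this.symm
    have hord : orderOf ((x : G) * (y : G)) = l * r := by
      have hx' : orderOf (x : G) = l := by rw [Subgroup.orderOf_coe]; exact hx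
      have hy' : orderOf (y : G) = r := by rw [Subgroup.orderOf_coe]; exact hy
      have := hcomm.orderOf_mul_eq_mul_orderOf_of_coprime (by
        rw [hx', hy']
        exact (Nat.coprime_primes hl hr).2 hlr)
      rw [this, hx', hy']
    have hl2 : l = p ∨ l = q := by
      rcases (Nat.Prime.dvd_mul hl).1 (hlm.trans hm2) with h | h
      · exact Or.inl ((Nat.prime_dvd_prime_iff_eq hl hp).1 (hl.dvd_of_dvd_pow h))
      · exact Or.inr ((Nat.prime_dvd_prime_iff_eq hl hq).1 (hl.dvd_of_dvd_pow h))
    rcases hl2 with rfl | rfl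
    · exact key hna l q r a b hp hq hr hpr hqr hcard _ (hord ▸ Dvd.intro _ rfl)
        (hord ▸ Dvd.intro_left _ rfl)
    · exact key hna l p r b a hq hp hr hqr hpr (by rw [hcard]; ring) _
        (hord ▸ Dvd.intro _ rfl) (hord ▸ Dvd.intro_left _ rfl)
  · push Not at hna
    have htop : Subgroup.centralizer (S : Set G) = ⊤ := by
      rw [eq_top_iff]
      intro x _
      rw [Subgroup.mem_centralizer_iff]
      intro y _
      exact hna y x
    have hnorm : (S : Subgroup G).Normal := ⟨fun n hn g => by
      rw [hna g n, mul_assoc, mul_inv_cancel, mul_one]; exact hn⟩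
    have hS : (S : Subgroup G) = ⊤ := by
      rcases IsSimpleGroup.eq_bot_or_eq_top_of_normal (S : Subgroup G) hnorm with h | h
      · exfalso
        rw [h, Subgroup.card_bot] at hScard
        exact hr.one_lt.ne hScard
      · exact h
    rw [htop, hS]

end Cfsg.Agent.S0904
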