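import Cfsg.Statements.S1001
import Cfsg.Agent.S0144
import Cfsg.Agent.S0904
import Mathlib.GroupTheory.Sylow
import Mathlib.GroupTheory.Solvable

set_option autoImplicit false
open Cfsg

namespace Cfsg.Agent.S1001

/-- In a finite simple group whose order has the form p * 3^a * 2^b with p prime, the centralizer of any element of order p is the cyclic group it generates. -/
theorem result {G : Type*} [Group G] [Finite G] [IsSimpleGroup G] (p a b : ℕ) (hp : p.Prime) (hG : Nat.card G = p * 3 ^ a * 2 ^ b) (x : G) (hx : orderOf x = p) : Subgroup.centralizer ({x} : Set G) = Subgroup.zpowers x := by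
  have hle : Subgroup.zpowers x ≤ Subgroup.centralizer ({x} : Set G) := by
    rw [Subgroup.zpowers_le, Subgroup.mem_centralizer_iff]
    rintro y rfl
    rfl
  by_cases h23 : p = 2 ∨ p = 3
  · -- the order has at most two prime divisors
    have hsol : Group.IsSolvable G := by
      rcases h23 with h | h
      · refine Cfsg.Agent.S0144.result 3 2 a (b + 1) Nat.prime_three Nat.prime_two ?_
        rw [hG, h]; ring
      · refine Cfsg.Agent.S0144.result 3 2 (a + 1) b Nat.prime_three Nat.prime_two ?_
        rw [hG, h]; ring
    have hcomm := (IsSimpleGroup.comm_iff_isSolvable (G := G)).2 hsol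
    have hx1 : x ≠ 1 := by
      rintro rfl
      rw [orderOf_one] at hx
      exact hp.one_lt.ne hx
    have htop : Subgroup.zpowers x = ⊤ := by
      have hn : (Subgroup.zpowers x).Normal := by
        refine ⟨fun n hn g => ?_⟩
        have : g * n * g⁻¹ = n := by rw [hcomm g n, mul_assoc, mul_inv_cancel, mul_one]
        rw [this]; exact hn
      rcases hn.eq_bot_or_eq_top with h | h
      · exact absurd (Subgroup.zpowers_eq_bot.1 h) hx1
      · exact h
    refine le_antisymm ?_ hle
    rw [htop]; exact le_top
  · push Not at h23
    obtain ⟨hp2, hp3⟩ := h23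
    have : Fact p.Prime := ⟨hp⟩
    have hcard : Nat.card G = 3 ^ a * 2 ^ b * p := by rw [hG]; ring
    have hP : IsPGroup p (Subgroup.zpowers x) :=
      IsPGroup.of_card (n := 1) (by rw [Nat.card_zpowers, hx, pow_one])
    obtain ⟨S, hS⟩ := hP.exists_le_sylow
    have hSC := Cfsg.Agent.S0904.result 3 2 p a b Nat.prime_three Nat.prime_two (by norm_num)
      (Ne.symm hp3) (Ne.symm hp2) hcard S
    have hScard : Nat.card S = p := by
      rw [S.card_eq_multiplicity, hcard]
      have h1 : ¬ p ∣ 3 ^ a * 2 ^ b := by
        intro h
        rcases (Nat.Prime.dvd_mul hp).1 h with h | h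
        · exact hp3 ((Nat.prime_dvd_prime_iff_eq hp Nat.prime_three).1 (hp.dvd_of_dvd_pow h))
        · exact hp2 ((Nat.prime_dvd_prime_iff_eq hp Nat.prime_two).1 (hp.dvd_of_dvd_pow h))
      rw [Nat.factorization_mul (by positivity) hp.ne_zero, Finsupp.add_apply,
        Nat.factorization_eq_zero_of_not_dvd h1, zero_add, hp.factorization_self, pow_one]
    have hSx : Subgroup.zpowers x = (S : Subgroup G) := by
      apply Subgroup.eq_of_le_of_card_ge hS
      rw [Nat.card_zpowers, hx]
      exact hScard.le
    have : Subgroup.centralizer ({x} : Set G) = Subgroup.centralizer (S : Set G) := by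
      rw [← Subgroup.centralizer_closure, ← Subgroup.zpowers_eq_closure, hSx]
      rfl
    rw [this, hSC, hSx]

end Cfsg.Agent.S1001
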