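import Cfsg.Statements.S1170
import Cfsg.Agent.ClassTwoFusion.Final
import Cfsg.Agent.ClassTwoFusion.RelMain
import Cfsg.Agent.TwoFusion.ClosedCommutator
import Cfsg.Agent.S0222
import Cfsg.Agent.S0483
import Cfsg.Agent.S1169
import Cfsg.Agent.S1296

set_option autoImplicit false
open Cfsg

namespace Cfsg.Agent.S1170

/-- Let G be a finite simple group and S a Sylow 2-subgroup of G containing a subgroup A of nilpotency class two (A is not commutative and its commutator subgroup is central in A) that is strongly closed in S. Then G is isomorphic to PSL(2,F) with the number of elements of F congruent to 7 or 9 modulo 16, to PSU(3) over a field with q² elements for q ≥ 4 a power of 2, to a simple group with the order of a Suzuki group, to PSL(3,F) or PSp(4,F) over a finite field F of characteristic 2 (with at least 4 elements in the symplectic case), or to the alternating group of degree 7. -/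
theorem result {G : Type*} [Group G] [Finite G] [IsSimpleGroup G] (S : Sylow 2 G) (A : Subgroup G) (hAS : Cfsg.IsStronglyClosed A (S : Subgroup G)) (hA1 : ¬ IsMulCommutative A) (hA2 : ⁅(⊤ : Subgroup A), ⊤⁆ ≤ Subgroup.center A) : (∃ (F : Type) (_ : Field F) (_ : Fintype F), (Fintype.card F % 16 = 7 ∨ Fintype.card F % 16 = 9) ∧ Nonempty (G ≃* Matrix.ProjectiveSpecialLinearGroup (Fin 2) F)) ∨ (∃ (F : Type) (_ : Field F) (_ : Fintype F) (q : ℕ), Fintype.card F = q ^ 2 ∧ Even q ∧ 4 ≤ q ∧ Nonempty (G ≃* Cfsg.PSU 3 F q)) ∨ Cfsg.IsSuzuki G ∨ (∃ (F : Type) (_ : Field F) (_ : Fintype F), CharP F 2 ∧ Nonempty (G ≃* Matrix.ProjectiveSpecialLinearGroup (Fin 3) F)) ∨ (∃ (F : Type) (_ : Field F) (_ : Fintype F), CharP F 2 ∧ 4 ≤ Fintype.card F ∧ Nonempty (G ≃* Cfsg.PSp 2 F)) ∨ Nonempty (G ≃* alternatingGroup (Fin 7)) :=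
  Cfsg.Agent.ClassTwoFusion.Final.concl
    (fun X _ _ _ S A h1 h2 h3 => Cfsg.Agent.S1169.result (G := X) S A h1 h2 h3)
    (fun X _ _ P A B h1 h2 h3 => Cfsg.Agent.TwoFusion.ClosedCommutator.commutator_le (G := X) P A B h1 h2 h3)
    (fun X _ _ h1 h2 h3 => Cfsg.Agent.S1296.result (G := X) h1 h2 h3)
    (fun X _ _ _ S n hn hS => Cfsg.Agent.S0483.result (X := X) S n hn hS)
    (fun X _ _ _ hna H hH => Cfsg.Agent.S0222.result (G := X) hna H hH)
    (fun _ _ _ _ _ S _ h𝒜 hcl hna hmin =>
      Cfsg.Agent.ClassTwoFusion.RelMain.exists_fullEdge h𝒜 S hcl hna hmin)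
    S A hAS hA1 hA2

end Cfsg.Agent.S1170
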