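import Cfsg.Statements.S1304
import Mathlib.GroupTheory.Abelianization.Defs
-- import your own Cfsg.Agent.* helpers here

set_option autoImplicit false
open Cfsg

namespace Cfsg.Agent.S1304

/-- Let X be a perfect group and α an automorphism of X with α(x) x⁻¹ central for every x. Then α is the identity. -/
theorem result {X : Type*} [Group X] (hperf : commutator X = ⊤) (α : X ≃* X) (h : ∀ x : X, α x * x⁻¹ ∈ Subgroup.center X) : ∀ x : X, α x = x := by
  classical
  let f : X →* X :=
    { toFun := fun x => α x * x⁻¹
      map_one' := by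
        simp
      map_mul' := by
        intro x y
        have hy := Subgroup.mem_center_iff.mp (h y)
        show α (x * y) * (x * y)⁻¹ = (α x * x⁻¹) * (α y * y⁻¹)
        have h1 : (α x * x⁻¹) * (α y * y⁻¹) = α x * (α y * y⁻¹) * x⁻¹ := by
          rw [mul_assoc, hy x⁻¹, ← mul_assoc]
        rw [h1, map_mul, mul_inv_rev]
        simp only [mul_assoc] }
  have hcomm : ∀ x y : X, f x * f y = f y * f x := fun x y =>
    Subgroup.mem_center_iff.mp (h y) (f x)
  have hle : commutator X ≤ f.ker := by
    rw [commutator_def, Subgroup.commutator_le]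
    intro a _ b _
    rw [MonoidHom.mem_ker, map_commutatorElement, commutatorElement_eq_one_iff_mul_comm]
    exact hcomm a b
  intro x
  have hx : x ∈ f.ker := hle (hperf ▸ Subgroup.mem_top x)
  have hx3 : α x * x⁻¹ = 1 := MonoidHom.mem_ker.mp hx
  exact mul_inv_eq_one.mp hx3

end Cfsg.Agent.S1304
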