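import Cfsg.Statements.S0495
import Cfsg.Agent.Classification.SimpleIndex
import Cfsg.Agent.SmallSimple.PSL2Recog
-- import your own Cfsg.Agent.* helpers here

set_option autoImplicit false
open Cfsg

namespace Cfsg.Agent.S0495

open Cfsg.Agent.Classification.SimpleIndex

/-- A simple group of order 168 has eight Sylow 7-subgroups. -/
theorem card_sylow_seven {G : Type*} [Group G] [Finite G] [IsSimpleGroup G] [Fact (Nat.Prime 7)]
    (h : Nat.card G = 168) : Nat.card (Sylow 7 G) = 8 := by
  have hG : ¬ IsMulCommutative G := not_comm_of_not_prime (by rw [h]; norm_num)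
  obtain ⟨P⟩ : Nonempty (Sylow 7 G) := inferInstance
  have hPcard : Nat.card P = 7 := by
    rw [P.card_eq_multiplicity, h]
    have : Nat.factorization 168 7 = 1 := by
      rw [show (168 : ℕ) = 7 ^ 1 * 24 by norm_num, Nat.factorization_mul (by norm_num) (by norm_num),
        Nat.Prime.factorization_pow (by norm_num)]
      simp [Nat.factorization_eq_zero_of_not_dvd (show ¬ 7 ∣ 24 by decide)]
    rw [this]; norm_num
  have hPindex : (P : Subgroup G).index = 24 := by
    have := (P : Subgroup G).card_mul_index
    rw [h] at this
    change Nat.card (P : Subgroup G) = 7 at hPcard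
    rw [hPcard] at this
    omega
  have hne : Nat.card (Sylow 7 G) ≠ 1 := card_sylow_ne_one hG 7 (by rw [h]; decide)
  have hdvd : Nat.card (Sylow 7 G) ∣ 24 := hPindex ▸ P.card_dvd_index
  have hmod : Nat.card (Sylow 7 G) % 7 = 1 := card_sylow_modEq_one 7 G
  have hle : Nat.card (Sylow 7 G) ≤ 24 := Nat.le_of_dvd (by norm_num) hdvd
  generalize Nat.card (Sylow 7 G) = n at hne hdvd hmod hle
  interval_cases n <;> revert hdvd hne hmod <;> decide

/-- A simple group of order 168 is isomorphic to the projective special linear group of dimension 2 over the field with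
7 elements. -/
theorem result {G : Type*} [Group G] [Finite G] [IsSimpleGroup G]
    (h : Nat.card G = 168) {F : Type*} [Field F] [Fintype F] (hF : Fintype.card F = 7) :
    Nonempty (G ≃* Matrix.ProjectiveSpecialLinearGroup (Fin 2) F) := by
  have : Fact (Nat.Prime 7) := ⟨by norm_num⟩
  exact Cfsg.Agent.SmallSimple.PSL2Recog.psl2_of_simple_card (p := 7) (by norm_num) (by rw [h])
    (card_sylow_seven h) hF

end Cfsg.Agent.S0495
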