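import Cfsg.Statements.S0082
import Cfsg.Agent.Transfer.TateComplement
import Cfsg.Agent.Transfer.Residual

set_option autoImplicit false
open Cfsg

namespace Cfsg.Agent.S0082

/-- With a cyclic Sylow p-subgroup, either there is a normal p-complement or the elements of order prime to p generate the whole group. -/
theorem result {G : Type*} [Group G] [Finite G] {p : ℕ} [Fact p.Prime] (P : Sylow p G) (hP : IsCyclic P) : Cfsg.HasNormalPComplement p G ∨ Cfsg.pResidual p G = ⊤ := by
  have hpP : p.Prime := Fact.out
  by_cases htop : Cfsg.pResidual p G = ⊤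
  · exact Or.inr htop
  left
  have hN : (Cfsg.pResidual p G).Normal := Cfsg.Agent.Transfer.Residual.pResidual_normal p
  have hsup := Cfsg.Agent.Transfer.Residual.pResidual_sup_sylow P
  obtain ⟨K, hKn, -, hKc⟩ := Cfsg.Agent.Transfer.TateComplement.exists_normal_complement P
    (Cfsg.pResidual p G) hsup (by
      intro δ x hx
      by_contra hδ
      apply htop
      obtain ⟨g, hg⟩ := IsCyclic.exists_monoid_generator (α := P)
      obtain ⟨k, rfl⟩ := hg x
      have hk : p.Coprime k := by
        rw [Nat.Prime.coprime_iff_not_dvd hpP]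
        rintro ⟨j, rfl⟩
        apply hδ
        have h1 : δ g ^ p = 1 := by
          have := pow_card_eq_one' (x := δ g)
          simpa using this
        show δ (g ^ (p * j)) = 1
        rw [map_pow, pow_mul, h1, one_pow]
      have hle : (P : Subgroup G) ≤ Cfsg.pResidual p G := by
        intro y hy
        obtain ⟨z, hz⟩ := (P.isPGroup'.powEquiv hk).surjective ⟨y, hy⟩
        obtain ⟨j, rfl⟩ := hg z
        have h2 : (⟨y, hy⟩ : P) = (g ^ k) ^ j := by
          rw [← hz]
          show (g ^ j) ^ k = _
          rw [← pow_mul, ← pow_mul, mul_comm]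
        have h3 : y = (((g ^ k : P) : G)) ^ j := congrArg Subtype.val h2
        rw [h3]
        exact Subgroup.pow_mem _ hx j
      rw [← hsup]
      exact (sup_eq_left.2 hle).symm)
  exact ⟨P, K, hKn, hKc⟩

end Cfsg.Agent.S0082
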