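import Cfsg.Statements.S1236
import Mathlib

set_option autoImplicit false
open Cfsg

namespace Cfsg.Agent.S1236

/-- Core lemma: a Klein four-subgroup of a group with a cyclic subgroup `C` of index two, such that
elements of `C` commuting with an element outside `C` have square one, contains its centralizer. -/
theorem key {Q : Type*} [Group Q] [Finite Q] (C : Subgroup Q) [IsCyclic C] (hi : C.index = 2)
    (H : ∀ v, v ∉ C → ∀ c ∈ C, v * c = c * v → c * c = 1) (V : Subgroup Q)
    (hV4 : Nat.card V = 4) (hV2 : ∀ v ∈ V, v * v = 1) (d : Q) (hd : ∀ v ∈ V, v * d = d * v) :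
    d ∈ V := by
  classical
  -- a subgroup of C of exponent 2 has order at most 2
  have hcyc : ∀ W : Subgroup Q, W ≤ C → (∀ w ∈ W, w * w = 1) → Nat.card W ≤ 2 := by
    intro W hWC hW2
    have h1 : Nat.card W = Nat.card (W.subgroupOf C) :=
      (Nat.card_congr (Subgroup.subgroupOfEquivOfLe hWC).toEquiv).symm
    rw [h1]
    have hc : IsCyclic (W.subgroupOf C) := inferInstance
    obtain ⟨g, hg⟩ := hc.exists_generator
    have hg2 : g ^ 2 = 1 := by
      have := hW2 (g : C) g.2
      ext
      simpa [pow_two] using this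
    have h3 : Nat.card (W.subgroupOf C) = orderOf g := by
      rw [← Nat.card_zpowers]
      have : Subgroup.zpowers g = ⊤ := by
        rw [eq_top_iff]; intro x _; exact hg x
      rw [this]
      exact (Nat.card_congr Subgroup.topEquiv.toEquiv).symm
    rw [h3]
    exact Nat.le_of_dvd (by norm_num) (orderOf_dvd_of_pow_eq_one hg2)
  -- V is not contained in C
  have hVC : ¬ V ≤ C := by
    intro h
    have := hcyc V h hV2
    omega
  obtain ⟨v, hvV, hvC⟩ := Set.not_subset.1 hVC
  -- the centralizer of v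
  set D : Subgroup Q := Subgroup.centralizer {v} with hD
  have hVcomm : ∀ a ∈ V, ∀ b ∈ V, a * b = b * a := by
    intro a ha b hb
    have h1 := hV2 a ha
    have h2 := hV2 b hb
    have h3 := hV2 (a * b) (V.mul_mem ha hb)
    have ha' : a⁻¹ = a := inv_eq_of_mul_eq_one_left h1
    have hb' : b⁻¹ = b := inv_eq_of_mul_eq_one_left h2
    have h4 : (a * b)⁻¹ = a * b := inv_eq_of_mul_eq_one_left h3
    calc a * b = (a * b)⁻¹ := h4.symm
      _ = b⁻¹ * a⁻¹ := mul_inv_rev _ _
      _ = b * a := by rw [ha', hb']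
  have hVD : V ≤ D := by
    intro w hw
    rw [hD, Subgroup.mem_centralizer_singleton_iff]
    exact hVcomm w hw v hvV
  have hDC : Nat.card (D ⊓ C : Subgroup Q) ≤ 2 := by
    refine hcyc _ inf_le_right ?_
    rintro w ⟨hw1, hw2⟩
    have hw1' : w * v = v * w := by
      have := hw1
      rw [hD] at this
      exact Subgroup.mem_centralizer_singleton_iff.1 this
    exact H v hvC w hw2 hw1'.symm
  have hDcard : Nat.card D ≤ 4 := by
    have h1 : (D ⊓ C).relIndex D ≤ 2 := by
      have : (D ⊓ C).relIndex D = C.relIndex D := Subgroup.inf_relIndex_left D C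
      rw [this, ← hi]
      have h2 : C.relIndex D ≤ C.relIndex ⊤ := by
        apply Subgroup.relIndex_le_of_le_right le_top
        rw [Subgroup.relIndex_top_right, hi]; norm_num
      rwa [Subgroup.relIndex_top_right] at h2
    have h3 := Subgroup.card_mul_index ((D ⊓ C).subgroupOf D)
    have h4 : Nat.card ((D ⊓ C).subgroupOf D) = Nat.card (D ⊓ C : Subgroup Q) :=
      Nat.card_congr (Subgroup.subgroupOfEquivOfLe inf_le_left).toEquiv
    have h5 : ((D ⊓ C).subgroupOf D).index = (D ⊓ C).relIndex D := rfl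
    rw [h4, h5] at h3
    calc Nat.card D = Nat.card (D ⊓ C : Subgroup Q) * (D ⊓ C).relIndex D := h3.symm
      _ ≤ 2 * 2 := Nat.mul_le_mul hDC h1
      _ = 4 := rfl
  have hVeq : V = D := by
    apply Subgroup.eq_of_le_of_card_ge hVD
    rw [hV4]; exact hDcard
  rw [hVeq, hD, Subgroup.mem_centralizer_singleton_iff]
  exact (hd v hvV).symm

/-- Version with an element `x` generating the cyclic subgroup and `y` acting on it. -/
theorem key2 {Q : Type*} [Group Q] [Finite Q] (x y : Q) (N k : ℕ) (hN : orderOf x = N)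
    (hcard : Nat.card Q = 2 * N) (hyx : y ∉ Subgroup.zpowers x)
    (hconj : y * x * y⁻¹ = x ^ k) (hk : ∀ j : ℕ, N ∣ j * (k + N - 1) → N ∣ 2 * j) (hk1 : 0 < k)
    (V : Subgroup Q)
    (hV4 : Nat.card V = 4) (hV2 : ∀ v ∈ V, v * v = 1) (d : Q) (hd : ∀ v ∈ V, v * d = d * v) :
    d ∈ V := by
  have hNpos : 0 < N := by rw [← hN]; exact orderOf_pos x
  have hind : (Subgroup.zpowers x).index = 2 := by
    have := Subgroup.card_mul_index (Subgroup.zpowers x)
    rw [Nat.card_zpowers, hN, hcard] at this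
    have h2 : N * (Subgroup.zpowers x).index = N * 2 := by rw [this]; ring
    exact Nat.eq_of_mul_eq_mul_left hNpos h2
  refine key (Subgroup.zpowers x) hind ?_ V hV4 hV2 d hd
  intro v hv c hc hvc
  -- v = c' * y
  obtain ⟨i, hi⟩ : ∃ i : ℤ, v = x ^ i * y := by
    have h1 : v * y⁻¹ ∈ Subgroup.zpowers x := by
      rw [Subgroup.mul_mem_iff_of_index_two hind]
      constructor
      · intro h; exact absurd h hv
      · intro h; exact absurd ((Subgroup.zpowers x).inv_mem_iff.1 h) hyx
    obtain ⟨i, hi⟩ := Subgroup.mem_zpowers_iff.1 h1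
    exact ⟨i, by rw [hi]; group⟩
  obtain ⟨j, hj⟩ : ∃ j : ℕ, x ^ j = c := by
    have := (mem_powers_iff_mem_zpowers (x := x) (y := c)).2 hc
    obtain ⟨j, hj⟩ := this
    exact ⟨j, hj⟩
  have h1 : y * x ^ j * y⁻¹ = x ^ (k * j) := by
    rw [← conj_pow, hconj, ← pow_mul]
  have h2 : v * c * v⁻¹ = c := by rw [hvc]; group
  have h3 : x ^ (k * j) = x ^ j := by
    have h4 : v * c * v⁻¹ = x ^ i * (y * x ^ j * y⁻¹) * (x ^ i)⁻¹ := by
      rw [hi, ← hj]; group
    rw [h1] at h4
    have h5 : x ^ i * x ^ (k * j) * (x ^ i)⁻¹ = x ^ (k * j) := by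
      have : Commute (x ^ i) (x ^ (k * j)) := (Commute.refl x).zpow_left i |>.pow_right _
      rw [this.eq, mul_inv_cancel_right]
    rw [h5, h2, ← hj] at h4
    exact h4.symm
  have h4 : N ∣ j * (k + N - 1) := by
    rw [← hN, orderOf_dvd_iff_pow_eq_one, hN]
    have h5 : j * (k + N - 1) + j = k * j + N * j := by
      have : k + N - 1 + 1 = k + N := by omega
      calc j * (k + N - 1) + j = j * (k + N - 1 + 1) := by ring
        _ = j * (k + N) := by rw [this]
        _ = k * j + N * j := by ring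
    have h6 : x ^ (j * (k + N - 1)) * x ^ j = x ^ j := by
      rw [← pow_add, h5, pow_add, h3, pow_mul, ← hN, pow_orderOf_eq_one, one_pow, mul_one]
    exact mul_eq_right.1 h6
  have h5 := hk j h4
  rw [← hj, ← pow_add]
  rw [← hN] at h5
  apply orderOf_dvd_iff_pow_eq_one.1
  rwa [← two_mul]

/-- Conclusion for a klein four-subgroup of a dihedral or quasi-dihedral group. -/
theorem four_self {Q : Type*} [Group Q] [Finite Q]
    (hq : (∃ m : ℕ, 2 ≤ m ∧ Nonempty (Q ≃* DihedralGroup m)) ∨ Cfsg.IsQuasiDihedral Q)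
    (V : Subgroup Q) (hV4 : Nat.card V = 4) (hV2 : ∀ v ∈ V, v * v = 1) (d : Q)
    (hd : ∀ v ∈ V, v * d = d * v) : d ∈ V := by
  rcases hq with ⟨m, hm, ⟨e⟩⟩ | ⟨n, hn, hcard, x, y, hx, hy, hxy⟩
  · have hmz : NeZero m := ⟨by omega⟩
    refine key2 (e.symm (DihedralGroup.r 1)) (e.symm (DihedralGroup.sr 0)) m (m - 1) ?_ ?_ ?_ ?_ ?_
      ?_ V hV4 hV2 d hd
    · have h0 := MulEquiv.orderOf_eq e.symm (DihedralGroup.r 1)
      exact h0.trans DihedralGroup.orderOf_r_one
    · rw [Nat.card_congr e.toEquiv, DihedralGroup.nat_card]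
    · intro h
      obtain ⟨i, hi⟩ := Subgroup.mem_zpowers_iff.1 h
      rw [← map_zpow] at hi
      have := e.symm.injective hi
      rw [DihedralGroup.r_one_zpow] at this
      cases this
    · rw [← map_mul, ← map_inv, ← map_mul, ← map_pow]
      congr 1
      rw [DihedralGroup.r_one_pow, DihedralGroup.inv_sr, DihedralGroup.sr_mul_r,
        DihedralGroup.sr_mul_sr]
      congr 1
      rw [Nat.cast_sub (by omega)]
      simp
    · intro j hj
      have h1 : j * (m - 1 + m - 1) + 2 * j = m * (2 * j) := by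
        have h2 : m - 1 + m - 1 + 2 = 2 * m := by omega
        calc j * (m - 1 + m - 1) + 2 * j = j * (m - 1 + m - 1 + 2) := by ring
          _ = j * (2 * m) := by rw [h2]
          _ = m * (2 * j) := by ring
      exact (Nat.dvd_add_right hj).1 (h1 ▸ Dvd.intro _ rfl)
    · omega
  · obtain ⟨l, rfl⟩ : ∃ l, n = l + 3 := ⟨n - 3, by omega⟩
    have hpos : 0 < 2 ^ l := by positivity
    have e1 : 2 ^ (l + 3 - 1) = 4 * 2 ^ l := by
      rw [show l + 3 - 1 = l + 2 by omega, pow_add]; ring
    have e2 : 2 ^ (l + 3) = 8 * 2 ^ l := by rw [pow_add]; ring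
    rw [e1] at hxy
    rw [e2] at hx
    refine key2 x y (8 * 2 ^ l) (4 * 2 ^ l - 1) hx ?_ ?_ hxy ?_ ?_ V hV4 hV2 d hd
    · rw [hcard]; rw [pow_succ, e2]; ring
    · intro h
      obtain ⟨i, hi⟩ := Subgroup.mem_zpowers_iff.1 h
      have h1 : y * x * y⁻¹ = x := by
        rw [← hi]
        have : Commute (x ^ i) x := (Commute.refl x).zpow_left i
        rw [this.eq, mul_inv_cancel_right]
      rw [h1] at hxy
      have h2 : x ^ (4 * 2 ^ l - 2) = 1 := by
        have h3 : x ^ (4 * 2 ^ l - 2) * x = x := by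
          rw [← pow_succ]
          rw [show 4 * 2 ^ l - 2 + 1 = 4 * 2 ^ l - 1 by omega]
          exact hxy.symm
        exact mul_eq_right.1 h3
      have h4 := orderOf_dvd_of_pow_eq_one h2
      rw [hx] at h4
      have := Nat.le_of_dvd (by omega) h4
      omega
    · intro j hj
      have h1 : j * (4 * 2 ^ l - 1 + 8 * 2 ^ l - 1) = (2 * j) * (6 * 2 ^ l - 1) := by
        have : 4 * 2 ^ l - 1 + 8 * 2 ^ l - 1 = 2 * (6 * 2 ^ l - 1) := by omega
        rw [this]; ring
      rw [h1] at hj
      have hco : Nat.Coprime (8 * 2 ^ l) (6 * 2 ^ l - 1) := by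
        rw [← e2]
        apply Nat.Coprime.pow_left
        rw [Nat.coprime_two_left, Nat.odd_iff]
        omega
      exact hco.dvd_of_dvd_mul_right hj
    · omega

/-- Let R be a finite group, t a central involution of R such that R ⧸ ⟨t⟩ is dihedral (of order ≥ 4) or quasi-dihedral, and A ≤ R an elementary abelian subgroup of order 8 containing t. Then C_R(A) = A. -/
theorem result {R : Type*} [Group R] [Finite R] (t : R) (ht : orderOf t = 2) (htz : t ∈ Subgroup.center R) [(Subgroup.zpowers t).Normal] (hq : (∃ m : ℕ, 2 ≤ m ∧ Nonempty (R ⧸ Subgroup.zpowers t ≃* DihedralGroup m)) ∨ Cfsg.IsQuasiDihedral (R ⧸ Subgroup.zpowers t)) (A : Subgroup R) (hA : Cfsg.IsElementaryAbelian 2 A) (hA8 : Nat.card A = 8) (htA : t ∈ A) : Subgroup.centralizer (A : Set R) = A := by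
  classical
  set π : R →* R ⧸ Subgroup.zpowers t := QuotientGroup.mk' (Subgroup.zpowers t) with hπ
  have hsurj : Function.Surjective π := QuotientGroup.mk'_surjective _
  have hker : π.ker = Subgroup.zpowers t := QuotientGroup.ker_mk' _
  have hzA : Subgroup.zpowers t ≤ A := by
    rw [Subgroup.zpowers_le]; exact htA
  have hcardz : Nat.card (Subgroup.zpowers t) = 2 := by rw [Nat.card_zpowers, ht]
  have hV4 : Nat.card (A.map π) = 4 := by
    have h1 : (A.map π).index = A.index := Subgroup.index_map_eq A hsurj (by rw [hker]; exact hzA)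
    have h2 := Subgroup.card_mul_index (A.map π)
    have h3 := Subgroup.card_mul_index A
    have h4 := Subgroup.card_eq_card_quotient_mul_card_subgroup (Subgroup.zpowers t)
    rw [hcardz] at h4
    rw [h1] at h2
    rw [hA8] at h3
    have h5 : 0 < A.index := Nat.pos_of_ne_zero A.index_ne_zero_of_finite
    have h6 : 2 * (Nat.card (A.map π) * A.index) = 8 * A.index := by
      rw [h2, h3, h4]; ring
    have h7 : (2 * Nat.card (A.map π)) * A.index = 8 * A.index := by rw [← h6]; ring
    have h8 := Nat.eq_of_mul_eq_mul_right h5 h7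
    omega
  have hV2 : ∀ v ∈ A.map π, v * v = 1 := by
    rintro v ⟨a, ha, rfl⟩
    rw [← map_mul, ← pow_two, hA.2 a ha, map_one]
  have hAcomm : ∀ a ∈ A, ∀ b ∈ A, a * b = b * a := by
    intro a ha b hb
    have := hA.1.is_comm.comm (⟨a, ha⟩ : A) ⟨b, hb⟩
    exact congrArg Subtype.val this
  apply le_antisymm
  · intro c hc
    have hc' : π c ∈ A.map π := by
      apply four_self hq (A.map π) hV4 hV2 (π c)
      rintro v ⟨a, ha, rfl⟩
      rw [← map_mul, ← map_mul]
      congr 1
      exact Subgroup.mem_centralizer_iff.1 hc a ha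
    obtain ⟨a, ha, hac⟩ := hc'
    have h1 : a⁻¹ * c ∈ π.ker := by
      rw [MonoidHom.mem_ker, map_mul, map_inv, hac, inv_mul_cancel]
    rw [hker] at h1
    have h2 := A.mul_mem ha (hzA h1)
    rwa [mul_inv_cancel_left] at h2
  · intro c hc
    rw [Subgroup.mem_centralizer_iff]
    intro a ha
    exact hAcomm a ha c hc

end Cfsg.Agent.S1236
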