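import Cfsg.Statements.S1268
import Cfsg.Agent.Lib.Cores
import Cfsg.Agent.Lib.ThompsonPQ
import Cfsg.Agent.SignalizersComponents.FStarPCore
import Cfsg.Agent.SignalizersComponents.ComponentExists
import Cfsg.Agent.TwoFusion.PResidual
-- import your own Cfsg.Agent.* helpers here

set_option autoImplicit false
open Cfsg

namespace Cfsg.Agent.S1268

open Subgroup

/-- A finite group in which every element of order prime to `p` is trivial is a `p`-group. -/
theorem isPGroup_of_coprime_eq_one {C : Type*} [Group C] [Finite C] (p : ℕ) [Fact p.Prime]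
    (h : ∀ x : C, (orderOf x).Coprime p → x = 1) : IsPGroup p C := by
  rw [IsPGroup.iff_orderOf]
  intro x
  obtain ⟨a, b, hab, ⟨k, hk⟩, hb⟩ := Cfsg.Agent.TwoFusion.PResidual.exists_pPart_mul_pPrimePart p x
  rw [h _ hb, mul_one] at hab
  exact ⟨k, by rw [hab]; exact hk⟩

/-- If `F*(G) = O_p(G)` then `C_G(O_p(G)) ≤ O_p(G)`. -/
theorem centralizer_pCore_le {G : Type*} [Group G] [Finite G] (p : ℕ) [Fact p.Prime]
    (h : Cfsg.generalizedFittingSubgroup G = Cfsg.pCore p G) :
    centralizer (Cfsg.pCore p G : Set G) ≤ Cfsg.pCore p G := by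
  have hl : Cfsg.layer G = ⊥ := by
    rw [Cfsg.Agent.SignalizersComponents.ComponentExists.layer_eq_bot_iff]
    intro K hK
    have h1 : K ≤ Cfsg.pCore p G := by
      rw [← h]
      exact (le_sSup hK : K ≤ layer G).trans le_sup_left
    have h2 : IsPGroup p K := (Cfsg.Agent.Lib.Cores.pCore_isPGroup p).to_le h1
    have h3 := h2.isNilpotent
    exact Cfsg.Agent.SignalizersComponents.ComponentExists.not_isComponent_of_isSolvable
      inferInstance hK
  have h1 := Cfsg.Agent.SignalizersComponents.ComponentExists.centralizer_fitting_le_of_layer_eq_bot hl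
  have h2 : fittingSubgroup G = pCore p G := by
    rw [← h]
    change _ = layer G ⊔ fittingSubgroup G
    rw [hl, bot_sup_eq]
  rwa [h2] at h1

/-- Let G be finite with F*(G) = O_p(G). Then F*(N) = O_p(N) for N the normalizer of any p-subgroup P of G. -/
theorem result {G : Type*} [Group G] [Finite G] (p : ℕ) [Fact p.Prime] (h : Cfsg.generalizedFittingSubgroup G = Cfsg.pCore p G) (P : Subgroup G) (hP : IsPGroup p ↥P) : Cfsg.generalizedFittingSubgroup ↥(Subgroup.normalizer ((P : Subgroup G) : Set G)) = Cfsg.pCore p ↥(Subgroup.normalizer ((P : Subgroup G) : Set G)) := by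
  set N : Subgroup G := Subgroup.normalizer ((P : Subgroup G) : Set G) with hNdef
  set Q : Subgroup G := pCore p G with hQdef
  have hQn : Q.Normal := Cfsg.Agent.Lib.Cores.pCore_normal p
  have hQp : IsPGroup p Q := Cfsg.Agent.Lib.Cores.pCore_isPGroup p
  have hcQ : centralizer (Q : Set G) ≤ Q := centralizer_pCore_le p h
  have hR : (pCore p N).Normal := Cfsg.Agent.Lib.Cores.pCore_normal p
  have hRp : IsPGroup p (pCore p N) := Cfsg.Agent.Lib.Cores.pCore_isPGroup p
  refine Cfsg.Agent.SignalizersComponents.FStarPCore.generalizedFitting_eq_pCore_of_centralizer_le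
    hR hRp ?_
  -- `P ≤ O_p(N)`
  have hPN : P.subgroupOf N ≤ pCore p N :=
    Cfsg.Agent.Lib.Cores.le_pCore (by rw [hNdef]; exact normal_in_normalizer)
      (hP.comap_of_injective N.subtype N.subtype_injective)
  -- `C_Q(P) ≤ O_p(N)`
  have hCN : centralizer (P : Set G) ≤ N := centralizer_le_normalizer _
  have hPn : (P.subgroupOf N).Normal := normal_in_normalizer
  have hCQ : (Q ⊓ centralizer (P : Set G)).subgroupOf N ≤ pCore p N := by
    apply Cfsg.Agent.Lib.Cores.le_pCore
    · have h1 : ((centralizer (P : Set G)).subgroupOf N).Normal :=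
        normal_subgroupOf_centralizer_normalizer _
      change (Subgroup.comap N.subtype (Q ⊓ centralizer (P : Set G))).Normal
      rw [Subgroup.comap_inf]
      have h2 : (Subgroup.comap N.subtype Q).Normal := hQn.comap _
      change (Subgroup.comap N.subtype (centralizer (P : Set G))).Normal at h1
      infer_instance
    · exact (hQp.to_le inf_le_left).comap_of_injective N.subtype N.subtype_injective
  have hCp : IsPGroup p (centralizer (pCore p N : Set N)) := by
    apply isPGroup_of_coprime_eq_one
    intro x hx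
    have hxC : ∀ y : N, y ∈ pCore p N → (y : G) * ((x : N) : G) = ((x : N) : G) * (y : G) := by
      intro y hy
      exact congrArg Subtype.val (mem_centralizer_iff.mp x.2 y hy)
    have key : zpowers ((x : N) : G) ≤ centralizer (Q : Set G) := by
      apply Cfsg.Agent.Lib.ThompsonPQ.thompson_p_times_q p P (zpowers ((x : N) : G)) Q hP ?_ hQp
      · rw [le_centralizer_iff, zpowers_le, mem_centralizer_iff]
        intro y hy
        exact hxC ⟨y, le_normalizer hy⟩ (hPN (mem_subgroupOf.mpr hy))
      · rw [normalizer_eq_top_iff.mpr hQn]; exact le_top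
      · rw [normalizer_eq_top_iff.mpr hQn]; exact le_top
      · rw [le_centralizer_iff, zpowers_le, mem_centralizer_iff]
        intro y hy
        exact hxC ⟨y, hCN hy.2⟩ (hCQ (mem_subgroupOf.mpr hy))
      · rw [Nat.card_zpowers]
        simpa using hx
    have hxQ : ((x : N) : G) ∈ Q := hcQ (key (mem_zpowers _))
    obtain ⟨k, hk⟩ := (IsPGroup.iff_orderOf.mp hQp) ⟨_, hxQ⟩
    rw [Subgroup.orderOf_mk] at hk
    have hx' : (orderOf ((x : N) : G)).Coprime p := by simpa using hx
    rw [hk] at hx'
    have h1 : orderOf ((x : N) : G) = 1 := by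
      rw [hk]
      have := Nat.Coprime.pow_right k hx'
      rwa [Nat.coprime_self] at this
    have h2 := orderOf_eq_one_iff.mp h1
    exact Subtype.ext (Subtype.ext h2)
  exact Cfsg.Agent.Lib.Cores.le_pCore inferInstance hCp

end Cfsg.Agent.S1268
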