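import Cfsg.Statements.S1246
import Cfsg.Agent.Lib.Cores
import Cfsg.Agent.S1268
import Cfsg.Agent.S1320

set_option autoImplicit false
open Cfsg

namespace Cfsg.Agent.S1246

open Subgroup

/-- Quasisimplicity passes along isomorphisms. -/
theorem quasisimple_of_equiv {X Y : Type*} [Group X] [Group Y] (e : X ≃* Y)
    (h : IsQuasisimple X) : IsQuasisimple Y := by
  obtain ⟨hp, hs⟩ := h
  have hp' : Group.IsPerfect Y := Group.IsPerfect.ofSurjective (f := e.toMonoidHom) e.surjective
  refine ⟨hp', ?_⟩
  have hmap : (Subgroup.center X).map e.toMonoidHom = Subgroup.center Y := by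
    ext y
    simp only [Subgroup.mem_map, Subgroup.mem_center_iff]
    constructor
    · rintro ⟨x, hx, rfl⟩ g
      obtain ⟨g', rfl⟩ := e.surjective g
      simpa using congrArg e (hx g')
    · intro hy
      refine ⟨e.symm y, fun g => ?_, by simp⟩
      apply e.injective
      simpa using hy (e g)
  exact ((QuotientGroup.congr _ _ e hmap).isSimpleGroup_congr).mp hs

theorem component_map_equiv {X Y : Type*} [Group X] [Group Y] (e : X ≃* Y) {K : Subgroup X}
    (hK : IsComponent K) : IsComponent (K.map e.toMonoidHom) :=
  ⟨hK.1.map e.surjective, quasisimple_of_equiv (K.equivMapOfInjective _ e.injective) hK.2⟩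

theorem layer_map_equiv_le {X Y : Type*} [Group X] [Group Y] (e : X ≃* Y) :
    (layer X).map e.toMonoidHom ≤ layer Y := by
  rw [Subgroup.map_le_iff_le_comap]
  refine sSup_le fun K hK => ?_
  rw [← Subgroup.map_le_iff_le_comap]
  exact le_sSup (component_map_equiv e hK)

theorem genFitting_map_equiv_le {X Y : Type*} [Group X] [Group Y] (e : X ≃* Y) :
    (generalizedFittingSubgroup X).map e.toMonoidHom ≤ generalizedFittingSubgroup Y := by
  refine (Subgroup.map_sup _ _ _).le.trans (sup_le_sup (layer_map_equiv_le e) ?_)
  exact (Lib.Cores.map_equiv_fittingSubgroup e).le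

/-- `F*` being a `p`-group passes along isomorphisms. -/
theorem isPGroup_genFitting_of_equiv {X Y : Type*} [Group X] [Group Y] (e : X ≃* Y) {p : ℕ}
    (h : IsPGroup p (generalizedFittingSubgroup X)) :
    IsPGroup p (generalizedFittingSubgroup Y) := by
  have h1 : (generalizedFittingSubgroup Y).map e.symm.toMonoidHom ≤
      generalizedFittingSubgroup X := genFitting_map_equiv_le e.symm
  have h2 : IsPGroup p ((generalizedFittingSubgroup Y).map e.symm.toMonoidHom) := h.to_le h1
  exact h2.of_equiv
    ((generalizedFittingSubgroup Y).equivMapOfInjective _ e.symm.injective).symm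

/-- If `F*(B)` is a `p`-group for a normal subgroup `B` of `p`-power index (in the sense that the
quotient is a `p`-group), then so is `F*(A)`. -/
theorem isPGroup_genFitting_of_normal {A : Type*} [Group A] [Finite A] {p : ℕ} (B : Subgroup A)
    [B.Normal] (hB : IsPGroup p (generalizedFittingSubgroup B)) (hq : IsPGroup p (A ⧸ B)) :
    IsPGroup p (generalizedFittingSubgroup A) := by
  have h1 := S1320.result B
  have h2 : IsPGroup p (generalizedFittingSubgroup A ⊓ B : Subgroup A) := by
    rw [h1]; exact hB.map _
  intro x
  obtain ⟨k, hk⟩ := hq (QuotientGroup.mk (x : A))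
  have hk' : (x : A) ^ p ^ k ∈ B := by
    rw [← QuotientGroup.mk_pow, QuotientGroup.eq_one_iff] at hk
    exact hk
  have hx : (x : A) ^ p ^ k ∈ generalizedFittingSubgroup A ⊓ B := ⟨pow_mem x.2 _, hk'⟩
  obtain ⟨m, hm⟩ := h2 ⟨_, hx⟩
  refine ⟨k + m, ?_⟩
  apply Subtype.ext
  have := congrArg Subtype.val hm
  simpa [pow_add, pow_mul] using this

/-- Restriction of `F*` to a normal subgroup. -/
theorem isPGroup_genFitting_normal {A : Type*} [Group A] [Finite A] {p : ℕ} (B : Subgroup A)
    [B.Normal] (hA : IsPGroup p (generalizedFittingSubgroup A)) :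
    IsPGroup p (generalizedFittingSubgroup B) := by
  have h1 := S1320.result B
  have h2 : IsPGroup p (generalizedFittingSubgroup A ⊓ B : Subgroup A) := hA.to_le inf_le_left
  rw [h1] at h2
  exact h2.of_equiv
    ((generalizedFittingSubgroup B).equivMapOfInjective _ B.subtype_injective).symm

theorem genFitting_normal (A : Type*) [Group A] :
    (generalizedFittingSubgroup A).Normal := by
  have : (generalizedFittingSubgroup A).Characteristic :=
    characteristic_iff_map_le.mpr fun e => genFitting_map_equiv_le e
  infer_instance

/-- `F*(A)` is a `p`-group iff it equals `O_p(A)`. -/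
theorem genFitting_eq_pCore {A : Type*} [Group A] [Finite A] {p : ℕ} [Fact p.Prime]
    (h : IsPGroup p (generalizedFittingSubgroup A)) :
    generalizedFittingSubgroup A = pCore p A := by
  apply le_antisymm
  · exact Lib.Cores.le_pCore (genFitting_normal A) h
  · refine le_trans ?_ le_sup_right
    have : IsPGroup p (pCore p A) := Lib.Cores.pCore_isPGroup p
    exact Lib.Cores.le_fittingSubgroup (Lib.Cores.pCore_normal p) this.isNilpotent

/-- The case where `W` normalizes `V`. -/
theorem normal_case {G : Type*} [Group G] [Finite G] {p : ℕ} [Fact p.Prime] (W V : Subgroup G)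
    (hVW : V ≤ W) (hn : W ≤ normalizer (V : Set G)) (hW : IsPGroup p W)
    (hV : IsPGroup p (generalizedFittingSubgroup (centralizer (V : Set G)))) :
    IsPGroup p (generalizedFittingSubgroup (centralizer (W : Set G))) := by
  set C := centralizer (V : Set G) with hC
  have hCn : normalizer (V : Set G) ≤ normalizer (C : Set G) := by
    have h := normal_subgroupOf_centralizer_normalizer (V : Set G)
    exact (Subgroup.normal_subgroupOf_iff_le_normalizer (centralizer_le_normalizer _)).mp h
  set H : Subgroup G := C ⊔ W with hH
  have hCH : C ≤ H := le_sup_left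
  have hWH : W ≤ H := le_sup_right
  have hCW : centralizer (W : Set G) ≤ C := centralizer_le hVW
  have : (C.subgroupOf H).Normal := by
    rw [Subgroup.normal_subgroupOf_iff_le_normalizer hCH]
    exact sup_le Subgroup.le_normalizer (hn.trans hCn)
  have h1 : IsPGroup p (generalizedFittingSubgroup (C.subgroupOf H)) :=
    isPGroup_genFitting_of_equiv (subgroupOfEquivOfLe hCH).symm hV
  have h2 : IsPGroup p (H ⧸ C.subgroupOf H) := by
    have hsup : W.subgroupOf H ⊔ C.subgroupOf H = ⊤ := by
      rw [← Subgroup.subgroupOf_sup hWH hCH, sup_comm W C, ← hH, Subgroup.subgroupOf_self]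
    have hsurj : (W.subgroupOf H).map (QuotientGroup.mk' (C.subgroupOf H)) = ⊤ := by
      have h := congrArg (Subgroup.map (QuotientGroup.mk' (C.subgroupOf H))) hsup
      rw [Subgroup.map_sup, QuotientGroup.map_mk'_self, sup_bot_eq] at h
      rw [h]
      exact Subgroup.map_top_of_surjective _ (QuotientGroup.mk'_surjective _)
    have hWp : IsPGroup p (W.subgroupOf H) := hW.of_equiv (subgroupOfEquivOfLe hWH).symm
    have h := hWp.map (QuotientGroup.mk' (C.subgroupOf H))
    rw [hsurj] at h
    exact h.of_equiv Subgroup.topEquiv
  have h3 : IsPGroup p (generalizedFittingSubgroup H) :=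
    isPGroup_genFitting_of_normal _ h1 h2
  have h4 := S1268.result p (genFitting_eq_pCore h3) (W.subgroupOf H)
    (hW.of_equiv (subgroupOfEquivOfLe hWH).symm)
  set N : Subgroup H := normalizer ((W.subgroupOf H : Subgroup H) : Set H) with hN
  have h5 : IsPGroup p (generalizedFittingSubgroup N) := by
    rw [h4]; exact Lib.Cores.pCore_isPGroup p
  set D : Subgroup H := centralizer ((W.subgroupOf H : Subgroup H) : Set H) with hD
  have hDN : D ≤ N := centralizer_le_normalizer _
  have : (D.subgroupOf N).Normal := normal_subgroupOf_centralizer_normalizer _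
  have h6 : IsPGroup p (generalizedFittingSubgroup (D.subgroupOf N)) :=
    isPGroup_genFitting_normal _ h5
  have h7 : IsPGroup p (generalizedFittingSubgroup D) :=
    isPGroup_genFitting_of_equiv (subgroupOfEquivOfLe hDN) h6
  have h8 : D = (centralizer (W : Set G)).subgroupOf H := by
    ext x
    simp only [hD, Subgroup.mem_subgroupOf, Subgroup.mem_centralizer_iff, SetLike.mem_coe]
    constructor
    · intro hx w hw
      exact congrArg Subtype.val (hx ⟨w, hWH hw⟩ hw)
    · intro hx w hw
      exact Subtype.ext (hx w hw)
  have h9 : IsPGroup p (generalizedFittingSubgroup ((centralizer (W : Set G)).subgroupOf H)) := by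
    rw [← h8]; exact h7
  exact isPGroup_genFitting_of_equiv (subgroupOfEquivOfLe (hCW.trans hCH)) h9

/-- Let V ≤ U be p-subgroups of the finite group G. If the generalized Fitting subgroup of C_G(V) is a p-group, then so is that of C_G(U). -/
theorem result {G : Type*} [Group G] [Finite G] {p : ℕ} [Fact p.Prime] (U V : Subgroup G) (hVU : V ≤ U) (hU : IsPGroup p U) (hV : IsPGroup p ↥(Cfsg.generalizedFittingSubgroup ↥(Subgroup.centralizer (V : Set G)))) : IsPGroup p ↥(Cfsg.generalizedFittingSubgroup ↥(Subgroup.centralizer (U : Set G))) := by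
  induction hk : V.relIndex U using Nat.strong_induction_on generalizing V with
  | _ n ih =>
    by_cases hle : U ≤ V
    · have : V = U := le_antisymm hVU hle
      rw [← this]; exact hV
    · set W := normalizer (V : Set G) ⊓ U with hW
      have hVW : V ≤ W := le_inf Subgroup.le_normalizer hVU
      have hlt : V < W := by
        refine lt_of_le_of_ne hVW fun heq => hle ?_
        have hnil : Group.IsNilpotent U := hU.isNilpotent
        have hnc : NormalizerCondition U := Group.normalizerCondition_of_isNilpotent
        have h1 : V.subgroupOf U < ⊤ := by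
          rw [lt_top_iff_ne_top, Ne, Subgroup.subgroupOf_eq_top]
          exact hle
        have h2 := hnc _ h1
        obtain ⟨x, hx, hxV⟩ := SetLike.exists_of_lt h2
        exfalso
        apply hxV
        rw [Subgroup.mem_subgroupOf, heq]
        refine Subgroup.mem_inf.mpr ⟨?_, x.2⟩
        rw [Subgroup.mem_normalizer_iff] at hx ⊢
        intro g
        constructor
        · intro hg
          have := (hx ⟨g, hVU hg⟩).mp hg
          exact this
        · intro hg
          have hgU : g ∈ U := by
            have h3 : (x : G)⁻¹ * ((x : G) * g * (x : G)⁻¹) * x ∈ U :=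
              U.mul_mem (U.mul_mem (U.inv_mem x.2) (hVU hg)) x.2
            simpa [mul_assoc] using h3
          have := (hx ⟨g, hgU⟩).mpr hg
          exact this
      have h1 : IsPGroup p (generalizedFittingSubgroup (centralizer (W : Set G))) :=
        normal_case W V hVW inf_le_left (hU.to_le inf_le_right) hV
      refine ih (W.relIndex U) ?_ W inf_le_right h1 rfl
      have h2 : V.relIndex W * W.relIndex U = V.relIndex U :=
        Subgroup.relIndex_mul_relIndex _ _ _ hVW inf_le_right
      have h3 : V.relIndex W ≠ 1 := by
        rw [Ne, Subgroup.relIndex_eq_one]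
        exact not_le_of_gt hlt
      rw [← hk, ← h2]
      have h5 : V.relIndex W ≠ 0 := Subgroup.FiniteIndex.index_ne_zero
      have h6 : W.relIndex U ≠ 0 := Subgroup.FiniteIndex.index_ne_zero
      have h7 : 2 ≤ V.relIndex W := by omega
      have h8 : 0 < W.relIndex U := Nat.pos_of_ne_zero h6
      nlinarith

end Cfsg.Agent.S1246
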