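-- Statement S0075.
import Cfsg.Statements.S0075
import Mathlib.GroupTheory.Focal

set_option autoImplicit false
open Cfsg

namespace Cfsg.Agent.S0075

open scoped commutatorElement

/-- elements of order prime to `p` lie in the kernel of every homomorphism to a `p`-group -/
theorem pResidual_le_ker_aux {G K : Type*} [Group G] [Group K] {p : ℕ}
    (hK : IsPGroup p K) (f : G →* K) : Cfsg.pResidual p G ≤ f.ker := by
  change Subgroup.closure {g : G | Nat.Coprime (orderOf g) p} ≤ f.ker
  rw [Subgroup.closure_le]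
  intro g hg
  have hg' : Nat.Coprime (orderOf g) p := hg
  have h1 : orderOf (f g) ∣ orderOf g := orderOf_map_dvd f g
  obtain ⟨k, hk⟩ := hK (f g)
  have h2 : orderOf (f g) ∣ p ^ k := orderOf_dvd_of_pow_eq_one hk
  have h3 : orderOf (f g) = 1 :=
    Nat.eq_one_of_dvd_coprimes (Nat.Coprime.pow_right k hg') h1 h2
  exact orderOf_eq_one_iff.mp h3

theorem pResidual_normal_aux (G : Type*) [Group G] (p : ℕ) : (Cfsg.pResidual p G).Normal := by
  have hconj : ∀ a : G, ∀ x ∈ {g : G | Nat.Coprime (orderOf g) p},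
      a * x * a⁻¹ ∈ {g : G | Nat.Coprime (orderOf g) p} := by
    intro a x hx
    have h : orderOf (MulAut.conj a x) = orderOf x :=
      orderOf_injective (MulAut.conj a).toMonoidHom (MulAut.conj a).injective x
    rw [MulAut.conj_apply] at h
    rw [Set.mem_ofPred_eq, h]
    exact hx
  refine ⟨fun x hx a => ?_⟩
  change x ∈ Subgroup.closure {g : G | Nat.Coprime (orderOf g) p} at hx
  change a * x * a⁻¹ ∈ Subgroup.closure {g : G | Nat.Coprime (orderOf g) p}
  induction hx using Subgroup.closure_induction with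
  | mem x hx => exact Subgroup.subset_closure (hconj a x hx)
  | one => simp
  | mul x y _ _ hx hy =>
    have : a * (x * y) * a⁻¹ = (a * x * a⁻¹) * (a * y * a⁻¹) := by group
    rw [this]
    exact mul_mem hx hy
  | inv x _ hx =>
    have : a * x⁻¹ * a⁻¹ = (a * x * a⁻¹)⁻¹ := by group
    rw [this]
    exact inv_mem hx

/-- For an abelian Sylow p-subgroup T, its intersection with the subgroup generated by the elements of order prime to p is the commutator of T with its normalizer. -/
theorem result {G : Type*} [Group G] [Finite G] {p : ℕ} [Fact p.Prime] (T : Sylow p G) (hT : IsMulCommutative T) : (T : Subgroup G) ⊓ Cfsg.pResidual p G = ⁅(T : Subgroup G), Subgroup.normalizer (T : Set G)⁆ := by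
  apply le_antisymm
  · -- `T ∩ O^p(G) ≤ T ∩ ker τ = T* ≤ [T, N]`
    have hP : IsPGroup p (T ⧸ (T : Subgroup G).focalSubgroupOf) :=
      T.2.to_quotient (T : Subgroup G).focalSubgroupOf
    have h1 : Cfsg.pResidual p G ≤ (T : Subgroup G).transferFocal.ker :=
      pResidual_le_ker_aux hP _
    have h2 := Subgroup.ker_transferFocal_inf_eq_focalSubgroup T
    have h3 : (T : Subgroup G) ⊓ Cfsg.pResidual p G ≤ (T : Subgroup G).focalSubgroup := by
      rw [← h2, inf_comm]
      exact inf_le_inf_right _ h1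
    refine h3.trans ?_
    rw [Subgroup.focalSubgroup_def, Subgroup.closure_le]
    rintro g ⟨hgT, x, hx, u, rfl⟩
    -- `u x⁻¹ u⁻¹ ∈ T`
    have hux : (u⁻¹)⁻¹ * x⁻¹ * u⁻¹ ∈ T := by
      have : (u⁻¹)⁻¹ * x⁻¹ * u⁻¹ = x⁻¹ * ⁅x, u⁆ := by
        rw [commutatorElement_def]; group
      rw [this]
      exact T.mul_mem (T.inv_mem hx) hgT
    obtain ⟨n, hn, hnx⟩ := T.conj_eq_normalizer_conj_of_mem x⁻¹ u⁻¹ (T.inv_mem hx) hux
    have : ⁅x, u⁆ = ⁅x, n⁻¹⁆ := by
      rw [inv_inv] at hnx
      rw [commutatorElement_def, commutatorElement_def, inv_inv, mul_assoc x, mul_assoc x, hnx,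
        mul_assoc x, mul_assoc x]
    rw [SetLike.mem_coe, this]
    exact Subgroup.commutator_mem_commutator hx (inv_mem hn)
  · have hN : (Cfsg.pResidual p G).Normal := pResidual_normal_aux G p
    -- the quotient is a `p`-group
    have hq : IsPGroup p (G ⧸ Cfsg.pResidual p G) := by
      intro g
      obtain ⟨g, rfl⟩ := QuotientGroup.mk_surjective g
      have hpos : orderOf g ≠ 0 := (orderOf_pos g).ne'
      obtain ⟨k, m, hm, hkm⟩ := Nat.exists_eq_pow_mul_and_not_dvd hpos p
        (Fact.out : p.Prime).ne_one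
      refine ⟨k, ?_⟩
      have : g ^ p ^ k ∈ Cfsg.pResidual p G := by
        apply Subgroup.subset_closure
        have h1 : orderOf (g ^ p ^ k) ∣ m := by
          apply orderOf_dvd_of_pow_eq_one
          rw [← pow_mul, ← hkm, pow_orderOf_eq_one]
        exact Nat.Coprime.coprime_dvd_left h1
          (((Nat.Prime.coprime_iff_not_dvd Fact.out).mpr hm).symm)
      rw [← QuotientGroup.mk_pow]
      exact (QuotientGroup.eq_one_iff _).mpr this
    have htop : (T : Subgroup G) ⊔ Cfsg.pResidual p G = ⊤ := by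
      rw [← Subgroup.index_eq_one]
      obtain ⟨k, hk⟩ := hq.exists_card_eq
      have h1 : ((T : Subgroup G) ⊔ Cfsg.pResidual p G).index ∣ p ^ k := by
        rw [← hk]
        exact Subgroup.index_dvd_of_le le_sup_right
      have h2 : ((T : Subgroup G) ⊔ Cfsg.pResidual p G).index ∣ (T : Subgroup G).index :=
        Subgroup.index_dvd_of_le le_sup_left
      have h3 : Nat.Coprime (T : Subgroup G).index (p ^ k) :=
        Nat.Coprime.pow_right k
          (((Nat.Prime.coprime_iff_not_dvd Fact.out).mpr T.not_dvd_index).symm)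
      exact Nat.eq_one_of_dvd_coprimes h3 h2 h1
    rw [Subgroup.commutator_le]
    intro x hx n hn
    refine ⟨?_, ?_⟩
    · rw [commutatorElement_def, mul_assoc x, mul_assoc x]
      exact T.mul_mem hx ((Subgroup.mem_normalizer_iff.mp hn x⁻¹).mp (T.inv_mem hx))
    · have hn' : n ∈ (T : Subgroup G) ⊔ Cfsg.pResidual p G := htop ▸ Subgroup.mem_top n
      obtain ⟨t, ht, r, hr, rfl⟩ := Subgroup.mem_sup_of_normal_right.mp hn'
      have hcomm : x * t = t * x := by
        have := hT.is_comm.comm (⟨x, hx⟩ : T) ⟨t, ht⟩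
        exact congrArg Subtype.val this
      change ⁅x, t * r⁆ ∈ Cfsg.pResidual p G
      rw [← QuotientGroup.eq_one_iff]
      have hr' : (r : G ⧸ Cfsg.pResidual p G) = 1 := (QuotientGroup.eq_one_iff r).mpr hr
      rw [commutatorElement_def]
      rw [QuotientGroup.mk_mul, QuotientGroup.mk_mul, QuotientGroup.mk_mul, QuotientGroup.mk_inv,
        QuotientGroup.mk_inv, QuotientGroup.mk_mul, hr', mul_one, ← QuotientGroup.mk_mul, hcomm,
        QuotientGroup.mk_mul]
      group

end Cfsg.Agent.S0075
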