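import Cfsg.Statements.S0050
import Mathlib
import Cfsg.Agent.S0004

set_option autoImplicit false
open Cfsg

namespace Cfsg.Agent.S0050

open scoped Pointwise in
/-- Two Hall subgroups of the same order of a solvable subgroup `L` are conjugate in `L`. -/
theorem exists_conj_of_le {G : Type*} [Group G] [Finite G] (L : Subgroup G)
    (hL : Group.IsSolvable L) (H K : Subgroup G) (hHL : H ≤ L) (hKL : K ≤ L)
    (hHall : (Nat.card H).Coprime (H.relIndex L)) (hcard : Nat.card K = Nat.card H) :
    ∃ l ∈ L, MulAut.conj l • K = H := by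
  have h1 : Nat.card (H.subgroupOf L) = Nat.card H :=
    Nat.card_congr (Subgroup.subgroupOfEquivOfLe hHL).toEquiv
  have h2 : Nat.card (K.subgroupOf L) = Nat.card H := by
    rw [← hcard]
    exact Nat.card_congr (Subgroup.subgroupOfEquivOfLe hKL).toEquiv
  have hG : Nat.card L = Nat.card H * (H.relIndex L) := by
    rw [← h1]
    exact ((H.subgroupOf L).card_mul_index).symm
  obtain ⟨l, hl⟩ := Cfsg.Agent.S0004.result (G := L) (Nat.card H) (H.relIndex L) hG hHall
    (K.subgroupOf L) (H.subgroupOf L) h2 h1
  refine ⟨l, l.2, ?_⟩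
  ext x
  rw [Subgroup.mem_pointwise_smul_iff_inv_smul_mem]
  have key : ∀ y : L, y ∈ H.subgroupOf L ↔ (MulAut.conj l)⁻¹ • y ∈ K.subgroupOf L := by
    intro y
    rw [← hl, Subgroup.mem_pointwise_smul_iff_inv_smul_mem]
  constructor
  · intro hx
    have hxL : x ∈ L := by
      have h3 := hKL hx
      rw [← map_inv, MulAut.smul_def, MulAut.conj_apply] at h3
      have h4 := L.mul_mem (L.mul_mem l.2 h3) (L.inv_mem l.2)
      convert h4 using 1
      group
    have := (key ⟨x, hxL⟩).mpr
    rw [Subgroup.mem_subgroupOf, Subgroup.mem_subgroupOf] at this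
    apply this
    exact hx
  · intro hx
    have := (key ⟨x, hHL hx⟩).mp hx
    exact this

open scoped Pointwise in
/-- Frattini argument for Hall subgroups: if L is a solvable normal subgroup and H a subgroup of L of order coprime to its index in L, then L together with the normaliser of H generates the whole group. -/
theorem result {G : Type*} [Group G] [Finite G] (L : Subgroup G) [L.Normal] (hL : Group.IsSolvable L)
    (H : Subgroup G) (hHL : H ≤ L) (hHall : (Nat.card H).Coprime (H.relIndex L)) :
    L ⊔ Subgroup.normalizer (H : Set G) = ⊤ := by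
  rw [eq_top_iff]
  intro g _
  have h1 : MulAut.conj g • H ≤ L := by
    intro x hx
    rw [Subgroup.mem_pointwise_smul_iff_inv_smul_mem] at hx
    have h2 := hHL hx
    rw [← map_inv, MulAut.smul_def, MulAut.conj_apply] at h2
    have h3 := (inferInstance : L.Normal).conj_mem _ h2 g
    convert h3 using 1
    group
  have h2 : Nat.card (MulAut.conj g • H : Subgroup G) = Nat.card H :=
    Nat.card_congr (Subgroup.equivSMul (MulAut.conj g) H).toEquiv.symm
  obtain ⟨l, hl, hlg⟩ := exists_conj_of_le L hL H _ hHL h1 hHall h2
  have h3 : l * g ∈ Subgroup.normalizer (H : Set G) := by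
    rw [← mul_smul, ← map_mul] at hlg
    rw [Subgroup.mem_normalizer_iff]
    intro h
    constructor
    · intro hh
      rw [← SetLike.mem_coe, SetLike.mem_coe]
      rw [← hlg, Subgroup.mem_pointwise_smul_iff_inv_smul_mem, ← map_inv, MulAut.smul_def,
        MulAut.conj_apply]
      convert hh using 1
      group
    · intro hh
      rw [← hlg, Subgroup.mem_pointwise_smul_iff_inv_smul_mem, ← map_inv, MulAut.smul_def,
        MulAut.conj_apply] at hh
      convert hh using 1
      group
  have h4 : g = l⁻¹ * (l * g) := by group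
  rw [h4]
  exact Subgroup.mul_mem _ (Subgroup.mem_sup_left (L.inv_mem hl)) (Subgroup.mem_sup_right h3)

end Cfsg.Agent.S0050
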