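import Cfsg.Statements.S1768
import Cfsg.Agent.RuRed.Final768
import Cfsg.Agent.RuC.Fin
import Cfsg.Agent.Ru8.Final8
import Cfsg.Agent.RuB.IsoRu

set_option autoImplicit false
open Cfsg

namespace Cfsg.Agent.S1768

/-- Let G be a finite group with no nontrivial normal subgroup of odd order in which every section has the B-property, and let A be a standard subgroup of G isomorphic to the Suzuki group over the field with 8 elements whose centralizer contains a Klein four-group. Then either A is normal in G, or the normal closure of A in G is isomorphic to the Rudvalis group. -/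
theorem result {G : Type*} [Group G] [Finite G] (hO : Cfsg.oddCore G = ⊥) (hB : Cfsg.HasStrongBProperty G)
    (A : Subgroup G) (hA : Cfsg.IsStandardSubgroup A) {F : Type*} [Field F] [Fintype F] (hF : Fintype.card F = 8)
    (hAX : Nonempty (↥A ≃* ↥(Cfsg.Lie.Sz F 4))) (hR : ¬ Cfsg.PRankLE 2 1 ↥(Subgroup.centralizer (A : Set G))) :
    A.Normal ∨ Cfsg.Spor.IsoRu ↥(Subgroup.normalClosure (A : Set G)) := by
  exact Cfsg.Agent.RuRed.Final768.result_of (fun K _ _ C hr => Cfsg.Agent.RuB.IsoRu.isoRu C hr)
    (fun G K _ _ _ _ C hr M φ h =>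
      Cfsg.Agent.RuC.eq_top C hr (fun K _ _ C hr => Cfsg.Agent.RuB.IsoRu.isoRu C hr) h)
    (fun K _ _ C => Cfsg.Agent.Ru8.false_of_core8 C) hO A hA hF hAX hR

end Cfsg.Agent.S1768
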