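import Cfsg.Statements.S1732
import Cfsg.Agent.S1768
import Cfsg.Agent.RuRed.RankOneEnd

set_option autoImplicit false
open Cfsg

namespace Cfsg.Agent.S1732

/-- Let G be a non-abelian finite simple group which is locally balanced (the centralizer of every involution has no nontrivial normal subgroup of odd order) and has the strong B-property (every section of G has the B-property), and let L be a standard subgroup of G isomorphic to the Suzuki group over the field with 8 elements. Then G is isomorphic to the Rudvalis group. -/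
theorem result {G : Type*} [Group G] [Finite G] [IsSimpleGroup G] (hG : ¬ IsMulCommutative G)
    (hbal : ∀ t : G, orderOf t = 2 → Cfsg.centralizerPPrimeCore 2 t = ⊥) (hB : Cfsg.HasStrongBProperty G)
    (L : Subgroup G) (hL : Cfsg.IsStandardSubgroup L)
    {F : Type*} [Field F] [Fintype F] (hF : Fintype.card F = 8) (hLX : Nonempty (↥L ≃* ↥(Cfsg.Lie.Sz F 4))) :
    Cfsg.Spor.IsoRu G := by
  have hr : ¬ Cfsg.PRankLE 2 1 ↥(Subgroup.centralizer (L : Set G)) :=
    fun h => Cfsg.Agent.RuRed.RankOneEnd.false_of_rankOne hG hL hF hLX h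
  obtain ⟨⟨t, htL⟩, ht⟩ := exists_prime_orderOf_dvd_card' (G := Subgroup.centralizer (L : Set G)) 2
    (even_iff_two_dvd.1 hL.2.1.1)
  rw [← Subgroup.orderOf_coe] at ht
  have h1 := Cfsg.Agent.S1768.result (Cfsg.Agent.RuRed.RankOneEnd.oddCore_eq_bot ht) hB L hL hF hLX hr
  have hbot : L ≠ ⊥ := by
    intro h
    have h2 := hL.1.2
    have h3 : Nontrivial (L ⧸ Subgroup.center L) := h2.toNontrivial
    have h4 : Subsingleton L := by rw [h]; infer_instance
    exact not_subsingleton (L ⧸ Subgroup.center L) inferInstance
  rcases h1 with h | ⟨⟨e⟩⟩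
  · exfalso
    rcases h.eq_bot_or_eq_top with h2 | h2
    · exact hbot h2
    · -- `t` is central in `G`
      have h3 : (⟨t, htL⟩ : Subgroup.centralizer (L : Set G)).1 ∈ Subgroup.center G := by
        rw [Subgroup.mem_center_iff]
        intro g
        exact Subgroup.mem_centralizer_iff.1 htL g (by rw [h2]; exact Subgroup.mem_top g)
      have hn : (Subgroup.center G).Normal := inferInstance
      rcases hn.eq_bot_or_eq_top with h4 | h4
      · rw [h4, Subgroup.mem_bot] at h3
        rw [h3, orderOf_one] at ht
        exact absurd ht (by decide)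
      · apply hG
        refine ⟨⟨fun a b => ?_⟩⟩
        have ha : a ∈ Subgroup.center G := by rw [h4]; exact Subgroup.mem_top a
        exact ((Subgroup.mem_center_iff.1 ha) b).symm
  · have hn : (Subgroup.normalClosure (L : Set G)).Normal := inferInstance
    rcases hn.eq_bot_or_eq_top with h2 | h2
    · exact absurd (le_bot_iff.1 (h2 ▸ Subgroup.le_normalClosure : L ≤ ⊥)) hbot
    · exact ⟨(Subgroup.topEquiv.symm.trans (MulEquiv.subgroupCongr h2.symm)).trans e⟩

end Cfsg.Agent.S1732
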