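import Cfsg.Statements.S1734
import Cfsg.Agent.StdAlt.CommHalf
import Cfsg.Agent.StdSpSix.Reduction
import Cfsg.Agent.StdSpSix.Main6
import Cfsg.Agent.StdSpSix.AllMain
import Cfsg.Agent.StdSpSix.AllSwap
import Cfsg.Agent.StdSpSix.SwMain
import Cfsg.Agent.StdO8.Final
import Cfsg.Agent.U62.Top

set_option autoImplicit false
open Cfsg

namespace Cfsg.Agent.S1734

/-- Let G be a non-abelian finite simple group which is locally balanced (the centralizer of every involution has no nontrivial normal subgroup of odd order) and has the strong B-property (every section of G has the B-property), and let L be a standard subgroup of G which is either a double cover of the projective special unitary group of dimension 6 over the field with 4 elements (centre of order 2), or isomorphic to the symplectic group of dimension 6 over the field with 2 elements, or isomorphic to the commutator subgroup of the plus-type orthogonal group of dimension 8 over the field with 2 elements. Then G is isomorphic to the Fischer group Fi22. -/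
theorem result {G : Type*} [Group G] [Finite G] [IsSimpleGroup G] (hG : ¬ IsMulCommutative G)
    (hbal : ∀ t : G, orderOf t = 2 → Cfsg.centralizerPPrimeCore 2 t = ⊥) (hB : Cfsg.HasStrongBProperty G)
    (L : Subgroup G) (hL : Cfsg.IsStandardSubgroup L)
    {F : Type*} [Field F] [Fintype F] (hF : Fintype.card F = 2) {E : Type*} [Field E] [Fintype E] (hE : Fintype.card E = 4)
    (hLX : (Nat.card ↥(Subgroup.center ↥L) = 2 ∧ Nonempty (↥L ⧸ Subgroup.center ↥L ≃* Cfsg.PSU 6 E 2)) ∨ Nonempty (↥L ≃* Cfsg.PSp 3 F) ∨
      Nonempty (↥L ≃* Cfsg.POmega F (Cfsg.quadFormPlus 4 F))) :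
    Cfsg.Spor.IsoFi22 G := by
  rcases hLX with ⟨hZ, ⟨e⟩⟩ | ⟨⟨e⟩⟩ | ⟨⟨e⟩⟩
  · exact Cfsg.Agent.U62.Top.main hG hbal hL hE hZ e
  · refine (Cfsg.Agent.StdSpSix.Reduction.false_of_standard hG Cfsg.Agent.StdAlt.CommHalf.commHalf_of_oddCore
      hbal L hL hF e fun C => Cfsg.Agent.StdSpSix.Main6.main C fun h1 h2 => ?_).elim
    have hsw := Cfsg.Agent.StdSpSix.AllSwap.exists_sw (C := C) ⟨h1, h2⟩
    exact Cfsg.Agent.StdSpSix.AllMain.exists_hom_of h1 h2 hsw (Cfsg.Agent.StdSpSix.SwMain.dichotomy C hsw)
  · exact (Cfsg.Agent.StdO8.Final.false_of_standard hG Cfsg.Agent.StdAlt.CommHalf.commHalf_of_oddCore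
      hbal L hL hF e).elim

end Cfsg.Agent.S1734
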