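import Cfsg.Statements.S1735
import Cfsg.Agent.StdFi22.Final
import Cfsg.Agent.StdFi22.Glue
import Cfsg.Agent.StdFi22.MainFi22

set_option autoImplicit false
open Cfsg

namespace Cfsg.Agent.S1735

/-- The hypotheses of the assembly from the reduction. -/
theorem out_of {G : Type*} [Group G] {z : G} {L : Subgroup G} {φ : L →* Cfsg.Spor.Fi22}
    {D : Set L} (h : Cfsg.Agent.StdFi22.Red z L φ Cfsg.Agent.R08.AutT.T D)
    (o1 : ∀ k : G, (∀ l ∈ L, k * l = l * k) → k = 1 ∨ k = z)
    (o2 : ∀ a b : G, a * z = z * a → b * z = z * b → a ∉ L → b ∉ L → a * b ∈ L)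
    (o3 : ∃ g : G, g * z * g⁻¹ ∈ L ∧ g * z * g⁻¹ ≠ z) : Cfsg.Agent.StdFi22.OutDef.Out z L φ := by
  have e := h.cov.lift.ext
  refine
    { zz := congrArg Subtype.val e.zz
      zne := fun h1 => e.zne (Subtype.ext h1)
      zL := h.zL
      le := fun l hl => congrArg Subtype.val (e.comm ⟨l, hl⟩)
      perf := h.cov.perf
      surj := e.surj
      ker := fun l => (e.ker l).trans ⟨?_, ?_⟩
      cent := fun c _ hc => o1 c hc
      mul := o2
      exz := o3 }
  · rintro (h1 | h1)
    · exact Or.inl h1
    · exact Or.inr (congrArg Subtype.val h1)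
  · rintro (h1 | h1)
    · exact Or.inl h1
    · exact Or.inr (Subtype.ext h1)

/-- Let G be a non-abelian finite simple group which is locally balanced (the centralizer of every involution has no nontrivial normal subgroup of odd order) and has the strong B-property (every section of G has the B-property), and let L be a standard subgroup of G whose centre has order 2 with quotient isomorphic to the Fischer group Fi22. Then G is isomorphic to the Fischer group Fi23 or the Fischer group Fi24'. -/
theorem result {G : Type*} [Group G] [Finite G] [IsSimpleGroup G] (hG : ¬ IsMulCommutative G)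
    (hbal : ∀ t : G, orderOf t = 2 → Cfsg.centralizerPPrimeCore 2 t = ⊥) (hB : Cfsg.HasStrongBProperty G)
    (L : Subgroup G) (hL : Cfsg.IsStandardSubgroup L)
    (hLX : (Nat.card ↥(Subgroup.center ↥L) = 2 ∧ Nonempty (↥L ⧸ Subgroup.center ↥L ≃* Cfsg.Spor.Fi22))) :
    Cfsg.Spor.IsoFi23 G ∨ Cfsg.Spor.IsoFi24' G := by
  obtain ⟨z, φ, D, -, h⟩ := Cfsg.Agent.StdFi22.Glue.exists_red Cfsg.Agent.R08.LemmaVInst.lemmaV hG hbal hL hLX.1 hLX.2
  obtain ⟨o1, o2, o3⟩ := Cfsg.Agent.StdFi22.MainFi22.red h
  exact Cfsg.Agent.StdFi22.Final.main hbal (out_of h o1 o2 o3)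

end Cfsg.Agent.S1735
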