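import Cfsg.Statements.S1736
import Cfsg.Agent.BabyU.HalfA
import Cfsg.Agent.BabyU.KEqEFin
import Cfsg.Agent.BabyU.ModelInst
import Cfsg.Agent.BabyU.CentT1Model
import Cfsg.Agent.BM.HBFinal
import Cfsg.Agent.F42.Final

set_option autoImplicit false
open Cfsg

namespace Cfsg.Agent.S1736

/-- Let G be a non-abelian finite simple group which is locally balanced (the centralizer of every involution has no nontrivial normal subgroup of odd order) and has the strong B-property (every section of G has the B-property), and let L be a standard subgroup of G which is either a double cover of the twisted group ²E₆(2) (centre of order 2) or isomorphic to the Chevalley group F₄(2). Then G is isomorphic to the Baby Monster. -/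
theorem result {G : Type*} [Group G] [Finite G] [IsSimpleGroup G] (hG : ¬ IsMulCommutative G)
    (hbal : ∀ t : G, orderOf t = 2 → Cfsg.centralizerPPrimeCore 2 t = ⊥) (hB : Cfsg.HasStrongBProperty G)
    (L : Subgroup G) (hL : Cfsg.IsStandardSubgroup L)
    {F : Type*} [Field F] [Fintype F] (hF : Fintype.card F = 2) {K : Type*} [Field K] [Fintype K] (hK : Fintype.card K = 4)
    (hLX : (Nat.card ↥(Subgroup.center ↥L) = 2 ∧ Nonempty (↥L ⧸ Subgroup.center ↥L ≃* ↥(Cfsg.Lie.twistedE6 K 2))) ∨ Nonempty (↥L ≃* ↥(Cfsg.Lie.chevF4.group F))) :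
    Cfsg.Spor.IsoB G := by
  have := Cfsg.Agent.BM.HBFinal.finite_HB
  exact Cfsg.Agent.BabyU.HalfA.literal (fun K _ _ hK => Cfsg.Agent.BM.HBFinal.hcard K hK)
    (Cfsg.Agent.BabyU.CentT1.of_stageW Cfsg.Agent.BabyM.Instance.all Cfsg.Agent.BabyM.Instance.tr
      Cfsg.Agent.BabyM.Instance.ok Cfsg.Agent.BM.KHAll.isB Cfsg.Agent.BM.KHAll.surj)
    Cfsg.Agent.BabyU.ModelInst.model
    (fun G _ _ _ hG F _ _ hF L K t π c => Cfsg.Agent.BabyU.KEqE.keq
      (fun K _ _ hK => Cfsg.Agent.BM.HBFinal.hcard K hK) G hG F hF L K t π c)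
    (fun G _ _ _ hG hbal L hL F _ _ hF e => Cfsg.Agent.F42.Final.false_of_standard hG hbal L hL hF e)
    hG hbal L hL hF hK hLX

end Cfsg.Agent.S1736
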