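import Cfsg.Statements.S1739
import Cfsg.Agent.S0215
import Cfsg.Agent.Intrinsic.Ext
import Cfsg.Agent.McLLyComp.Close
import Cfsg.Agent.Wreath.EndMain
import Cfsg.Agent.TypeM.InpOf

set_option autoImplicit false
open Cfsg

namespace Cfsg.Agent.S1739

/-- the bridge -/
theorem wa.{u} : Cfsg.Agent.McLLyComp.WFinal.WAStmt.{u} :=
  fun _ _ _ _ _ _ _ _ _ _ _ _ D w7 => Cfsg.Agent.TypeM.InpOf.exists_inp D w7

/-- the end of the wreath pattern -/
theorem endStmt.{u} : Cfsg.Agent.McLLyComp.WFinal.EndStmt.{u} :=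
  fun _ _ _ _ _ _ _ _ h h3 _ nM hs idx hcase => Cfsg.Agent.Wreath.EndMain.false_of
    (fun _ _ _ P A B h1 h2 h3 => Cfsg.Agent.TwoFusion.ClosedCommutator.commutator_le P A B h1 h2 h3)
    h h3 nM hs idx hcase

/-- Let G be a finite group with no nontrivial normal subgroup of odd order whose generalized Fitting subgroup is quasisimple, t an involution of G with centralizer C, and K a 2-component of C. Then K modulo its largest normal odd-order subgroup is isomorphic neither to the McLaughlin group nor to the Lyons group. -/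
theorem result {G : Type*} [Group G] [Finite G]
    (hO : Cfsg.oddCore G = ⊥) (hF : Cfsg.IsQuasisimple ↥(Cfsg.generalizedFittingSubgroup G)) (t : G) (ht : orderOf t = 2)
    (K : Subgroup ↥(Subgroup.centralizer ({t} : Set G))) (hK : Cfsg.IsPComponent 2 K) :
    ¬ Cfsg.Spor.IsoMcL (↥K ⧸ Cfsg.oddCore ↥K) ∧ ¬ Cfsg.Spor.IsoLy (↥K ⧸ Cfsg.oddCore ↥K) := by
  exact Cfsg.Agent.McLLyComp.Close.close
    (Cfsg.Agent.Intrinsic.Final.simpleCase Cfsg.Agent.Intrinsic.Ext.zero Cfsg.Agent.Intrinsic.Ext.nz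
      Cfsg.Agent.Intrinsic.Ext.pair)
    (fun _ _ _ P A B h1 h2 h3 => Cfsg.Agent.TwoFusion.ClosedCommutator.commutator_le P A B h1 h2 h3)
    (fun _ _ _ P u h1 h2 h3 => Cfsg.Agent.S0215.result P u h1 h2 h3)
    wa endStmt hO hF t ht K hK

end Cfsg.Agent.S1739
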