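import Cfsg.Statements.S1748
import Cfsg.Agent.StdL3.OneNoTwo
import Cfsg.Agent.StdLThreeFour.ClMain
import Cfsg.Agent.SuzAmCert.Phi
import Cfsg.Agent.TwoFusion.ClosedCommutator

set_option autoImplicit false
open Cfsg

namespace Cfsg.Agent.S1748

/-- Let G be a non-abelian finite simple group with the strong B-property (every section of G has the B-property) possessing a standard subgroup L isomorphic to the projective special linear group of dimension 3 over the field with 4 elements. Then G is a group of Lie type in characteristic 3, or an alternating group of degree at least 9, or G is isomorphic to the sporadic Suzuki group. -/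
theorem result {G : Type*} [Group G] [Finite G] [IsSimpleGroup G] (hG : ¬ IsMulCommutative G)
    (hB : Cfsg.HasStrongBProperty G) (L : Subgroup G) (hL : Cfsg.IsStandardSubgroup L)
    {F : Type*} [Field F] [Fintype F] (hF : Fintype.card F = 4)
    (hLX : Nonempty (↥L ≃* Matrix.ProjectiveSpecialLinearGroup (Fin 3) F)) :
    Cfsg.IsLieTypeChar 3 G ∨ (∃ n : ℕ, 9 ≤ n ∧ Nonempty (G ≃* ↥(alternatingGroup (Fin n)))) ∨ Cfsg.Spor.IsoSuz G := by
  have hG' : ¬ ∀ a b : G, a * b = b * a := fun h => hG ⟨⟨h⟩⟩
  exact Or.inr (Or.inr (Cfsg.Agent.StdLThreeFour.Assembly.isoSuz_of hG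
    (fun P A B h1 h2 h3 => Cfsg.Agent.TwoFusion.ClosedCommutator.commutator_le P A B h1 h2 h3)
    (Cfsg.Agent.StdL3.OneNoTwo.noTwo hG')
    (Cfsg.Agent.StdLThreeFour.ClMain.toSuz hG'
      (fun _ _ _ _ _ _ _ hρ _ => Cfsg.Agent.SuzAmCert.Phi.phi_of_rho hρ)) L hL hF hLX))

end Cfsg.Agent.S1748
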