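import Cfsg.Statements.S1750
import Cfsg.Agent.Lib.Cores
import Cfsg.Agent.CoThreeStd.Core.Final
import Cfsg.Agent.CoThreeStd.Bound.BetaFin
import Cfsg.Agent.CoThreeStd.OutDead
import Cfsg.Agent.CoThreeStd.SuzU.UBThree
import Cfsg.Agent.StdAlt.CommHalf

set_option autoImplicit false
open Cfsg

namespace Cfsg.Agent.S1750

theorem oddCore_bot {G : Type*} [Group G] [Finite G] [IsSimpleGroup G] {L : Subgroup G}
    (e : ↥L ≃* ↥Cfsg.Spor.M12) : Cfsg.oddCore G = ⊥ := by
  rcases (Cfsg.pPrimeCore_normal 2 G).eq_bot_or_eq_top with h | h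
  · exact h
  · exfalso
    have h1 := Cfsg.Agent.Lib.Cores.pPrimeCore_coprime (G := G) 2
    rw [h, Subgroup.card_top] at h1
    have h3 := Nat.coprime_two_right.1 h1
    let u : ↥Cfsg.Spor.M12 := Cfsg.Agent.CoThreeStd.MTwelve.y
    have h4 : orderOf u = 2 := by
      have := Fact.mk Nat.prime_two
      exact orderOf_eq_prime (by rw [pow_two]; exact Cfsg.Agent.CoThreeStd.MTwelve.y_sq) Cfsg.Agent.CoThreeStd.InvTwo.y_ne
    have h5 : orderOf ((e.symm u : ↥L) : G) = 2 := by
      rw [Subgroup.orderOf_coe, MulEquiv.orderOf_eq, h4]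
    exact (Nat.not_even_iff_odd.2 h3) (even_iff_two_dvd.2 (h5 ▸ orderOf_dvd_natCard ((e.symm u : ↥L) : G)))

/-- Let G be a non-abelian finite simple group with the strong B-property (every section of G has the B-property) possessing a standard subgroup L isomorphic to the Mathieu group of degree 12. Then G is a group of Lie type in characteristic 3, or an alternating group of degree at least 9, or G is isomorphic to the third Conway group. -/
theorem result {G : Type*} [Group G] [Finite G] [IsSimpleGroup G] (hG : ¬ IsMulCommutative G)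
    (hB : Cfsg.HasStrongBProperty G) (L : Subgroup G) (hL : Cfsg.IsStandardSubgroup L)
    (hLX : Nonempty (↥L ≃* ↥Cfsg.Spor.M12)) :
    Cfsg.IsLieTypeChar 3 G ∨ (∃ n : ℕ, 9 ≤ n ∧ Nonempty (G ≃* ↥(alternatingGroup (Fin n)))) ∨ Cfsg.Spor.IsoCo3 G := by
  have hO : Cfsg.oddCore G = ⊥ := by
    obtain ⟨e⟩ := hLX
    exact oddCore_bot e
  exact Or.inr (Or.inr (Cfsg.Agent.CoThreeStd.Core.isoCo3 hG Cfsg.Agent.CoThreeStd.Bound.BetaFin.betaIso
    (Cfsg.Agent.CoThreeStd.OutDead.outerDead Cfsg.Agent.CoThreeStd.SuzU.UBThree.ub3)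
    (Cfsg.Agent.StdAlt.CommHalf.commHalf_of_oddCore hO) hL hLX))

end Cfsg.Agent.S1750
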