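import Cfsg.Statements.S1767
import Cfsg.Agent.StdG24.MainA
import Cfsg.Agent.StdG24.Comm

set_option autoImplicit false
open Cfsg

namespace Cfsg.Agent.S1767

/-- Let G be a finite group with no nontrivial normal subgroup of odd order in which every section has the B-property, and let A be a standard subgroup of G isomorphic to the Chevalley group of type G₂ over the field with 4 elements whose centralizer contains a Klein four-group. Then either A is normal in G, or the normal closure of A in G is isomorphic to the first Conway group. -/
theorem result {G : Type*} [Group G] [Finite G] (hO : Cfsg.oddCore G = ⊥) (hB : Cfsg.HasStrongBProperty G)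
    (A : Subgroup G) (hA : Cfsg.IsStandardSubgroup A) {F : Type*} [Field F] [Fintype F] (hF : Fintype.card F = 4)
    (hAX : Nonempty (↥A ≃* ↥(Cfsg.Lie.chevG2.group F))) (hR : ¬ Cfsg.PRankLE 2 1 ↥(Subgroup.centralizer (A : Set G))) :
    A.Normal ∨ Cfsg.Spor.IsoCo1 ↥(Subgroup.normalClosure (A : Set G)) :=
  StdG24.MainA.main hO A hA hF hAX hR (StdG24.Comm.commHalf_of_bot hO) (fun _ => StdG24.Comm.commHalf_quot)

end Cfsg.Agent.S1767
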