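import Cfsg.Statements.S1752
import Cfsg.Agent.StandardComponent.HS.Final

set_option autoImplicit false
open Cfsg

namespace Cfsg.Agent.S1752

/-- Let G be a non-abelian finite simple group with the strong B-property (every section of G has the B-property) possessing a standard subgroup L whose centre has order 2 with quotient isomorphic to the Higman–Sims group. Then G is a group of Lie type in characteristic 3, or an alternating group of degree at least 9, or G is isomorphic to the Harada–Norton group. -/
theorem result {G : Type*} [Group G] [Finite G] [IsSimpleGroup G] (hG : ¬ IsMulCommutative G)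
    (hB : Cfsg.HasStrongBProperty G) (L : Subgroup G) (hL : Cfsg.IsStandardSubgroup L)
    (hLX : Nat.card ↥(Subgroup.center ↥L) = 2 ∧ Nonempty (↥L ⧸ Subgroup.center ↥L ≃* ↥Cfsg.Spor.HS)) :
    Cfsg.IsLieTypeChar 3 G ∨ (∃ n : ℕ, 9 ≤ n ∧ Nonempty (G ≃* ↥(alternatingGroup (Fin n)))) ∨ Cfsg.Spor.IsoHN G := by
  obtain ⟨φ, inj, -, -, -, acts, cent, tight⟩ := StandardComponent.HS.StdPhi.exists_phi hL hLX.1 hLX.2
  have S : StandardComponent.HS.PairA.Std φ := ⟨inj, acts, cent, tight⟩
  have ht : orderOf (φ HN.FusK0.τ0) = 2 :=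
    StandardComponent.StdCtx.orderOf_two S.t_ne StandardComponent.HS.FourOuter.t_sq
  obtain ⟨h, hc, hne⟩ := StandardComponent.StdCtx.fusion hG ht
  exact Or.inr (Or.inr (StandardComponent.HS.Final.iso_of_std hG S ⟨h, hne, hc⟩))

end Cfsg.Agent.S1752
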