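import Cfsg.Statements.S1766
import Cfsg.Agent.StdAlt.GlueSix
import Cfsg.Agent.StdAlt.CommHalf
import Cfsg.Agent.StdAlt.Five.Main

set_option autoImplicit false
open Cfsg

namespace Cfsg.Agent.S1766

/-- Let G be a finite group with no nontrivial normal subgroup of odd order in which every section has the B-property, and let A be a standard subgroup of G isomorphic to the alternating group of degree n ≥ 5 whose centralizer contains a Klein four-group. Then either A is normal in G, or the normal closure of A in G is isomorphic to the alternating group of degree n + 4, or n = 5 and it is isomorphic to the Mathieu group of degree 12 or to the second Janko group. -/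
theorem result {G : Type*} [Group G] [Finite G] (hO : Cfsg.oddCore G = ⊥) (hB : Cfsg.HasStrongBProperty G)
    (A : Subgroup G) (hA : Cfsg.IsStandardSubgroup A) (n : ℕ) (hn : 5 ≤ n)
    (hAX : Nonempty (↥A ≃* ↥(alternatingGroup (Fin n)))) (hR : ¬ Cfsg.PRankLE 2 1 ↥(Subgroup.centralizer (A : Set G))) :
    A.Normal ∨ Nonempty (↥(Subgroup.normalClosure (A : Set G)) ≃* ↥(alternatingGroup (Fin (n + 4)))) ∨
      (n = 5 ∧ (Cfsg.Spor.IsoM12 ↥(Subgroup.normalClosure (A : Set G)) ∨ Cfsg.Spor.IsoJ2 ↥(Subgroup.normalClosure (A : Set G)))) := by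
  obtain ⟨e⟩ := hAX
  rcases Nat.lt_or_ge n 6 with h | h
  · obtain rfl : n = 5 := by omega
    rcases Cfsg.Agent.StdAlt.Five.Main.main hO hA e hR with h1 | h1 | h1 | h1
    · exact Or.inl h1
    · exact Or.inr (Or.inl h1)
    · exact Or.inr (Or.inr ⟨rfl, Or.inl h1⟩)
    · exact Or.inr (Or.inr ⟨rfl, Or.inr h1⟩)
  · rcases Cfsg.Agent.StdAlt.GlueSix.ge_six hA h e hR
      (Cfsg.Agent.StdAlt.CommHalf.commHalf_of_oddCore hO) with h1 | h1
    · exact Or.inl h1
    · exact Or.inr (Or.inl h1)

end Cfsg.Agent.S1766
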