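import Cfsg.Statements.S1772
import Cfsg.Agent.S1169
import Cfsg.Agent.S1170
import Cfsg.Agent.StdSz.Main

set_option autoImplicit false
open Cfsg

namespace Cfsg.Agent.S1772

/-- Let G be a finite group with no nontrivial normal subgroup of odd order in which every section has the B-property; let A be a standard subgroup of G which is not normal in G, whose centralizer has cyclic Sylow 2-subgroups, and let t be an involution centralizing A. Suppose A modulo its centre is isomorphic to the Suzuki group over the field with 2^(2m+1) elements, m ≥ 1. Then either the layer E(G) is isomorphic to A × A, or E(G) is a group of Lie type in characteristic 2 (here including the Tits group) on which t induces an outer automorphism (no element of E(G) induces the same conjugation action on E(G) as t), or A is isomorphic to the Suzuki group over the field with 8 elements and E(G) to the Rudvalis group. -/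
theorem result {G : Type*} [Group G] [Finite G] (hO : Cfsg.oddCore G = ⊥) (hB : Cfsg.HasStrongBProperty G)
    (A : Subgroup G) (hA : Cfsg.IsStandardSubgroup A) (hnA : ¬ A.Normal)
    (hR : ∀ R : Sylow 2 ↥(Subgroup.centralizer (A : Set G)), IsCyclic ↥(R : Subgroup ↥(Subgroup.centralizer (A : Set G))))
    (t : G) (ht : orderOf t = 2) (htA : t ∈ Subgroup.centralizer (A : Set G))
    {F : Type*} [Field F] [Fintype F] (m : ℕ) (hm : 1 ≤ m) (hF : Fintype.card F = 2 ^ (2 * m + 1))
    (hAX : Nonempty (↥A ⧸ Subgroup.center ↥A ≃* ↥(Cfsg.Lie.Sz F (2 ^ (m + 1))))) :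
    Nonempty (↥(Cfsg.layer G) ≃* ↥A × ↥A) ∨ ((Cfsg.IsLieTypeChar 2 ↥(Cfsg.layer G) ∨ Cfsg.Lie.IsoTits ↥(Cfsg.layer G)) ∧ ¬ (∃ e : G, e ∈ Cfsg.layer G ∧ ∀ x ∈ Cfsg.layer G, t * x * t⁻¹ = e * x * e⁻¹)) ∨
      (Nonempty (↥A ≃* ↥(Cfsg.Lie.Sz F 4)) ∧ Fintype.card F = 8 ∧ Cfsg.Spor.IsoRu ↥(Cfsg.layer G)) := by
  rcases StdSz.Main.main
      (by intro G _ _ _ S A h1 h2 h3; exact Cfsg.Agent.S1169.result S A h1 h2 h3)
      (by intro G _ _ _ S A h1 h2 h3; exact Cfsg.Agent.S1170.result S A h1 h2 h3)
      hO A hA hnA hR t ht htA m hm hF hAX with h | ⟨h1, h2⟩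
  · exact Or.inl h
  · exact Or.inr (Or.inl ⟨Or.inl h1, h2⟩)

end Cfsg.Agent.S1772
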