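import Cfsg.Statements.S1773
import Cfsg.Agent.StdL2.Main
import Cfsg.Agent.StdL2.FieldMain
import Cfsg.Agent.StdL2.ExcMain
import Cfsg.Agent.StdL2.SFive.Main
import Cfsg.Agent.TwoFusion.ClosedCommutator
import Cfsg.Agent.S0205
import Cfsg.Agent.S0222
import Cfsg.Agent.S0482
import Cfsg.Agent.S0506
import Cfsg.Agent.S0507
import Cfsg.Agent.S0516
import Cfsg.Agent.S0523
import Cfsg.Agent.S1169
import Cfsg.Agent.S1170
import Cfsg.Agent.S1296
import Cfsg.Agent.S1740
import Cfsg.Agent.S1741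
import Cfsg.Agent.S1759

set_option autoImplicit false
open Cfsg

namespace Cfsg.Agent.S1773

universe u

theorem s0506 : Cfsg.Agent.StdL2.Ends.S0506Stmt.{u} :=
  fun G _ _ _ hG S hS => Cfsg.Agent.S0506.result (G := G) hG S hS

theorem s1170 : Cfsg.Agent.StdSz.Out.S1170Stmt.{u} :=
  fun G _ _ _ S A h1 h2 h3 => Cfsg.Agent.S1170.result (G := G) S A h1 h2 h3

theorem s1740 : Cfsg.Agent.StdL2.EndOne.S1740Stmt.{u} :=
  fun G _ _ _ h1 h2 S n h3 => Cfsg.Agent.S1740.result (G := G) h1 h2 S n h3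

theorem s0516 : Cfsg.Agent.StdL2.SLFiveId.S0516Stmt.{u} :=
  fun G _ _ _ hG h2 S _ _ _ hF P => Cfsg.Agent.S0516.result (G := G) hG h2 S hF P

theorem s0507 : Cfsg.Agent.StdL2.SLFiveId.S0507Stmt.{u} :=
  fun G _ _ _ S hS => Cfsg.Agent.S0507.result (G := G) S hS

theorem s0523 : Cfsg.Agent.StdL2.SLFiveId.S0523Stmt.{u} :=
  fun G _ _ _ S hS => Cfsg.Agent.S0523.result (G := G) S hS

theorem s0482 : Cfsg.Agent.StdL2.SFive.IdOne.S0482Stmt.{u} :=
  fun G _ _ _ hG h2 => Cfsg.Agent.S0482.result (G := G) hG h2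

theorem s1741 : Cfsg.Agent.StdL2.SFive.LeafZ4.S1741Stmt.{u} :=
  fun G _ _ _ S P hS h2 => Cfsg.Agent.S1741.result (G := G) S P hS h2

theorem s1169 : Cfsg.Agent.StdL2.S1169Stmt.{u} :=
  fun G _ _ _ S A h1 h2 h3 => Cfsg.Agent.S1169.result (G := G) S A h1 h2 h3

theorem gold : Cfsg.Agent.StdSz.EndClosed.Gold.{u} :=
  fun S A h1 h2 h3 => Cfsg.Agent.S1169.result S A h1 h2 h3

theorem s0222 : Cfsg.Agent.StdL2.S0222Stmt.{u} :=
  fun G _ _ _ h H hH => Cfsg.Agent.S0222.result (G := G) h H hH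

theorem s1171 : Cfsg.Agent.TypeL3.H1171.{u} :=
  fun X _ _ P A B h1 h2 h3 =>
    Cfsg.Agent.TwoFusion.ClosedCommutator.commutator_le (G := X) P A B h1 h2 h3

theorem s1296 : Cfsg.Agent.TypeL3.H1296.{u} :=
  fun X _ _ h1 h2 h3 => Cfsg.Agent.S1296.result (G := X) h1 h2 h3

theorem odd : Cfsg.Agent.StdL2.G23Comp.OddSolv.{u} :=
  fun G _ _ h => Cfsg.Agent.S0205.result (G := G) h

theorem s1759 : Cfsg.Agent.StdL2.G23Ident.Small.{u} :=
  fun G _ _ z hz h1 h2 h3 h4 h5 => Cfsg.Agent.S1759.result (G := G) z hz h1 h2 h3 h4 h5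


/-- Let G be a finite group with no nontrivial normal subgroup of odd order in which every section has the B-property; let A be a standard subgroup of G which is not normal in G, whose centralizer has cyclic Sylow 2-subgroups, and let t be an involution centralizing A. Suppose A modulo its centre is isomorphic to the projective special linear group of dimension 2 over the field F with 2^a elements (a ≥ 2). Then either the layer E(G) is isomorphic to A × A, or E(G) is a group of Lie type in characteristic 2 (here including the Tits group) on which t induces an outer automorphism (no element of E(G) induces the same conjugation action on E(G) as t); or a = 2 and E(G) is isomorphic to the Mathieu group of degree 12, the alternating group of degree 9 or 7, the first or second Janko group, the projective special linear group of dimension 2 over the field with 25 elements, the projective special linear group of dimension 3 over the field with 5 elements, the projective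 special unitary group of dimension 3 over the field with 25 elements, or the Chevalley group of type G₂ or the triality-twisted group of type D₄ with parameter 5; or A is isomorphic to the projective special linear group of dimension 2 over the field with 8 elements and E(G) to the Chevalley group of type G₂ over the field with 3 elements. -/
theorem result {G : Type*} [Group G] [Finite G] (hO : Cfsg.oddCore G = ⊥) (hB : Cfsg.HasStrongBProperty G)
    (A : Subgroup G) (hA : Cfsg.IsStandardSubgroup A) (hnA : ¬ A.Normal)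
    (hR : ∀ R : Sylow 2 ↥(Subgroup.centralizer (A : Set G)), IsCyclic ↥(R : Subgroup ↥(Subgroup.centralizer (A : Set G))))
    (t : G) (ht : orderOf t = 2) (htA : t ∈ Subgroup.centralizer (A : Set G))
    {F : Type*} [Field F] [Fintype F] (a : ℕ) (ha : 2 ≤ a) (hF : Fintype.card F = 2 ^ a)
    (hAX : Nonempty (↥A ⧸ Subgroup.center ↥A ≃* Matrix.ProjectiveSpecialLinearGroup (Fin 2) F)) :
    Nonempty (↥(Cfsg.layer G) ≃* ↥A × ↥A) ∨ ((Cfsg.IsLieTypeChar 2 ↥(Cfsg.layer G) ∨ Cfsg.Lie.IsoTits ↥(Cfsg.layer G)) ∧ ¬ (∃ e : G, e ∈ Cfsg.layer G ∧ ∀ x ∈ Cfsg.layer G, t * x * t⁻¹ = e * x * e⁻¹)) ∨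
      (a = 2 ∧ (Cfsg.Spor.IsoM12 ↥(Cfsg.layer G) ∨ Nonempty (↥(Cfsg.layer G) ≃* ↥(alternatingGroup (Fin 9))) ∨ Cfsg.Spor.IsoJ1 ↥(Cfsg.layer G) ∨
        Cfsg.Spor.IsoJ2 ↥(Cfsg.layer G) ∨ Nonempty (↥(Cfsg.layer G) ≃* ↥(alternatingGroup (Fin 7))) ∨
        (∃ (E : Type) (_ : Field E) (_ : Fintype E), Fintype.card E = 25 ∧ (Nonempty (↥(Cfsg.layer G) ≃* Matrix.ProjectiveSpecialLinearGroup (Fin 2) E) ∨ Nonempty (↥(Cfsg.layer G) ≃* Cfsg.PSU 3 E 5))) ∨
        (∃ (E : Type) (_ : Field E) (_ : Fintype E), Fintype.card E = 5 ∧ (Nonempty (↥(Cfsg.layer G) ≃* Matrix.ProjectiveSpecialLinearGroup (Fin 3) E) ∨ Nonempty (↥(Cfsg.layer G) ≃* ↥(Cfsg.Lie.chevG2.group E)))) ∨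
        (∃ (K : Type) (_ : Field K) (_ : Fintype K), Fintype.card K = 125 ∧ Nonempty (↥(Cfsg.layer G) ≃* ↥(Cfsg.Lie.twistedD4 K 5))))) ∨
      (Nonempty (↥A ≃* Matrix.ProjectiveSpecialLinearGroup (Fin 2) F) ∧ Fintype.card F = 8 ∧
        ∃ (E : Type) (_ : Field E) (_ : Fintype E), Fintype.card E = 3 ∧ Nonempty (↥(Cfsg.layer G) ≃* ↥(Cfsg.Lie.chevG2.group E))) := by
  refine Cfsg.Agent.StdL2.Main.result_of s0506 s1170 s1740 s0516 s0507 s0523
    (Cfsg.Agent.StdL2.FieldMain.fieldStmt gold)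
    (Cfsg.Agent.StdL2.ExcMain.excStmt s1169 s0222 s1171 s1296 s1169 odd s0506 s1296 s1759)
    (Cfsg.Agent.StdL2.SFive.Main.fiveStmt s0482 s1741 s0506 s1170 gold)
    hO A hA hnA hR t ht htA a ha hF hAX

end Cfsg.Agent.S1773
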