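import Cfsg.Statements.S1769
import Cfsg.Agent.SylowL.Assembly
import Cfsg.Agent.SylowL.EssHypMain
import Cfsg.Agent.TwoFusion.ClosedCommutator
import Cfsg.Agent.TwoFusion.GoldFinal
import Cfsg.Agent.S0205
import Cfsg.Agent.S0222
import Cfsg.Agent.S1174
import Cfsg.Agent.S1175
import Cfsg.Agent.S1179
import Cfsg.Agent.S1296

set_option autoImplicit false
open Cfsg

namespace Cfsg.Agent.S1769

/-- Let G be a finite simple group containing an elementary abelian subgroup of order 8, whose Sylow 2-subgroups are isomorphic to a Sylow 2-subgroup of the projective special linear group of dimension m ≥ 3 over a field F with 2^r elements, r ≥ 2. Then G is isomorphic to that projective special linear group. -/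
theorem result {G : Type*} [Group G] [Finite G] [IsSimpleGroup G]
    (h3 : ¬ Cfsg.PRankLE 2 2 G) {F : Type*} [Field F] [Fintype F] (r : ℕ) (hr : 2 ≤ r) (hF : Fintype.card F = 2 ^ r)
    (m : ℕ) (hm : 3 ≤ m) (S : Sylow 2 G) (P : Sylow 2 (Matrix.ProjectiveSpecialLinearGroup (Fin m) F))
    (hS : Nonempty (↥(S : Subgroup G) ≃* ↥(P : Subgroup (Matrix.ProjectiveSpecialLinearGroup (Fin m) F)))) :
    Nonempty (G ≃* Matrix.ProjectiveSpecialLinearGroup (Fin m) F) := by
  have hchar : CharP F 2 := Cfsg.Agent.TypeL3.Main.charP_two hF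
  have hq : 4 ≤ Nat.card F := by
    rw [Nat.card_eq_fintype_card, hF]
    calc 4 = 2 ^ 2 := by norm_num
      _ ≤ 2 ^ r := Nat.pow_le_pow_right (by norm_num) hr
  refine Cfsg.Agent.SylowL.Assembly.main ?_ ?_ ?_ ?_ ?_ ?_ r hr hF m hm
    (fun _ => Cfsg.Agent.SylowL.EssHypMain.eHyp hm hq) ?_ S P hS
  · intro L _ _ hL hna
    exact Cfsg.Agent.TwoFusion.GoldFinal.tprop
      (fun K _ _ hK => by
        haveI := hK
        intro T B hB hBT hprop
        exact Cfsg.Agent.S1174.result T B hB hBT hprop) L hL hna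
  · intro X _ _ P A B hAB hA hB
    exact Cfsg.Agent.TwoFusion.ClosedCommutator.commutator_le P A B hAB hA hB
  · intro X _ _ he h2 hO
    exact Cfsg.Agent.S1296.result he h2 hO
  · intro X _ _ hodd
    exact Cfsg.Agent.S0205.result hodd
  · intro X _ _ _ hna A hA hA1 hwc
    exact Cfsg.Agent.S1179.result hna A hA hA1 hwc
  · intro X _ _ _ hna H hH
    have hna' : ∃ a b : X, a * b ≠ b * a := by
      by_contra hc
      push Not at hc
      exact hna ⟨⟨hc⟩⟩
    rcases Cfsg.Agent.S0222.result hna' H hH with ⟨K, i1, i2, hK, -, e⟩ | h | h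
    · exact Or.inl ⟨2, K, i1, i2, le_refl 2, hK, e⟩
    · exact Or.inr (Or.inl h)
    · exact Or.inr (Or.inr (Or.inl h))
  · intro X _ _ _ M hM z hz hzM h1 h2 h3
    exact Cfsg.Agent.S1175.result M hM z hz hzM h1 h2 h3

end Cfsg.Agent.S1769
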