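import Cfsg.Statements.S1391
import Cfsg.Agent.OddOrderLocal.TypeSets
import Cfsg.Agent.OddOrderLocal.Equivariance
import Cfsg.Agent.OddOrderLocal.FittingHall
import Cfsg.Agent.S0034
import Cfsg.Agent.S0042
import Cfsg.Agent.S1362
import Cfsg.Agent.S1371
import Cfsg.Agent.S1375
import Cfsg.Agent.S1376
import Cfsg.Agent.S1378
import Cfsg.Agent.S1381
import Cfsg.Agent.S1432
import Cfsg.Agent.S1436
import Cfsg.Agent.S1438

set_option autoImplicit false
set_option linter.unusedSectionVars false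
open Cfsg

namespace Cfsg.Agent.S1391

open Cfsg.Agent.OddOrderLocal
open Pointwise

section Frobenius

variable {X : Type*} [Group X] [Finite X]

/-- The kernel of a finite Frobenius group is its largest normal nilpotent Hall subgroup. -/
theorem frobeniusKernel_eq_fittingHall (E : Subgroup X) (hE : IsFrobeniusComplement E) :
    frobeniusKernel E = ((fittingHall X : Subgroup X) : Set X) := by
  obtain ⟨N, hN, hNn, hNnil⟩ := Cfsg.Agent.S0042.result E hE
  obtain ⟨hcard, hmod⟩ := Cfsg.Agent.S0034.result E hE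
  have hNE : Nat.card N = E.index := by
    rw [← hcard, ← hN]; rfl
  have hcop : (Nat.card N).Coprime (Nat.card E) := by
    rw [hNE]
    have h1 : Nat.gcd (E.index % Nat.card E) (Nat.card E) = Nat.gcd (1 % Nat.card E) (Nat.card E) := by
      rw [hmod]
    rw [← Nat.gcd_rec, ← Nat.gcd_rec] at h1
    rw [Nat.coprime_comm, Nat.coprime_iff_gcd_eq_one, h1, Nat.gcd_one_right]
  have hNi : N.index = Nat.card E := by
    have h1 := N.card_mul_index
    have h2 := E.card_mul_index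
    rw [← h2, mul_comm (Nat.card E), ← hNE] at h1
    exact Nat.eq_of_mul_eq_mul_left Nat.card_pos h1
  have hNF : N ≤ fittingHall X := FittingHall.le_fittingHall hNn hNnil (by rw [hNi]; exact hcop)
  have hFnil : Group.IsNilpotent (fittingHall X) := FittingHall.fittingHall_isNilpotent
  have hN1 : N ≠ ⊥ := by
    intro h
    apply hE.2.1
    rw [h, Subgroup.card_bot] at hNE
    exact Subgroup.index_eq_one.1 hNE.symm
  rw [← hN]
  apply Set.Subset.antisymm (SetLike.coe_subset_coe.2 hNF)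
  intro x hx
  rw [hN]
  by_contra hxk
  have hx1 : x ≠ 1 := fun h => hxk (Or.inl h)
  have hxg : ∃ g : X, x ∈ MulAut.conj g • E := by
    by_contra h
    push Not at h
    exact hxk (Or.inr h)
  obtain ⟨g, hxg⟩ := hxg
  rw [Subgroup.mem_smul_pointwise_iff_exists] at hxg
  obtain ⟨e, he, rfl⟩ := hxg
  have he1 : e ≠ 1 := by
    rintro rfl
    exact hx1 (smul_one _)
  obtain ⟨n, hn, hn1⟩ := (Subgroup.bot_or_exists_ne_one N).resolve_left hN1
  have hord : orderOf (MulAut.conj g • e) = orderOf e := by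
    rw [MulAut.smul_def]
    exact orderOf_injective (MulAut.conj g).toMonoidHom (MulAut.conj g).injective e
  have hco : (orderOf n).Coprime (orderOf (MulAut.conj g • e)) := by
    rw [hord]
    refine Nat.Coprime.coprime_dvd_left ?_ (Nat.Coprime.coprime_dvd_right ?_ hcop)
    · rw [← Subgroup.orderOf_mk n hn]; exact orderOf_dvd_natCard _
    · rw [← Subgroup.orderOf_mk e he]; exact orderOf_dvd_natCard _
  have hcomm := FittingHall.commute_of_mem_of_coprime_orderOf hFnil (hNF hn) hx hco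
  -- `g⁻¹ n g ∈ E`
  have hmem : g⁻¹ * n * g ∈ E := by
    by_contra hne
    have h1 := hE.2.2 _ hne
    have h2 : e ∈ E ⊓ (MulAut.conj (g⁻¹ * n * g) • E) := by
      refine ⟨he, Subgroup.mem_smul_pointwise_iff_exists _ _ _ |>.2 ⟨e, he, ?_⟩⟩
      have h3 : n * (g * e * g⁻¹) = (g * e * g⁻¹) * n := hcomm.eq
      show (g⁻¹ * n * g) * e * (g⁻¹ * n * g)⁻¹ = e
      calc (g⁻¹ * n * g) * e * (g⁻¹ * n * g)⁻¹ = g⁻¹ * (n * (g * e * g⁻¹)) * n⁻¹ * g := by group
        _ = g⁻¹ * ((g * e * g⁻¹) * n) * n⁻¹ * g := by rw [h3]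
        _ = e := by group
    rw [h1, Subgroup.mem_bot] at h2
    exact he1 h2
  have hnk : n ∈ frobeniusKernel E := by rw [← hN]; exact hn
  rcases hnk with h | h
  · exact hn1 h
  · apply h g
    rw [Subgroup.mem_smul_pointwise_iff_exists]
    exact ⟨_, hmem, by show g * (g⁻¹ * n * g) * g⁻¹ = n; group⟩

end Frobenius

section Tame

variable {G : Type*} [Group G] [Finite G]

/-- Conjugating elements of a TI-subset of `M` which is normalized by `M` lie in `M`. -/
theorem mem_of_TI (hG : IsMinSimpleOddOrder G) {M : Subgroup G} (hM : IsCoatom M) {T : Set G}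
    (hT : IsTISubset T) (hTM : ∀ t ∈ T, t ∈ M) (hMT : ∀ m ∈ M, ∀ t ∈ T, m * t * m⁻¹ ∈ T)
    {x : G} (hx : x ∈ T) (hx1 : x ≠ 1) {g : G} (hg : g * x * g⁻¹ ∈ T) : g ∈ M := by
  have hgn : g ∈ Subgroup.normalizer T := by
    by_contra h
    exact hx1 (hT g h x hx hg)
  have hMn : M ≤ Subgroup.normalizer T := by
    intro m hm
    rw [Subgroup.mem_set_normalizer_iff]
    intro t
    refine ⟨hMT m hm t, fun ht => ?_⟩
    have := hMT m⁻¹ (inv_mem hm) _ ht
    simpa [mul_assoc] using this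
  rcases hM.le_iff.1 hMn with h | h
  · exfalso
    have hcl : (Subgroup.closure T).Normal := by
      refine ⟨fun n hn g => ?_⟩
      have hgT : g ∈ Subgroup.normalizer T := by rw [h]; trivial
      have h2 : (MulAut.conj g).toMonoidHom n ∈ (Subgroup.closure T).map (MulAut.conj g).toMonoidHom :=
        ⟨n, hn, rfl⟩
      rw [MonoidHom.map_closure] at h2
      refine Subgroup.closure_mono ?_ h2
      rintro _ ⟨t, ht, rfl⟩
      exact (Subgroup.mem_set_normalizer_iff.1 hgT t).1 ht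
    have hle : Subgroup.closure T ≤ M := (Subgroup.closure_le _).2 hTM
    rcases MinSimpleBasic.eq_bot_or_eq_top_of_normal hG (Subgroup.closure T) with h3 | h3
    · apply hx1
      have : x ∈ Subgroup.closure T := Subgroup.subset_closure hx
      rwa [h3, Subgroup.mem_bot] at this
    · rw [h3] at hle
      exact hM.1 (top_le_iff.1 hle)
  · rw [h] at hgn
    exact hgn

theorem orderOf_conj (g x : G) : orderOf (g * x * g⁻¹) = orderOf x :=
  orderOf_injective (MulAut.conj g).toMonoidHom (MulAut.conj g).injective x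

/-- A subgroup that is a nontrivial Hall `κ(M)`-subgroup yields a prime in `κ(M)`. -/
theorem kappa_nonempty {M K : Subgroup G} (hK : IsPiHallOf (kappa M) K M) (hK1 : K ≠ ⊥) :
    (kappa M).Nonempty := by
  have h1 : Nat.card K ≠ 1 := fun h => hK1 (Subgroup.eq_bot_of_card_eq K h)
  obtain ⟨p, hp, hd⟩ := Nat.exists_prime_and_dvd h1
  exact ⟨p, hK.2.1 p hp hd⟩

/-- An element of `U M_σ` has order prime to `κ(M)`. -/
theorem not_dvd_orderOf (hG : IsMinSimpleOddOrder G) {M K U : Subgroup G} (hM : IsCoatom M)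
    (hKU : IsSigmaDecomposition M K U) {x : G} (hx : x ∈ U ⊔ sigmaCore M) {p : ℕ}
    (hp : p ∈ kappa M) : ¬ p ∣ orderOf x := by
  intro hd
  have h1 : p ∣ Nat.card ↥(U ⊔ sigmaCore M) := by
    refine hd.trans ?_
    rw [← Subgroup.orderOf_mk x hx]; exact orderOf_dvd_natCard _
  have h2 : p ∣ Nat.card K := by
    have h3 := DecompBasic.card_mul_relIndex hKU.hall.1
    have h4 : p ∣ Nat.card K * K.relIndex M := by rw [h3]; exact hp.2.1
    rcases (hp.1.dvd_mul).1 h4 with h5 | h5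
    · exact h5
    · exact absurd h5 (hKU.hall.2.2 p hp.1 hp)
  exact Nat.Prime.not_coprime_iff_dvd.2 ⟨p, hp.1, h2, h1⟩ (TypeSets.coprime_K hG hM hKU)

/-- Elements of `A₀(M)` outside `A(M)` have order divisible by a prime of `κ(M)`. -/
theorem exists_dvd_orderOf {M K U : Subgroup G}
    (hKU : IsSigmaDecomposition M K U) {x : G}
    (hx : x ∈ {a : G | ∃ m ∈ M, ∃ z ∈ ((↑(K ⊔ (sigmaCore M ⊓ Subgroup.centralizer (K : Set G))) : Set G) \ ((K : Set G) ∪ ↑(sigmaCore M ⊓ Subgroup.centralizer (K : Set G)))), a = m * z * m⁻¹}) :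
    ∃ p ∈ kappa M, p ∣ orderOf x := by
  obtain ⟨m, hm, z, ⟨hz, hz'⟩, rfl⟩ := hx
  rw [orderOf_conj]
  have hn : K ≤ Subgroup.normalizer
      ((sigmaCore M ⊓ Subgroup.centralizer (K : Set G) : Subgroup G) : Set G) := by
    intro a ha
    rw [Subgroup.mem_normalizer_iff]
    have h4 : ∀ a ∈ K, ∀ y ∈ Subgroup.centralizer (K : Set G), a * y * a⁻¹ = y := by
      intro a ha y hy
      rw [(Subgroup.mem_centralizer_iff.1 hy) a ha, mul_inv_cancel_right]
    intro y
    constructor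
    · intro hy
      rw [h4 a ha y hy.2]; exact hy
    · intro hy
      have h5 := h4 a⁻¹ (inv_mem ha) _ hy.2
      have h6 : y = a * y * a⁻¹ := by
        rw [← h5]; group
      rw [h6]; exact hy
  rw [Subgroup.coe_mul_of_left_le_normalizer_right _ _ hn] at hz
  obtain ⟨k, hk, y, hy, rfl⟩ := hz
  have hk1 : k ≠ 1 := by
    rintro rfl
    apply hz'
    right
    simpa using hy
  obtain ⟨p, hp, hpk⟩ := SigmaElements.exists_prime_dvd_orderOf hk1
  have hpκ : p ∈ kappa M := by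
    apply hKU.hall.2.1 p hp
    refine hpk.trans ?_
    rw [← Subgroup.orderOf_mk k hk]; exact orderOf_dvd_natCard _
  refine ⟨p, hpκ, hpk.trans ?_⟩
  -- order of `k` divides the order of `k * y`
  have hcomm : Commute k y := (Subgroup.mem_centralizer_iff.1 hy.2) k hk
  apply orderOf_dvd_of_pow_eq_one
  have h1 : (k * y) ^ orderOf (k * y) = 1 := pow_orderOf_eq_one _
  rw [hcomm.mul_pow] at h1
  have h2 : k ^ orderOf (k * y) ∈ K := pow_mem hk _
  have h3 : k ^ orderOf (k * y) ∈ sigmaCore M := by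
    rw [mul_eq_one_iff_eq_inv] at h1
    rw [h1]
    exact inv_mem (pow_mem hy.1 _)
  by_contra hne
  obtain ⟨q, hq, hqk⟩ := SigmaElements.exists_prime_dvd_orderOf hne
  have h5 := SigmaElements.mem_sigma_of_dvd_orderOf h3 hq hqk
  have h6 : q ∈ kappa M := by
    apply hKU.hall.2.1 q hq
    refine hqk.trans ?_
    rw [← Subgroup.orderOf_mk _ h2]; exact orderOf_dvd_natCard _
  exact h6.2.2.1 h5

/-- If `κ(M) = τ₂(M) = ∅`, elements of `M` commuting with a non-identity element of `M_σ` lie in `M_σ`. -/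
theorem mem_sigmaCore_of_commute (hG : IsMinSimpleOddOrder G) {M : Subgroup G} (hM : IsCoatom M)
    (hκ : kappa M = ∅) (hτ : tau2 M = ∅) {z w : G} (hz : z ∈ sigmaCore M) (hz1 : z ≠ 1)
    (hw : w ∈ M) (hwz : w * z = z * w) : w ∈ sigmaCore M := by
  have hs := (Cfsg.Agent.S1350.result hG M hM).1
  refine SigmaElements.mem_sigmaCore_of_orderOf hs hw ?_
  intro r hr hrw
  by_contra hrσ
  set w' := w ^ (orderOf w / r) with hw'
  have hpos : 0 < orderOf w := orderOf_pos w
  have how' : orderOf w' = r := orderOf_pow_orderOf_div hpos.ne' hrw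
  have hw'M : w' ∈ M := pow_mem hw _
  have hw'1 : w' ≠ 1 := by
    intro h
    rw [h, orderOf_one] at how'
    exact hr.one_lt.ne how'
  have hcomm : Commute w' z := (show Commute w z from hwz).pow_left _
  have h1 := Cfsg.Agent.S1432.result hG M hM z hz hz1 w'
    ⟨hw'M, Subgroup.mem_centralizer_singleton_iff.2 hcomm.eq⟩ hw'1 (by
      intro p hp hpd
      rw [how'] at hpd
      rw [(Nat.prime_dvd_prime_iff_eq hp hr).1 hpd]
      exact hrσ)
  rcases h1 with ⟨h2, -⟩ | ⟨h2, -⟩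
  · have := h2 r hr (by rw [how'])
    rw [hκ] at this
    exact this
  · have := h2 r hr (by rw [how'])
    rw [hτ] at this
    exact this

/-- The three kinds of elements of `A₀(M)`. -/
theorem cases_of_mem (hG : IsMinSimpleOddOrder G) {M K U : Subgroup G} (hM : IsCoatom M)
    (hKU : IsSigmaDecomposition M K U) {X : Set G} (hX : X = typeA M ∨ X = typeA0 M) {x : G} (hx : x ∈ X) :
    (x ∈ sigmaCore M ∧ x ≠ 1) ∨ (x ∈ sigmaA M U \ (sigmaCore M : Set G) ∧ x ≠ 1) ∨
      (K ≠ ⊥ ∧ x ≠ 1 ∧ x ∈ {a : G | ∃ m ∈ M, ∃ z ∈ ((↑(K ⊔ (sigmaCore M ⊓ Subgroup.centralizer (K : Set G))) : Set G) \ ((K : Set G) ∪ ↑(sigmaCore M ⊓ Subgroup.centralizer (K : Set G)))), a = m * z * m⁻¹}) := by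
  have hxA0 : x ∈ typeA0 M := by
    rcases hX with rfl | rfl
    · exact TypeSets.typeA_subset_typeA0 M hx
    · exact hx
  by_cases hxA : x ∈ typeA M
  · rw [TypeSets.typeA_eq hG M hM K U hKU] at hxA
    by_cases hxS : x ∈ sigmaCore M
    · exact Or.inl ⟨hxS, hxA.2⟩
    · exact Or.inr (Or.inl ⟨⟨hxA.1, hxS⟩, hxA.2⟩)
  · obtain ⟨hK, hx'⟩ := TypeSets.mem_typeA0 hG hM hKU hxA0 hxA
    refine Or.inr (Or.inr ⟨hK, ?_, hx'⟩)
    rintro rfl
    obtain ⟨m, hm, z, hz, h1⟩ := hx'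
    apply hz.2
    left
    have : z = 1 := by
      have h2 : m * z * m⁻¹ = 1 := h1.symm
      rw [mul_inv_eq_one] at h2
      exact mul_eq_left.1 h2
    rw [this]
    exact K.one_mem

theorem mem_M_of_mem (hG : IsMinSimpleOddOrder G) {M K U : Subgroup G} (hM : IsCoatom M)
    (hKU : IsSigmaDecomposition M K U) {X : Set G} (hX : X = typeA M ∨ X = typeA0 M) {x : G} (hx : x ∈ X) :
    x ∈ M := by
  rcases cases_of_mem hG hM hKU hX hx with ⟨h, -⟩ | ⟨h, -⟩ | ⟨-, -, m, hm, z, hz, rfl⟩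
  · exact SigmaElements.sigmaCore_le M h
  · exact h.1.1.1
  · have : z ∈ M := by
      have h1 : K ⊔ (sigmaCore M ⊓ Subgroup.centralizer (K : Set G)) ≤ M :=
        sup_le hKU.hall.1 (inf_le_left.trans (SigmaElements.sigmaCore_le M))
      exact h1 hz.1
    exact mul_mem (mul_mem hm this) (inv_mem hm)

theorem conj_mem_sigmaA {M K U : Subgroup G} 
    (hKU : IsSigmaDecomposition M K U) {m t : G} (hm : m ∈ M) (ht : t ∈ sigmaA M U \ (sigmaCore M : Set G)) :
    m * t * m⁻¹ ∈ sigmaA M U \ (sigmaCore M : Set G) := by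
  obtain ⟨⟨⟨htM, y, hy, hy1, hty⟩, ht2⟩, ht3⟩ := ht
  have hn1 := SigmaElements.le_normalizer_sigmaCore M hm
  have hn2 := DecompBasic.le_normalizer_sup hKU hm
  refine ⟨⟨⟨mul_mem (mul_mem hm htM) (inv_mem hm), m * y * m⁻¹,
    (Subgroup.mem_normalizer_iff.1 hn1 y).1 hy, ?_, ?_⟩, ?_⟩, ?_⟩
  · intro h
    rw [mul_inv_eq_one] at h
    exact hy1 (mul_eq_left.1 h)
  · calc m * t * m⁻¹ * (m * y * m⁻¹) = m * (t * y) * m⁻¹ := by group
      _ = m * (y * t) * m⁻¹ := by rw [hty]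
      _ = _ := by group
  · exact (Subgroup.mem_normalizer_iff.1 hn2 t).1 ht2
  · intro h
    exact ht3 ((Subgroup.mem_normalizer_iff.1 hn1 t).2 h)

/-- If a non-identity `x ∈ A₀(M)` and its conjugate `g x g⁻¹` both lie in one of the two TI pieces then `g ∈ M`. -/
theorem mem_of_second (hG : IsMinSimpleOddOrder G) {M K U : Subgroup G} (hM : IsCoatom M)
    (hKU : IsSigmaDecomposition M K U) {x g : G} (hx : x ∈ sigmaA M U \ (sigmaCore M : Set G)) (hx1 : x ≠ 1)
    (hg : g * x * g⁻¹ ∈ sigmaA M U \ (sigmaCore M : Set G)) : g ∈ M :=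
  mem_of_TI hG hM (Cfsg.Agent.S1362.result hG M hM K U hKU) (fun _ ht => ht.1.1.1)
    (fun _ hm _ ht => conj_mem_sigmaA hKU hm ht) hx hx1 hg

theorem mem_of_third (hG : IsMinSimpleOddOrder G) {M K U : Subgroup G} (hM : IsCoatom M)
    (hKU : IsSigmaDecomposition M K U) (hK : K ≠ ⊥) {x g : G}
    (hx : x ∈ {a : G | ∃ m ∈ M, ∃ z ∈ ((↑(K ⊔ (sigmaCore M ⊓ Subgroup.centralizer (K : Set G))) : Set G) \ ((K : Set G) ∪ ↑(sigmaCore M ⊓ Subgroup.centralizer (K : Set G)))), a = m * z * m⁻¹})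
    (hx1 : x ≠ 1)
    (hg : g * x * g⁻¹ ∈ {a : G | ∃ m ∈ M, ∃ z ∈ ((↑(K ⊔ (sigmaCore M ⊓ Subgroup.centralizer (K : Set G))) : Set G) \ ((K : Set G) ∪ ↑(sigmaCore M ⊓ Subgroup.centralizer (K : Set G)))), a = m * z * m⁻¹}) : g ∈ M := by
  obtain ⟨h1, h2⟩ := Cfsg.Agent.S1371.result hG M hM K U hKU hK
  rw [← h1] at h2
  refine mem_of_TI hG hM h2 ?_ ?_ hx hx1 hg
  · rintro _ ⟨m, hm, z, hz, rfl⟩
    have : z ∈ M := by
      have h1 : K ⊔ (sigmaCore M ⊓ Subgroup.centralizer (K : Set G)) ≤ M :=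
        sup_le hKU.hall.1 (inf_le_left.trans (SigmaElements.sigmaCore_le M))
      exact h1 hz.1
    exact mul_mem (mul_mem hm this) (inv_mem hm)
  · rintro n hn _ ⟨m, hm, z, hz, rfl⟩
    exact ⟨n * m, mul_mem hn hm, z, hz, by group⟩

/-- Fusion. -/
theorem fusion (hG : IsMinSimpleOddOrder G) {M K U : Subgroup G} (hM : IsCoatom M)
    (hKU : IsSigmaDecomposition M K U) {X : Set G} (hX : X = typeA M ∨ X = typeA0 M) :
    ∀ x ∈ X, ∀ g : G, g * x * g⁻¹ ∈ X → ∃ m ∈ M, m * x * m⁻¹ = g * x * g⁻¹ := by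
  intro x hx g hg
  have hs := (Cfsg.Agent.S1350.result hG M hM).1
  have hxM := mem_M_of_mem hG hM hKU hX hx
  have hyM := mem_M_of_mem hG hM hKU hX hg
  have hord := orderOf_conj g x
  have hS : x ∈ sigmaCore M ↔ g * x * g⁻¹ ∈ sigmaCore M := by
    constructor
    · intro h
      refine SigmaElements.mem_sigmaCore_of_orderOf hs hyM ?_
      intro p hp hpd
      rw [hord] at hpd
      exact SigmaElements.mem_sigma_of_dvd_orderOf h hp hpd
    · intro h
      refine SigmaElements.mem_sigmaCore_of_orderOf hs hxM ?_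
      intro p hp hpd
      rw [← hord] at hpd
      exact SigmaElements.mem_sigma_of_dvd_orderOf h hp hpd
  by_cases hxS : x ∈ sigmaCore M
  · have hyS := hS.1 hxS
    by_cases hx1 : x = 1
    · exact ⟨1, one_mem _, by rw [hx1]; simp⟩
    have hS1 : sigmaCore M ≠ ⊥ := by
      intro h
      rw [h, Subgroup.mem_bot] at hxS
      exact hx1 hxS
    obtain ⟨n, hn, hnx⟩ := (Cfsg.Agent.S1438.result hG M hM (sigmaCore M) le_rfl hS1
      (by rw [Subgroup.relIndex_self]; exact Nat.coprime_one_right _)).2 x hxS g hyS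
    exact ⟨n, hn.1, hnx⟩
  · have hyS : g * x * g⁻¹ ∉ sigmaCore M := fun h => hxS (hS.2 h)
    rcases cases_of_mem hG hM hKU hX hx with ⟨h, -⟩ | ⟨hx2, hx1⟩ | ⟨hK, hx1, hx3⟩
    · exact absurd h hxS
    · rcases cases_of_mem hG hM hKU hX hg with ⟨h, -⟩ | ⟨hy2, hy1⟩ | ⟨hK, hy1, hy3⟩
      · exact absurd h hyS
      · exact ⟨g, mem_of_second hG hM hKU hx2 hx1 hy2, rfl⟩
      · exfalso
        obtain ⟨p, hp, hpd⟩ := exists_dvd_orderOf hKU hy3
        rw [hord] at hpd
        exact not_dvd_orderOf hG hM hKU hx2.1.2 hp hpd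
    · rcases cases_of_mem hG hM hKU hX hg with ⟨h, -⟩ | ⟨hy2, hy1⟩ | ⟨hK, hy1, hy3⟩
      · exact absurd h hyS
      · exfalso
        obtain ⟨p, hp, hpd⟩ := exists_dvd_orderOf hKU hx3
        rw [← hord] at hpd
        exact not_dvd_orderOf hG hM hKU hy2.1.2 hp hpd
      · exact ⟨g, mem_of_third hG hM hKU hK hx3 hx1 hy3, rfl⟩

/-- If `C_G(x)` is not contained in `M` then `x ∈ M_σ`. -/
theorem mem_sigmaCore_of_not_le (hG : IsMinSimpleOddOrder G) {M K U : Subgroup G} (hM : IsCoatom M)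
    (hKU : IsSigmaDecomposition M K U) {X : Set G} (hX : X = typeA M ∨ X = typeA0 M) {x : G} (hx : x ∈ X)
    (hxM : ¬ Subgroup.centralizer ({x} : Set G) ≤ M) : x ∈ sigmaCore M ∧ x ≠ 1 := by
  rcases cases_of_mem hG hM hKU hX hx with h | ⟨hx2, hx1⟩ | ⟨hK, hx1, hx3⟩
  · exact h
  · exfalso
    apply hxM
    intro g hg
    have h1 : g * x * g⁻¹ = x := by
      rw [Subgroup.mem_centralizer_singleton_iff] at hg
      rw [hg, mul_inv_cancel_right]
    exact mem_of_second hG hM hKU hx2 hx1 (by rw [h1]; exact hx2)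
  · exfalso
    apply hxM
    intro g hg
    have h1 : g * x * g⁻¹ = x := by
      rw [Subgroup.mem_centralizer_singleton_iff] at hg
      rw [hg, mul_inv_cancel_right]
    exact mem_of_third hG hM hKU hK hx3 hx1 (by rw [h1]; exact hx3)

theorem isComplIn_swap {A B M : Subgroup G} (h : IsComplIn A B M) : IsComplIn B A M := by
  obtain ⟨h1, h2, h3, h4⟩ := h
  refine ⟨h2, h1, by rw [inf_comm]; exact h3, fun m hm => ?_⟩
  obtain ⟨a, ha, b, hb, hab⟩ := h4 m⁻¹ (inv_mem hm)
  refine ⟨b⁻¹, inv_mem hb, a⁻¹, inv_mem ha, ?_⟩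
  rw [← mul_inv_rev, ← hab, inv_inv]

end Tame

/-- Let G be a minimal simple group of odd order, M a maximal subgroup, X = A(M) or A₀(M), and D the set of x ∈ X with C_G(x) not contained in M. Then two elements of X conjugate in G are conjugate in M; D ⊆ A₁(M) and for x ∈ D the centralizer C_G(x) lies in exactly one maximal subgroup; and for x ∈ D and the maximal subgroup L containing C_G(x): M ∩ L complements L_F in L, C_M(x) complements the normal subgroup C_{L_F}(x) of C_G(x), the order of L_F is coprime to that of C_M(y) for every y ∈ X, x ∈ A(L) but x ∉ A₁(L), L is of Type I or II, and if L is of Type II then M is a Frobenius group with kernel M_F. -/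
theorem result {G : Type*} [Group G] [Finite G] (hG : Cfsg.IsMinSimpleOddOrder G)
    (M : Subgroup G) (hM : IsCoatom M) (X : Set G) (hX : X = Cfsg.typeA M ∨ X = Cfsg.typeA0 M) :
    (∀ x ∈ X, ∀ g : G, g * x * g⁻¹ ∈ X → ∃ m ∈ M, m * x * m⁻¹ = g * x * g⁻¹) ∧
      (∀ x ∈ X, ¬ Subgroup.centralizer ({x} : Set G) ≤ M → x ∈ Cfsg.typeA1 M ∧ ∃! L : Subgroup G, IsCoatom L ∧ Subgroup.centralizer ({x} : Set G) ≤ L) ∧
      ∀ x ∈ X, ¬ Subgroup.centralizer ({x} : Set G) ≤ M → ∀ L : Subgroup G, IsCoatom L → Subgroup.centralizer ({x} : Set G) ≤ L →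
        Cfsg.IsComplIn (Cfsg.fittingHallOf L) (M ⊓ L) L ∧
        Subgroup.centralizer ({x} : Set G) ≤ Subgroup.normalizer ((Cfsg.fittingHallOf L ⊓ Subgroup.centralizer ({x} : Set G) : Subgroup G) : Set G) ∧
        Cfsg.IsComplIn (Cfsg.fittingHallOf L ⊓ Subgroup.centralizer ({x} : Set G)) (M ⊓ Subgroup.centralizer ({x} : Set G)) (Subgroup.centralizer ({x} : Set G)) ∧
        (∀ y ∈ X, (Nat.card (Cfsg.fittingHallOf L)).Coprime (Nat.card ↥(M ⊓ Subgroup.centralizer ({y} : Set G)))) ∧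
        (x ∈ Cfsg.typeA L ∧ x ∉ Cfsg.typeA1 L) ∧
        (Cfsg.IsOfTypeI L ∨ Cfsg.IsOfTypeII L) ∧
        (Cfsg.IsOfTypeII L → ∃ E : Subgroup ↥M, Cfsg.IsFrobeniusComplement E ∧ Cfsg.frobeniusKernel E = ((Cfsg.fittingHall ↥M : Subgroup ↥M) : Set ↥M)) := by
  obtain ⟨K, U, hKU⟩ := TypeCore.exists_sigmaDecomposition hG M hM
  have hs := (Cfsg.Agent.S1350.result hG M hM).1
  have hA1 : typeA1 M = (sigmaCore M : Set G) \ {1} := by
    unfold typeA1
    rw [TypeCore.typeCore_eq_sigmaCore hG M hM]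
  refine ⟨fusion hG hM hKU hX, ?_, ?_⟩
  · intro x hx hxM
    obtain ⟨hxS, hx1⟩ := mem_sigmaCore_of_not_le hG hM hKU hX hx hxM
    refine ⟨by rw [hA1]; exact ⟨hxS, hx1⟩, ?_⟩
    obtain ⟨N, hN, hNu, -⟩ := Cfsg.Agent.S1375.result hG M hM x hxS hx1 hxM
    exact ⟨N, hN, fun L hL => hNu L hL.1 hL.2⟩
  · intro x hx hxM L hL hxL
    obtain ⟨hxS, hx1⟩ := mem_sigmaCore_of_not_le hG hM hKU hX hx hxM
    obtain ⟨N, hN, hNu, hNσ, hNn, hNc, hNM, hNd⟩ := Cfsg.Agent.S1375.result hG M hM x hxS hx1 hxM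
    obtain rfl := hNu L hL hxL
    rw [hNσ] at hNn hNc hNM
    obtain ⟨K', U', hKU'⟩ := TypeCore.exists_sigmaDecomposition hG L hL
    obtain ⟨hU', hxA, hxL'⟩ := hNd K' U' hKU'
    have hsL := (Cfsg.Agent.S1350.result hG L hL).1
    refine ⟨isComplIn_swap hNM, hNn, isComplIn_swap hNc, ?_, ⟨?_, ?_⟩, ?_, ?_⟩
    · intro y hy
      by_contra hne
      rw [Nat.Prime.not_coprime_iff_dvd] at hne
      obtain ⟨p, hp, hpL, hpy⟩ := hne
      rw [← hNσ] at hpL
      have hpσ : p ∈ sigma L := SigmaElements.mem_sigma_of_dvd_card_sigmaCore hp hpL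
      have hpM : p ∣ Nat.card M := hpy.trans (Subgroup.card_dvd_of_le inf_le_left)
      obtain ⟨hκ, hτ⟩ := (Cfsg.Agent.S1436.result hG M hM x hxS hx1 hxM L hL hxL).1 ⟨p, hpσ, hpM⟩
      have hK : K = ⊥ := by
        by_contra hK
        have := kappa_nonempty hKU.hall hK
        rw [hκ] at this
        exact Set.not_nonempty_empty this
      have hyS : y ∈ sigmaCore M ∧ y ≠ 1 := by
        rcases cases_of_mem hG hM hKU hX hy with h | ⟨h, -⟩ | ⟨h, -⟩
        · exact h
        · exfalso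
          obtain ⟨⟨⟨hyM, z, hz, hz1, hyz⟩, -⟩, h2⟩ := h
          exact h2 (mem_sigmaCore_of_commute hG hM hκ hτ hz hz1 hyM hyz)
        · exact absurd hK h
      have := Fact.mk hp
      obtain ⟨w, hw⟩ := exists_prime_orderOf_dvd_card' (G := ↥(M ⊓ Subgroup.centralizer ({y} : Set G))) p hpy
      have hwS : (w : G) ∈ sigmaCore M := by
        refine mem_sigmaCore_of_commute hG hM hκ hτ hyS.1 hyS.2 w.2.1 ?_
        exact Subgroup.mem_centralizer_singleton_iff.1 w.2.2
      have hpσM : p ∈ sigma M := by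
        refine SigmaElements.mem_sigma_of_dvd_orderOf hwS hp ?_
        rw [Subgroup.orderOf_coe, hw]
      obtain ⟨g, hg⟩ := (Cfsg.Agent.S1378.result hG).2 M L hM hL ⟨p, hpσM, hpσ⟩
      have hσeq : sigma L = sigma M := by rw [hg, Equivariance.sigma_map]
      apply hxL'
      refine SigmaElements.mem_sigmaCore_of_orderOf hsL ?_ ?_
      · exact hxL (Subgroup.mem_centralizer_singleton_iff.2 rfl)
      · intro r hr hrx
        rw [hσeq]
        exact SigmaElements.mem_sigma_of_dvd_orderOf hxS hr hrx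
    · rw [TypeSets.typeA_eq hG L hL K' U' hKU']
      exact ⟨hxA, hx1⟩
    · unfold typeA1
      rw [TypeCore.typeCore_eq_sigmaCore hG L hL]
      exact fun h => hxL' h.1
    · by_cases hK' : K' = ⊥
      · exact Or.inl ((Cfsg.Agent.S1380.result hG L hL K' U' hKU').2 ⟨hK', hU'⟩)
      · exact Or.inr ((Cfsg.Agent.S1381.result hG L hL K' U' hKU').2 ⟨hK', hU'⟩)
    · intro hII
      have hK' := ((Cfsg.Agent.S1381.result hG L hL K' U' hKU').1 hII).1
      obtain ⟨-, ⟨E, hE, -⟩, -⟩ := Cfsg.Agent.S1376.result hG M hM x hxS hx1 hxM L hL hxL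
        (kappa_nonempty hKU'.hall hK')
      exact ⟨E, hE, frobeniusKernel_eq_fittingHall E hE⟩

end Cfsg.Agent.S1391
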