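import Cfsg.Statements.S1705
import Cfsg.Agent.S1704
import Cfsg.Agent.Bimonster.FiFacts
import Cfsg.Agent.MonsterX.InstanceFinal
import Cfsg.Agent.MonsterP.BFactsInst
import Cfsg.Agent.MonsterP.NodesDone
import Cfsg.Agent.MonsterP.GeoDone
-- import your own Cfsg.Agent.* helpers here

set_option autoImplicit false
open Cfsg

namespace Cfsg.Agent.S1705

/-- The Monster, as extracted from the presented Bimonster, is simple of the expected order (that is, it is a simple group of the order of the Monster). -/
theorem result : Cfsg.IsM Cfsg.Spor.Monster := by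
  exact Cfsg.Agent.MonsterP.Lit.isM Cfsg.Agent.Bimonster.fi_facts Cfsg.Agent.MonsterP.BFactsInst.bFacts
    Cfsg.Agent.S1704.result Cfsg.Agent.MonsterX.InstanceFinal.mOrbit
    (Cfsg.Agent.MonsterP.NodesDone.nodesIn Cfsg.Agent.MonsterX.InstanceFinal.mOrbit Cfsg.Agent.S1704.result)
    Cfsg.Agent.MonsterP.GeoDone.geo

end Cfsg.Agent.S1705
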