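import Cfsg.Statements.S0650
import Cfsg.Agent.PLocal.GlaubermanRepl

set_option autoImplicit false
open Cfsg

namespace Cfsg.Agent.S0650

open Cfsg.Agent.PLocal.GlaubermanRepl

open scoped commutatorElement

theorem star_eq {S : Type*} [Group S] (A : Subgroup S) (b : S) :
    ((A ⊓ A.map (MulAut.conj (b⁻¹)).toMonoidHom) ⊔
      Subgroup.closure {g : S | ∃ a ∈ A, g = a * b⁻¹ * a⁻¹ * b}) = star A b⁻¹ := by
  have h : {g : S | ∃ a ∈ A, g = a * b⁻¹ * a⁻¹ * b} = {g : S | ∃ a ∈ A, g = ⁅a, b⁻¹⁆} := by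
    ext g
    simp only [Set.mem_ofPred_eq, commutatorElement_def, inv_inv]
  rw [h, star_def, cj_def, dd_def]

theorem main {S : Type*} [Group S] [Finite S] {p : ℕ} [Fact p.Prime] (hS : IsPGroup p S)
    (B : Subgroup S) [B.Normal] (hB2 : p = 2 → IsMulCommutative B) (A : Subgroup S)
    (hA : IsMulCommutative A) (hBA : ⁅B, B⁆ ≤ A) (b : S) (hb : b ∈ B)
    (hbN : b ∈ Subgroup.normalizer ((Subgroup.normalizer (A : Set S)) : Set S))
    (hbA : b ∉ Subgroup.normalizer (A : Set S)) :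
    Nat.card ↥(star A b⁻¹) = Nat.card A ∧ IsMulCommutative ↥(star A b⁻¹) ∧
      ⁅B, B⁆ ≤ star A b⁻¹ ∧ A ⊓ B < star A b⁻¹ ⊓ B ∧ star A b⁻¹ ⊓ B < B ∧
      A ≤ Subgroup.normalizer (star A b⁻¹ : Set S) ∧ star A b⁻¹ ≤ Subgroup.normalizer (A : Set S) ∧
      b ∈ Subgroup.normalizer (star A b⁻¹ : Set S) ∧
      Subgroup.normalizer (A : Set S) < Subgroup.normalizer (star A b⁻¹ : Set S) ∧
      (p ≠ 2 → Monoid.exponent ↥(star A b⁻¹) ∣ Monoid.exponent A) := by
  obtain ⟨c, hc⟩ : ∃ c, c = b⁻¹ := ⟨_, rfl⟩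
  rw [← hc]
  have hcB : c ∈ B := by rw [hc]; exact inv_mem hb
  have hcN : c ∈ Subgroup.normalizer ((Subgroup.normalizer (A : Set S)) : Set S) := by
    rw [hc]; exact inv_mem hbN
  have hcA : c ∉ Subgroup.normalizer (A : Set S) := by
    rw [hc]; exact fun h => hbA (inv_mem_iff.1 h)
  have hAc : ∀ a ∈ A, ∀ d ∈ A, a * d = d * a := by
    intro a ha d hd
    exact congrArg Subtype.val (hA.is_comm.comm (⟨a, ha⟩ : A) ⟨d, hd⟩)
  -- `N` normalises `cj A c`
  have hNcj : Subgroup.normalizer (A : Set S) ≤ Subgroup.normalizer (cj A c : Set S) := by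
    intro n hn
    have h1 : c⁻¹ * n * c ∈ Subgroup.normalizer (A : Set S) := by
      have h := ((inv_mem hcN) n).1 hn
      rwa [inv_inv] at h
    rw [Subgroup.mem_normalizer_iff]
    intro h
    rw [mem_cj, mem_cj]
    have h2 : c⁻¹ * (n * h * n⁻¹) * c = (c⁻¹ * n * c) * (c⁻¹ * h * c) * (c⁻¹ * n * c)⁻¹ := by
      group
    rw [h2]
    exact h1 _
  have hcjN : cj A c ≤ Subgroup.normalizer (A : Set S) := by
    intro x hx
    obtain ⟨a, ha, rfl⟩ := exists_of_mem_cj hx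
    exact (hcN a).1 (Subgroup.le_normalizer ha)
  have hN1 : A ≤ Subgroup.normalizer (cj A c : Set S) := Subgroup.le_normalizer.trans hNcj
  -- commuting generators
  have hgen : ∀ a ∈ A, ∀ d ∈ A, ⁅a, c⁆ * ⁅d, c⁆ = ⁅d, c⁆ * ⁅a, c⁆ := by
    intro a ha d hd
    by_cases hp : p = 2
    · have h1 := hB2 hp
      exact congrArg Subtype.val (h1.is_comm.comm
        (⟨⁅a, c⁆, dd_le_B hcB (comm_mem_dd ha)⟩ : B) ⟨⁅d, c⁆, dd_le_B hcB (comm_mem_dd hd)⟩)
    · apply comm_gens hAc hBA hcB hN1 hcjN _ ha hd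
      intro g
      obtain ⟨k, hk⟩ := (IsPGroup.iff_orderOf.1 hS) g
      rw [hk]
      exact (Nat.Prime.odd_of_ne_two Fact.out hp).pow
  have hstar := star_comm hAc hgen
  have hstarN : star A c ≤ Subgroup.normalizer (A : Set S) :=
    star_le_sup.trans (sup_le Subgroup.le_normalizer hcjN)
  have hcstar : c ∈ Subgroup.normalizer (star A c : Set S) := by
    have h1 : (star A c).map (MulAut.conj c).toMonoidHom = star A c := by
      apply Subgroup.eq_of_le_of_card_ge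
      · rintro _ ⟨x, hx, rfl⟩
        exact c_conj_star hBA hcB x hx
      · rw [Nat.card_congr (Subgroup.equivMapOfInjective (star A c)
          (MulAut.conj c).toMonoidHom (MulAut.conj c).injective).toEquiv]
    rw [Subgroup.mem_normalizer_iff]
    intro x
    constructor
    · exact fun hx => c_conj_star hBA hcB x hx
    · intro hx
      rw [← h1] at hx
      obtain ⟨y, hy, hyx⟩ := hx
      have : y = x := (MulAut.conj c).injective hyx
      rwa [← this]
  have hcnot : c ∉ star A c := fun h => hcA (hstarN h)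
  have hNstar : Subgroup.normalizer (A : Set S) ≤ Subgroup.normalizer (star A c : Set S) := by
    intro n hn
    have key : ∀ n ∈ Subgroup.normalizer (A : Set S), ∀ x ∈ star A c, n * x * n⁻¹ ∈ star A c := by
      intro n hn
      apply conj_star hBA hcB hn (hNcj hn)
      rw [commutatorElement_def]
      exact mul_mem (((inv_mem hcN) n).1 hn) (inv_mem hn)
    rw [Subgroup.mem_normalizer_iff]
    intro x
    constructor
    · exact key n hn x
    · intro h
      have h1 := key n⁻¹ (inv_mem hn) _ h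
      have h2 : n⁻¹ * (n * x * n⁻¹) * n⁻¹⁻¹ = x := by group
      rwa [h2] at h1
  refine ⟨card_star hAc hBA hcB hN1 hcjN hstar, ⟨⟨?_⟩⟩, derived_le_star hBA, ?_, ?_,
    Subgroup.le_normalizer.trans hNstar, hstarN, ?_, ?_, ?_⟩
  · rintro ⟨x, hx⟩ ⟨y, hy⟩
    exact Subtype.ext (hstar x hx y hy)
  · rw [lt_iff_le_not_ge]
    constructor
    · exact le_inf ((inf_le_Z hBA hcB).trans Z_le_star) inf_le_right
    · intro h
      apply hcA
      have h1 : dd A c ≤ A := by
        refine le_trans ?_ (h.trans inf_le_left)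
        exact le_inf le_sup_right (dd_le_B hcB)
      have h2 : (cj A c) = A := by
        apply Subgroup.eq_of_le_of_card_ge
        · intro x hx
          obtain ⟨a, ha, rfl⟩ := exists_of_mem_cj hx
          have h3 : c * a * c⁻¹ = ⁅a, c⁆⁻¹ * a := by rw [commutatorElement_def]; group
          rw [h3]
          exact mul_mem (inv_mem (h1 (comm_mem_dd ha))) ha
        · rw [cj_def, Nat.card_congr (Subgroup.equivMapOfInjective A
            (MulAut.conj c).toMonoidHom (MulAut.conj c).injective).toEquiv]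
      rw [Subgroup.mem_normalizer_iff]
      intro x
      constructor
      · intro hx
        rw [← h2]
        exact conj_mem_cj hx
      · intro hx
        have hx' : c * x * c⁻¹ ∈ A := hx
        rw [← h2, mem_cj] at hx'
        have h3 : c⁻¹ * (c * x * c⁻¹) * c = x := by group
        rwa [h3] at hx'
  · rw [lt_iff_le_not_ge]
    refine ⟨inf_le_right, fun h => hcnot ?_⟩
    exact (h hcB).1
  · have : b = c⁻¹ := by rw [hc, inv_inv]
    rw [this]
    exact inv_mem hcstar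
  · rw [lt_iff_le_not_ge]
    exact ⟨hNstar, fun h => hcA (h hcstar)⟩
  · intro hp
    apply Monoid.exponent_dvd_of_forall_pow_eq_one
    rintro ⟨x, hx⟩
    apply Subtype.ext
    have hexp : Odd (Monoid.exponent A) := by
      have hAp : IsPGroup p A := hS.to_subgroup A
      obtain ⟨n, hn⟩ := IsPGroup.iff_card.1 hAp
      have h1 : Monoid.exponent A ∣ p ^ n := by
        rw [← hn]; exact Group.exponent_dvd_nat_card
      obtain ⟨k, -, hk⟩ := (Nat.dvd_prime_pow Fact.out).1 h1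
      rw [hk]
      exact (Nat.Prime.odd_of_ne_two Fact.out hp).pow
    have h1 := pow_star hAc hN1 hcjN hstar hexp (fun a ha =>
      congrArg Subtype.val (Monoid.pow_exponent_eq_one (⟨a, ha⟩ : A))) x hx
    simpa using h1

/-- The Glauberman replacement Theorem: from an abelian A ⊇ [B, B] not normalized by the normal subgroup B and a suitable b ∈ B one gets the abelian subgroup A* = (A ∩ b⁻¹Ab)[A, b] of the same order, containing [B, B], meeting B strictly more than A does but not containing B, mutually normalizing with A, with strictly larger normalizer containing b, and (p odd) of no larger exponent. -/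
theorem result {S : Type*} [Group S] [Finite S] {p : ℕ} [Fact p.Prime] (hS : IsPGroup p S) (B : Subgroup S) [B.Normal] (hB2 : p = 2 → IsMulCommutative B) (A : Subgroup S) (hA : IsMulCommutative A) (hBA : ⁅B, B⁆ ≤ A) (hnot : ¬ B ≤ Subgroup.normalizer (A : Set S)) (b : S) (hb : b ∈ B) (hbN : b ∈ Subgroup.normalizer ((Subgroup.normalizer (A : Set S)) : Set S)) (hbA : b ∉ Subgroup.normalizer (A : Set S)) : Nat.card ↥((A ⊓ A.map (MulAut.conj (b⁻¹)).toMonoidHom) ⊔ Subgroup.closure {g : S | ∃ a ∈ A, g = a * b⁻¹ * a⁻¹ * b}) = Nat.card A ∧ IsMulCommutative ↥((A ⊓ A.map (MulAut.conj (b⁻¹)).toMonoidHom) ⊔ Subgroup.closure {g : S | ∃ a ∈ A, g = a * b⁻¹ * a⁻¹ * b}) ∧ ⁅B, B⁆ ≤ ((A ⊓ A.map (MulAut.conj (b⁻¹)).toMonoidHom) ⊔ Subgroup.closure {g : S | ∃ a ∈ A, g = a * b⁻¹ * a⁻¹ * b}) ∧ A ⊓ B < ((A ⊓ A.map (MulAut.conj (b⁻¹)).toMonoidHom) ⊔ Subgroup.closure {g : S | ∃ a ∈ A, g = a * b⁻¹ * a⁻¹ * b}) ⊓ B ∧ ((A ⊓ A.map (MulAut.conj (b⁻¹)).toMonoidHom)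 ⊔ Subgroup.closure {g : S | ∃ a ∈ A, g = a * b⁻¹ * a⁻¹ * b}) ⊓ B < B ∧ A ≤ Subgroup.normalizer (((A ⊓ A.map (MulAut.conj (b⁻¹)).toMonoidHom) ⊔ Subgroup.closure {g : S | ∃ a ∈ A, g = a * b⁻¹ * a⁻¹ * b} : Subgroup S) : Set S) ∧ ((A ⊓ A.map (MulAut.conj (b⁻¹)).toMonoidHom) ⊔ Subgroup.closure {g : S | ∃ a ∈ A, g = a * b⁻¹ * a⁻¹ * b}) ≤ Subgroup.normalizer (A : Set S) ∧ b ∈ Subgroup.normalizer (((A ⊓ A.map (MulAut.conj (b⁻¹)).toMonoidHom) ⊔ Subgroup.closure {g : S | ∃ a ∈ A, g = a * b⁻¹ * a⁻¹ * b} : Subgroup S) : Set S) ∧ Subgroup.normalizer (A : Set S) < Subgroup.normalizer (((A ⊓ A.map (MulAut.conj (b⁻¹)).toMonoidHom) ⊔ Subgroup.closure {g : S | ∃ a ∈ A, g = a * b⁻¹ * a⁻¹ * b} : Subgroup S) : Set S) ∧ (p ≠ 2 → Monoid.exponent ↥((A ⊓ A.map (MulAut.conj (b⁻¹)).toMonoidHom) ⊔ Subgroup.closure {g : S | ∃ a ∈ A, g = a * b⁻¹ * a⁻¹ * b}) ∣ Monoid.exponent A) := by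
  rw [star_eq]
  exact main hS B hB2 A hA hBA b hb hbN hbA

end Cfsg.Agent.S0650
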