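import Cfsg.Statements.S0593
import Cfsg.Agent.PLocal.TwoQuad
import Cfsg.Agent.PLocal.SLTwoSylow
import Cfsg.Agent.PLocal.QuadRep

set_option autoImplicit false
open Cfsg

namespace Cfsg.Agent.S0593

/-- For odd p, a faithful group on an elementary abelian p-group generated by two quadratically acting elements is a p-group or has non-abelian Sylow 2-subgroups. -/
theorem result {G : Type*} [Group G] [Finite G] {p : ℕ} [Fact p.Prime] (hp : p ≠ 2) (V H : Subgroup G) (hV : Cfsg.IsElementaryAbelian p V) (hHV : H ≤ Subgroup.normalizer (V : Set G)) (hf : H ⊓ Subgroup.centralizer (V : Set G) = ⊥) (a b : G) (hab : H = Subgroup.closure {a, b}) (ha : ⁅⁅V, Subgroup.zpowers a⁆, Subgroup.zpowers a⁆ = ⊥) (hb : ⁅⁅V, Subgroup.zpowers b⁆, Subgroup.zpowers b⁆ = ⊥) (hnp : ¬ IsPGroup p H) (T : Sylow 2 H) : ¬ IsMulCommutative T := by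
  intro hT
  let K := AlgebraicClosure (ZMod p)
  have : CharP K p := charP_of_injective_algebraMap (FaithfulSMul.algebraMap_injective (ZMod p) K) p
  obtain ⟨n, ρ, hρ, hquad⟩ := Cfsg.Agent.PLocal.QuadRep.exists_rep (p := p) K V H hV hHV hf
  have haH : a ∈ H := by rw [hab]; exact Subgroup.subset_closure (by simp)
  have hbH : b ∈ H := by rw [hab]; exact Subgroup.subset_closure (by simp)
  have hgen : Subgroup.closure ({⟨a, haH⟩, ⟨b, hbH⟩} : Set H) = ⊤ := by
    apply Subgroup.map_injective H.subtype_injective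
    rw [MonoidHom.map_closure, Set.image_pair, ← MonoidHom.range_eq_map, Subgroup.range_subtype]
    exact hab.symm
  obtain ⟨g, hg⟩ : ∃ g : H, ¬ ∃ k : ℕ, g ^ p ^ k = 1 := by
    by_contra hcon
    push Not at hcon
    exact hnp hcon
  have hg' : ¬ ∃ k : ℕ, ρ g ^ p ^ k = 1 := by
    rintro ⟨j, hj⟩
    apply hg
    refine ⟨j, hρ ?_⟩
    rw [map_pow, hj, map_one]
  set a' : H := ⟨a, haH⟩ with ha'
  set b' : H := ⟨b, hbH⟩ with hb'
  obtain ⟨φ, -, hφa, hφb, h4⟩ := Cfsg.Agent.PLocal.TwoQuad.exists_hom_sl_two (p := p) a' b' hgen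
    (orderOf (a' * b')) (orderOf_pos _).ne' (IsAlgClosed.splits _) ρ (hquad a' ha) (hquad b' hb)
    (by rw [← map_pow, pow_orderOf_eq_one, map_one]) g hg'
  have hpow : ∀ x : Matrix.SpecialLinearGroup (Fin 2) K, ((x : Matrix (Fin 2) (Fin 2) K) - 1) ^ 2 = 0 →
      x ^ p = 1 := by
    intro x hx
    have h2 : ((x : Matrix (Fin 2) (Fin 2) K) - 1) ^ p = 0 :=
      pow_eq_zero_of_le (Fact.out : p.Prime).two_le hx
    rw [sub_pow_char_of_commute (p := p) (Commute.one_right _), one_pow, sub_eq_zero] at h2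
    exact Subtype.ext h2
  have hgenL : Subgroup.closure {x : φ.range | ∃ n : ℕ, x ^ p ^ n = 1} = ⊤ := by
    rw [eq_top_iff]
    have h1 : (⊤ : Subgroup φ.range) = (⊤ : Subgroup H).map φ.rangeRestrict := by
      rw [← MonoidHom.range_eq_map, eq_comm, MonoidHom.range_eq_top]
      exact φ.rangeRestrict_surjective
    rw [h1, ← hgen, MonoidHom.map_closure, Subgroup.closure_le, Set.image_pair]
    apply subset_trans _ Subgroup.subset_closure
    rintro x (rfl | rfl)
    · refine ⟨1, ?_⟩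
      rw [pow_one]
      exact Subtype.ext (hpow _ hφa)
    · refine ⟨1, ?_⟩
      rw [pow_one]
      exact Subtype.ext (hpow _ hφb)
  have hfin : Finite φ.range := Finite.of_surjective _ φ.rangeRestrict_surjective
  have hL : IsPGroup p φ.range := by
    refine Cfsg.Agent.PLocal.SLTwoSylow.isPGroup_of_sylow_two_comm (k := K) hp φ.range.subtype
      φ.range.subtype_injective hgenL (T.mapSurjective φ.rangeRestrict_surjective) ?_
    intro x hx y hy
    obtain ⟨x, hx, rfl⟩ := hx
    obtain ⟨y, hy, rfl⟩ := hy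
    have := hT.is_comm.comm ⟨x, hx⟩ ⟨y, hy⟩
    have h2 : x * y = y * x := congrArg Subtype.val this
    change φ.rangeRestrict x * φ.rangeRestrict y = φ.rangeRestrict y * φ.rangeRestrict x
    rw [← map_mul, h2, map_mul]
  apply h4
  obtain ⟨j, hj⟩ := hL ⟨φ g, ⟨g, rfl⟩⟩
  exact ⟨j, congrArg Subtype.val hj⟩

end Cfsg.Agent.S0593
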