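import Cfsg.Statements.S0595
import Cfsg.Agent.S0593
import Cfsg.Agent.PLocal.NotPStable

set_option autoImplicit false
open Cfsg

namespace Cfsg.Agent.S0595

/-- For odd p, a faithful action on an elementary abelian p-group that is not p-stable forces non-abelian Sylow 2-subgroups. -/
theorem result {G : Type*} [Group G] [Finite G] {p : ℕ} [Fact p.Prime] (hp : p ≠ 2) (V H : Subgroup G) (hV : Cfsg.IsElementaryAbelian p V) (hHV : H ≤ Subgroup.normalizer (V : Set G)) (hf : H ⊓ Subgroup.centralizer (V : Set G) = ⊥) (a : G) (haH : a ∈ H) (hq : ⁅⁅V, Subgroup.zpowers a⁆, Subgroup.zpowers a⁆ = ⊥) (hna : a ∉ (Cfsg.pCore p H).map H.subtype) (T : Sylow 2 H) : ¬ IsMulCommutative T := by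
  obtain ⟨g, hg, hb, hnp⟩ := Cfsg.Agent.PLocal.NotPStable.exists_pair hHV haH hq hna
  have hKH : Subgroup.closure ({a, g * a * g⁻¹} : Set G) ≤ H := by
    rw [Subgroup.closure_le]
    rintro x (rfl | rfl)
    · exact haH
    · exact H.mul_mem (H.mul_mem hg haH) (H.inv_mem hg)
  obtain ⟨S⟩ : Nonempty (Sylow 2 (Subgroup.closure ({a, g * a * g⁻¹} : Set G))) := inferInstance
  intro hT
  have hS := Cfsg.Agent.PLocal.NotPStable.isMulCommutative_sylow_of_le hKH T hT S
  refine Cfsg.Agent.S0593.result hp V _ hV (hKH.trans hHV) ?_ a (g * a * g⁻¹) rfl hq hb hnp S hS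
  rw [eq_bot_iff, ← hf]
  exact inf_le_inf_right _ hKH

end Cfsg.Agent.S0595
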