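import Mathlib.GroupTheory.Sylow
import Cfsg.Statements.S0626
import Cfsg.Agent.PLocal.ActionStable
import Cfsg.Agent.S0595

set_option autoImplicit false
open Cfsg

namespace Cfsg.Agent.S0626

/-- For odd p, groups whose Sylow 2-subgroups are abelian are p-stable in the action sense. -/
theorem result {G : Type*} [Group G] [Finite G] {p : ℕ} [Fact p.Prime] (hp : p ≠ 2) (hab : ∀ T : Sylow 2 G, IsMulCommutative T) : Cfsg.IsActionPStable p G := by
  refine Cfsg.Agent.PLocal.ActionStable.isActionPStable_of_faithful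
    (fun Γ _ => ∀ T : Sylow 2 Γ, IsMulCommutative T) ?_ ?_ ?_ hab
  · intro A B _ _ _ f hf hA T
    obtain ⟨T', rfl⟩ := Sylow.mapSurjective_surjective hf 2 T
    have h := (hA T').is_comm.comm
    refine ⟨⟨?_⟩⟩
    rintro ⟨x, hx⟩ ⟨y, hy⟩
    obtain ⟨x', hx', rfl⟩ := hx
    obtain ⟨y', hy', rfl⟩ := hy
    apply Subtype.ext
    change f x' * f y' = f y' * f x'
    rw [← map_mul, ← map_mul]
    exact congrArg f (congrArg Subtype.val (h ⟨x', hx'⟩ ⟨y', hy'⟩))
  · intro A _ _ K hA T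
    obtain ⟨T', hT'⟩ := (T.isPGroup'.map K.subtype).exists_le_sylow
    have h := (hA T').is_comm.comm
    refine ⟨⟨?_⟩⟩
    rintro ⟨x, hx⟩ ⟨y, hy⟩
    have h1 := h ⟨x.1, hT' ⟨x, hx, rfl⟩⟩ ⟨y.1, hT' ⟨y, hy, rfl⟩⟩
    have h2 := congrArg (fun t : ↥(T' : Subgroup A) => (t : A)) h1
    apply Subtype.ext
    apply Subtype.ext
    exact h2
  · intro L _ _ V H hV hHV hf hH a haH hq
    by_contra hna
    obtain ⟨T⟩ := (inferInstance : Nonempty (Sylow 2 H))
    exact Cfsg.Agent.S0595.result hp V H hV hHV hf a haH hq hna T (hH T)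

end Cfsg.Agent.S0626
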