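-- S0735: 2-homogeneous groups of even order (helper423)
import Cfsg.Statements.S0735
import Mathlib.GroupTheory.Perm.Cycle.Type
import Mathlib.Tactic

set_option autoImplicit false
open Cfsg
open scoped Pointwise

namespace Cfsg.Agent.S0735

/-- In a 2-homogeneous group each pair can be moved to each other pair, up to a swap. -/
theorem move_pair {α : Type*} [Fintype α] [DecidableEq α] (G : Subgroup (Equiv.Perm α))
    (h2 : MulAction.IsPretransitive G (Set.powersetCard α 2)) (a b c d : α) (hab : a ≠ b)
    (hcd : c ≠ d) : ∃ g : G, (g • a = c ∧ g • b = d) ∨ (g • a = d ∧ g • b = c) := by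
  obtain ⟨g, hg⟩ := h2.exists_smul_eq ⟨{a, b}, Finset.card_pair hab⟩ ⟨{c, d}, Finset.card_pair hcd⟩
  refine ⟨g, ?_⟩
  have h1 : g • ({a, b} : Finset α) = {c, d} := congrArg Subtype.val hg
  have h3 : ({g • a, g • b} : Finset α) = {c, d} := by
    rw [← h1, Finset.smul_finset_insert, Finset.smul_finset_singleton]
  have hne : g • a ≠ g • b := fun h => hab (smul_left_cancel g h)
  have hc : g • a ∈ ({c, d} : Finset α) := by rw [← h3]; simp
  have hd : g • b ∈ ({c, d} : Finset α) := by rw [← h3]; simp
  rw [Finset.mem_insert, Finset.mem_singleton] at hc hd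
  rcases hc with hc | hc <;> rcases hd with hd | hd
  · exact absurd (hc.trans hd.symm) hne
  · exact Or.inl ⟨hc, hd⟩
  · exact Or.inr ⟨hc, hd⟩
  · exact absurd (hc.trans hd.symm) hne

/-- A 2-homogeneous permutation group (transitive on 2-subsets) of even order is doubly transitive; a non-trivial 2-homogeneous group is primitive. -/
theorem result {α : Type*} [Fintype α] [DecidableEq α] (G : Subgroup (Equiv.Perm α)) (h2 : MulAction.IsPretransitive G (Set.powersetCard α 2)) (hα : 3 ≤ Fintype.card α) : (Even (Nat.card G) → MulAction.IsMultiplyPretransitive G α 2) ∧ (G ≠ ⊥ → MulAction.IsPreprimitive G α) := by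
  constructor
  · intro heven
    obtain ⟨t, ht⟩ := exists_prime_orderOf_dvd_card' 2 (even_iff_two_dvd.mp heven)
    have ht1 : (t : Equiv.Perm α) ≠ 1 := by
      intro h
      have : t = 1 := Subtype.ext h
      rw [this, orderOf_one] at ht
      omega
    have ht2 : t * t = 1 := by
      rw [← sq, ← ht, pow_orderOf_eq_one]
    obtain ⟨a, ha⟩ : ∃ a, (t : Equiv.Perm α) a ≠ a := by
      by_contra hcon
      push Not at hcon
      exact ht1 (Equiv.ext hcon)
    have hta : t • a ≠ a := ha
    have htt : t • (t • a) = a := by rw [smul_smul, ht2, one_smul]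
    have key : ∀ c d : α, c ≠ d → ∃ g : G, g • a = c ∧ g • (t • a) = d := by
      intro c d hcd
      obtain ⟨g, h | h⟩ := move_pair G h2 a (t • a) c d hta.symm hcd
      · exact ⟨g, h⟩
      · refine ⟨g * t, ?_, ?_⟩
        · rw [mul_smul]; exact h.2
        · rw [mul_smul, htt]; exact h.1
    rw [MulAction.is_two_pretransitive_iff]
    intro x y z w hxy hzw
    obtain ⟨g, hg1, hg2⟩ := key x y hxy
    obtain ⟨k, hk1, hk2⟩ := key z w hzw
    refine ⟨k * g⁻¹, ?_, ?_⟩
    · rw [mul_smul, ← hg1, inv_smul_smul, hk1]
    · rw [mul_smul, ← hg2, inv_smul_smul, hk2]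
  · intro _
    have htrans : MulAction.IsPretransitive G α := by
      constructor
      intro x y
      obtain ⟨z, hz⟩ : ∃ z, z ∉ ({x, y} : Finset α) := by
        by_contra hcon
        push Not at hcon
        have h1 : (Finset.univ : Finset α) ⊆ {x, y} := fun z _ => hcon z
        have h3 := Finset.card_le_card h1
        have h4 := Finset.card_le_two (a := x) (b := y)
        rw [Finset.card_univ] at h3
        omega
      simp only [Finset.mem_insert, Finset.mem_singleton, not_or] at hz
      obtain ⟨g, h | h⟩ := move_pair G h2 x z y z (Ne.symm hz.1) (Ne.symm hz.2)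
      · exact ⟨g, h.1⟩
      · exact ⟨g * g, by rw [mul_smul, h.1, h.2]⟩
    refine { isTrivialBlock_of_isBlock := ?_ }
    intro B hB
    by_cases hs : B.Subsingleton
    · exact Or.inl hs
    · right
      rw [Set.not_subsingleton_iff] at hs
      obtain ⟨a, ha, b, hb, hab⟩ := hs
      rw [MulAction.isBlock_iff_smul_eq_of_nonempty] at hB
      rw [Set.eq_univ_iff_forall]
      intro x
      by_cases hax : a = x
      · rw [← hax]; exact ha
      · obtain ⟨g, h⟩ := move_pair G h2 a b a x hab hax
        have hne : (g • B ∩ B).Nonempty := by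
          rcases h with h | h
          · exact ⟨a, ⟨a, ha, h.1⟩, ha⟩
          · exact ⟨a, ⟨b, hb, h.2⟩, ha⟩
        rw [← hB hne]
        rcases h with h | h
        · exact ⟨b, hb, h.2⟩
        · exact ⟨a, ha, h.1⟩

end Cfsg.Agent.S0735
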