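import Cfsg.Statements.S0711
import Mathlib

set_option autoImplicit false
open Cfsg

namespace Cfsg.Agent.S0711

open Equiv.Perm MulAction

theorem inv_app {α : Type*} (f : Equiv.Perm α) (x : α) : f⁻¹ (f x) = x := by
  rw [inv_eq_iff_eq]

/-- In a `k`-transitive group we can fix fewer than `k` points and move one further point
anywhere outside. -/
theorem exists_fix_move {α : Type*} [Fintype α] [DecidableEq α] (G : Subgroup (Equiv.Perm α))
    {k : ℕ} (hkn : k ≤ Fintype.card α) (hG : MulAction.IsMultiplyPretransitive G α k)
    (X : Finset α) (hX : X.card + 1 ≤ k) {a b : α} (ha : a ∉ X) (hb : b ∉ X) :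
    ∃ h : Equiv.Perm α, h ∈ G ∧ (∀ x ∈ X, h x = x) ∧ h a = b := by
  have h1 : MulAction.IsMultiplyPretransitive G α (X.card + 1) :=
    MulAction.isMultiplyPretransitive_of_le hX (by rwa [Nat.card_eq_fintype_card])
  have h2 := SubMulAction.ofFixingSubgroup.isMultiplyPretransitive (m := 1) (n := X.card + 1)
    G (X : Set α) (by rw [Set.ncard_coe_finset])
  rw [MulAction.is_one_pretransitive_iff] at h2
  obtain ⟨g, hg⟩ := h2.exists_smul_eq
    (⟨a, (SubMulAction.mem_ofFixingSubgroup_iff (M := G)).2 (by simpa using ha)⟩)
    (⟨b, (SubMulAction.mem_ofFixingSubgroup_iff (M := G)).2 (by simpa using hb)⟩)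
  refine ⟨(g : G), (g : G).2, ?_, ?_⟩
  · intro x hx
    have := (mem_fixingSubgroup_iff G).1 g.2 x (by simpa using hx)
    exact this
  · have := congrArg Subtype.val hg
    exact this

/-- A set of `j` points of the support, of which at most one is moved outside. -/
theorem exists_path {α : Type*} [Fintype α] [DecidableEq α] (g : Equiv.Perm α) (j : ℕ)
    (hj : j ≤ g.support.card) :
    ∃ X : Finset α, X ⊆ g.support ∧ X.card = j ∧ (X.filter (fun x => g x ∉ X)).card ≤ 1 := by
  induction j with
  | zero => exact ⟨∅, by simp, by simp, by simp⟩
  | succ j ih =>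
    obtain ⟨X, hX, hXc, hXf⟩ := ih (by omega)
    by_cases hne : ∃ x ∈ X, g x ∉ X
    · obtain ⟨x, hx, hgx⟩ := hne
      refine ⟨insert (g x) X, ?_, ?_, ?_⟩
      · intro y hy
        rcases Finset.mem_insert.1 hy with rfl | hy
        · exact apply_mem_support.2 (hX hx)
        · exact hX hy
      · rw [Finset.card_insert_of_notMem hgx, hXc]
      · rw [Finset.card_le_one] at hXf ⊢
        have key : ∀ y ∈ (insert (g x) X).filter (fun y => g y ∉ insert (g x) X), y = g x := by
          intro y hy
          rw [Finset.mem_filter, Finset.mem_insert, Finset.mem_insert] at hy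
          rcases hy with ⟨rfl | hy, h2⟩
          · rfl
          · exfalso
            have h3 : y = x := hXf y (by
              rw [Finset.mem_filter]; exact ⟨hy, fun h => h2 (Or.inr h)⟩) x (by
              rw [Finset.mem_filter]; exact ⟨hx, hgx⟩)
            exact h2 (Or.inl (by rw [h3]))
        intro y hy z hz
        rw [key y hy, key z hz]
    · push Not at hne
      obtain ⟨x, hx, hxX⟩ : ∃ x ∈ g.support, x ∉ X := by
        by_contra hcon
        push Not at hcon
        have := Finset.card_le_card (show g.support ⊆ X from hcon)
        omega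
      refine ⟨insert x X, ?_, ?_, ?_⟩
      · intro y hy
        rcases Finset.mem_insert.1 hy with rfl | hy
        · exact hx
        · exact hX hy
      · rw [Finset.card_insert_of_notMem hxX, hXc]
      · rw [Finset.card_le_one]
        have key : ∀ y ∈ (insert x X).filter (fun y => g y ∉ insert x X), y = x := by
          intro y hy
          rw [Finset.mem_filter, Finset.mem_insert, Finset.mem_insert] at hy
          rcases hy with ⟨rfl | hy, h2⟩
          · rfl
          · exact absurd (Or.inr (hne y hy)) h2
        intro y hy z hz
        rw [key y hy, key z hz]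

theorem count {α : Type*} [Fintype α] [DecidableEq α] (g g' : Equiv.Perm α)
    (hcard : g'.support.card = g.support.card) (Y Z : Finset α) (hY : Y ⊆ g.support)
    (hY' : Y ⊆ g'.support) (hZ : Z ⊆ Y) (h : ∀ z ∈ Z, g z = g' z) :
    (g⁻¹ * g').support.card + Y.card + Z.card ≤ 2 * g.support.card := by
  have h1 : (g⁻¹ * g').support ⊆ (g.support ∪ g'.support) \ Z := by
    intro x hx
    rw [Finset.mem_sdiff, Finset.mem_union]
    rw [mem_support] at hx
    constructor
    · by_contra hcon
      push Not at hcon
      obtain ⟨hc1, hc2⟩ := hcon
      rw [notMem_support] at hc1 hc2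
      apply hx
      rw [mul_apply, hc2, inv_eq_iff_eq, hc1]
    · intro hxZ
      apply hx
      rw [mul_apply, inv_eq_iff_eq, h x hxZ]
  have h2 := Finset.card_le_card h1
  have h3 : Z ⊆ g.support ∪ g'.support := (hZ.trans hY).trans Finset.subset_union_left
  have h4 := Finset.card_sdiff_add_card_eq_card h3
  have h5 := Finset.card_union_add_card_inter g.support g'.support
  have h6 := Finset.card_le_card (Finset.subset_inter hY hY')
  omega

theorem conj_support {α : Type*} [Fintype α] [DecidableEq α] (g h : Equiv.Perm α) :
    (h * g * h⁻¹).support.card = g.support.card := by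
  rw [card_support_conj]

theorem step {α : Type*} [Fintype α] [DecidableEq α] (G : Subgroup (Equiv.Perm α))
    {k : ℕ} (hk : 3 ≤ k) (hkn : k ≤ Fintype.card α)
    (hG : MulAction.IsMultiplyPretransitive G α k)
    (g : Equiv.Perm α) (hg : g ∈ G) (hg1 : g ≠ 1) (hsupp : g.support.card < 2 * k - 2)
    (h3 : 3 < g.support.card) :
    ∃ h : Equiv.Perm α, h ∈ G ∧ h ≠ 1 ∧ h.support.card < g.support.card := by
  by_cases hfix : ∃ z, g z = z
  swap
  · push Not at hfix
    -- no fixed point: take any nontrivial element with a fixed point
    obtain ⟨a, b, c, hab, hac, hbc⟩ := (Fintype.two_lt_card_iff (α := α)).1 (by omega)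
    obtain ⟨h, hhG, hha, hhb⟩ := exists_fix_move G hkn hG {a} (by simp; omega)
      (a := b) (b := c) (by simp [hab.symm]) (by simp [hac.symm])
    refine ⟨h, hhG, ?_, ?_⟩
    · rintro rfl
      exact hbc hhb
    · have h1 : g.support = Finset.univ := by
        ext x; simp [hfix x]
      rw [h1]
      apply Finset.card_lt_card
      rw [Finset.ssubset_univ_iff]
      intro hcon
      have : a ∈ h.support := by rw [hcon]; exact Finset.mem_univ a
      rw [mem_support] at this
      exact this (hha a (by simp))
  obtain ⟨z, hz⟩ := hfix
  have hzs : z ∉ g.support := by rw [notMem_support]; exact hz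
  rcases le_or_gt g.support.card k with hmk | hmk
  · -- small support
    obtain ⟨x, hx⟩ : g.support.Nonempty := by rw [← Finset.card_pos]; omega
    have hXc : (g.support.erase x).card + 1 = g.support.card := Finset.card_erase_add_one hx
    obtain ⟨h, hhG, hhX, hhx⟩ := exists_fix_move G hkn hG (g.support.erase x) (by omega)
      (a := x) (b := z) (by simp) (by simp [hz])
    have hg'z : (h * g * h⁻¹) z ≠ z := by
      rw [← hhx]
      simp only [mul_apply, inv_app]
      intro hcon
      have := h.injective hcon
      rw [mem_support] at hx
      exact hx this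
    refine ⟨g⁻¹ * (h * g * h⁻¹), ?_, ?_, ?_⟩
    · exact G.mul_mem (G.inv_mem hg) (G.mul_mem (G.mul_mem hhG hg) (G.inv_mem hhG))
    · intro hcon
      rw [inv_mul_eq_one] at hcon
      apply hg'z
      rw [← hcon, hz]
    · have hcount := count g (h * g * h⁻¹) (conj_support g h) (g.support.erase x)
        ((g.support.erase x).erase (g⁻¹ x)) (Finset.erase_subset _ _) (by
          intro y hy
          have hy1 := hhX y hy
          have hy2 : h⁻¹ y = y := by rw [inv_eq_iff_eq, hy1]
          rw [mem_support]
          simp only [mul_apply, hy2]
          intro hcon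
          have : h (g y) = h y := by rw [hcon, hy1]
          have := h.injective this
          have hy3 := Finset.mem_of_mem_erase hy
          rw [mem_support] at hy3
          exact hy3 this) (Finset.erase_subset _ _) (by
          intro y hy
          rw [Finset.mem_erase] at hy
          obtain ⟨hyne, hyX⟩ := hy
          have hy1 := hhX y hyX
          have hy2 : h⁻¹ y = y := by rw [inv_eq_iff_eq, hy1]
          simp only [mul_apply, hy2]
          symm
          apply hhX
          rw [Finset.mem_erase] at hyX ⊢
          refine ⟨?_, apply_mem_support.2 hyX.2⟩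
          intro hcon
          apply hyne
          rw [← hcon, inv_app])
      have hge := Finset.pred_card_le_card_erase (s := g.support.erase x) (a := g⁻¹ x)
      omega
  · -- large support
    obtain ⟨X, hXs, hXc, hXf⟩ := exists_path g (k - 1) (by omega)
    by_cases hne : ∃ x ∈ X, g x ∉ X
    · obtain ⟨x, hx, hgx⟩ := hne
      have huniq : ∀ y ∈ X, g y ∉ X → y = x := by
        intro y hy hgy
        exact Finset.card_le_one.1 hXf y (by simp [hy, hgy]) x (by simp [hx, hgx])
      -- a further point of the support
      obtain ⟨y, hy, hyX⟩ : ∃ y ∈ g.support, y ∉ insert (g x) X := by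
        by_contra hcon
        push Not at hcon
        have h1 := Finset.card_le_card (show g.support ⊆ insert (g x) X from hcon)
        have h2 := Finset.card_insert_le (g x) X
        omega
      rw [Finset.mem_insert, not_or] at hyX
      obtain ⟨h, hhG, hhX, hhx⟩ := exists_fix_move G hkn hG X (by omega)
        (a := g x) (b := y) hgx hyX.2
      have hinv : ∀ w ∈ X, h⁻¹ w = w := by
        intro w hw
        rw [inv_eq_iff_eq, hhX w hw]
      refine ⟨g⁻¹ * (h * g * h⁻¹), ?_, ?_, ?_⟩
      · exact G.mul_mem (G.inv_mem hg) (G.mul_mem (G.mul_mem hhG hg) (G.inv_mem hhG))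
      · intro hcon
        rw [inv_mul_eq_one] at hcon
        have h1 := congrArg (fun f : Equiv.Perm α => f x) hcon
        simp only [mul_apply, hinv x hx, hhx] at h1
        exact hyX.1 h1.symm
      · have hcount := count g (h * g * h⁻¹) (conj_support g h) (insert y X) (X.erase x) (by
          intro w hw
          rcases Finset.mem_insert.1 hw with rfl | hw
          · exact hy
          · exact hXs hw) (by
          intro w hw
          rcases Finset.mem_insert.1 hw with rfl | hw
          · rw [mem_support, ← hhx]
            simp only [mul_apply, inv_app]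
            intro hcon
            have h1 := h.injective hcon
            have h2 : g x ∈ g.support := apply_mem_support.2 (hXs hx)
            rw [mem_support] at h2
            exact h2 h1
          · rw [mem_support]
            simp only [mul_apply, hinv w hw]
            intro hcon
            have h1 : h (g w) = h w := by rw [hcon, hhX w hw]
            have h2 := h.injective h1
            have h3 := hXs hw
            rw [mem_support] at h3
            exact h3 h2) ((Finset.erase_subset _ _).trans (Finset.subset_insert _ _)) (by
          intro w hw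
          rw [Finset.mem_erase] at hw
          simp only [mul_apply, hinv w hw.2]
          symm
          apply hhX
          by_contra hcon
          exact hw.1 (huniq w hw.2 hcon))
        rw [Finset.card_insert_of_notMem hyX.2, Finset.card_erase_of_mem hx, hXc] at hcount
        omega
    · push Not at hne
      obtain ⟨y, hy, hyX⟩ : ∃ y ∈ g.support, y ∉ X := by
        by_contra hcon
        push Not at hcon
        have h1 := Finset.card_le_card (show g.support ⊆ X from hcon)
        omega
      have hzX : z ∉ X := fun h => hzs (hXs h)
      obtain ⟨h, hhG, hhX, hhy⟩ := exists_fix_move G hkn hG X (by omega)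
        (a := y) (b := z) hyX hzX
      have hinv : ∀ w ∈ X, h⁻¹ w = w := by
        intro w hw
        rw [inv_eq_iff_eq, hhX w hw]
      refine ⟨g⁻¹ * (h * g * h⁻¹), ?_, ?_, ?_⟩
      · exact G.mul_mem (G.inv_mem hg) (G.mul_mem (G.mul_mem hhG hg) (G.inv_mem hhG))
      · intro hcon
        rw [inv_mul_eq_one] at hcon
        have h1 := congrArg (fun f : Equiv.Perm α => f z) hcon
        simp only [hz] at h1
        rw [← hhy] at h1
        simp only [mul_apply, inv_app] at h1
        have h2 := h.injective h1
        rw [mem_support] at hy
        exact hy h2.symm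
      · have hcount := count g (h * g * h⁻¹) (conj_support g h) X X hXs (by
          intro w hw
          rw [mem_support]
          simp only [mul_apply, hinv w hw]
          intro hcon
          have h1 : h (g w) = h w := by rw [hcon, hhX w hw]
          have h2 := h.injective h1
          have h3 := hXs hw
          rw [mem_support] at h3
          exact h3 h2) le_rfl (by
          intro w hw
          simp only [mul_apply, hinv w hw]
          exact (hhX _ (hne w hw)).symm)
        omega

theorem exists_small {α : Type*} [Fintype α] [DecidableEq α] (G : Subgroup (Equiv.Perm α))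
    {k : ℕ} (hk : 3 ≤ k) (hkn : k ≤ Fintype.card α)
    (hG : MulAction.IsMultiplyPretransitive G α k) (m : ℕ) :
    ∀ (g : Equiv.Perm α), g ∈ G → g ≠ 1 → g.support.card < 2 * k - 2 → g.support.card = m →
    ∃ h : Equiv.Perm α, h ∈ G ∧ h ≠ 1 ∧ h.support.card ≤ 3 := by
  induction m using Nat.strong_induction_on with
  | _ m ih =>
    intro g hg hg1 hsupp hm
    rcases le_or_gt g.support.card 3 with h3 | h3
    · exact ⟨g, hg, hg1, h3⟩
    · obtain ⟨h, hh, hh1, hlt⟩ := step G hk hkn hG g hg hg1 hsupp h3
      exact ih h.support.card (by omega) h hh hh1 (by omega) rfl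

/-- A `k`-transitive permutation group (`k ≥ 3`) with a non-identity element of support smaller than `2k - 2` contains a non-identity element of support at most 3, and therefore contains the alternating group. -/
theorem result {α : Type*} [Fintype α] [DecidableEq α] (G : Subgroup (Equiv.Perm α)) {k : ℕ} (hk : 3 ≤ k) (hkn : k ≤ Fintype.card α) (hG : MulAction.IsMultiplyPretransitive G α k) (g : Equiv.Perm α) (hg : g ∈ G) (hg1 : g ≠ 1) (hsupp : g.support.card < 2 * k - 2) : (∃ h : Equiv.Perm α, h ∈ G ∧ h ≠ 1 ∧ h.support.card ≤ 3) ∧ alternatingGroup α ≤ G := by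
  have key := exists_small G hk hkn hG _ g hg hg1 hsupp rfl
  refine ⟨key, ?_⟩
  obtain ⟨h, hh, hh1, hle⟩ := key
  have h2 : MulAction.IsMultiplyPretransitive G α 2 :=
    MulAction.isMultiplyPretransitive_of_le (by omega : 2 ≤ k)
      (by rwa [Nat.card_eq_fintype_card])
  have hprim : MulAction.IsPreprimitive G α := MulAction.isPreprimitive_of_is_two_pretransitive h2
  have hge : 2 ≤ h.support.card := two_le_card_support_of_ne_one hh1
  rcases (show h.support.card = 2 ∨ h.support.card = 3 by omega) with hc | hc
  · have := subgroup_eq_top_of_isPreprimitive_of_isSwap_mem hprim h (card_support_eq_two.1 hc) hh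
    rw [this]
    exact le_top
  · exact alternatingGroup_le_of_isPreprimitive_of_isThreeCycle_mem hprim
      (card_support_eq_three_iff.1 hc) hh

end Cfsg.Agent.S0711
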