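import Cfsg.Statements.S0713
-- import your own Cfsg.Agent.* helpers here
import Mathlib

set_option autoImplicit false
open Cfsg

namespace Cfsg.Agent.S0713

open MulAction SubMulAction Equiv

/-- The pointwise stabiliser, in the full symmetric group, of a set `s`, has order
`(card α - card s)!`. -/
theorem card_fixingSubgroup_perm {α : Type*} [Finite α] (s : Set α) :
    Nat.card (fixingSubgroup (Perm α) s) = (Nat.card α - s.ncard).factorial := by
  have h := (Equiv.Perm.isMultiplyPretransitive α s.ncard).index_of_fixingSubgroup_mul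
    (s := s) rfl
  have h2 := Subgroup.index_mul_card (fixingSubgroup (Perm α) s)
  rw [Nat.card_perm, ← h] at h2
  exact Nat.eq_of_mul_eq_mul_left
    (Nat.pos_of_ne_zero Subgroup.index_ne_zero_of_finite) h2

/-- If `G` is `|s|`-transitive and `σ` permutes `s`, then some element of `G` acts on `s`
as `σ`. -/
theorem exists_mem_eqOn {α : Type*} [Finite α] {G : Subgroup (Perm α)} (s : Set α)
    (hG : IsMultiplyPretransitive G α s.ncard) (σ : Perm α) :
    ∃ x ∈ G, ∀ a ∈ s, x a = σ a := by
  have hne : Nonempty (Fin s.ncard ≃ s) :=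
    Finite.card_eq.mp (by simp [Nat.card_coe_set_eq])
  obtain ⟨e0⟩ := hne
  let e : Fin s.ncard ↪ α := e0.toEmbedding.trans (Function.Embedding.subtype _)
  obtain ⟨x, hx⟩ := hG.exists_smul_eq e (e.trans σ.toEmbedding)
  refine ⟨x, x.2, fun a ha => ?_⟩
  have := DFunLike.congr_fun hx (e0.symm ⟨a, ha⟩)
  simpa [e, Subgroup.smul_def] using this

/-- Witt's argument. -/
theorem exists_normalizing {α : Type*} [Fintype α] [DecidableEq α] {G : Subgroup (Perm α)}
    {p : ℕ} (hp : p.Prime) {g : Perm α} (hgc : g.IsCycle) (hgp : g.support.card = p)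
    (hg : g ∈ G) (hG : IsMultiplyPretransitive G α ((g.support : Set α)ᶜ).ncard)
    (σ : Perm α) (hσ : ∀ a, g a = a → g (σ a) = σ a) :
    ∃ y ∈ G, (∀ a, g a = a → y a = σ a) ∧ ∃ k : ℤ, y * g * y⁻¹ = g ^ k := by
  set s : Set α := (g.support : Set α)ᶜ with hs
  have hmem : ∀ a, a ∈ s ↔ g a = a := by
    intro a
    simp [hs]
  obtain ⟨x, hxG, hx⟩ := exists_mem_eqOn s hG σ
  have : Fact p.Prime := ⟨hp⟩
  let H : Subgroup (Perm α) := G ⊓ fixingSubgroup (Perm α) s
  have hHmem : ∀ h : Perm α, h ∈ H ↔ h ∈ G ∧ ∀ a, g a = a → h a = a := by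
    intro h
    simp only [H, Subgroup.mem_inf, mem_fixingSubgroup_iff, Perm.smul_def, hmem]
  have hord : orderOf g = p := by rw [hgc.orderOf, hgp]
  have hgH : g ∈ H := (hHmem g).2 ⟨hg, fun a h => h⟩
  have hgxH : x⁻¹ * g * x ∈ H := by
    refine (hHmem _).2 ⟨G.mul_mem (G.mul_mem (G.inv_mem hxG) hg) hxG, fun a h => ?_⟩
    have h1 : x a = σ a := hx a ((hmem a).2 h)
    have h2 : g (x a) = x a := by rw [h1]; exact hσ a h
    simp [Perm.mul_apply, h2]
  have hordx : orderOf (x⁻¹ * g * x) = p := by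
    have : x⁻¹ * g * x = MulAut.conj x⁻¹ g := by simp
    rw [this, ← hord]
    exact orderOf_injective (MulAut.conj x⁻¹).toMonoidHom (MulAut.conj x⁻¹).injective g
  -- the `p`-part of the order of `H` is `p`
  have hcardK : Nat.card (fixingSubgroup (Perm α) s) = p.factorial := by
    rw [card_fixingSubgroup_perm]
    congr 1
    have h1 : _ + s.ncard = _ := Set.ncard_add_ncard_compl (g.support : Set α)
    rw [Set.ncard_coe_finset, hgp] at h1
    omega
  have hdvd : Nat.card H ∣ p.factorial := by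
    rw [← hcardK]
    exact Subgroup.card_dvd_of_le inf_le_right
  have hpd : p ∣ Nat.card H := by
    rw [← hord, ← Subgroup.orderOf_mk g hgH]
    exact orderOf_dvd_natCard _
  have hp2 : ¬ p ^ 2 ∣ Nat.card H := by
    intro h
    have h1 : p * p ∣ p * (p - 1).factorial := by
      rw [Nat.mul_factorial_pred hp.ne_zero, ← sq]
      exact h.trans hdvd
    have h2 : p ∣ (p - 1).factorial := Nat.dvd_of_mul_dvd_mul_left hp.pos h1
    have h3 := (Nat.Prime.dvd_factorial hp).1 h2
    have := hp.pos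
    omega
  have hfac : (Nat.card H).factorization p = 1 := by
    have hne : Nat.card H ≠ 0 := Nat.card_pos.ne'
    apply le_antisymm
    · by_contra hcon
      exact hp2 ((hp.pow_dvd_iff_le_factorization hne).2 (by omega))
    · exact (hp.pow_dvd_iff_le_factorization hne).1 (by simpa using hpd)
  -- the two Sylow subgroups
  let g1 : H := ⟨g, hgH⟩
  let g2 : H := ⟨x⁻¹ * g * x, hgxH⟩
  have hc1 : Nat.card (Subgroup.zpowers g1) = p ^ (Nat.card H).factorization p := by
    rw [Nat.card_zpowers, hfac, pow_one, Subgroup.orderOf_mk, hord]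
  have hc2 : Nat.card (Subgroup.zpowers g2) = p ^ (Nat.card H).factorization p := by
    rw [Nat.card_zpowers, hfac, pow_one, Subgroup.orderOf_mk, hordx]
  obtain ⟨h, hh⟩ := MulAction.exists_smul_eq H (Sylow.ofCard _ hc1) (Sylow.ofCard _ hc2)
  have hmem2 : h * g1 * h⁻¹ ∈ Subgroup.zpowers g2 := by
    have h1 : h * g1 * h⁻¹ ∈ ((h • Sylow.ofCard _ hc1 : Sylow p H) : Subgroup H) := by
      rw [Sylow.coe_subgroup_smul]
      have h2 : g1 ∈ ((Sylow.ofCard _ hc1 : Sylow p H) : Subgroup H) := by
        simp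
      have h3 := Subgroup.smul_mem_pointwise_smul g1 (MulAut.conj h) _ h2
      simpa [MulAut.smul_def, MulAut.conj_apply] using h3
    rw [hh] at h1
    simpa using h1
  obtain ⟨k, hk⟩ := Subgroup.mem_zpowers_iff.1 hmem2
  refine ⟨x * h, G.mul_mem hxG ((hHmem _).1 h.2).1, ?_, k, ?_⟩
  · intro a ha
    rw [Perm.mul_apply, ((hHmem _).1 h.2).2 a ha]
    exact hx a ((hmem a).2 ha)
  · have h1 := congrArg Subtype.val hk
    simp only [g1, g2, Subgroup.coe_mul, Subgroup.coe_inv, SubgroupClass.coe_zpow] at h1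
    have h2 : (x⁻¹ * g * x) ^ k = x⁻¹ * g ^ k * x := by
      have := conj_zpow (a := x⁻¹) (b := g) (i := k)
      simpa using this
    rw [h2] at h1
    calc x * (h : Perm α) * g * (x * (h : Perm α))⁻¹
        = x * ((h : Perm α) * g * (h : Perm α)⁻¹) * x⁻¹ := by group
      _ = x * (x⁻¹ * g ^ k * x) * x⁻¹ := by rw [← h1]
      _ = g ^ k := by group

/-- Jordan's Theorem: a primitive permutation group of degree `n ≥ 5` containing a `p`-cycle for a prime `p ≤ n - 3` contains the alternating group. -/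
theorem result {α : Type*} [Fintype α] [DecidableEq α] (G : Subgroup (Equiv.Perm α)) (hG : MulAction.IsPreprimitive G α) {p : ℕ} (hp : p.Prime) (hn : 5 ≤ Fintype.card α) (hpn : p + 3 ≤ Fintype.card α) {g : Equiv.Perm α} (hgc : g.IsCycle) (hgp : g.support.card = p) (hg : g ∈ G) : alternatingGroup α ≤ G := by
  have hcard : ((g.support : Set α)ᶜ).ncard + p = Nat.card α := by
    have h1 := Set.ncard_add_ncard_compl (g.support : Set α)
    rw [Set.ncard_coe_finset, hgp] at h1
    omega
  rw [← Nat.card_eq_fintype_card] at hpn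
  -- `G` is `(n - p + 1)`-transitive
  have htrans : IsMultiplyPretransitive G α ((g.support : Set α)ᶜ).ncard := by
    obtain ⟨n, hn1⟩ : ∃ n, ((g.support : Set α)ᶜ).ncard = n + 1 :=
      ⟨((g.support : Set α)ᶜ).ncard - 1, by omega⟩
    have h1 : IsMultiplyPreprimitive G α (n + 2) := by
      refine hG.isMultiplyPreprimitive hn1 ?_ ?_
      · have := hp.two_le
        omega
      · have := Equiv.Perm.isPretransitive_of_isCycle_mem hgc hg
        apply IsPreprimitive.of_prime_card
        have h2 : Nat.card (ofFixingSubgroup G ((g.support : Set α)ᶜ)) = p := by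
          have h3 : Nat.card (ofFixingSubgroup G ((g.support : Set α)ᶜ)) =
              (((g.support : Set α)ᶜ)ᶜ).ncard := Nat.card_coe_set_eq _
          rw [h3, compl_compl, Set.ncard_coe_finset, hgp]
        rw [h2]
        exact hp
    have h2 : IsMultiplyPretransitive G α (n + 2) := h1.isMultiplyPretransitive
    rw [hn1]
    refine isMultiplyPretransitive_of_le (n := n + 2) (by omega) ?_
    have := hp.two_le
    omega
  -- three fixed points of `g`
  obtain ⟨a, b, c, ha, hb, hc, hab, hac, hbc⟩ :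
      ∃ a b c, a ∈ (g.support : Set α)ᶜ ∧ b ∈ (g.support : Set α)ᶜ ∧ c ∈ (g.support : Set α)ᶜ ∧
        a ≠ b ∧ a ≠ c ∧ b ≠ c := by
    have h3 : 2 < ((g.support : Set α)ᶜ).ncard := by omega
    rw [Set.two_lt_ncard_iff] at h3
    exact h3
  have ha' : g a = a := by simpa using ha
  have hb' : g b = b := by simpa using hb
  have hc' : g c = c := by simpa using hc
  have hswap : ∀ u v, g u = u → g v = v → ∀ w, g w = w → g (swap u v w) = swap u v w := by
    intro u v hu hv w hw
    rcases eq_or_ne w u with rfl | h1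
    · simpa using hv
    · rcases eq_or_ne w v with rfl | h2
      · simpa using hu
      · rw [swap_apply_of_ne_of_ne h1 h2, hw]
  obtain ⟨y1, hy1G, hy1, k1, hk1⟩ := exists_normalizing hp hgc hgp hg htrans (swap a b)
    (hswap a b ha' hb')
  obtain ⟨y2, hy2G, hy2, k2, hk2⟩ := exists_normalizing hp hgc hgp hg htrans (swap a c)
    (hswap a c ha' hc')
  -- the commutator centralises `g`
  have hz : ∀ (y : Perm α) (k l : ℤ), y * g * y⁻¹ = g ^ k → y * g ^ l * y⁻¹ = g ^ (k * l) := by
    intro y k l h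
    rw [← conj_zpow, h, zpow_mul]
  set d := (y2 * y1)⁻¹ * (y1 * y2) with hd
  have hcomm : d * g = g * d := by
    have h1 : (y1 * y2) * g * (y1 * y2)⁻¹ = g ^ (k1 * k2) := by
      calc (y1 * y2) * g * (y1 * y2)⁻¹ = y1 * (y2 * g * y2⁻¹) * y1⁻¹ := by group
        _ = y1 * g ^ k2 * y1⁻¹ := by rw [hk2]
        _ = _ := hz _ _ _ hk1
    have h2 : (y2 * y1) * g * (y2 * y1)⁻¹ = g ^ (k1 * k2) := by
      calc (y2 * y1) * g * (y2 * y1)⁻¹ = y2 * (y1 * g * y1⁻¹) * y2⁻¹ := by group
        _ = y2 * g ^ k1 * y2⁻¹ := by rw [hk1]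
        _ = _ := by rw [hz _ _ _ hk2, mul_comm]
    have h3 : (y1 * y2) * g * (y1 * y2)⁻¹ = (y2 * y1) * g * (y2 * y1)⁻¹ := h1.trans h2.symm
    have h4 : (y1 * y2) * g = (y2 * y1) * g * (y2 * y1)⁻¹ * (y1 * y2) := by
      rw [← h3]; group
    calc d * g = (y2 * y1)⁻¹ * ((y1 * y2) * g) := by rw [hd]; group
      _ = (y2 * y1)⁻¹ * ((y2 * y1) * g * (y2 * y1)⁻¹ * (y1 * y2)) := by rw [h4]
      _ = g * d := by rw [hd]; group
  have hdG : d ∈ G :=
    G.mul_mem (G.inv_mem (G.mul_mem hy2G hy1G)) (G.mul_mem hy1G hy2G)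
  -- the action of `d` on the fixed points of `g`
  have hds : ∀ w, g w = w → d w = ((swap a b * swap a c) ^ 2) w := by
    intro w hw
    have e1 : y2 w = swap a c w := hy2 w hw
    have f1 := hswap a c ha' hc' w hw
    have e2 : y1 (swap a c w) = swap a b (swap a c w) := hy1 _ f1
    have f2 := hswap a b ha' hb' _ f1
    have f3 := hswap a c ha' hc' _ f2
    have f4 := hswap a b ha' hb' _ f3
    have e4 : y1 (swap a b (swap a c (swap a b (swap a c w)))) =
        swap a c (swap a b (swap a c w)) := by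
      rw [hy1 _ f4]; simp
    have e3 : y2 (swap a c (swap a b (swap a c w))) = swap a b (swap a c w) := by
      rw [hy2 _ f3]; simp
    rw [hd, Perm.mul_apply, Perm.inv_eq_iff_eq, Perm.mul_apply, Perm.mul_apply, e1, e2]
    simp only [sq, Perm.mul_apply]
    rw [e4, e3]
  -- the action of `d` on the support of `g`
  obtain ⟨u, hu, hcyc⟩ := hgc
  have hdu : g (d u) ≠ d u := by
    intro h
    apply hu
    have h1 : d (g u) = d u := by
      have := congrArg (fun f : Perm α => f u) hcomm
      simp only [Perm.mul_apply] at this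
      rw [this, h]
    exact d.injective h1
  obtain ⟨i, hi⟩ := hcyc hdu
  have hdsupp : ∀ v, g v ≠ v → d v = (g ^ i) v := by
    intro v hv
    obtain ⟨j, rfl⟩ := hcyc hv
    have h1 : Commute d g := hcomm
    have h2 : d * g ^ j = g ^ j * d := (h1.zpow_right j).eq
    have h3 := congrArg (fun f : Perm α => f u) h2
    simp only [Perm.mul_apply] at h3
    rw [h3, ← hi, ← Perm.mul_apply, ← Perm.mul_apply, ← zpow_add, ← zpow_add, add_comm]
  have hkey : (g ^ i)⁻¹ * d = (swap a b * swap a c) ^ 2 := by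
    ext v
    by_cases hv : g v = v
    · have h1 : g (((swap a b * swap a c) ^ 2) v) = ((swap a b * swap a c) ^ 2) v := by
        simp only [sq, Perm.mul_apply]
        exact hswap a b ha' hb' _ (hswap a c ha' hc' _ (hswap a b ha' hb' _
          (hswap a c ha' hc' _ hv)))
      rw [Perm.mul_apply, hds v hv, Perm.inv_eq_iff_eq]
      exact (Perm.zpow_apply_eq_self_of_apply_eq_self h1 i).symm
    · have hva : v ≠ a := fun h => hv (h ▸ ha')
      have hvb : v ≠ b := fun h => hv (h ▸ hb')
      have hvc : v ≠ c := fun h => hv (h ▸ hc')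
      rw [Perm.mul_apply, hdsupp v hv, Perm.inv_eq_iff_eq]
      simp only [sq, Perm.mul_apply]
      rw [swap_apply_of_ne_of_ne hva hvc, swap_apply_of_ne_of_ne hva hvb,
        swap_apply_of_ne_of_ne hva hvc, swap_apply_of_ne_of_ne hva hvb]
  have h3 : ((g ^ i)⁻¹ * d).IsThreeCycle := by
    rw [hkey, sq]
    exact (Perm.isThreeCycle_swap_mul_swap_same hab hac hbc).isThreeCycle_sq
  exact Equiv.Perm.alternatingGroup_le_of_isPreprimitive_of_isThreeCycle_mem hG h3
    (G.mul_mem (G.inv_mem (G.zpow_mem hg i)) hdG)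

end Cfsg.Agent.S0713
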