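import Cfsg.Statements.S0106
import Cfsg.Agent.S0071
import Cfsg.Agent.Transfer.QuatSylow

set_option autoImplicit false
open Cfsg

namespace Cfsg.Agent.S0106

/-- A finite group with generalized quaternion Sylow 2-subgroups either has a normal 2-complement or has a section isomorphic to SL(2,3). -/
theorem result {G : Type*} [Group G] [Finite G] (T : Sylow 2 G) (n : ℕ) (hn : 1 ≤ n) (hT : Nonempty ((T : Subgroup G) ≃* QuaternionGroup (2 ^ n))) : Cfsg.HasNormalPComplement 2 G ∨ ∃ (H K : Subgroup G) (hK : (K.subgroupOf H).Normal), Nonempty ((H ⧸ K.subgroupOf H) ≃* Matrix.SpecialLinearGroup (Fin 2) (ZMod 3)) := by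
  by_cases hF : ∃ N : Subgroup G, N.Normal ∧ N.IsComplement' (T : Subgroup G)
  · obtain ⟨N, hN, hc⟩ := hF
    exact Or.inl ⟨T, N, hN, hc⟩
  · right
    rw [Cfsg.Agent.S0071.result T] at hF
    push Not at hF
    obtain ⟨Q, hQ, g, hgQ, hg, hgc⟩ := hF
    obtain ⟨c, z, hq⟩ := Cfsg.Agent.Transfer.QuatSylow.exists_isQuat (T : Subgroup G) n hT
    have hodd : Odd (orderOf g) := Nat.coprime_two_right.mp hg
    obtain ⟨i, j, t, hrel, hi2, ht⟩ :=
      Cfsg.Agent.Transfer.SL23Section.exists_slrel_of_quaternion hq Q hQ g hgQ hodd hgc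
    exact Cfsg.Agent.Transfer.SL23Section.exists_section hrel hi2 ht

end Cfsg.Agent.S0106
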