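import Cfsg.Statements.S0589
import Mathlib.GroupTheory.GroupAction.CardCommute
import Mathlib.GroupTheory.GroupAction.Quotient
import Mathlib.Algebra.Order.BigOperators.Group.Finset
import Mathlib.Tactic

set_option autoImplicit false
open Pointwise
open Cfsg

namespace Cfsg.Agent.S0589

/-- A finite group acting on a finite set in such a way that every nonidentity element has at most
one fixed point, and such that the number of points is congruent to `1` modulo the order of the
group, has a global fixed point. -/
theorem exists_fixed_point_of_fixedBy_subsingleton {L X : Type*} [Group L] [MulAction L X]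
    [Finite L] [Finite X] [Nonempty X]
    (h : ∀ l : L, l ≠ 1 → ∀ x y : X, l • x = x → l • y = y → x = y)
    (hmod : Nat.card X ≡ 1 [MOD Nat.card L]) : ∃ x : X, ∀ l : L, l • x = x := by
  classical
  have := Fintype.ofFinite L
  have := Fintype.ofFinite X
  have hfix : ∀ l : L, l ≠ 1 → Fintype.card (MulAction.fixedBy X l) ≤ 1 := by
    intro l hl
    rw [Fintype.card_le_one_iff_subsingleton]
    exact ⟨fun a b => Subtype.ext (h l hl a b a.2 b.2)⟩
  have hB := MulAction.sum_card_fixedBy_eq_card_orbits_mul_card_group L X
  set r := Fintype.card (Quotient (MulAction.orbitRel L X)) with hr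
  rw [← Finset.add_sum_erase Finset.univ _ (Finset.mem_univ (1 : L))] at hB
  have h1 : Fintype.card (MulAction.fixedBy X (1 : L)) = Fintype.card X := by
    apply Fintype.card_congr
    refine (Equiv.setCongr ?_).trans (Equiv.Set.univ X)
    ext x
    simp
  rw [h1] at hB
  set f := ∑ x ∈ Finset.univ.erase (1 : L), Fintype.card (MulAction.fixedBy X x) with hf
  have hLpos : 0 < Fintype.card L := Fintype.card_pos
  have hfle : f ≤ Fintype.card L - 1 := by
    calc f ≤ ∑ x ∈ Finset.univ.erase (1 : L), 1 :=
          Finset.sum_le_sum (fun l hl => hfix l (Finset.ne_of_mem_erase hl))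
      _ = Fintype.card L - 1 := by
          rw [Finset.sum_const, smul_eq_mul, mul_one, Finset.card_erase_of_mem (Finset.mem_univ _),
            Finset.card_univ]
  rw [Nat.card_eq_fintype_card, Nat.card_eq_fintype_card] at hmod
  have hXf : Fintype.card X + f ≡ 1 + f [MOD Fintype.card L] := hmod.add_right f
  rw [hB] at hXf
  have hdvd : Fintype.card L ∣ 1 + f := by
    have : 0 ≡ 1 + f [MOD Fintype.card L] := by
      refine Nat.ModEq.trans ?_ hXf
      exact ((Nat.modEq_zero_iff_dvd).2 (Dvd.intro_left _ rfl)).symm
    exact (Nat.modEq_zero_iff_dvd).1 this.symm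
  have hfeq : 1 + f = Fintype.card L := by
    have := Nat.le_of_dvd (by omega) hdvd
    omega
  -- `|X| + |L| = r |L| + 1`
  have hcard : Fintype.card X + Fintype.card L = r * Fintype.card L + 1 := by omega
  -- class formula
  have hC := MulAction.card_eq_sum_card_group_div_card_stabilizer L X
  set n : Quotient (MulAction.orbitRel L X) → ℕ :=
    fun ω => Fintype.card L / Fintype.card (MulAction.stabilizer L ω.out) with hn
  have hnle : ∀ ω, n ω ≤ Fintype.card L := fun ω => Nat.div_le_self _ _
  have hsum : ∑ ω, (Fintype.card L - n ω) + 1 = Fintype.card L := by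
    have h2 : ∑ ω, (Fintype.card L - n ω) + ∑ ω, n ω = r * Fintype.card L := by
      rw [← Finset.sum_add_distrib]
      rw [Finset.sum_congr rfl (fun ω _ => Nat.sub_add_cancel (hnle ω))]
      rw [Finset.sum_const, smul_eq_mul, Finset.card_univ]
    rw [← hC] at h2
    omega
  -- a nonregular orbit, i.e. one with nontrivial stabiliser
  by_cases hreg : ∀ ω, n ω = Fintype.card L
  · -- then `L` is trivial
    have : Fintype.card L = 1 := by
      rw [← hsum]
      simp [hreg]
    have hL : Subsingleton L := (Fintype.card_le_one_iff_subsingleton).1 this.le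
    have hne : Nonempty X := inferInstance
    obtain ⟨x⟩ := hne
    exact ⟨x, fun l => by rw [Subsingleton.elim l 1, one_smul]⟩
  · push Not at hreg
    obtain ⟨ω, hω⟩ := hreg
    have hhalf : ∀ ω', n ω' ≠ Fintype.card L → 2 * n ω' ≤ Fintype.card L := by
      intro ω' hω'
      have hs : Fintype.card (MulAction.stabilizer L ω'.out) ≠ 1 := by
        intro h1
        apply hω'
        simp only [hn]
        rw [h1, Nat.div_one]
      have hs0 : 0 < Fintype.card (MulAction.stabilizer L ω'.out) := Fintype.card_pos
      have hs2 : 2 ≤ Fintype.card (MulAction.stabilizer L ω'.out) := by omega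
      calc 2 * n ω' ≤ Fintype.card (MulAction.stabilizer L ω'.out) * n ω' :=
            Nat.mul_le_mul_right _ hs2
        _ ≤ Fintype.card L := Nat.mul_div_le _ _
    have hother : ∀ ω', ω' ≠ ω → n ω' = Fintype.card L := by
      intro ω' hne
      by_contra hcon
      have h1 := hhalf ω hω
      have h2 := hhalf ω' hcon
      have h3 : (Fintype.card L - n ω') + (Fintype.card L - n ω) ≤
          ∑ ω, (Fintype.card L - n ω) := by
        rw [← Finset.sum_pair (f := fun ω => Fintype.card L - n ω) hne]
        exact Finset.sum_le_sum_of_subset (Finset.subset_univ _)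
      omega
    have hsum1 : ∑ ω', (Fintype.card L - n ω') = Fintype.card L - n ω := by
      apply Finset.sum_eq_single ω
      · intro ω' _ hne
        rw [hother ω' hne, Nat.sub_self]
      · intro h; exact absurd (Finset.mem_univ _) h
    rw [hsum1] at hsum
    have hnω : n ω = 1 := by
      have := hnle ω
      omega
    refine ⟨ω.out, fun l => ?_⟩
    have hstab : MulAction.stabilizer L ω.out = ⊤ := by
      apply Subgroup.eq_top_of_card_eq
      rw [Nat.card_eq_fintype_card, Nat.card_eq_fintype_card]
      have hd : Fintype.card (MulAction.stabilizer L ω.out) ∣ Fintype.card L := by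
        rw [← Nat.card_eq_fintype_card, ← Nat.card_eq_fintype_card]
        exact Subgroup.card_subgroup_dvd_card _
      have := Nat.div_mul_cancel hd
      have h5 : n ω = Fintype.card L / Fintype.card (MulAction.stabilizer L ω.out) := rfl
      rw [← h5, hnω, one_mul] at this
      exact this
    have : l ∈ MulAction.stabilizer L ω.out := by rw [hstab]; trivial
    exact this

/-- An element `g` fixes the coset `x H` iff it lies in the conjugate `x H x⁻¹`. -/
theorem smul_coset_eq_iff {G : Type*} [Group G] (H : Subgroup G) (g x : G) :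
    g • (x : G ⧸ H) = (x : G ⧸ H) ↔ g ∈ MulAut.conj x • H := by
  rw [MulAction.Quotient.smul_coe, QuotientGroup.eq, Subgroup.mem_pointwise_smul_iff_inv_smul_mem,
    ← inv_mem_iff]
  have : (((g • x)⁻¹ * x)⁻¹ : G) = (MulAut.conj x)⁻¹ • g := by
    simp [MulAut.smul_def, mul_assoc]
  rw [this]

/-- Let H be a Frobenius complement in a finite group G and L a subgroup of G whose order divides the order of H. Then L is contained in some conjugate of H. -/
theorem result {G : Type*} [Group G] [Finite G] (H : Subgroup G) (hH : Cfsg.IsFrobeniusComplement H) (L : Subgroup G) (hL : Nat.card L ∣ Nat.card H) : ∃ x : G, L ≤ MulAut.conj x • H := by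
  classical
  obtain ⟨hbot, htop, hconj⟩ := hH
  -- every nonidentity element of `G` fixes at most one coset
  have huniq : ∀ g : G, g ≠ 1 → ∀ x y : G ⧸ H, g • x = x → g • y = y → x = y := by
    intro g hg x y
    induction x using QuotientGroup.induction_on with | _ x => ?_
    induction y using QuotientGroup.induction_on with | _ y => ?_
    intro hx hy
    rw [smul_coset_eq_iff] at hx hy
    rw [QuotientGroup.eq]
    by_contra hcon
    have h1 := hconj _ hcon
    have h2 : (MulAut.conj x)⁻¹ • g ∈ H ⊓ (MulAut.conj (x⁻¹ * y) • H) := by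
      refine ⟨(Subgroup.mem_pointwise_smul_iff_inv_smul_mem).1 hx, ?_⟩
      rw [map_mul, map_inv, mul_smul]
      exact Subgroup.smul_mem_pointwise_smul _ _ _ hy
    rw [h1, Subgroup.mem_bot] at h2
    apply hg
    have : (MulAut.conj x) • ((MulAut.conj x)⁻¹ • g) = (MulAut.conj x) • (1 : G) := by rw [h2]
    rwa [smul_inv_smul, smul_one] at this
  -- the number of cosets is congruent to one modulo the order of `H`
  have hmod : Nat.card (G ⧸ H) ≡ 1 [MOD Nat.card H] := by
    have := Fintype.ofFinite H
    have := Fintype.ofFinite (G ⧸ H)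
    have hB := MulAction.sum_card_fixedBy_eq_card_orbits_mul_card_group H (G ⧸ H)
    rw [← Finset.add_sum_erase Finset.univ _ (Finset.mem_univ (1 : H))] at hB
    have h1 : Fintype.card (MulAction.fixedBy (G ⧸ H) (1 : H)) = Fintype.card (G ⧸ H) := by
      apply Fintype.card_congr
      refine (Equiv.setCongr ?_).trans (Equiv.Set.univ _)
      ext x
      simp
    rw [h1] at hB
    have h2 : ∑ x ∈ Finset.univ.erase (1 : H), Fintype.card (MulAction.fixedBy (G ⧸ H) x)
        = Fintype.card H - 1 := by
      rw [Finset.sum_congr rfl (g := fun _ => 1), Finset.sum_const, smul_eq_mul, mul_one,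
        Finset.card_erase_of_mem (Finset.mem_univ _), Finset.card_univ]
      intro x hx
      have hx1 : x ≠ 1 := Finset.ne_of_mem_erase hx
      rw [Fintype.card_eq_one_iff]
      refine ⟨⟨((1 : G) : G ⧸ H), ?_⟩, ?_⟩
      · rw [MulAction.mem_fixedBy]
        change (x : G) • ((1 : G) : G ⧸ H) = _
        rw [smul_coset_eq_iff]
        simp
      · rintro ⟨y, hy⟩
        apply Subtype.ext
        apply huniq (x : G) (fun h => hx1 (Subtype.ext h)) _ _ hy
        rw [smul_coset_eq_iff]
        simp
    rw [h2] at hB
    rw [Nat.card_eq_fintype_card, Nat.card_eq_fintype_card]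
    have hpos : 0 < Fintype.card H := Fintype.card_pos
    have h3 : Fintype.card (G ⧸ H) + Fintype.card H =
        1 + Fintype.card (Quotient (MulAction.orbitRel H (G ⧸ H))) * Fintype.card H := by omega
    have h4 : Fintype.card (G ⧸ H) + Fintype.card H ≡ Fintype.card (G ⧸ H) [MOD Fintype.card H] := by
      simp [Nat.ModEq]
    have h5 : 1 + Fintype.card (Quotient (MulAction.orbitRel H (G ⧸ H))) * Fintype.card H ≡ 1
        [MOD Fintype.card H] := by
      simp [Nat.ModEq]
    exact h4.symm.trans (h3 ▸ h5)
  obtain ⟨x, hx⟩ := exists_fixed_point_of_fixedBy_subsingleton (L := L) (X := G ⧸ H)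
    (fun l hl x y hx hy => huniq l (fun h => hl (Subtype.ext h)) x y hx hy)
    (hmod.of_dvd hL)
  induction x using QuotientGroup.induction_on with | _ x => ?_
  exact ⟨x, fun l hl => (smul_coset_eq_iff H l x).1 (hx ⟨l, hl⟩)⟩

end Cfsg.Agent.S0589
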