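import Cfsg.Statements.S1243

set_option autoImplicit false
open Cfsg

namespace Cfsg.Agent.S1243

/-- Let T be a Sylow p-subgroup of the finite group G and W ≤ T a subgroup weakly closed in T. If d and g d g⁻¹ both centralize W, then g d g⁻¹ = h d h⁻¹ for some h ∈ N_G(W). -/
theorem result {G : Type*} [Group G] [Finite G] {p : ℕ} [Fact p.Prime] (T : Sylow p G) (W : Subgroup G) (hW : Cfsg.IsWeaklyClosed W (T : Subgroup G)) (d g : G) (hd : d ∈ Subgroup.centralizer (W : Set G)) (hgd : g * d * g⁻¹ ∈ Subgroup.centralizer (W : Set G)) : ∃ h ∈ Subgroup.normalizer (W : Set G), h * d * h⁻¹ = g * d * g⁻¹ := by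
  classical
  -- the centralizer of e = g d g⁻¹
  let C : Subgroup G := Subgroup.centralizer ({g * d * g⁻¹} : Set G)
  let W' : Subgroup G := W.map (MulAut.conj g).toMonoidHom
  have hWp : IsPGroup p W := T.isPGroup'.to_le hW.1
  have hW'p : IsPGroup p W' := hWp.map _
  have hWC : W ≤ C := by
    intro w hw
    rw [Subgroup.mem_centralizer_singleton_iff]
    exact (Subgroup.mem_centralizer_iff.mp hgd w hw)
  have hW'C : W' ≤ C := by
    rintro _ ⟨w, hw, rfl⟩
    rw [Subgroup.mem_centralizer_singleton_iff]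
    have h1 : w * d = d * w := Subgroup.mem_centralizer_iff.mp hd w hw
    change g * w * g⁻¹ * (g * d * g⁻¹) = g * d * g⁻¹ * (g * w * g⁻¹)
    have h2 : g * w * g⁻¹ * (g * d * g⁻¹) = g * (w * d) * g⁻¹ := by group
    have h3 : g * d * g⁻¹ * (g * w * g⁻¹) = g * (d * w) * g⁻¹ := by group
    rw [h2, h3, h1]
  obtain ⟨P, hP⟩ := (hWp.comap_subtype (K := C)).exists_le_sylow
  obtain ⟨P', hP'⟩ := (hW'p.comap_subtype (K := C)).exists_le_sylow
  obtain ⟨c, hc⟩ := MulAction.exists_smul_eq C P' P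
  obtain ⟨Q, hQ⟩ := (P.isPGroup'.map C.subtype).exists_le_sylow
  obtain ⟨x, hx⟩ := MulAction.exists_smul_eq G Q T
  -- elements of Q are conjugated by x into T
  have hQT : ∀ q ∈ Q, x * q * x⁻¹ ∈ T := by
    intro q hq
    have : MulAut.conj x q ∈ (x • Q : Sylow p G) := by
      rw [← SetLike.mem_coe, Sylow.coe_smul]
      exact Set.smul_mem_smul_set hq
    rw [hx] at this
    exact this
  have hP'P : ∀ q ∈ P', c * q * c⁻¹ ∈ P := by
    intro q hq
    have : MulAut.conj c q ∈ (c • P' : Sylow p C) := by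
      rw [← SetLike.mem_coe, Sylow.coe_smul]
      exact Set.smul_mem_smul_set hq
    rw [hc] at this
    exact this
  have h1 : W.map (MulAut.conj x).toMonoidHom = W := by
    apply hW.2
    rintro _ ⟨w, hw, rfl⟩
    apply hQT
    apply hQ
    exact ⟨⟨w, hWC hw⟩, hP hw, rfl⟩
  have h2 : W.map (MulAut.conj (x * (c : G) * g)).toMonoidHom = W := by
    apply hW.2
    rintro _ ⟨w, hw, rfl⟩
    have h3 : g * w * g⁻¹ ∈ W' := ⟨w, hw, rfl⟩
    have h4 : (⟨g * w * g⁻¹, hW'C h3⟩ : C) ∈ P' := hP' h3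
    have h5 := hP'P _ h4
    have h6 := hQT _ (hQ (Subgroup.mem_map_of_mem C.subtype h5))
    have h7 : x * (C.subtype (c * ⟨g * w * g⁻¹, hW'C h3⟩ * c⁻¹)) * x⁻¹
        = (MulAut.conj (x * (c : G) * g)).toMonoidHom w := by
      simp [mul_assoc]
    rw [← h7]
    exact h6
  have hxN : x ∈ Subgroup.normalizer (W : Set G) :=
    Subgroup.mem_normalizer_iff_map_conj_eq.mpr h1
  have hxcgN : x * (c : G) * g ∈ Subgroup.normalizer (W : Set G) :=
    Subgroup.mem_normalizer_iff_map_conj_eq.mpr h2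
  refine ⟨(c : G) * g, ?_, ?_⟩
  · have : (c : G) * g = x⁻¹ * (x * (c : G) * g) := by group
    rw [this]
    exact mul_mem (inv_mem hxN) hxcgN
  · have hcC : (c : G) * (g * d * g⁻¹) = (g * d * g⁻¹) * (c : G) :=
      Subgroup.mem_centralizer_singleton_iff.mp c.2
    calc (c : G) * g * d * ((c : G) * g)⁻¹ = (c : G) * (g * d * g⁻¹) * (c : G)⁻¹ := by group
      _ = g * d * g⁻¹ := by rw [hcC]; group

end Cfsg.Agent.S1243
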