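import Cfsg.Statements.S0003
import Cfsg.Agent.Lib.SolvableNormalP

set_option autoImplicit false
open Cfsg

namespace Cfsg.Agent.S0003

open Subgroup Cfsg.Agent.Lib.SolvableNormalP

theorem main.{u} (G : Type u) [Group G] [Finite G] :
    Group.IsSolvable G → ∀ m n : ℕ, Nat.card G = m * n → m.Coprime n →
      ∃ H : Subgroup G, Nat.card H = m := by
  refine card_strong_induction (motive := fun G _ _ => Group.IsSolvable G → ∀ m n : ℕ,
    Nat.card G = m * n → m.Coprime n → ∃ H : Subgroup G, Nat.card H = m) ?_ G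
  intro G _ _ ih hsolv m n hG hmn
  rcases subsingleton_or_nontrivial G with hs | hnt
  · refine ⟨⊥, ?_⟩
    rw [Nat.card_of_subsingleton (1 : G)] at hG
    rw [Subgroup.card_bot]
    exact (Nat.eq_one_of_mul_eq_one_right hG.symm).symm
  obtain ⟨p, N, hp, hN, hNp, hNc, hN1⟩ := exists_normal_pSubgroup G
  have : Fact p.Prime := ⟨hp⟩
  obtain ⟨k, hk⟩ := IsPGroup.iff_card.mp hNp
  have hq : Nat.card G = Nat.card (G ⧸ N) * Nat.card N :=
    Subgroup.card_eq_card_quotient_mul_card_subgroup N
  have hNpos : 0 < Nat.card N := Nat.card_pos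
  have hdvd : Nat.card N ∣ m * n := hG ▸ Dvd.intro_left _ hq.symm
  have hlt := card_quotient_lt hN1
  have hsq : Group.IsSolvable (G ⧸ N) := inferInstance
  by_cases hpm : p ∣ m
  · -- `p ∣ m`
    have hcop : (Nat.card N).Coprime n := by
      rw [hk]
      exact Nat.Coprime.pow_left _ (hmn.coprime_dvd_left hpm)
    obtain ⟨m', hm'⟩ := hcop.dvd_of_dvd_mul_right hdvd
    obtain ⟨K, hK⟩ := ih (G ⧸ N) hlt hsq m' n (by
      have : Nat.card N * Nat.card (G ⧸ N) = Nat.card N * (m' * n) := by
        rw [mul_comm, ← hq, hG, hm', mul_assoc]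
      exact Nat.eq_of_mul_eq_mul_left hNpos this)
      (hmn.coprime_dvd_left (Dvd.intro_left _ hm'.symm))
    refine ⟨K.comap (QuotientGroup.mk' N), ?_⟩
    rw [card_comap_mk, hK, hm', mul_comm]
  · -- `p ∤ m`
    have hcop : (Nat.card N).Coprime m := by
      rw [hk]
      exact Nat.Coprime.pow_left _ ((Nat.Prime.coprime_iff_not_dvd hp).mpr hpm)
    obtain ⟨n', hn'⟩ := hcop.dvd_of_dvd_mul_left hdvd
    obtain ⟨K, hK⟩ := ih (G ⧸ N) hlt hsq m n' (by
      have : Nat.card N * Nat.card (G ⧸ N) = Nat.card N * (m * n') := by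
        rw [mul_comm, ← hq, hG, hn']; ring
      exact Nat.eq_of_mul_eq_mul_left hNpos this)
      (hmn.coprime_dvd_right (Dvd.intro_left _ hn'.symm))
    set L := K.comap (QuotientGroup.mk' N) with hL
    have hLc : Nat.card L = m * Nat.card N := by rw [hL, card_comap_mk, hK]
    have hNL : N ≤ L := by
      intro x hx
      rw [hL, Subgroup.mem_comap, QuotientGroup.mk'_apply, (QuotientGroup.eq_one_iff x).mpr hx]
      exact K.one_mem
    have hNLc : Nat.card (N.subgroupOf L) = Nat.card N :=
      Nat.card_congr (Subgroup.subgroupOfEquivOfLe hNL).toEquiv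
    have hNLi : (N.subgroupOf L).index = m := by
      have := (N.subgroupOf L).index_mul_card
      rw [hNLc, hLc] at this
      exact Nat.eq_of_mul_eq_mul_right hNpos this
    have : (N.subgroupOf L).Normal := inferInstance
    obtain ⟨H, hH⟩ := Subgroup.exists_right_complement'_of_coprime (N := N.subgroupOf L) (by
      rw [hNLc, hNLi]; exact hcop)
    refine ⟨H.map L.subtype, ?_⟩
    rw [Nat.card_congr (H.equivMapOfInjective L.subtype L.subtype_injective).symm.toEquiv]
    rw [← hNLi, hH.symm.index_eq_card]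

/-- Hall's Theorem, existence: a finite solvable group of order m * n with m and n coprime has a subgroup of order m. -/
theorem result {G : Type*} [Group G] [Finite G] [Group.IsSolvable G] (m n : ℕ)
    (hG : Nat.card G = m * n) (hmn : m.Coprime n) : ∃ H : Subgroup G, Nat.card H = m := by
  exact main G inferInstance m n hG hmn

end Cfsg.Agent.S0003
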