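import Cfsg.Statements.S0019
import Mathlib
import Cfsg.Agent.Lib.SolvableMinNormal

set_option autoImplicit false
open Cfsg

namespace Cfsg.Agent.S0019

universe u

/-- If `G = H₁ H₂`, `A ≤ H₁` is a `p`-group normalised by `H₁` and `p ∤ |G : H₂|`, then
`A ≤ core(H₂)`. -/
theorem le_core {G : Type u} [Group G] [Finite G] (H₁ H₂ : Subgroup G)
    (h12 : ∀ g : G, ∃ x ∈ H₁, ∃ y ∈ H₂, g = x * y) (p : ℕ) [Fact p.Prime]
    (A : Subgroup G) (hA : IsPGroup p A) (hn : ∀ x ∈ H₁, ∀ a ∈ A, x * a * x⁻¹ ∈ A)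
    (hp : ¬ p ∣ H₂.index) : A ≤ H₂.normalCore := by
  have hfix : (MulAction.fixedPoints A (G ⧸ H₂)).Nonempty :=
    hA.nonempty_fixed_point_of_prime_not_dvd_card (G ⧸ H₂) hp
  obtain ⟨q, hq⟩ := hfix
  obtain ⟨g, rfl⟩ := QuotientGroup.mk_surjective q
  have hg : ∀ a ∈ A, g⁻¹ * a * g ∈ H₂ := by
    intro a ha
    have := hq ⟨a, ha⟩
    change ((a * g : G) : G ⧸ H₂) = (g : G ⧸ H₂) at this
    have h2 := QuotientGroup.eq.mp this.symm
    simpa [mul_assoc] using h2
  obtain ⟨x, hx, y, hy, rfl⟩ := h12 g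
  have hAH : A ≤ H₂ := by
    intro a ha
    have h3 := hg _ (hn x hx a ha)
    have h4 : (x * y)⁻¹ * (x * a * x⁻¹) * (x * y) = y⁻¹ * a * y := by group
    rw [h4] at h3
    have h5 := H₂.mul_mem (H₂.mul_mem hy h3) (H₂.inv_mem hy)
    have h6 : y * (y⁻¹ * a * y) * y⁻¹ = a := by group
    rwa [h6] at h5
  intro a ha b
  obtain ⟨u, hu, v, hv, huv⟩ := h12 b⁻¹
  have hb : b = v⁻¹ * u⁻¹ := by rw [← mul_inv_rev, ← huv, inv_inv]
  have h7 : b * a * b⁻¹ = v⁻¹ * (u⁻¹ * a * u⁻¹⁻¹) * v := by rw [hb]; group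
  rw [h7]
  exact H₂.mul_mem (H₂.mul_mem (H₂.inv_mem hv) (hAH (hn _ (H₁.inv_mem hu) a ha))) hv

theorem aux (n : ℕ) : ∀ {G : Type u} [Group G] [Finite G] (H₁ H₂ H₃ : Subgroup G)
    (_ : Nat.card G = n)
    (_ : Group.IsSolvable H₁) (_ : Group.IsSolvable H₂) (_ : Group.IsSolvable H₃)
    (_ : ∀ g : G, ∃ x ∈ H₁, ∃ y ∈ H₂, g = x * y) (_ : ∀ g : G, ∃ x ∈ H₁, ∃ y ∈ H₃, g = x * y)
    (_ : H₂.index.Coprime H₃.index), Group.IsSolvable G := by
  induction n using Nat.strong_induction_on with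
  | _ n ih =>
  intro G _ _ H₁ H₂ H₃ hcard h₁ h₂ h₃ h12 h13 hcop
  rcases subsingleton_or_nontrivial H₁ with hs | hnt
  · have hsurj : Function.Surjective H₂.subtype := by
      intro g
      obtain ⟨x, hx, y, hy, rfl⟩ := h12 g
      have hx1 : x = 1 := by
        have := Subsingleton.elim (⟨x, hx⟩ : H₁) 1
        exact congrArg Subtype.val this
      exact ⟨⟨y, hy⟩, by simp [hx1]⟩
    exact Group.isSolvable_of_surjective hsurj
  · obtain ⟨p, hp, N, hN, -, hNp, hNne⟩ :=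
      Lib.SolvableMinNormal.exists_characteristic_pgroup (G := H₁)
    have : Fact p.Prime := ⟨hp⟩
    set A : Subgroup G := N.map H₁.subtype with hAdef
    have hAp : IsPGroup p A := hNp.map _
    have hAn : ∀ x ∈ H₁, ∀ a ∈ A, x * a * x⁻¹ ∈ A := by
      rintro x hx _ ⟨a, ha, rfl⟩
      exact ⟨⟨x, hx⟩ * a * ⟨x, hx⟩⁻¹, Subgroup.Normal.conj_mem inferInstance a ha ⟨x, hx⟩, rfl⟩
    have hAne : A ≠ ⊥ := by
      intro h
      rw [hAdef, Subgroup.map_eq_bot_iff_of_injective _ H₁.subtype_injective] at h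
      exact hNne h
    have key : ∃ M : Subgroup G, M.Normal ∧ M ≠ ⊥ ∧ Group.IsSolvable M := by
      by_cases h2 : p ∣ H₂.index
      · have h3 : ¬ p ∣ H₃.index := fun h3 => by
          have := Nat.dvd_gcd h2 h3
          rw [hcop] at this
          exact hp.one_lt.ne' (Nat.dvd_one.mp this)
        have hle := le_core H₁ H₃ h13 p A hAp hAn h3
        refine ⟨H₃.normalCore, inferInstance, ?_, ?_⟩
        · intro h; exact hAne (le_bot_iff.mp (h ▸ hle))
        · exact Group.isSolvable_of_isSolvable_injective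
            (Subgroup.inclusion_injective H₃.normalCore_le)
      · have hle := le_core H₁ H₂ h12 p A hAp hAn h2
        refine ⟨H₂.normalCore, inferInstance, ?_, ?_⟩
        · intro h; exact hAne (le_bot_iff.mp (h ▸ hle))
        · exact Group.isSolvable_of_isSolvable_injective
            (Subgroup.inclusion_injective H₂.normalCore_le)
    obtain ⟨M, hM, hMne, hMs⟩ := key
    have hlt : Nat.card (G ⧸ M) < n := by
      rw [← hcard, ← Subgroup.card_mul_index M, Subgroup.index]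
      have h1 : 1 < Nat.card M := by
        rw [Subgroup.one_lt_card_iff_ne_bot]; exact hMne
      have h0 : 0 < Nat.card (G ⧸ M) := Nat.card_pos
      nlinarith
    have hsurj := QuotientGroup.mk'_surjective M
    have hprod : ∀ H K : Subgroup G, (∀ g : G, ∃ x ∈ H, ∃ y ∈ K, g = x * y) →
        ∀ g : G ⧸ M, ∃ x ∈ H.map (QuotientGroup.mk' M), ∃ y ∈ K.map (QuotientGroup.mk' M),
          g = x * y := by
      intro H K h g
      obtain ⟨g, rfl⟩ := hsurj g
      obtain ⟨x, hx, y, hy, rfl⟩ := h g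
      exact ⟨_, ⟨x, hx, rfl⟩, _, ⟨y, hy, rfl⟩, map_mul _ _ _⟩
    have hsol : ∀ H : Subgroup G, Group.IsSolvable H →
        Group.IsSolvable (H.map (QuotientGroup.mk' M)) := by
      intro H hH
      exact Group.isSolvable_of_surjective ((QuotientGroup.mk' M).subgroupMap_surjective H)
    have hq : Group.IsSolvable (G ⧸ M) := by
      refine ih _ hlt (H₁.map (QuotientGroup.mk' M)) (H₂.map (QuotientGroup.mk' M))
        (H₃.map (QuotientGroup.mk' M)) rfl (hsol _ h₁) (hsol _ h₂) (hsol _ h₃)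
        (hprod _ _ h12) (hprod _ _ h13) ?_
      exact Nat.Coprime.of_dvd (H₂.index_map_dvd hsurj) (H₃.index_map_dvd hsurj) hcop
    exact (Group.isSolvable_iff_subgroup_quotient M).mpr ⟨hMs, hq⟩

/-- A finite group that factorises as H₁H₂ and as H₁H₃ with all three subgroups solvable and the indices of H₂ and H₃ coprime is solvable. -/
theorem result {G : Type*} [Group G] [Finite G] (H₁ H₂ H₃ : Subgroup G)
    (h₁ : Group.IsSolvable H₁) (h₂ : Group.IsSolvable H₂) (h₃ : Group.IsSolvable H₃)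
    (h12 : ∀ g : G, ∃ x ∈ H₁, ∃ y ∈ H₂, g = x * y) (h13 : ∀ g : G, ∃ x ∈ H₁, ∃ y ∈ H₃, g = x * y)
    (hcop : H₂.index.Coprime H₃.index) : Group.IsSolvable G :=
  aux _ H₁ H₂ H₃ rfl h₁ h₂ h₃ h12 h13 hcop

end Cfsg.Agent.S0019
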