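import Cfsg.Statements.S0006
-- import your own Cfsg.Agent.* helpers here
import Mathlib
import Cfsg.Agent.S0007
import Cfsg.Agent.S0019
import Cfsg.Agent.S0144

set_option autoImplicit false
open Cfsg

namespace Cfsg.Agent.S0006

/-- A number with at most two prime factors has the form `p ^ a * q ^ b`. -/
theorem exists_eq_pow_mul_pow {n : ℕ} (hn : n ≠ 0) (h : n.primeFactors.card ≤ 2) :
    ∃ p q a b : ℕ, p.Prime ∧ q.Prime ∧ n = p ^ a * q ^ b := by
  have hprod : ∏ p ∈ n.primeFactors, p ^ n.factorization p = n :=
    (Nat.prod_primeFactors_pow_factorization hn).symm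
  rcases Nat.lt_or_ge n.primeFactors.card 1 with h0 | h1
  · have h0' : n.primeFactors = ∅ := Finset.card_eq_zero.1 (by omega)
    rw [h0', Finset.prod_empty] at hprod
    exact ⟨2, 2, 0, 0, Nat.prime_two, Nat.prime_two, by simp [← hprod]⟩
  rcases Nat.lt_or_ge n.primeFactors.card 2 with h1' | h2
  · obtain ⟨p, hp⟩ := Finset.card_eq_one.1 (show n.primeFactors.card = 1 by omega)
    rw [hp, Finset.prod_singleton] at hprod
    have hpp : p.Prime := Nat.prime_of_mem_primeFactors (n := n) (by rw [hp]; simp)
    exact ⟨p, 2, n.factorization p, 0, hpp, Nat.prime_two, by simp [hprod]⟩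
  · obtain ⟨p, q, hpq, hs⟩ := Finset.card_eq_two.1 (show n.primeFactors.card = 2 by omega)
    rw [hs, Finset.prod_pair hpq] at hprod
    have hpp : p.Prime := Nat.prime_of_mem_primeFactors (n := n) (by rw [hs]; simp)
    have hqp : q.Prime := Nat.prime_of_mem_primeFactors (n := n) (by rw [hs]; simp)
    exact ⟨p, q, n.factorization p, n.factorization q, hpp, hqp, hprod.symm⟩

universe u

theorem main (n : ℕ) : ∀ (G : Type u) [Group G] [Finite G], Nat.card G = n →
    (∀ p : ℕ, p.Prime → ∃ H : Subgroup G, H.index = p ^ (Nat.card G).factorization p) →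
    Group.IsSolvable G := by
  induction n using Nat.strong_induction_on with
  | _ n ih =>
    intro G _ _ hn h
    have hG0 : Nat.card G ≠ 0 := Nat.card_pos.ne'
    by_cases hc : (Nat.card G).primeFactors.card ≤ 2
    · obtain ⟨p, q, a, b, hp, hq, hpq⟩ := exists_eq_pow_mul_pow hG0 hc
      exact Cfsg.Agent.S0144.result p q a b hp hq hpq
    · -- at least three prime divisors: the Hall complements are solvable by induction
      have key : ∀ p ∈ (Nat.card G).primeFactors, ∃ H : Subgroup G,
          H.index = p ^ (Nat.card G).factorization p ∧ Group.IsSolvable H := by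
        intro p hp
        have hpp : p.Prime := Nat.prime_of_mem_primeFactors hp
        have hpdvd : p ∣ Nat.card G := Nat.dvd_of_mem_primeFactors hp
        obtain ⟨H, hH⟩ := h p hpp
        refine ⟨H, hH, ?_⟩
        have hmul : Nat.card H * H.index = Nat.card G := H.card_mul_index
        have hH0 : Nat.card H ≠ 0 := Nat.card_pos.ne'
        have hfac : ∀ s : ℕ, s ≠ p →
            (Nat.card H).factorization s = (Nat.card G).factorization s := by
          intro s hs
          rw [← hmul, hH, Nat.factorization_mul hH0 (pow_ne_zero _ hpp.ne_zero),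
            hpp.factorization_pow]
          simp [hs.symm]
        have hlt : Nat.card H < n := by
          rw [← hn, ← hmul]
          apply lt_mul_of_one_lt_right (Nat.pos_of_ne_zero hH0)
          rw [hH]
          exact Nat.one_lt_pow ((hpp.factorization_pos_of_dvd hG0 hpdvd).ne') hpp.one_lt
        refine ih _ hlt H rfl ?_
        intro s hs
        by_cases hsp : s = p
        · subst hsp
          refine ⟨⊤, ?_⟩
          have h1 : (Nat.card H * H.index).factorization s = (Nat.card G).factorization s :=
            congrArg (fun m => m.factorization s) hmul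
          rw [hH, Nat.factorization_mul hH0 (pow_ne_zero _ hpp.ne_zero),
            hpp.factorization_pow] at h1
          simp only [Finsupp.coe_add, Pi.add_apply, Finsupp.single_eq_same] at h1
          have h2 : (Nat.card H).factorization s = 0 := by omega
          rw [h2, pow_zero, Subgroup.index_top]
        · obtain ⟨K, hK⟩ := h s hs
          refine ⟨K.subgroupOf H, ?_⟩
          have hcop : K.index.Coprime H.index := by
            rw [hK, hH]
            exact Nat.Coprime.pow _ _ ((Nat.coprime_primes hs hpp).2 hsp)
          have := Cfsg.Agent.S0007.relIndex_eq K H hcop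
          rw [Subgroup.relIndex] at this
          rw [this, hK, hfac s hsp]
      rw [not_le, Finset.two_lt_card] at hc
      obtain ⟨p, hp, q, hq, r, hr, hpq, hpr, hqr⟩ := hc
      obtain ⟨H₁, hi₁, hs₁⟩ := key p hp
      obtain ⟨H₂, hi₂, hs₂⟩ := key q hq
      obtain ⟨H₃, hi₃, hs₃⟩ := key r hr
      have hp' := Nat.prime_of_mem_primeFactors hp
      have hq' := Nat.prime_of_mem_primeFactors hq
      have hr' := Nat.prime_of_mem_primeFactors hr
      have c12 : H₁.index.Coprime H₂.index := by
        rw [hi₁, hi₂]; exact Nat.Coprime.pow _ _ ((Nat.coprime_primes hp' hq').2 hpq)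
      have c13 : H₁.index.Coprime H₃.index := by
        rw [hi₁, hi₃]; exact Nat.Coprime.pow _ _ ((Nat.coprime_primes hp' hr').2 hpr)
      have c23 : H₂.index.Coprime H₃.index := by
        rw [hi₂, hi₃]; exact Nat.Coprime.pow _ _ ((Nat.coprime_primes hq' hr').2 hqr)
      exact Cfsg.Agent.S0019.result H₁ H₂ H₃ hs₁ hs₂ hs₃
        (Cfsg.Agent.S0007.exists_mul_eq H₁ H₂ c12) (Cfsg.Agent.S0007.exists_mul_eq H₁ H₃ c13) c23

/-- Converse of Hall's Theorem: if for every prime p a finite group has a subgroup of index equal to the p-part of the group order (a Hall p-complement), then the group is solvable. -/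
theorem result {G : Type*} [Group G] [Finite G]
    (h : ∀ p : ℕ, p.Prime → ∃ H : Subgroup G, H.index = p ^ (Nat.card G).factorization p) :
    Group.IsSolvable G := by
  exact main (Nat.card G) G rfl h

end Cfsg.Agent.S0006
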