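import Cfsg.Statements.S0018
import Cfsg.Agent.Lib.HallHigman

set_option autoImplicit false
open Cfsg

namespace Cfsg.Agent.S0018

/-- A finite solvable group whose Sylow p-subgroups are abelian has p-length one: a Sylow p-subgroup together with the largest normal subgroup of order prime to p generates a normal subgroup. -/
theorem result {G : Type*} [Group G] [Finite G] [Group.IsSolvable G]
    (p : ℕ) [Fact p.Prime] (P : Sylow p G) (hP : IsMulCommutative P) :
    ((P : Subgroup G) ⊔ Cfsg.pPrimeCore p G).Normal := by
  have hn : (Cfsg.pPrimeCore p G).Normal := Cfsg.Agent.Lib.HallHigman.pPrimeCore_normal p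
  exact Cfsg.Agent.Lib.HallHigman.sylow_sup_normal_of_centralizer_le p P hP _
    (Cfsg.Agent.Lib.HallHigman.centralizer_pCore_le_of_solvable p
      (Cfsg.Agent.Lib.HallHigman.pPrimeCore_quotient_eq_bot p _ rfl))

end Cfsg.Agent.S0018
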