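import Cfsg.Statements.S0021
-- import your own Cfsg.Agent.* helpers here
import Cfsg.Agent.S0006
import Cfsg.Agent.Solvable.PermProd

set_option autoImplicit false
open Pointwise
open Cfsg

namespace Cfsg.Agent.S0021

/-- A finite group with a family of pairwise permuting Sylow subgroups, one for each prime, is solvable (this direction rests on Burnside's two-prime Theorem). -/
theorem result {G : Type*} [Group G] [Finite G]
    (S : (p : Nat.Primes) → Sylow (p : ℕ) G)
    (hS : ∀ p q : Nat.Primes, (S p : Set G) * (S q : Set G) = (S q : Set G) * (S p : Set G)) :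
    Group.IsSolvable G := by
  classical
  refine Cfsg.Agent.S0006.result fun p hp => ?_
  have hcard : ∀ q : Nat.Primes, Nat.card (S q : Subgroup G) = (q : ℕ) ^ (Nat.card G).factorization q := by
    intro q
    have : Fact (q : ℕ).Prime := ⟨q.2⟩
    exact (S q).card_eq_multiplicity
  have hcop : ∀ q r : Nat.Primes, q ≠ r →
      (Nat.card (S q : Subgroup G)).Coprime (Nat.card (S r : Subgroup G)) := by
    intro q r hqr
    rw [hcard, hcard]
    exact Nat.coprime_pow_primes _ _ q.2 r.2 fun h => hqr (Subtype.ext h)
  let T : Finset Nat.Primes := ((Nat.card G).primeFactors.erase p).subtype Nat.Prime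
  obtain ⟨L, hL, -, -⟩ := Cfsg.Agent.Solvable.PermProd.exists_subgroup_card_eq_prod
    (fun q => (S q : Subgroup G)) hS hcop T
  refine ⟨L, ?_⟩
  have hG : Nat.card G ≠ 0 := Nat.card_pos.ne'
  have h1 : Nat.card L * p ^ (Nat.card G).factorization p = Nat.card G := by
    rw [hL]
    have h2 : ∏ q ∈ T, Nat.card (S q : Subgroup G) =
        ∏ q ∈ (Nat.card G).primeFactors.erase p, q ^ (Nat.card G).factorization q := by
      rw [← Finset.prod_subtype_of_mem (p := Nat.Prime)
        (fun q : ℕ => q ^ (Nat.card G).factorization q)
        (fun x hx => Nat.prime_of_mem_primeFactors (Finset.mem_of_mem_erase hx))]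
      exact Finset.prod_congr rfl fun q _ => hcard q
    rw [h2]
    conv_rhs => rw [← Nat.prod_factorization_pow_eq_self hG]
    rw [Finsupp.prod, Nat.support_factorization]
    by_cases hpG : p ∈ (Nat.card G).primeFactors
    · exact Finset.prod_erase_mul _ _ hpG
    · rw [Finset.erase_eq_of_notMem hpG, Finsupp.notMem_support_iff.mp
        (by rwa [Nat.support_factorization]), pow_zero, mul_one]
  have h3 : Nat.card L * L.index = Nat.card G := L.card_mul_index
  exact Nat.eq_of_mul_eq_mul_left (Nat.card_pos (α := L)) (h3.trans h1.symm)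

end Cfsg.Agent.S0021
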