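import Cfsg.Statements.S0047
import Mathlib

set_option autoImplicit false
open Cfsg
open scoped commutatorElement

namespace Cfsg.Agent.S0047

/-- Conjugating `⁅a, b⁆` by `a₁ b₁` and by `b₁ a₁` gives the same element. -/
theorem conj_commutator_eq {G : Type*} [Group G] (A B : Subgroup G)
    (hA : ∀ x ∈ A, ∀ y ∈ A, x * y = y * x) (hB : ∀ x ∈ B, ∀ y ∈ B, x * y = y * x)
    (hAB : ∀ g : G, ∃ a ∈ A, ∃ b ∈ B, g = a * b)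
    {a a₁ b b₁ : G} (ha : a ∈ A) (ha₁ : a₁ ∈ A) (hb : b ∈ B) (hb₁ : b₁ ∈ B) :
    (b₁ * a₁) * (a * b * a⁻¹ * b⁻¹) * (b₁ * a₁)⁻¹ =
      (a₁ * b₁) * (a * b * a⁻¹ * b⁻¹) * (a₁ * b₁)⁻¹ := by
  obtain ⟨a₂, ha₂, b₂, hb₂, h₂⟩ := hAB (a₁ * b * a₁⁻¹)⁻¹
  obtain ⟨a₃, ha₃, b₃, hb₃, h₃⟩ := hAB (b₁ * a * b₁⁻¹)
  have h₂' : a₁ * b * a₁⁻¹ = b₂⁻¹ * a₂⁻¹ := by
    rw [← inv_inv (a₁ * b * a₁⁻¹), h₂, mul_inv_rev]
  have key1 : ∀ x ∈ A, x * (b₂⁻¹ * a₂⁻¹) * x⁻¹ * (b₂⁻¹ * a₂⁻¹)⁻¹ = x * b₂⁻¹ * x⁻¹ * b₂ := by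
    intro x hx
    have : a₂⁻¹ * x⁻¹ = x⁻¹ * a₂⁻¹ := hA _ (A.inv_mem ha₂) _ (A.inv_mem hx)
    calc x * (b₂⁻¹ * a₂⁻¹) * x⁻¹ * (b₂⁻¹ * a₂⁻¹)⁻¹ = x * b₂⁻¹ * (a₂⁻¹ * x⁻¹) * a₂ * b₂ := by group
      _ = x * b₂⁻¹ * (x⁻¹ * a₂⁻¹) * a₂ * b₂ := by rw [this]
      _ = x * b₂⁻¹ * x⁻¹ * b₂ := by group
  have key2 : ∀ y ∈ B, (a₃ * b₃) * y * (a₃ * b₃)⁻¹ * y⁻¹ = a₃ * y * a₃⁻¹ * y⁻¹ := by
    intro y hy
    have : b₃ * y = y * b₃ := hB _ hb₃ _ hy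
    calc (a₃ * b₃) * y * (a₃ * b₃)⁻¹ * y⁻¹ = a₃ * (b₃ * y) * b₃⁻¹ * a₃⁻¹ * y⁻¹ := by group
      _ = a₃ * (y * b₃) * b₃⁻¹ * a₃⁻¹ * y⁻¹ := by rw [this]
      _ = a₃ * y * a₃⁻¹ * y⁻¹ := by group
  have cA : a₁ * a = a * a₁ := hA _ ha₁ _ ha
  have cB : b₁ * b = b * b₁ := hB _ hb₁ _ hb
  have cA3 : a₁ * a₃ = a₃ * a₁ := hA _ ha₁ _ ha₃
  have cB2 : b₁ * b₂⁻¹ = b₂⁻¹ * b₁ := hB _ hb₁ _ (B.inv_mem hb₂)
  have e1 : a₁ * (a * b * a⁻¹ * b⁻¹) * a₁⁻¹ = a * b₂⁻¹ * a⁻¹ * b₂ := by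
    rw [← key1 a ha, ← h₂']
    calc a₁ * (a * b * a⁻¹ * b⁻¹) * a₁⁻¹
        = (a₁ * a) * b * a⁻¹ * b⁻¹ * a₁⁻¹ := by group
      _ = (a * a₁) * b * a⁻¹ * b⁻¹ * a₁⁻¹ := by rw [cA]
      _ = a * (a₁ * b) * (a⁻¹ * a₁⁻¹) * (a₁ * b⁻¹ * a₁⁻¹) := by group
      _ = a * (a₁ * b) * (a₁ * a)⁻¹ * (a₁ * b⁻¹ * a₁⁻¹) := by group
      _ = a * (a₁ * b) * (a * a₁)⁻¹ * (a₁ * b⁻¹ * a₁⁻¹) := by rw [cA]
      _ = a * (a₁ * b * a₁⁻¹) * a⁻¹ * (a₁ * b * a₁⁻¹)⁻¹ := by group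
  have e2 : b₁ * (a * b₂⁻¹ * a⁻¹ * b₂) * b₁⁻¹ = a₃ * b₂⁻¹ * a₃⁻¹ * b₂ := by
    have := key2 b₂⁻¹ (B.inv_mem hb₂)
    rw [inv_inv] at this
    rw [← this, ← h₃]
    calc b₁ * (a * b₂⁻¹ * a⁻¹ * b₂) * b₁⁻¹
        = (b₁ * a * b₁⁻¹) * (b₁ * b₂⁻¹) * a⁻¹ * b₂ * b₁⁻¹ := by group
      _ = (b₁ * a * b₁⁻¹) * (b₂⁻¹ * b₁) * a⁻¹ * b₂ * b₁⁻¹ := by rw [cB2]
      _ = (b₁ * a * b₁⁻¹) * b₂⁻¹ * (b₁ * a⁻¹) * (b₁ * b₂⁻¹)⁻¹ := by group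
      _ = (b₁ * a * b₁⁻¹) * b₂⁻¹ * (b₁ * a⁻¹) * (b₂⁻¹ * b₁)⁻¹ := by rw [cB2]
      _ = (b₁ * a * b₁⁻¹) * b₂⁻¹ * (b₁ * a * b₁⁻¹)⁻¹ * b₂ := by group
  have e3 : b₁ * (a * b * a⁻¹ * b⁻¹) * b₁⁻¹ = a₃ * b * a₃⁻¹ * b⁻¹ := by
    rw [← key2 b hb, ← h₃]
    calc b₁ * (a * b * a⁻¹ * b⁻¹) * b₁⁻¹
        = (b₁ * a * b₁⁻¹) * (b₁ * b) * a⁻¹ * b⁻¹ * b₁⁻¹ := by group
      _ = (b₁ * a * b₁⁻¹) * (b * b₁) * a⁻¹ * b⁻¹ * b₁⁻¹ := by rw [cB]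
      _ = (b₁ * a * b₁⁻¹) * b * (b₁ * a⁻¹) * (b₁ * b)⁻¹ := by group
      _ = (b₁ * a * b₁⁻¹) * b * (b₁ * a⁻¹) * (b * b₁)⁻¹ := by rw [cB]
      _ = (b₁ * a * b₁⁻¹) * b * (b₁ * a * b₁⁻¹)⁻¹ * b⁻¹ := by group
  have e4 : a₁ * (a₃ * b * a₃⁻¹ * b⁻¹) * a₁⁻¹ = a₃ * b₂⁻¹ * a₃⁻¹ * b₂ := by
    rw [← key1 a₃ ha₃, ← h₂']
    calc a₁ * (a₃ * b * a₃⁻¹ * b⁻¹) * a₁⁻¹
        = (a₁ * a₃) * b * a₃⁻¹ * b⁻¹ * a₁⁻¹ := by group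
      _ = (a₃ * a₁) * b * a₃⁻¹ * b⁻¹ * a₁⁻¹ := by rw [cA3]
      _ = a₃ * (a₁ * b) * (a₁ * a₃)⁻¹ * (a₁ * b⁻¹ * a₁⁻¹) := by group
      _ = a₃ * (a₁ * b) * (a₃ * a₁)⁻¹ * (a₁ * b⁻¹ * a₁⁻¹) := by rw [cA3]
      _ = a₃ * (a₁ * b * a₁⁻¹) * a₃⁻¹ * (a₁ * b * a₁⁻¹)⁻¹ := by group
  calc (b₁ * a₁) * (a * b * a⁻¹ * b⁻¹) * (b₁ * a₁)⁻¹
      = b₁ * (a₁ * (a * b * a⁻¹ * b⁻¹) * a₁⁻¹) * b₁⁻¹ := by group
    _ = a₃ * b₂⁻¹ * a₃⁻¹ * b₂ := by rw [e1, e2]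
    _ = a₁ * (b₁ * (a * b * a⁻¹ * b⁻¹) * b₁⁻¹) * a₁⁻¹ := by rw [e3, e4]
    _ = (a₁ * b₁) * (a * b * a⁻¹ * b⁻¹) * (a₁ * b₁)⁻¹ := by group

/-- A finite group which is the product AB of two abelian subgroups A and B is solvable. -/
theorem result {G : Type*} [Group G] [Finite G] (A B : Subgroup G)
    [IsMulCommutative A] [IsMulCommutative B] (hAB : ∀ g : G, ∃ a ∈ A, ∃ b ∈ B, g = a * b) :
    Group.IsSolvable G := by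
  have hA : ∀ x ∈ A, ∀ y ∈ A, x * y = y * x := fun x hx y hy =>
    setLike_mul_comm hx hy
  have hB : ∀ x ∈ B, ∀ y ∈ B, x * y = y * x := fun x hx y hy =>
    setLike_mul_comm hx hy
  -- generators commute
  have hcomm : ∀ a ∈ A, ∀ b ∈ B, ∀ a₁ ∈ A, ∀ b₁ ∈ B,
      ⁅a, b⁆ * ⁅a₁, b₁⁆ = ⁅a₁, b₁⁆ * ⁅a, b⁆ := by
    intro a ha b hb a₁ ha₁ b₁ hb₁
    have h := conj_commutator_eq A B hA hB hAB ha (A.inv_mem ha₁) hb (B.inv_mem hb₁)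
    rw [commutatorElement_def, commutatorElement_def]
    set c := a * b * a⁻¹ * b⁻¹ with hc
    have h' : c * (b₁⁻¹ * a₁⁻¹)⁻¹ * (a₁⁻¹ * b₁⁻¹) = (b₁⁻¹ * a₁⁻¹)⁻¹ * (a₁⁻¹ * b₁⁻¹) * c := by
      calc c * (b₁⁻¹ * a₁⁻¹)⁻¹ * (a₁⁻¹ * b₁⁻¹)
          = (b₁⁻¹ * a₁⁻¹)⁻¹ * ((b₁⁻¹ * a₁⁻¹) * c * (b₁⁻¹ * a₁⁻¹)⁻¹) * (a₁⁻¹ * b₁⁻¹) := by group
        _ = (b₁⁻¹ * a₁⁻¹)⁻¹ * ((a₁⁻¹ * b₁⁻¹) * c * (a₁⁻¹ * b₁⁻¹)⁻¹) * (a₁⁻¹ * b₁⁻¹) := by rw [h]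
        _ = _ := by group
    have h3 : (b₁⁻¹ * a₁⁻¹)⁻¹ * (a₁⁻¹ * b₁⁻¹) = a₁ * b₁ * a₁⁻¹ * b₁⁻¹ := by group
    rw [mul_assoc, h3] at h'
    exact h'
  set N : Subgroup G := ⁅A, B⁆ with hN
  -- conjugating generators of N
  have hconjA : ∀ a ∈ A, ∀ n ∈ N, a * n * a⁻¹ ∈ N := by
    intro a ha n hn
    rw [hN, Subgroup.commutator_def] at hn
    induction hn using Subgroup.closure_induction with
    | mem x hx =>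
      obtain ⟨a', ha', b', hb', rfl⟩ := hx
      have : a * ⁅a', b'⁆ * a⁻¹ = ⁅a * a', b'⁆ * ⁅a, b'⁆⁻¹ := by
        simp only [commutatorElement_def]; group
      rw [this]
      exact N.mul_mem (Subgroup.commutator_mem_commutator (A.mul_mem ha ha') hb')
        (N.inv_mem (Subgroup.commutator_mem_commutator ha hb'))
    | one => simp [N.one_mem]
    | mul x y _ _ hx hy =>
      have : a * (x * y) * a⁻¹ = (a * x * a⁻¹) * (a * y * a⁻¹) := by group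
      rw [this]; exact N.mul_mem hx hy
    | inv x _ hx =>
      have : a * x⁻¹ * a⁻¹ = (a * x * a⁻¹)⁻¹ := by group
      rw [this]; exact N.inv_mem hx
  have hconjB : ∀ b ∈ B, ∀ n ∈ N, b * n * b⁻¹ ∈ N := by
    intro b hb n hn
    rw [hN, Subgroup.commutator_def] at hn
    induction hn using Subgroup.closure_induction with
    | mem x hx =>
      obtain ⟨a', ha', b', hb', rfl⟩ := hx
      have : b * ⁅a', b'⁆ * b⁻¹ = ⁅a', b⁆⁻¹ * ⁅a', b * b'⁆ := by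
        simp only [commutatorElement_def]; group
      rw [this]
      exact N.mul_mem (N.inv_mem (Subgroup.commutator_mem_commutator ha' hb))
        (Subgroup.commutator_mem_commutator ha' (B.mul_mem hb hb'))
    | one => simp [N.one_mem]
    | mul x y _ _ hx hy =>
      have : b * (x * y) * b⁻¹ = (b * x * b⁻¹) * (b * y * b⁻¹) := by group
      rw [this]; exact N.mul_mem hx hy
    | inv x _ hx =>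
      have : b * x⁻¹ * b⁻¹ = (b * x * b⁻¹)⁻¹ := by group
      rw [this]; exact N.inv_mem hx
  have hNnormal : N.Normal := by
    constructor
    intro n hn g
    obtain ⟨a, ha, b, hb, rfl⟩ := hAB g
    have : a * b * n * (a * b)⁻¹ = a * (b * n * b⁻¹) * a⁻¹ := by group
    rw [this]
    exact hconjA a ha _ (hconjB b hb n hn)
  -- every commutator is in N
  have hder : ∀ g h : G, ⁅g, h⁆ ∈ N := by
    intro g h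
    rw [← QuotientGroup.eq_one_iff]
    obtain ⟨a, ha, b, hb, rfl⟩ := hAB g
    obtain ⟨a₁, ha₁, b₁, hb₁, rfl⟩ := hAB h
    have comm : ∀ a ∈ A, ∀ b ∈ B, (a : G ⧸ N) * (b : G ⧸ N) = (b : G ⧸ N) * (a : G ⧸ N) := by
      intro a ha b hb
      have h1 : ⁅a, b⁆ ∈ N := Subgroup.commutator_mem_commutator ha hb
      rw [← QuotientGroup.eq_one_iff, commutatorElement_def, QuotientGroup.mk_mul,
        QuotientGroup.mk_mul, QuotientGroup.mk_mul, QuotientGroup.mk_inv,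
        QuotientGroup.mk_inv, mul_inv_eq_one, mul_inv_eq_iff_eq_mul] at h1
      exact h1
    have commA : ∀ a ∈ A, ∀ b ∈ A, (a : G ⧸ N) * (b : G ⧸ N) = (b : G ⧸ N) * (a : G ⧸ N) := by
      intro a ha b hb
      rw [← QuotientGroup.mk_mul, hA a ha b hb, QuotientGroup.mk_mul]
    have commB : ∀ a ∈ B, ∀ b ∈ B, (a : G ⧸ N) * (b : G ⧸ N) = (b : G ⧸ N) * (a : G ⧸ N) := by
      intro a ha b hb
      rw [← QuotientGroup.mk_mul, hB a ha b hb, QuotientGroup.mk_mul]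
    have c1 : Commute (a : G ⧸ N) (a₁ : G ⧸ N) := commA a ha a₁ ha₁
    have c2 : Commute (a : G ⧸ N) (b₁ : G ⧸ N) := comm a ha b₁ hb₁
    have c3 : Commute (b : G ⧸ N) (a₁ : G ⧸ N) := (comm a₁ ha₁ b hb).symm
    have c4 : Commute (b : G ⧸ N) (b₁ : G ⧸ N) := commB b hb b₁ hb₁
    have c : Commute ((a : G ⧸ N) * (b : G ⧸ N)) ((a₁ : G ⧸ N) * (b₁ : G ⧸ N)) :=
      (c1.mul_right c2).mul_left (c3.mul_right c4)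
    rw [commutatorElement_def, QuotientGroup.mk_mul,
        QuotientGroup.mk_mul, QuotientGroup.mk_mul, QuotientGroup.mk_inv,
        QuotientGroup.mk_inv, QuotientGroup.mk_mul, QuotientGroup.mk_mul, mul_inv_eq_one,
        mul_inv_eq_iff_eq_mul]
    exact c
  have hNab : ∀ x ∈ N, ∀ y ∈ N, ⁅x, y⁆ = 1 := by
    intro x hx y hy
    rw [commutatorElement_eq_one_iff_mul_comm]
    rw [hN, Subgroup.commutator_def] at hx hy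
    refine Subgroup.closure_induction₂ (p := fun x y _ _ => x * y = y * x)
      ?_ ?_ ?_ ?_ ?_ ?_ ?_ hx hy
    · rintro _ _ ⟨a, ha, b, hb, rfl⟩ ⟨a₁, ha₁, b₁, hb₁, rfl⟩
      exact hcomm a ha b hb a₁ ha₁ b₁ hb₁
    · intro x _; simp
    · intro x _; simp
    · intro x y z _ _ _ hx hy
      exact (show Commute x z from hx).mul_left hy
    · intro y z x _ _ _ hx hy
      exact (show Commute x y from hx).mul_right hy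
    · intro x y _ _ h
      exact (show Commute x y from h).inv_left
    · intro x y _ _ h
      exact (show Commute x y from h).inv_right
  refine ⟨2, ?_⟩
  rw [eq_bot_iff]
  have hd1 : derivedSeries G 1 ≤ N := by
    rw [derivedSeries_succ, derivedSeries_zero, Subgroup.commutator_le]
    intro g _ h _
    exact hder g h
  rw [derivedSeries_succ, Subgroup.commutator_le]
  intro g hg h hh
  rw [Subgroup.mem_bot]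
  exact hNab g (hd1 hg) h (hd1 hh)

end Cfsg.Agent.S0047
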