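import Cfsg.Statements.S0059
import Cfsg.Agent.S0001

set_option autoImplicit false
open Cfsg

namespace Cfsg.Agent.S0059

open Subgroup Pointwise

/-- If `K` is normal and transitive then `K ⊔ G_x = G`. -/
theorem sup_stabilizer_eq_top {G : Type*} [Group G] {X : Type*} [MulAction G X]
    (K : Subgroup G) (htrans : MulAction.IsPretransitive K X) (x : X) :
    K ⊔ MulAction.stabilizer G x = ⊤ := by
  refine eq_top_iff.mpr fun g _ => ?_
  obtain ⟨k, hk⟩ := htrans.exists_smul_eq x (g • x)
  have h1 : (k : G)⁻¹ * g ∈ MulAction.stabilizer G x := by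
    rw [MulAction.mem_stabilizer_iff, mul_smul, ← hk]
    change (k : G)⁻¹ • (k : G) • x = x
    rw [inv_smul_smul]
  have h2 : g = (k : G) * ((k : G)⁻¹ * g) := by group
  rw [h2]
  exact mul_mem_sup k.2 h1

/-- A subgroup `L` of order `K.index` is a complement to `K`, when order and index of `K` are
coprime. -/
theorem isComplement'_of_card_eq_index {G : Type*} [Group G] [Finite G]
    (K L : Subgroup G) (hcop : (Nat.card K).Coprime K.index) (hL : Nat.card L = K.index) :
    IsComplement' K L := by
  apply isComplement'_of_coprime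
  · rw [hL, K.card_mul_index]
  · rwa [hL]

/-- The quotient of a subgroup is solvable. -/
theorem solvable_subgroupOf {G : Type*} [Group G] (K : Subgroup G) [K.Normal]
    (hsolv : Group.IsSolvable K ∨ Group.IsSolvable (G ⧸ K)) (S : Subgroup G) :
    Group.IsSolvable (K.subgroupOf S) ∨ Group.IsSolvable (S ⧸ K.subgroupOf S) := by
  rcases hsolv with h | h
  · left
    let f : K.subgroupOf S →* K :=
      { toFun := fun a => ⟨((a : S) : G), a.2⟩
        map_one' := rfl
        map_mul' := fun _ _ => rfl }
    have hf : Function.Injective f := by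
      intro a b hab
      have h3 := congrArg (fun z : K => (z : G)) hab
      exact Subtype.ext (Subtype.ext h3)
    exact Group.isSolvable_of_isSolvable_injective hf
  · right
    let f : S ⧸ K.subgroupOf S →* G ⧸ K :=
      QuotientGroup.map (K.subgroupOf S) K S.subtype le_rfl
    have hf : Function.Injective f := by
      rw [injective_iff_map_eq_one]
      intro a
      induction a using QuotientGroup.induction_on with
      | H z =>
        intro hz
        rw [QuotientGroup.eq_one_iff, mem_subgroupOf]
        exact (QuotientGroup.eq_one_iff _).mp hz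
    exact Group.isSolvable_of_isSolvable_injective hf

theorem coprime_subgroupOf {G : Type*} [Group G] [Finite G]
    (K : Subgroup G) [K.Normal] (hcop : (Nat.card K).Coprime K.index) (S : Subgroup G) :
    (Nat.card (K.subgroupOf S)).Coprime (K.subgroupOf S).index := by
  refine (hcop.coprime_dvd_left ?_).coprime_dvd_right ?_
  · exact Subgroup.card_comap_dvd_of_injective K S.subtype S.subtype_injective
  · exact Subgroup.relIndex_dvd_index_of_normal K S

/-- Let a finite group act on a set on which a normal subgroup K of coprime order and index is transitive, with K or the quotient solvable. Then any complement H of K has a fixed point, and any two H-fixed points are interchanged by an element of K centralising H. -/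
theorem result {G : Type*} [Group G] [Finite G] {X : Type*} [Nonempty X] [MulAction G X]
    (K H : Subgroup G) [K.Normal] (hc : Subgroup.IsComplement' K H) (hcop : (Nat.card K).Coprime K.index)
    (hsolv : Group.IsSolvable K ∨ Group.IsSolvable (G ⧸ K)) (htrans : MulAction.IsPretransitive K X) :
    (∃ x : X, ∀ h ∈ H, h • x = x) ∧
    ∀ x y : X, (∀ h ∈ H, h • x = x) → (∀ h ∈ H, h • y = y) → ∃ k ∈ K ⊓ Subgroup.centralizer (H : Set G), k • x = y := by
  have hsup : ∀ x : X, K ⊔ MulAction.stabilizer G x = ⊤ := sup_stabilizer_eq_top K htrans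
  have hidx : ∀ x : X, (K.subgroupOf (MulAction.stabilizer G x)).index = K.index := by
    intro x
    change K.relIndex (MulAction.stabilizer G x) = K.index
    rw [← K.relIndex_top_right, ← hsup x, sup_comm, relIndex_sup_right]
  have hcardH : Nat.card H = K.index := hc.symm.index_eq_card ▸ rfl
  constructor
  · obtain ⟨x⟩ := (inferInstance : Nonempty X)
    obtain ⟨L, hL⟩ := exists_right_complement'_of_coprime
      (coprime_subgroupOf K hcop (MulAction.stabilizer G x))
    set L' : Subgroup G := L.map (MulAction.stabilizer G x).subtype with hL'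
    have hcard : Nat.card L' = K.index := by
      rw [hL', card_map_of_injective (subtype_injective _), ← hidx x]
      exact hL.symm.index_eq_card ▸ rfl
    have hcomp : IsComplement' K L' := isComplement'_of_card_eq_index K L' hcop hcard
    obtain ⟨g, hg⟩ := Cfsg.Agent.S0001.result K hcop hsolv L' H hcomp hc
    refine ⟨g • x, fun h hh => ?_⟩
    rw [← hg, mem_smul_pointwise_iff_exists] at hh
    obtain ⟨l, hl, rfl⟩ := hh
    rw [hL', mem_map] at hl
    obtain ⟨z, _, rfl⟩ := hl
    have hz : (z : G) • x = x := z.2
    change (g * (z : G) * g⁻¹) • g • x = g • x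
    rw [mul_smul, inv_smul_smul, mul_smul, hz]
  · intro x y hx hy
    set S := MulAction.stabilizer G x with hS
    obtain ⟨k, hk⟩ := htrans.exists_smul_eq x y
    have hk : (k : G) • x = y := hk
    have hHS : H ≤ S := fun h hh => hx h hh
    -- the conjugate of `H` by `k⁻¹`
    set H' : Subgroup G := MulAut.conj (k : G)⁻¹ • H with hH'
    have hH'S : H' ≤ S := by
      intro a ha
      rw [hH', mem_smul_pointwise_iff_exists] at ha
      obtain ⟨l, hl, rfl⟩ := ha
      rw [hS, MulAction.mem_stabilizer_iff]
      change ((k : G)⁻¹ * l * (k : G)⁻¹⁻¹) • x = x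
      rw [inv_inv, mul_smul, hk, mul_smul, hy l hl, ← hk, inv_smul_smul]
    have hcardH' : Nat.card H' = K.index := by
      rw [← hcardH]
      exact Nat.card_congr (Subgroup.equivSMul (MulAut.conj (k : G)⁻¹) H).toEquiv.symm
    have hc1 : IsComplement' (K.subgroupOf S) (H.subgroupOf S) := by
      apply isComplement'_of_card_eq_index _ _ (coprime_subgroupOf K hcop S)
      rw [hidx x, ← hcardH]
      exact Nat.card_congr (subgroupOfEquivOfLe hHS).toEquiv
    have hc2 : IsComplement' (K.subgroupOf S) (H'.subgroupOf S) := by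
      apply isComplement'_of_card_eq_index _ _ (coprime_subgroupOf K hcop S)
      rw [hidx x, ← hcardH']
      exact Nat.card_congr (subgroupOfEquivOfLe hH'S).toEquiv
    obtain ⟨s, hs⟩ := Cfsg.Agent.S0001.result (K.subgroupOf S) (coprime_subgroupOf K hcop S)
      (solvable_subgroupOf K hsolv S) (H.subgroupOf S) (H'.subgroupOf S) hc1 hc2
    -- write `s = m * h` with `m ∈ K ∩ S` and `h ∈ H`
    obtain ⟨⟨m, h⟩, hmh⟩ := hc1.2 s
    simp only at hmh
    have hmK : ((m : S) : G) ∈ K := m.2
    have hhH : ((h : S) : G) ∈ H := h.2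
    have hmS : ((m : S) : G) • x = x := (m : S).2
    -- then `m H m⁻¹ = k⁻¹ H k`
    have hnorm : ∀ a ∈ H, ((k : G) * ((m : S) : G)) * a * ((k : G) * ((m : S) : G))⁻¹ ∈ H := by
      intro a ha
      have ha' : ((h : S) : G)⁻¹ * a * ((h : S) : G) ∈ H :=
        mul_mem (mul_mem (inv_mem hhH) ha) hhH
      have h1 : MulAut.conj s (⟨_, hHS ha'⟩ : S) ∈ MulAut.conj s • (H.subgroupOf S) := by
        rw [mem_smul_pointwise_iff_exists]
        exact ⟨_, by rwa [mem_subgroupOf], rfl⟩
      rw [hs, mem_subgroupOf, hH', mem_smul_pointwise_iff_exists] at h1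
      obtain ⟨l, hl, h2⟩ := h1
      have h3 : (k : G)⁻¹ * l * (k : G)⁻¹⁻¹ =
          (s : G) * (((h : S) : G)⁻¹ * a * ((h : S) : G)) * (s : G)⁻¹ := h2
      have h4 : (s : G) = ((m : S) : G) * ((h : S) : G) := by rw [← hmh]; rfl
      have h5 : l = ((k : G) * ((m : S) : G)) * a * ((k : G) * ((m : S) : G))⁻¹ := by
        calc l = (k : G) * ((k : G)⁻¹ * l * (k : G)⁻¹⁻¹) * (k : G)⁻¹ := by group
          _ = _ := by rw [h3, h4]; group
      rw [← h5]; exact hl
    have hkm : (k : G) * ((m : S) : G) ∈ K := mul_mem k.2 hmK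
    refine ⟨(k : G) * ((m : S) : G), mem_inf.mpr ⟨hkm, ?_⟩, by rw [mul_smul, hmS, hk]⟩
    rw [mem_centralizer_iff]
    intro a ha
    set c := (k : G) * ((m : S) : G) with hcdef
    have h6 : c * a * c⁻¹ * a⁻¹ ∈ H := mul_mem (hnorm a ha) (inv_mem ha)
    have h7 : c * a * c⁻¹ * a⁻¹ ∈ K := by
      have : c * a * c⁻¹ * a⁻¹ = c * (a * c⁻¹ * a⁻¹) := by group
      rw [this]
      exact mul_mem hkm (Normal.conj_mem inferInstance _ (inv_mem hkm) a)
    have h8 : c * a * c⁻¹ * a⁻¹ = 1 := by
      have := hc.disjoint
      rw [disjoint_def] at this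
      exact this h7 h6
    have h9 : c * a = a * c := by
      calc c * a = (c * a * c⁻¹ * a⁻¹) * (a * c) := by group
        _ = a * c := by rw [h8, one_mul]
    exact h9.symm

end Cfsg.Agent.S0059
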