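import Cfsg.Statements.S0060
-- import your own Cfsg.Agent.* helpers here
import Mathlib

set_option autoImplicit false
open Pointwise
open Cfsg

namespace Cfsg.Agent.S0060

/-- Brodkey's Theorem: in a finite group with abelian Sylow p-subgroups and no nontrivial normal p-subgroup, some conjugate of a Sylow p-subgroup meets it trivially. -/
theorem result {G : Type*} [Group G] [Finite G] (p : ℕ) [Fact p.Prime]
    (S : Sylow p G) (hS : IsMulCommutative S) (hOp : Cfsg.pCore p G = ⊥) :
    ∃ g : G, (S : Subgroup G) ⊓ MulAut.conj g • (S : Subgroup G) = ⊥ := by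
  classical
  -- pick `g` minimising the order of `S ⊓ S^g`
  obtain ⟨g, hg⟩ : ∃ g : G, ∀ h : G, Nat.card ↥((S : Subgroup G) ⊓ MulAut.conj g • (S : Subgroup G))
      ≤ Nat.card ↥((S : Subgroup G) ⊓ MulAut.conj h • (S : Subgroup G)) := by
    exact Finite.exists_min _
  refine ⟨g, ?_⟩
  set T : Sylow p G := g • S with hT
  have hTcoe : (T : Subgroup G) = MulAut.conj g • (S : Subgroup G) := rfl
  rw [← hTcoe] at hg ⊢
  have hScomm : ∀ x ∈ (S : Subgroup G), ∀ y ∈ (S : Subgroup G), x * y = y * x := by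
    intro x hx y hy
    have := (hS.is_comm).comm ⟨x, hx⟩ ⟨y, hy⟩
    exact congrArg Subtype.val this
  have hTcomm : ∀ x ∈ (T : Subgroup G), ∀ y ∈ (T : Subgroup G), x * y = y * x := by
    intro x hx y hy
    rw [hTcoe, Subgroup.mem_smul_pointwise_iff_exists] at hx hy
    obtain ⟨a, ha, rfl⟩ := hx
    obtain ⟨b, hb, rfl⟩ := hy
    simp only [MulAut.smul_def, ← map_mul, hScomm a ha b hb]
  set D : Subgroup G := (S : Subgroup G) ⊓ (T : Subgroup G) with hD
  set N : Subgroup G := Subgroup.normalizer (D : Set G) with hN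
  have hnorm : ∀ (R : Subgroup G), D ≤ R → (∀ x ∈ R, ∀ y ∈ R, x * y = y * x) → R ≤ N := by
    intro R hDR hc x hx
    rw [hN, Subgroup.mem_normalizer_iff]
    intro h
    constructor
    · intro hh
      rw [hc x hx h (hDR hh)]
      simpa using hh
    · intro hh
      have h2 : h ∈ R := by
        have := R.mul_mem (R.mul_mem (R.inv_mem hx) (hDR hh)) hx
        simpa [mul_assoc] using this
      rw [hc x hx h h2] at hh
      simpa using hh
  have hSN : (S : Subgroup G) ≤ N := hnorm _ inf_le_left hScomm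
  have hTN : (T : Subgroup G) ≤ N := hnorm _ inf_le_right hTcomm
  -- every Sylow subgroup contains `D`
  have key : ∀ R : Sylow p G, D ≤ (R : Subgroup G) := by
    intro R
    have hRN : IsPGroup p ↥((R : Subgroup G).subgroupOf N) := by
      exact R.isPGroup'.comap_subtype
    obtain ⟨Q, hQ⟩ := hRN.exists_le_sylow
    obtain ⟨x, hx⟩ := MulAction.exists_smul_eq N Q (T.subtype hTN)
    -- `R^x ∩ S ≤ D`
    have h1 : (S : Subgroup G) ⊓ MulAut.conj (x : G) • (R : Subgroup G) ≤ D := by
      intro y hy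
      obtain ⟨hy1, hy2⟩ := Subgroup.mem_inf.1 hy
      refine Subgroup.mem_inf.2 ⟨hy1, ?_⟩
      have hyN : y ∈ N := hSN hy1
      rw [Subgroup.mem_pointwise_smul_iff_inv_smul_mem] at hy2
      have h3 : (⟨y, hyN⟩ : N) ∈ (x • Q : Sylow p N) := by
        show (⟨y, hyN⟩ : N) ∈ MulAut.conj x • (Q : Subgroup N)
        rw [Subgroup.mem_pointwise_smul_iff_inv_smul_mem]
        apply hQ
        rw [Subgroup.mem_subgroupOf]
        simpa using hy2
      rw [hx] at h3
      exact h3
    obtain ⟨h, hh⟩ := MulAction.exists_smul_eq G S R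
    have h4 : MulAut.conj (x : G) • (R : Subgroup G) = MulAut.conj ((x : G) * h) • (S : Subgroup G) := by
      rw [← hh, map_mul, mul_smul]
      rfl
    have h5 := hg (x * h)
    rw [← h4] at h5
    have h6 : (S : Subgroup G) ⊓ MulAut.conj (x : G) • (R : Subgroup G) = D :=
      Subgroup.eq_of_le_of_card_ge h1 h5
    have h7 : D ≤ MulAut.conj (x : G) • (R : Subgroup G) := h6 ▸ inf_le_right
    intro y hy
    have hx2 : (x : G) ∈ Subgroup.normalizer (D : Set G) := x.2
    have h8 : (x : G) * y * (x : G)⁻¹ ∈ D := (Subgroup.mem_normalizer_iff.1 hx2 y).1 hy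
    have h9 := h7 h8
    rw [Subgroup.mem_pointwise_smul_iff_inv_smul_mem] at h9
    simpa [mul_assoc] using h9
  have h10 : (S : Subgroup G).normalCore ≤ Cfsg.pCore p G := by
    apply le_sSup
    refine ⟨inferInstance, ?_⟩
    exact S.isPGroup'.to_le (Subgroup.normalCore_le _)
  have h11 : D ≤ (S : Subgroup G).normalCore := by
    intro y hy b
    have h12 := key (b⁻¹ • S) hy
    have h13 : ((b⁻¹ • S : Sylow p G) : Subgroup G) = MulAut.conj b⁻¹ • (S : Subgroup G) := rfl
    rw [h13, Subgroup.mem_pointwise_smul_iff_inv_smul_mem] at h12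
    simpa using h12
  exact le_bot_iff.1 (hOp ▸ (h11.trans h10))

end Cfsg.Agent.S0060
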