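import Cfsg.Statements.S0061
-- import your own Cfsg.Agent.* helpers here
import Mathlib
import Cfsg.Agent.Solvable.FrobeniusKernel

set_option autoImplicit false
open Cfsg

namespace Cfsg.Agent.S0061

open scoped Pointwise

/-- In a nilpotent subgroup `P`, a proper subgroup `D` of `P` is properly contained in
`P ⊓ N(D)`. -/
theorem lt_inf_normalizer {G : Type*} [Group G] {P D : Subgroup G} (hP : Group.IsNilpotent P)
    (hD : D < P) : D < P ⊓ Subgroup.normalizer (D : Set G) := by
  have hne : D.subgroupOf P < ⊤ := by
    rw [lt_top_iff_ne_top, Ne, Subgroup.subgroupOf_eq_top]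
    exact not_le_of_gt hD
  have h1 := Group.normalizerCondition_of_isNilpotent (G := P) _ hne
  obtain ⟨x, hx, hx'⟩ := SetLike.exists_of_lt h1
  refine lt_of_le_of_ne (le_inf hD.le Subgroup.le_normalizer) ?_
  intro h
  apply hx'
  rw [Subgroup.mem_subgroupOf, h]
  refine Subgroup.mem_inf.2 ⟨x.2, ?_⟩
  rw [Subgroup.mem_normalizer_iff] at hx ⊢
  intro y
  constructor
  · intro hy
    have := (hx ⟨y, hD.le hy⟩).1 (by rw [Subgroup.mem_subgroupOf]; exact hy)
    rw [Subgroup.mem_subgroupOf] at this
    simpa using this
  · intro hy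
    have hyP : y ∈ P := by
      have h2 := P.mul_mem (P.mul_mem (P.inv_mem x.2) (hD.le hy)) x.2
      simpa [mul_assoc] using h2
    have := (hx ⟨y, hyP⟩).2 (by rw [Subgroup.mem_subgroupOf]; simpa using hy)
    rw [Subgroup.mem_subgroupOf] at this
    exact this

/-- A group of order `p ^ a * q` (`p ≠ q` primes, `a > 0`) has a nontrivial proper normal
subgroup. -/
theorem exists_normal {G : Type*} [Group G] [Finite G] (p q a : ℕ) (hp : p.Prime) (hq : q.Prime)
    (hpq : p ≠ q) (ha : 0 < a) (hG : Nat.card G = p ^ a * q) :
    ∃ N : Subgroup G, N.Normal ∧ N ≠ ⊥ ∧ N ≠ ⊤ := by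
  classical
  have : Fact p.Prime := ⟨hp⟩
  have : Fact q.Prime := ⟨hq⟩
  have hcop : Nat.Coprime (p ^ a) q := Nat.Coprime.pow_left _ ((Nat.coprime_primes hp hq).2 hpq)
  have hnd : ¬ p ∣ q := fun h => hpq ((Nat.prime_dvd_prime_iff_eq hp hq).1 h)
  obtain ⟨S⟩ : Nonempty (Sylow p G) := inferInstance
  -- orders of Sylow subgroups
  have hfac : (Nat.card G).factorization p = a := by
    rw [hG, Nat.factorization_mul (pow_ne_zero _ hp.ne_zero) hq.ne_zero]
    rw [Finsupp.add_apply, hp.factorization_pow, Finsupp.single_eq_same,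
      Nat.factorization_eq_zero_of_not_dvd hnd, add_zero]
  have hcard : ∀ R : Sylow p G, Nat.card R = p ^ a := by
    intro R
    rw [R.card_eq_multiplicity, hfac]
  have hpa : 1 < p ^ a := Nat.one_lt_pow ha.ne' hp.one_lt
  have hcardlt : p ^ a < Nat.card G := by
    rw [hG]
    exact lt_mul_of_one_lt_right (by positivity) hq.one_lt
  have hSbot : (S : Subgroup G) ≠ ⊥ := by
    intro h
    have h1 := hcard S
    rw [h, Subgroup.card_bot] at h1
    omega
  have hStop : (S : Subgroup G) ≠ ⊤ := by
    intro h
    have h1 := hcard S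
    rw [h, Subgroup.card_top] at h1
    omega
  have hindex : (S : Subgroup G).index = q := by
    have h1 := (S : Subgroup G).card_mul_index
    rw [hcard S, hG] at h1
    exact Nat.eq_of_mul_eq_mul_left (by positivity) h1
  by_cases hSn : (S : Subgroup G).Normal
  · exact ⟨S, hSn, hSbot, hStop⟩
  -- elements of conjugates of `S`
  by_cases hint : ∀ R T : Sylow p G, R ≠ T → (R : Subgroup G) ⊓ (T : Subgroup G) = ⊥
  · -- `S` is a Frobenius complement
    have hnorm : Subgroup.normalizer ((S : Subgroup G) : Set G) = S := by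
      have h1 : (Subgroup.normalizer ((S : Subgroup G) : Set G)).index ∣ q := by
        rw [← hindex]
        exact Subgroup.index_dvd_of_le Subgroup.le_normalizer
      rcases (Nat.dvd_prime hq).1 h1 with h2 | h2
      · exfalso
        apply hSn
        rw [Subgroup.index_eq_one] at h2
        exact Subgroup.normalizer_eq_top_iff.1 h2
      · symm
        apply Subgroup.eq_of_le_of_card_ge Subgroup.le_normalizer
        have h3 := (Subgroup.normalizer ((S : Subgroup G) : Set G)).card_mul_index
        have h4 := (S : Subgroup G).card_mul_index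
        rw [h2] at h3
        rw [hindex, ← h3] at h4
        exact (Nat.eq_of_mul_eq_mul_right hq.pos h4).ge
    have hF : Cfsg.IsFrobeniusComplement (S : Subgroup G) := by
      refine ⟨hSbot, hStop, ?_⟩
      intro g hg
      have h1 := hint S (g • S) (by
        intro h
        apply hg
        rw [← hnorm]
        exact Sylow.smul_eq_iff_mem_normalizer.1 h.symm)
      exact h1
    have hK := Cfsg.Agent.Solvable.FrobeniusKernel.card_kernel hF
    rw [hindex] at hK
    -- every subgroup of order `q` is the kernel
    have hQ : ∀ Q : Subgroup G, Nat.card Q = q → (Q : Set G) = Cfsg.frobeniusKernel (S : Subgroup G) := by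
      intro Q hQ
      refine Set.Finite.eq_of_subset_of_card_le (Set.toFinite _) ?_ ?_
      · intro x hx
        rw [Cfsg.Agent.Solvable.FrobeniusKernel.mem_kernel_iff]
        by_contra hcon
        push Not at hcon
        obtain ⟨hx1, g, hg⟩ := hcon
        apply hx1
        have h1 : orderOf x ∣ q := by
          have := Subgroup.orderOf_dvd_natCard Q hx
          rwa [hQ] at this
        have h2 : orderOf x ∣ p ^ a := by
          have := Subgroup.orderOf_dvd_natCard (S : Subgroup G) hg
          rw [hcard S] at this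
          have h3 : orderOf (g⁻¹ * x * g) = orderOf x := by
            have := MulEquiv.orderOf_eq (MulAut.conj g⁻¹) x
            simpa using this
          rwa [h3] at this
        have h3 : orderOf x ∣ 1 := by
          rw [← hcop]
          exact Nat.dvd_gcd h2 h1
        exact orderOf_eq_one_iff.1 (Nat.dvd_one.1 h3)
      · rw [hK]
        exact hQ.ge
    obtain ⟨x, hx⟩ := exists_prime_orderOf_dvd_card' (G := G) q (by rw [hG]; exact dvd_mul_left _ _)
    have hx' : Nat.card (Subgroup.zpowers x) = q := by rw [Nat.card_zpowers, hx]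
    refine ⟨Subgroup.zpowers x, ?_, ?_, ?_⟩
    · constructor
      intro n hn g
      have h1 := hQ _ hx'
      have h2 := hQ (MulAut.conj g • Subgroup.zpowers x) (by
        rw [← hx']
        exact Nat.card_congr (Subgroup.equivSMul _ _).toEquiv.symm)
      have h3 : MulAut.conj g • Subgroup.zpowers x = Subgroup.zpowers x :=
        SetLike.coe_injective (h2.trans h1.symm)
      rw [← h3, Cfsg.Agent.Solvable.FrobeniusKernel.mem_conj_smul]
      simpa [mul_assoc] using hn
    · intro h
      rw [h, Subgroup.card_bot] at hx'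
      exact hq.one_lt.ne hx'
    · intro h
      rw [h, Subgroup.card_top, hG] at hx'
      have : q < p ^ a * q := lt_mul_of_one_lt_left hq.pos hpa
      omega
  · push Not at hint
    obtain ⟨R₀, T₀, hRT₀, hne₀⟩ := hint
    -- choose a pair with maximal intersection
    have hne : Nonempty {x : Sylow p G × Sylow p G // x.1 ≠ x.2} := ⟨⟨⟨R₀, T₀⟩, hRT₀⟩⟩
    obtain ⟨⟨⟨R, T⟩, hRT⟩, hmax⟩ := Finite.exists_max
      (fun x : {x : Sylow p G × Sylow p G // x.1 ≠ x.2} =>
        Nat.card ↥((x.1.1 : Subgroup G) ⊓ (x.1.2 : Subgroup G)))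
    simp only [Subtype.forall, Prod.forall] at hmax hRT
    set D : Subgroup G := (R : Subgroup G) ⊓ (T : Subgroup G) with hD
    have hD1 : D ≠ ⊥ := by
      intro h
      have h1 := hmax R₀ T₀ hRT₀
      rw [h, Subgroup.card_bot] at h1
      apply hne₀
      rw [← Subgroup.card_le_one_iff_eq_bot]
      exact h1
    have hDR : D < (R : Subgroup G) := by
      refine lt_of_le_of_ne inf_le_left ?_
      intro h
      have h1 : (R : Subgroup G) ≤ T := by rw [← h]; exact inf_le_right
      have h2 : (R : Subgroup G) = T := Subgroup.eq_of_le_of_card_ge h1 (by rw [hcard, hcard])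
      exact hRT (Sylow.ext h2)
    have hDT : D < (T : Subgroup G) := by
      refine lt_of_le_of_ne inf_le_right ?_
      intro h
      have h1 : (T : Subgroup G) ≤ R := by rw [← h]; exact inf_le_left
      have h2 : (T : Subgroup G) = R := Subgroup.eq_of_le_of_card_ge h1 (by rw [hcard, hcard])
      exact hRT (Sylow.ext h2.symm)
    set N : Subgroup G := Subgroup.normalizer (D : Set G) with hN
    have hgR : D < (R : Subgroup G) ⊓ N := lt_inf_normalizer (IsPGroup.isNilpotent R.2) hDR
    have hgT : D < (T : Subgroup G) ⊓ N := lt_inf_normalizer (IsPGroup.isNilpotent T.2) hDT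
    have hqN : q ∣ Nat.card N := by
      by_contra hqN
      have h1 : Nat.card N ∣ p ^ a * q := by
        rw [← hG]
        exact Subgroup.card_subgroup_dvd_card N
      have h2 : Nat.card N ∣ p ^ a :=
        Nat.Coprime.dvd_of_dvd_mul_right ((hq.coprime_iff_not_dvd.2 hqN).symm) h1
      have h3 : IsPGroup p N := by
        obtain ⟨k, -, hk⟩ := (Nat.dvd_prime_pow hp).1 h2
        exact IsPGroup.of_card hk
      obtain ⟨U, hU⟩ := h3.exists_le_sylow
      have h4 : ∀ V : Sylow p G, D < (V : Subgroup G) ⊓ N → V = U := by
        intro V hV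
        by_contra hVU
        have h5 := hmax V U hVU
        have h6 : (V : Subgroup G) ⊓ N ≤ (V : Subgroup G) ⊓ U := inf_le_inf_left _ hU
        have h7 : Nat.card D < Nat.card ↥((V : Subgroup G) ⊓ (U : Subgroup G)) :=
          Set.Finite.card_lt_card (Set.toFinite _) (lt_of_lt_of_le hV h6)
        exact absurd h5 (not_le_of_gt h7)
      exact hRT ((h4 R hgR).trans (h4 T hgT).symm)
    obtain ⟨x, hx⟩ := exists_prime_orderOf_dvd_card' (G := N) q hqN
    have hx' : Nat.card (Subgroup.zpowers (x : G)) = q := by
      rw [Nat.card_zpowers, Subgroup.orderOf_coe, hx]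
    have hcomp : Subgroup.IsComplement' (Subgroup.zpowers (x : G)) (R : Subgroup G) := by
      apply Subgroup.isComplement'_of_coprime
      · rw [hx', hcard R, hG, mul_comm]
      · rw [hx', hcard R]
        exact hcop.symm
    have hall : D ≤ (R : Subgroup G).normalCore := by
      intro d hd g
      -- `g⁻¹ = u * r`
      obtain ⟨⟨⟨u, hu⟩, ⟨r, hr⟩⟩, hur, -⟩ := hcomp.existsUnique g⁻¹
      simp only at hur
      have hg : g = r⁻¹ * u⁻¹ := by rw [← mul_inv_rev, hur, inv_inv]
      have huN : u ∈ N := by
        have : Subgroup.zpowers (x : G) ≤ N := by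
          rw [Subgroup.zpowers_le]
          exact x.2
        exact this hu
      have h1 : u⁻¹ * d * u ∈ D := by
        have := (Subgroup.mem_normalizer_iff.1 (N.inv_mem huN) d).1 hd
        simpa using this
      have h2 : u⁻¹ * d * u ∈ (R : Subgroup G) := hDR.le h1
      rw [hg]
      have h3 := (R : Subgroup G).mul_mem ((R : Subgroup G).mul_mem ((R : Subgroup G).inv_mem hr) h2) hr
      simpa [mul_assoc] using h3
    refine ⟨(R : Subgroup G).normalCore, inferInstance, ?_, ?_⟩
    · intro h
      rw [h] at hall
      exact hD1 (le_bot_iff.1 hall)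
    · intro h
      have h1 : (R : Subgroup G) = ⊤ := by
        rw [eq_top_iff, ← h]
        exact Subgroup.normalCore_le _
      have h2 := hcard R
      rw [h1, Subgroup.card_top] at h2
      omega

theorem solvable_aux (p q m : ℕ) (hp : p.Prime) (hq : q.Prime) (n : ℕ) :
    ∀ {G : Type*} [Group G] [Finite G], Nat.card G = n → n ∣ p ^ m * q → Group.IsSolvable G := by
  induction n using Nat.strong_induction_on with
  | _ n ih =>
    intro G _ _ hn hdvd
    by_cases hpq : p = q
    · subst hpq
      rw [← pow_succ] at hdvd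
      obtain ⟨k, -, hk⟩ := (Nat.dvd_prime_pow hp).1 hdvd
      have : Fact p.Prime := ⟨hp⟩
      have h1 : IsPGroup p G := IsPGroup.of_card (hn.trans hk)
      have := h1.isNilpotent
      infer_instance
    obtain ⟨a, b, hab⟩ := (Nat.dvd_mul).1 hdvd
    obtain ⟨ha, hb, hab⟩ := hab
    obtain ⟨k, -, hk⟩ := (Nat.dvd_prime_pow hp).1 ha
    have : Fact p.Prime := ⟨hp⟩
    have : Fact q.Prime := ⟨hq⟩
    rcases (Nat.dvd_prime hq).1 hb with h1 | h1
    · have h1 : IsPGroup p G := IsPGroup.of_card (n := k) (by rw [hn, ← hab, hk, h1, mul_one])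
      have := h1.isNilpotent
      infer_instance
    · rcases Nat.eq_zero_or_pos k with hk0 | hk0
      · have h1 : IsPGroup q G := IsPGroup.of_card (n := 1) (by
          rw [hn, ← hab, hk, h1, hk0]; simp)
        have := h1.isNilpotent
        infer_instance
      · obtain ⟨N, hN, hN1, hN2⟩ := exists_normal (G := G) p q k hp hq hpq hk0 (by
          rw [hn, ← hab, hk, h1])
        have hc := N.card_mul_index
        have hN3 : 1 < Nat.card N := by
          by_contra h
          exact hN1 ((Subgroup.card_le_one_iff_eq_bot N).1 (not_lt.1 h))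
        have hN4 : 1 < N.index := by
          have : N.index ≠ 1 := fun h => hN2 (Subgroup.index_eq_one.1 h)
          have h0 : N.index ≠ 0 := Subgroup.index_ne_zero_of_finite
          omega
        have hpos : 0 < Nat.card G := Nat.card_pos
        have hlt1 : Nat.card N < n := by
          rw [← hn, ← hc]
          exact lt_mul_of_one_lt_right (by omega) hN4
        have hlt2 : Nat.card (G ⧸ N) < n := by
          rw [← hn, ← hc]
          exact lt_mul_of_one_lt_left (by
            show 0 < N.index
            omega) hN3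
        have s1 : Group.IsSolvable N := ih _ hlt1 rfl ((Dvd.intro _ (hc.trans hn)).trans hdvd)
        have s2 : Group.IsSolvable (G ⧸ N) :=
          ih _ hlt2 rfl ((Dvd.intro_left _ (hc.trans hn)).trans hdvd)
        exact (Group.isSolvable_iff_subgroup_quotient N).2 ⟨s1, s2⟩

/-- A finite group whose order is a prime power times a prime is solvable. -/
theorem result {G : Type*} [Group G] [Finite G] (p q m : ℕ) (hp : p.Prime) (hq : q.Prime)
    (hG : Nat.card G = p ^ m * q) : Group.IsSolvable G := by
  exact solvable_aux p q m hp hq _ rfl (hG ▸ dvd_rfl)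

end Cfsg.Agent.S0061
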