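import Cfsg.Statements.S0064
import Mathlib.GroupTheory.Nilpotent
import Mathlib.GroupTheory.IsSubnormal

set_option autoImplicit false
open Cfsg

namespace Cfsg.Agent.S0064

/-- A finite group is nilpotent exactly when each of its subgroups is subnormal. -/
theorem result {G : Type*} [Group G] [Finite G] :
    Group.IsNilpotent G ↔ ∀ H : Subgroup G, H.IsSubnormal := by
  constructor
  · intro hG
    have hnc : NormalizerCondition G := Group.normalizerCondition_of_isNilpotent
    intro H
    -- well-founded induction on `>` for subgroups of a finite group
    induction H using WellFoundedGT.induction with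
    | ind H ih =>
      by_cases htop : H = ⊤
      · rw [htop]
        exact Subgroup.IsSubnormal.top
      · have hlt : H < Subgroup.normalizer (H : Set G) := hnc H (lt_top_iff_ne_top.mpr htop)
        refine Subgroup.IsSubnormal.step H _ hlt.le (ih _ hlt) ?_
        exact Subgroup.normal_in_normalizer
  · intro h
    refine (Group.isNilpotent_of_finite_tfae.out 2 0 rfl rfl).mp ?_
    intro H hH
    rcases (Subgroup.IsSubnormal.lt_normal (h H)) with h1 | ⟨K, hKn, hHK, hKlt⟩
    · exact absurd h1 hH.1
    · rcases hH.le_iff.mp hHK with h2 | h2
      · exact absurd h2 hKlt.ne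
      · rw [← h2]; exact hKn

end Cfsg.Agent.S0064
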