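import Cfsg.Statements.S0065
import Mathlib.GroupTheory.Nilpotent

set_option autoImplicit false
open Cfsg

namespace Cfsg.Agent.S0065

/-- A nontrivial normal subgroup of a nilpotent group intersects the centre nontrivially. -/
theorem result {G : Type*} [Group G] [Finite G] [Group.IsNilpotent G]
    (N : Subgroup G) [N.Normal] (hN : N ≠ ⊥) : N ⊓ Subgroup.center G ≠ ⊥ := by
  intro hbot
  apply hN
  have key : ∀ n : ℕ, N ⊓ Subgroup.upperCentralSeries G n = ⊥ := by
    intro n
    induction n with
    | zero => simp [Subgroup.upperCentralSeries_zero]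
    | succ n ih =>
      rw [eq_bot_iff] at hbot ⊢
      refine le_trans ?_ hbot
      intro x hx
      rw [Subgroup.mem_inf] at hx ⊢
      obtain ⟨hxN, hxZ⟩ := hx
      refine ⟨hxN, ?_⟩
      rw [Subgroup.mem_upperCentralSeries_succ_iff] at hxZ
      rw [Subgroup.mem_center_iff]
      intro g
      have h1 : x * g * x⁻¹ * g⁻¹ ∈ N := by
        have : g * x⁻¹ * g⁻¹ ∈ N := ‹N.Normal›.conj_mem _ (N.inv_mem hxN) g
        have h2 := N.mul_mem hxN this
        simpa [mul_assoc] using h2
      have h3 : x * g * x⁻¹ * g⁻¹ ∈ N ⊓ Subgroup.upperCentralSeries G n := ⟨h1, hxZ g⟩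
      rw [ih, Subgroup.mem_bot] at h3
      have h4 : x * g = g * x := by
        have := mul_inv_eq_one.mp h3
        rw [mul_inv_eq_iff_eq_mul] at this
        exact this
      exact h4.symm
  obtain ⟨n, hn⟩ := Group.IsNilpotent.nilpotent G
  have := key n
  rwa [hn, inf_top_eq] at this

end Cfsg.Agent.S0065
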