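import Mathlib.GroupTheory.FixedPointFree
import Cfsg.Statements.S0068

set_option autoImplicit false
open Cfsg

namespace Cfsg.Agent.S0068

/-- An element `s` with `s * s = 1` normalising the finite group `K` and centralising only the identity
of `K` inverts every element of `K`. -/
theorem inverts_of_fixedPointFree {G : Type*} [Group G] (K : Subgroup G) [Finite K] {s : G}
    (hs : s ∈ Subgroup.normalizer (K : Set G)) (hs2 : s * s = 1)
    (hfpf : ∀ k ∈ K, s * k = k * s → k = 1) {k : G} (hk : k ∈ K) :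
    s * k * s⁻¹ = k⁻¹ := by
  have hmem : ∀ x ∈ K, s * x * s⁻¹ ∈ K := fun x hx =>
    (Subgroup.mem_normalizer_iff.mp hs x).mp hx
  let φ : K →* K :=
    { toFun := fun x => ⟨s * x * s⁻¹, hmem x x.2⟩
      map_one' := by ext; simp
      map_mul' := by intro a b; ext; simp [mul_assoc] }
  have hφ : MonoidHom.FixedPointFree φ := by
    intro x hx
    have h1 : s * (x : G) * s⁻¹ = x := congrArg Subtype.val hx
    have h2 : s * (x : G) = x * s := by
      rw [mul_inv_eq_iff_eq_mul] at h1; exact h1
    exact Subtype.ext (hfpf x x.2 h2)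
  have hinv : Function.Involutive φ := by
    intro x
    ext
    show s * (s * (x : G) * s⁻¹) * s⁻¹ = x
    have hs' : s⁻¹ * s⁻¹ = 1 := by rw [← mul_inv_rev, hs2, inv_one]
    calc s * (s * (x : G) * s⁻¹) * s⁻¹ = (s * s) * x * (s⁻¹ * s⁻¹) := by simp only [mul_assoc]
      _ = x := by rw [hs2, hs', one_mul, mul_one]
  have := congrFun (hφ.coe_eq_inv_of_involutive hinv) ⟨k, hk⟩
  exact congrArg Subtype.val this

/-- Frobenius complements of even order: if H complements a nontrivial normal subgroup K, each nonidentity element of H has trivial centraliser in K, and H has even order, then H contains a unique involution s, K is abelian, and s inverts every element of K. -/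
theorem result {G : Type*} [Group G] [Finite G] (K H : Subgroup G) [K.Normal]
    (hc : Subgroup.IsComplement' K H) (hK : K ≠ ⊥) (hfpf : ∀ h ∈ H, h ≠ 1 → K ⊓ Subgroup.centralizer {h} = ⊥)
    (heven : 2 ∣ Nat.card H) :
    (∃ s ∈ H, orderOf s = 2 ∧ (∀ t ∈ H, orderOf t = 2 → t = s) ∧ ∀ k ∈ K, s * k * s⁻¹ = k⁻¹) ∧ IsMulCommutative K := by
  have hnorm : ∀ g : G, g ∈ Subgroup.normalizer (K : Set G) := by
    intro g
    rw [Subgroup.mem_normalizer_iff]
    intro h
    exact ⟨fun hh => Subgroup.Normal.conj_mem inferInstance h hh g, fun hh => by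
      have := Subgroup.Normal.conj_mem (H := K) inferInstance _ hh g⁻¹
      simpa [mul_assoc] using this⟩
  have hfix : ∀ h ∈ H, h ≠ 1 → ∀ k ∈ K, h * k = k * h → k = 1 := by
    intro h hh h1 k hk hkh
    have : k ∈ K ⊓ Subgroup.centralizer {h} :=
      Subgroup.mem_inf.mpr ⟨hk, Subgroup.mem_centralizer_singleton_iff.mpr hkh.symm⟩
    rw [hfpf h hh h1] at this
    exact Subgroup.mem_bot.mp this
  have hinv : ∀ t ∈ H, orderOf t = 2 → ∀ k ∈ K, t * k * t⁻¹ = k⁻¹ := by
    intro t ht ht2 k hk
    have h1 : t ≠ 1 := by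
      rintro rfl
      simp at ht2
    refine inverts_of_fixedPointFree K (hnorm t) ?_ (hfix t ht h1) hk
    have := pow_orderOf_eq_one t
    rwa [ht2, sq] at this
  obtain ⟨s', hs'⟩ := exists_prime_orderOf_dvd_card' (G := H) 2 heven
  obtain ⟨s, hs⟩ := s'
  rw [Subgroup.orderOf_mk] at hs'
  refine ⟨⟨s, hs, hs', ?_, hinv s hs hs'⟩, ?_⟩
  · intro t ht ht2
    by_contra hne
    have hne1 : t * s ≠ 1 := by
      intro h
      apply hne
      have h3 : s * s = 1 := by
        have := pow_orderOf_eq_one s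
        rwa [hs', sq] at this
      exact mul_right_cancel (h.trans h3.symm)
    apply hK
    rw [eq_bot_iff]
    intro k hk
    rw [Subgroup.mem_bot]
    refine hfix (t * s) (H.mul_mem ht hs) hne1 k hk ?_
    have h4 := hinv s hs hs' k hk
    have h5 := hinv t ht ht2 k⁻¹ (K.inv_mem hk)
    rw [inv_inv, mul_inv_eq_iff_eq_mul] at h5
    rw [mul_inv_eq_iff_eq_mul] at h4
    calc t * s * k = t * (s * k) := by rw [mul_assoc]
      _ = t * k⁻¹ * s := by rw [h4, mul_assoc]
      _ = k * (t * s) := by rw [h5, mul_assoc]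
  · refine ⟨⟨fun a b => ?_⟩⟩
    have ha := hinv s hs hs' a a.2
    have hb := hinv s hs hs' b b.2
    have hab := hinv s hs hs' (a * b) (K.mul_mem a.2 b.2)
    have h6 : s * (a * b) * s⁻¹ = (s * a * s⁻¹) * (s * b * s⁻¹) := by group
    rw [hab, ha, hb, ← mul_inv_rev, inv_inj] at h6
    exact Subtype.ext h6

end Cfsg.Agent.S0068
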