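import Mathlib
import Cfsg.Statements.S0069
import Cfsg.Agent.S0040
import Cfsg.Agent.S0068
import Cfsg.Agent.Solvable.FpfComplement
import Cfsg.Agent.Solvable.FixedPointFree
import Cfsg.Agent.Solvable.ZGroupCenter

set_option autoImplicit false
open Cfsg

namespace Cfsg.Agent.S0069

/-- In a group acting fixed-point-freely, an element of prime order normalising the subgroup generated by an element
of another prime order commutes with it. -/
theorem commute_of_fpf {G : Type*} [Group G] [Finite G] (K H : Subgroup G) [K.Normal] (hK : K ≠ ⊥)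
    (hfix : ∀ h ∈ H, h ≠ 1 → ∀ k ∈ K, h * k = k * h → k = 1) {x y : H}
    (hx : (orderOf x).Prime) (hy : (orderOf y).Prime)
    (hxy : ∀ h : H, h * y * h⁻¹ ∈ Subgroup.zpowers y) : x * y = y * x := by
  have hyne : (y : G) ≠ 1 := by
    intro h
    have h1 : y = 1 := Subtype.ext h
    rw [h1, orderOf_one] at hy
    exact Nat.not_prime_one hy
  have hyG : ∀ h ∈ H, h * (y : G) * h⁻¹ ∈ Subgroup.zpowers (y : G) := by
    intro h hh
    obtain ⟨n, hn⟩ := Subgroup.mem_zpowers_iff.mp (hxy ⟨h, hh⟩)
    refine Subgroup.mem_zpowers_iff.mpr ⟨n, ?_⟩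
    have := congrArg Subtype.val hn
    simpa using this
  obtain ⟨V, hV1, hVK, hVc, hVH⟩ :=
    Cfsg.Agent.Solvable.FpfComplement.exists_abelian_invariant K H hK hyG (hfix y y.2 hyne)
  let _ : CommGroup V := { (inferInstance : Group V) with mul_comm := fun a b => hVc.is_comm.comm a b }
  have hHV : H ≤ Subgroup.normalizer (V : Set G) := by
    intro h hh
    rw [Subgroup.mem_normalizer_iff]
    intro v
    refine ⟨fun hv => hVH h hh v hv, fun hv => ?_⟩
    have := hVH h⁻¹ (H.inv_mem hh) _ hv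
    simpa [mul_assoc] using this
  let φ : H →* MulAut V := V.normalizerMonoidHom.comp (Subgroup.inclusion hHV)
  have hφ : ∀ (h : H) (v : V), ((φ h v : V) : G) = h * v * (h : G)⁻¹ := fun h v => rfl
  have hφfix : ∀ h : H, h ≠ 1 → ∀ v : V, φ h v = v → v = 1 := by
    intro h hh v hv
    have h1 : (h : G) * v * (h : G)⁻¹ = v := by rw [← hφ, hv]
    exact Subtype.ext (hfix h h.2 (fun h' => hh (Subtype.ext h')) v (hVK v.2) (mul_inv_eq_iff_eq_mul.mp h1))
  have hy1 : y ≠ 1 := fun h => hyne (by rw [h]; rfl)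
  have hx1 : x ≠ 1 := by
    intro h1
    rw [h1, orderOf_one] at hx
    exact Nat.not_prime_one hx
  by_contra hcon
  have hpow : ∀ v : V, v ^ Nat.card (Subgroup.zpowers y) = 1 := by
    refine Cfsg.Agent.Solvable.FpfComplement.pow_card_eq_one φ (Subgroup.zpowers y) (Subgroup.zpowers x)
      ?_ ?_ ?_ ?_
    · intro b _ n hn
      obtain ⟨i, rfl⟩ := Subgroup.mem_zpowers_iff.mp hn
      rw [← conj_zpow]
      exact Subgroup.zpow_mem _ (hxy b) i
    · intro b hb hb1 n hn hnb
      by_contra hn1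
      apply hcon
      -- `x` is a power of `b` and `y` is a power of `n`
      have gen : ∀ {c d : H}, (orderOf c).Prime → d ∈ Subgroup.zpowers c → d ≠ 1 →
          c ∈ Subgroup.zpowers d := by
        intro c d hc hd hd1
        have : Fact (orderOf c).Prime := ⟨hc⟩
        have : Fact (Nat.card (Subgroup.zpowers c)).Prime := ⟨by rwa [Nat.card_zpowers]⟩
        have h1 : Subgroup.zpowers (⟨d, hd⟩ : Subgroup.zpowers c) = ⊤ := by
          refine zpowers_eq_top_of_prime_card rfl ?_
          intro h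
          exact hd1 (congrArg Subtype.val h)
        have h2 : (⟨c, Subgroup.mem_zpowers c⟩ : Subgroup.zpowers c) ∈
            Subgroup.zpowers (⟨d, hd⟩ : Subgroup.zpowers c) := by rw [h1]; exact Subgroup.mem_top _
        obtain ⟨i, hi⟩ := Subgroup.mem_zpowers_iff.mp h2
        exact Subgroup.mem_zpowers_iff.mpr ⟨i, by simpa using congrArg Subtype.val hi⟩
      obtain ⟨i, hi⟩ := Subgroup.mem_zpowers_iff.mp (gen hx hb hb1)
      obtain ⟨j, hj⟩ := Subgroup.mem_zpowers_iff.mp (gen hy hn hn1)
      rw [← hi, ← hj]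
      exact (Commute.zpow_zpow (show Commute b n from hnb.symm) i j).eq
    · intro v hv
      exact hφfix y hy1 v (hv y (Subgroup.mem_zpowers y))
    · intro v hv
      exact hφfix x hx1 v (hv x (Subgroup.mem_zpowers x))
  rw [Nat.card_zpowers] at hpow
  have hndvd : ¬ orderOf y ∣ Nat.card V :=
    Cfsg.Agent.Solvable.FixedPointFree.not_dvd_card φ (hφfix y hy1) hy (pow_orderOf_eq_one y)
  apply hV1
  rw [eq_bot_iff]
  intro v hv
  rw [Subgroup.mem_bot]
  have h1 : orderOf (⟨v, hv⟩ : V) ∣ orderOf y := orderOf_dvd_of_pow_eq_one (hpow ⟨v, hv⟩)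
  have h2 : orderOf (⟨v, hv⟩ : V) ∣ Nat.card V := orderOf_dvd_natCard _
  have h3 : orderOf (⟨v, hv⟩ : V) = 1 := by
    rcases (Nat.dvd_prime hy).mp h1 with h | h
    · exact h
    · exact absurd (h ▸ h2) hndvd
  rw [orderOf_eq_one_iff] at h3
  exact congrArg Subtype.val h3

/-- A Frobenius complement has nontrivial centre: if H ≠ 1 complements a nontrivial normal subgroup K and every nonidentity element of H has trivial centraliser in K, then the centre of H is nontrivial. -/
theorem result {G : Type*} [Group G] [Finite G] (K H : Subgroup G) [K.Normal]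
    (hc : Subgroup.IsComplement' K H) (hK : K ≠ ⊥) (hH : H ≠ ⊥) (hfpf : ∀ h ∈ H, h ≠ 1 → K ⊓ Subgroup.centralizer {h} = ⊥) :
    Subgroup.center H ≠ ⊥ := by
  have hfix : ∀ h ∈ H, h ≠ 1 → ∀ k ∈ K, h * k = k * h → k = 1 := by
    intro h hh h1 k hk hkh
    have : k ∈ K ⊓ Subgroup.centralizer {h} :=
      Subgroup.mem_inf.mpr ⟨hk, Subgroup.mem_centralizer_singleton_iff.mpr hkh.symm⟩
    rw [hfpf h hh h1] at this
    exact Subgroup.mem_bot.mp this
  by_cases h2 : 2 ∣ Nat.card H
  · obtain ⟨⟨s, hs, hs2, huniq, -⟩, -⟩ := Cfsg.Agent.S0068.result K H hc hK hfpf h2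
    intro hbot
    have hmem : (⟨s, hs⟩ : H) ∈ Subgroup.center H := by
      rw [Subgroup.mem_center_iff]
      rintro ⟨g, hg⟩
      apply Subtype.ext
      have h3 := huniq (g * s * g⁻¹) (H.mul_mem (H.mul_mem hg hs) (H.inv_mem hg)) (by
        rw [← hs2]
        exact orderOf_injective (MulAut.conj g).toMonoidHom (MulAut.conj g).injective s)
      exact mul_inv_eq_iff_eq_mul.mp h3
    rw [hbot, Subgroup.mem_bot] at hmem
    have h4 : s = 1 := congrArg Subtype.val hmem
    rw [h4, orderOf_one] at hs2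
    exact absurd hs2 (by norm_num)
  · have hnt : Nontrivial H := (Subgroup.nontrivial_iff_ne_bot H).mpr hH
    have hZ : IsZGroup H := by
      refine ⟨fun p hp P => ?_⟩
      have : Fact p.Prime := ⟨hp⟩
      rcases Cfsg.Agent.S0040.result K H hc hK hfpf p P with h | ⟨n, ⟨e⟩⟩
      · exact h
      · exfalso
        apply h2
        have h5 : Nat.card P = 4 * 2 ^ n := by
          have : NeZero (2 ^ n) := ⟨by positivity⟩
          rw [Nat.card_congr e.toEquiv, Nat.card_eq_fintype_card, QuaternionGroup.card]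
        have h6 : Nat.card P ∣ Nat.card H := Subgroup.card_subgroup_dvd_card _
        exact (Dvd.intro (2 * 2 ^ n) (by rw [h5]; ring)).trans h6
    exact Cfsg.Agent.Solvable.ZGroupCenter.center_ne_bot fun x y hx hy _ hxy =>
      commute_of_fpf K H hK hfix hx hy hxy

end Cfsg.Agent.S0069
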