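import Cfsg.Statements.S0070
import Mathlib

set_option autoImplicit false
open Cfsg

namespace Cfsg.Agent.S0070

open Subgroup

/-- Gaschütz: if `N` is a normal subgroup of a finite group containing the Frattini subgroup, and the image
of `N` in the Frattini quotient is nilpotent, then `N` is nilpotent. -/
theorem isNilpotent_of_map_mk'_frattini {G : Type*} [Group G] [Finite G] (N : Subgroup G) [hN : N.Normal]
    (hΦ : frattini G ≤ N)
    (h : Group.IsNilpotent (N.map (QuotientGroup.mk' (frattini G)))) : Group.IsNilpotent N := by
  have q := (Group.isNilpotent_of_finite_tfae (G := N)).out 0 3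
  rw [q]
  intro p hp P
  set π := QuotientGroup.mk' (frattini G) with hπ
  have hπs : Function.Surjective π := QuotientGroup.mk'_surjective _
  have : (N.map π).Normal := hN.map π hπs
  have hφ : Function.Surjective (π.subgroupMap N) := π.subgroupMap_surjective N
  have q2 := (Group.isNilpotent_of_finite_tfae (G := N.map π)).out 0 3
  have hn : (P.mapSurjective hφ : Subgroup (N.map π)).Normal := q2.mp h p hp _
  have hc : (P.mapSurjective hφ : Subgroup (N.map π)).Characteristic :=
    Sylow.characteristic_of_normal _ hn
  have hn2 : ((P.mapSurjective hφ : Subgroup (N.map π)).map (N.map π).subtype).Normal :=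
    ConjAct.normal_of_characteristic_of_normal
  have he : (P.mapSurjective hφ : Subgroup (N.map π)).map (N.map π).subtype
      = ((P : Subgroup N).map N.subtype).map π := by
    rw [Sylow.coe_mapSurjective, Subgroup.map_map, Subgroup.map_map]
    rfl
  rw [he] at hn2
  set Q : Subgroup G := (P : Subgroup N).map N.subtype with hQ
  have hQN : Q ≤ N := Subgroup.map_subtype_le _
  have hM : ((Q.map π).comap π).Normal := hn2.comap π
  set M : Subgroup G := (Q.map π).comap π with hMdef
  have hMeq : M = Q ⊔ frattini G := by
    rw [hMdef, Subgroup.comap_map_eq, hπ, QuotientGroup.ker_mk']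
  have hQM : Q ≤ M := Subgroup.le_comap_map _ _
  have hMN : M ≤ N := by rw [hMeq]; exact sup_le hQN hΦ
  have hQp : IsPGroup p Q := P.2.map _
  have hQMp : IsPGroup p (Q.subgroupOf M) := hQp.comap_of_injective M.subtype M.subtype_injective
  have hrel : Q.relIndex N = (P : Subgroup N).index := by
    rw [hQ, Subgroup.relIndex, Subgroup.subgroupOf, Subgroup.comap_map_eq_self_of_injective N.subtype_injective]
  have hidx : ¬ p ∣ (Q.subgroupOf M).index := by
    intro hd
    have h1 : (Q.subgroupOf M).index = Q.relIndex M := rfl
    have h2 := Subgroup.relIndex_mul_relIndex Q M N hQM hMN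
    have := Fact.mk hp.out
    apply P.not_dvd_index
    rw [← hrel, ← h2]
    exact Dvd.dvd.mul_right hd _
  have hfr := Sylow.normalizer_sup_eq_top (hQMp.toSylow hidx)
  have hQe : ((hQMp.toSylow hidx : Sylow p M) : Subgroup M).map M.subtype = Q := by
    rw [IsPGroup.toSylow_coe, Subgroup.subgroupOf_map_subtype, inf_eq_left]
    exact hQM
  rw [hQe] at hfr
  have hle : M ≤ Subgroup.normalizer (Q : Set G) ⊔ frattini G := by
    rw [hMeq]
    exact sup_le_sup_right Subgroup.le_normalizer _
  have hfr2 : Subgroup.normalizer (Q : Set G) ⊔ frattini G = ⊤ := by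
    rw [eq_top_iff, ← hfr]
    exact sup_le le_sup_left hle
  have hnt := frattini_nongenerating hfr2
  have hQn : Q.Normal := Subgroup.normalizer_eq_top_iff.mp hnt
  exact hQn.of_map_subtype

/-- The Fitting subgroup commutes with passing to the Frattini quotient: the Fitting subgroup of G modulo its Frattini subgroup is the image of the Fitting subgroup of G. -/
theorem result {G : Type*} [Group G] [Finite G] :
    Cfsg.fittingSubgroup (G ⧸ frattini G) = (Cfsg.fittingSubgroup G).map (QuotientGroup.mk' (frattini G)) := by
  set π := QuotientGroup.mk' (frattini G) with hπ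
  have hπs : Function.Surjective π := QuotientGroup.mk'_surjective _
  apply le_antisymm
  · refine sSup_le (s := {N : Subgroup (G ⧸ frattini G) | N.Normal ∧ Group.IsNilpotent N}) ?_
    rintro K ⟨hKn, hKnil⟩
    have : (K.comap π).Normal := hKn.comap π
    have hKe : (K.comap π).map π = K := Subgroup.map_comap_eq_self_of_surjective hπs K
    have hle : frattini G ≤ K.comap π := by
      intro x hx
      rw [Subgroup.mem_comap]
      have : π x = 1 := (QuotientGroup.eq_one_iff x).mpr hx
      rw [this]
      exact K.one_mem
    have hnil : Group.IsNilpotent (K.comap π) := by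
      apply isNilpotent_of_map_mk'_frattini _ hle
      rw [← hπ, hKe]
      exact hKnil
    rw [← hKe]
    exact Subgroup.map_mono (le_sSup (s := {N : Subgroup G | N.Normal ∧ Group.IsNilpotent N}) ⟨this, hnil⟩)
  · rw [Subgroup.map_le_iff_le_comap]
    refine sSup_le (s := {N : Subgroup G | N.Normal ∧ Group.IsNilpotent N}) ?_
    rintro K ⟨hKn, hKnil⟩
    rw [← Subgroup.map_le_iff_le_comap]
    refine le_sSup (s := {N : Subgroup (G ⧸ frattini G) | N.Normal ∧ Group.IsNilpotent N}) ?_
    refine ⟨hKn.map π hπs, ?_⟩
    exact Group.nilpotent_of_surjective (π.subgroupMap K) (π.subgroupMap_surjective K)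

end Cfsg.Agent.S0070
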