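import Mathlib
import Cfsg.Statements.S0073

set_option autoImplicit false
open Cfsg

namespace Cfsg.Agent.S0073

/-- In a finite nonabelian simple group, a nontrivial Sylow subgroup is never central in its
normalizer (Burnside). -/
theorem not_normalizer_le_centralizer {G : Type*} [Group G] [Finite G] [IsSimpleGroup G]
    (hG : ∃ x y : G, x * y ≠ y * x) {p : ℕ} [Fact p.Prime] (hp : p ∣ Nat.card G)
    (P : Sylow p G) :
    ¬ Subgroup.normalizer (P : Set G) ≤ Subgroup.centralizer (P : Set G) := by
  intro h
  have hc := MonoidHom.ker_transferSylow_isComplement' P h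
  rcases (inferInstance : (MonoidHom.transferSylow P h).ker.Normal).eq_bot_or_eq_top with h1 | h1
  · rw [h1] at hc
    have hP : (P : Subgroup G) = ⊤ := Subgroup.isComplement'_bot_left.mp hc
    obtain ⟨x, y, hxy⟩ := hG
    apply hxy
    have hx : x ∈ (P : Subgroup G) := by rw [hP]; trivial
    have hy : y ∈ (P : Subgroup G) := by rw [hP]; trivial
    exact (Subgroup.mem_centralizer_iff.mp (h (Subgroup.le_normalizer hy))) x hx
  · rw [h1] at hc
    have hP : (P : Subgroup G) = ⊥ := Subgroup.isComplement'_top_left.mp hc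
    have := P.dvd_card_of_dvd_card hp
    rw [hP, Subgroup.card_bot] at this
    exact (Fact.out : p.Prime).one_lt.ne' (Nat.dvd_one.mp this)

/-- A nontrivial automorphism of prime order `q > p` of a group of order `p ^ 2` forces
`p = 2` and `q = 3`. -/
theorem eq_two_of_mulAut {P : Type*} [Group P] [Finite P] {p q : ℕ} [hp : Fact p.Prime]
    [hq : Fact q.Prime] (hP : Nat.card P = p ^ 2) (hpq : p < q) (φ : MulAut P)
    (hφ : orderOf φ = q) : p = 2 ∧ q = 3 := by
  have hPG : IsPGroup q (Subgroup.zpowers φ) := by
    apply IsPGroup.of_card (n := 1)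
    rw [Nat.card_zpowers, hφ, pow_one]
  let F : Subgroup P :=
    { carrier := {x | φ x = x}
      mul_mem' := fun {a b} ha hb => by
        simp only [Set.mem_ofPred_eq] at ha hb ⊢
        rw [map_mul, ha, hb]
      one_mem' := map_one φ
      inv_mem' := fun {a} ha => by
        simp only [Set.mem_ofPred_eq] at ha ⊢
        rw [map_inv, ha] }
  have hfix : MulAction.fixedPoints (Subgroup.zpowers φ) P = (F : Set P) := by
    ext x
    constructor
    · intro hx
      exact hx ⟨φ, Subgroup.mem_zpowers φ⟩
    · rintro (hx : φ x = x) ⟨ψ, hψ⟩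
      have hst : ψ ∈ MulAction.stabilizer (MulAut P) x := by
        have : Subgroup.zpowers φ ≤ MulAction.stabilizer (MulAut P) x := by
          rw [Subgroup.zpowers_le]
          exact hx
        exact this hψ
      exact hst
  have hmod := hPG.card_modEq_card_fixedPoints P
  rw [hfix, hP] at hmod
  have hFne : Nat.card F ≠ p ^ 2 := by
    intro h
    rw [← hP] at h
    have hF : F = ⊤ := Subgroup.eq_top_of_card_eq F h
    have hφ1 : φ = 1 := by
      ext x
      have : x ∈ F := by rw [hF]; trivial
      exact this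
    rw [hφ1, orderOf_one] at hφ
    exact hq.out.one_lt.ne hφ
  have hFdvd : Nat.card F ∣ p ^ 2 := hP ▸ Subgroup.card_subgroup_dvd_card F
  obtain ⟨k, hk, hk'⟩ := (Nat.dvd_prime_pow hp.out).mp hFdvd
  have hp1 := hp.out.one_lt
  have key : q ∣ p + 1 := by
    have hmod' : q ∣ p ^ 2 - p ^ k := by
      have h2 : p ^ k ≤ p ^ 2 := Nat.pow_le_pow_right hp.out.pos hk
      have h3 := hmod.symm
      change Nat.card F ≡ p ^ 2 [MOD q] at h3
      rw [hk'] at h3
      exact (Nat.modEq_iff_dvd' h2).mp h3
    have hqp : ¬ q ∣ p := fun h => absurd (Nat.le_of_dvd hp.out.pos h) (by omega)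
    have hqp1 : ¬ q ∣ p - 1 := fun h => absurd (Nat.le_of_dvd (by omega) h) (by omega)
    interval_cases k
    · have h4 : p ^ 2 - p ^ 0 = (p + 1) * (p - 1) := by
        rw [pow_zero]; exact (Nat.sq_sub_sq p 1)
      rw [h4] at hmod'
      exact (hq.out.dvd_mul.mp hmod').resolve_right hqp1
    · exfalso
      have h4 : p ^ 2 - p ^ 1 = p * (p - 1) := by
        rw [pow_one, pow_two, Nat.mul_sub_one]
      rw [h4] at hmod'
      rcases hq.out.dvd_mul.mp hmod' with h | h
      · exact hqp h
      · exact hqp1 h
    · exact absurd hk' hFne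
  have hqe : q = p + 1 := le_antisymm (Nat.le_of_dvd (by omega) key) hpq
  rcases hp.out.eq_two_or_odd' with h2 | h2
  · exact ⟨h2, by omega⟩
  · exfalso
    have hq2 : Even q := by rw [hqe]; exact h2.add_one
    have := (Nat.Prime.even_iff hq.out).mp hq2
    omega

/-- For a finite non-abelian simple group, either the cube of the least prime divisor of the order divides the order, or 12 does. -/
theorem result {G : Type*} [Group G] [Finite G] [IsSimpleGroup G] (hG : ∃ x y : G, x * y ≠ y * x) : (Nat.card G).minFac ^ 3 ∣ Nat.card G ∨ 12 ∣ Nat.card G := by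
  rw [or_iff_not_imp_left]
  intro h3
  have hcard : Nat.card G ≠ 1 := (Finite.one_lt_card).ne'
  obtain ⟨p, hp⟩ : ∃ p, (Nat.card G).minFac = p := ⟨_, rfl⟩
  have hpp : p.Prime := hp ▸ Nat.minFac_prime hcard
  have : Fact p.Prime := ⟨hpp⟩
  have hpdvd : p ∣ Nat.card G := hp ▸ Nat.minFac_dvd _
  rw [hp] at h3
  obtain ⟨P⟩ : Nonempty (Sylow p G) := inferInstance
  have hNC := not_normalizer_le_centralizer hG hpdvd P
  have hcyc : ¬ IsCyclic P := fun h => hNC (IsCyclic.normalizer_le_centralizer hp h)
  obtain ⟨k, hk⟩ := P.2.exists_card_eq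
  have hk2 : k = 2 := by
    have hk3 : k < 3 := by
      by_contra hcon
      apply h3
      exact ((pow_dvd_pow p (not_lt.mp hcon)).trans (hk ▸ dvd_rfl)).trans
        (Subgroup.card_subgroup_dvd_card (P : Subgroup G))
    interval_cases k
    · exfalso; apply hcyc
      rw [pow_zero] at hk
      have := (Nat.card_eq_one_iff_unique.mp hk).1
      infer_instance
    · exfalso; apply hcyc
      rw [pow_one] at hk
      exact isCyclic_of_prime_card hk
    · rfl
  subst hk2
  have hcomm : IsMulCommutative P := IsPGroup.isMulCommutative_of_card_eq_prime_sq hk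
  have hPC : (P : Subgroup G) ≤ Subgroup.centralizer (P : Set G) :=
    Subgroup.le_centralizer (P : Subgroup G)
  -- the image of the normalizer in the automorphism group
  let f := (P : Subgroup G).normalizerMonoidHom
  have hfne : f.range ≠ ⊥ := by
    intro h
    apply hNC
    have : f.ker = ⊤ := by
      rw [eq_top_iff]
      intro x _
      have hx : f x ∈ f.range := ⟨x, rfl⟩
      rw [h] at hx
      exact hx
    rw [Subgroup.normalizerMonoidHom_ker, Subgroup.subgroupOf_eq_top] at this
    exact this
  have hrange : Nat.card f.range ≠ 1 := fun h => hfne (Subgroup.card_eq_one.mp h)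
  obtain ⟨q, hq, hqd⟩ := Nat.exists_prime_and_dvd hrange
  have : Fact q.Prime := ⟨hq⟩
  have hcopr : Nat.Coprime (Nat.card f.range) p := by
    have h1 : Nat.card f.range ∣ (Subgroup.centralizer (P : Set G)).relIndex
        (Subgroup.normalizer (P : Set G)) := by
      rw [← Subgroup.index_ker, Subgroup.normalizerMonoidHom_ker]
      rfl
    have h2 : Nat.card f.range ∣ (P : Subgroup G).index :=
      h1.trans ((Subgroup.relIndex_dvd_of_le_left _ hPC).trans
        (Subgroup.relIndex_dvd_index_of_le Subgroup.le_normalizer))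
    exact Nat.Coprime.coprime_dvd_left h2
      ((Nat.Prime.coprime_iff_not_dvd hpp).mpr P.not_dvd_index).symm
  have hqG : q ∣ Nat.card G := by
    have h1 : Nat.card f.range ∣ Nat.card (Subgroup.normalizer (P : Set G)) :=
      Subgroup.card_range_dvd f
    exact (hqd.trans h1).trans (Subgroup.card_subgroup_dvd_card _)
  have hpq : p < q := by
    apply lt_of_le_of_ne
    · rw [← hp]; exact Nat.minFac_le_of_dvd hq.two_le hqG
    · rintro rfl
      have := Nat.Coprime.coprime_dvd_left hqd hcopr
      rw [Nat.coprime_self] at this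
      exact hq.one_lt.ne' this
  obtain ⟨⟨φ, hφr⟩, hφ⟩ := exists_prime_orderOf_dvd_card' q hqd
  have hφ' : orderOf φ = q := by
    rw [← hφ]; exact (Subgroup.orderOf_mk φ hφr).symm
  obtain ⟨h2, h3'⟩ := eq_two_of_mulAut hk hpq φ hφ'
  subst h2 h3'
  have h4 : 4 ∣ Nat.card G := by
    have := Subgroup.card_subgroup_dvd_card (P : Subgroup G)
    rw [hk] at this
    exact this
  have : 4 * 3 ∣ Nat.card G := Nat.Coprime.mul_dvd_of_dvd_of_dvd (by norm_num) h4 hqG
  exact this

end Cfsg.Agent.S0073
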