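import Cfsg.Statements.S0078
import Cfsg.Agent.Transfer.Tate
import Cfsg.Agent.Transfer.WeakClosure

set_option autoImplicit false
open Cfsg

namespace Cfsg.Agent.S0078

/-- In a p-normal group, a Sylow p-subgroup P meets O^p(G) exactly where it meets O^p(V), for any subgroup V containing the normalizer of the centre of P. -/
theorem result {G : Type*} [Group G] [Finite G] {p : ℕ} [Fact p.Prime] (P : Sylow p G) (hn : ∀ Q : Sylow p G, (P : Subgroup G) ⊓ Subgroup.centralizer (P : Set G) ≤ (Q : Subgroup G) → (Q : Subgroup G) ⊓ Subgroup.centralizer (Q : Set G) = (P : Subgroup G) ⊓ Subgroup.centralizer (P : Set G)) (V : Subgroup G) (hV : Subgroup.normalizer (((P : Subgroup G) ⊓ Subgroup.centralizer (P : Set G) : Subgroup G) : Set G) ≤ V) : (P : Subgroup G) ⊓ Cfsg.pResidual p G = (P : Subgroup G) ⊓ (Cfsg.pResidual p V).map V.subtype := by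
  set Z : Subgroup G := (P : Subgroup G) ⊓ Subgroup.centralizer (P : Set G) with hZdef
  have hZP : Z ≤ (P : Subgroup G) := inf_le_left
  have hZp : IsPGroup p Z := P.2.to_le hZP
  have hPN : (P : Subgroup G) ≤ Subgroup.normalizer (Z : Set G) := by
    rw [Subgroup.le_normalizer_iff]
    intro h hh k hk
    have h1 : k ∈ Subgroup.centralizer (P : Set G) := hk.2
    have h2 := Subgroup.mem_centralizer_iff.mp h1 h hh
    rw [h2, mul_assoc, mul_inv_cancel, mul_one]
    exact hk
  have hPV : (P : Subgroup G) ≤ V := hPN.trans hV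
  have hfus : ∀ x ∈ (P : Subgroup G), ∀ g : G, g * x * g⁻¹ ∈ (P : Subgroup G) →
      ∃ v ∈ V, v * x * v⁻¹ = g * x * g⁻¹ := by
    intro x hx g hg
    obtain ⟨v, hv, hvx⟩ := Cfsg.Agent.Transfer.WeakClosure.exists_mem_normalizer_conj Z hZp (by
        intro R w hZR hwR
        -- the conjugate Sylow subgroup `w⁻¹ R w` also contains `Z`
        have memR : ∀ r : G, r ∈ (w⁻¹ • R : Sylow p G) ↔ w * r * w⁻¹ ∈ (R : Subgroup G) := by
          intro r
          rw [← SetLike.mem_coe, ← Sylow.coe_coe, Sylow.coe_subgroup_smul]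
          rw [SetLike.mem_coe, Subgroup.mem_pointwise_smul_iff_inv_smul_mem]
          simp
        have hZR' : Z ≤ ((w⁻¹ • R : Sylow p G) : Subgroup G) := by
          intro z hz
          exact (memR z).mpr (hwR z hz)
        have e1 := hn R hZR
        have e2 := hn (w⁻¹ • R) hZR'
        apply Subgroup.mem_normalizer_fintype
        intro z hz
        have hz2 : z ∈ Subgroup.centralizer (((w⁻¹ • R : Sylow p G) : Subgroup G) : Set G) := by
          have : z ∈ Z := hz
          rw [← e2] at this
          exact this.2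
        have : w * z * w⁻¹ ∈ (R : Subgroup G) ⊓ Subgroup.centralizer (R : Set G) := by
          refine Subgroup.mem_inf.mpr ⟨hwR z hz, ?_⟩
          rw [Subgroup.mem_centralizer_iff]
          intro r hr
          have hr' : w⁻¹ * r * w ∈ ((w⁻¹ • R : Sylow p G) : Subgroup G) := by
            refine (memR _).mpr ?_
            have : w * (w⁻¹ * r * w) * w⁻¹ = r := by group
            rw [this]
            exact hr
          have h5 := Subgroup.mem_centralizer_iff.mp hz2 _ hr'
          calc r * (w * z * w⁻¹) = w * ((w⁻¹ * r * w) * z) * w⁻¹ := by group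
            _ = w * (z * (w⁻¹ * r * w)) * w⁻¹ := by rw [h5]
            _ = _ := by group
        rw [e1] at this
        exact this) x (g * x * g⁻¹) g rfl
      (fun z hz => (Subgroup.mem_centralizer_iff.mp hz.2 x hx).symm)
      (fun z hz => (Subgroup.mem_centralizer_iff.mp hz.2 _ hg).symm)
    exact ⟨v, hV hv, hvx⟩
  have hidx : ¬ p ∣ V.index := fun h => P.not_dvd_index (h.trans (Subgroup.index_dvd_of_le hPV))
  have hA : IsPGroup p (Multiplicative (ZMod p)) := by
    apply IsPGroup.of_card (n := 1)
    simp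
  have key := Cfsg.Agent.Transfer.Tate.tate_residual V hidx (fun f =>
    Cfsg.Agent.Transfer.Tate.hom_to_comm_pGroup_extends_of_fusion P V hPV hfus hA f)
  rw [← key, ← inf_assoc, inf_eq_left.mpr hPV]

end Cfsg.Agent.S0078
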