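import Cfsg.Statements.S0081
import Cfsg.Agent.Transfer.TateComplement

set_option autoImplicit false
open Cfsg

namespace Cfsg.Agent.S0081

/-- If a normal subgroup meets a Sylow p-subgroup P inside the Frattini subgroup of P, then it has a normal p-complement. -/
theorem result {G : Type*} [Group G] [Finite G] {p : ℕ} [Fact p.Prime] (P : Sylow p G) (N : Subgroup G) [N.Normal] (h : N ⊓ (P : Subgroup G) ≤ (frattini P).map (P : Subgroup G).subtype) : Cfsg.HasNormalPComplement p N := by
  have hpP : p.Prime := Fact.out
  obtain ⟨K, hKn, hKN, hKc⟩ :=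
    Cfsg.Agent.Transfer.TateComplement.exists_complement_of_inf_le_frattini P N h
  have hNle : N ≤ N ⊔ (P : Subgroup G) := le_sup_left
  -- the pullback of `K` to `N`
  let K' : Subgroup N := K.comap (Subgroup.inclusion hNle)
  have hK'n : K'.Normal := hKn.comap _
  have hcardK : ¬ p ∣ Nat.card K := by
    rw [← hKc.index_eq_card]
    exact (P.subtype le_sup_right).not_dvd_index
  have hindK : ∃ n, K.index = p ^ n := by
    rw [hKc.symm.index_eq_card]
    exact (IsPGroup.iff_card).1 (P.subtype le_sup_right).isPGroup'
  have hcardK' : Nat.card K' ∣ Nat.card K := by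
    have hinj : Function.Injective (fun x : K' => (⟨Subgroup.inclusion hNle x.1, x.2⟩ : K)) := by
      intro a b hab
      apply Subtype.ext
      apply Subgroup.inclusion_injective hNle
      exact congrArg Subtype.val hab
    let f : K' →* K :=
      { toFun := fun x => (⟨Subgroup.inclusion hNle x.1, x.2⟩ : K)
        map_one' := rfl
        map_mul' := fun _ _ => rfl }
    exact Subgroup.card_dvd_of_injective f hinj
  have hindK' : ∃ n, K'.index = p ^ n := by
    obtain ⟨n, hn⟩ := hindK
    have h1 : K'.index ∣ K.index := by
      show (K.comap (Subgroup.inclusion hNle)).index ∣ K.index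
      rw [Subgroup.index_comap]
      exact Subgroup.relIndex_dvd_index_of_normal K _
    rw [hn] at h1
    obtain ⟨m, -, hm⟩ := (Nat.dvd_prime_pow hpP).1 h1
    exact ⟨m, hm⟩
  obtain ⟨P'⟩ : Nonempty (Sylow p N) := inferInstance
  exact ⟨P', K', hK'n, Cfsg.Agent.Transfer.TateComplement.isComplement'_sylow_of_index K'
    (fun hd => hcardK (hd.trans hcardK')) hindK' P'⟩

end Cfsg.Agent.S0081
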