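import Cfsg.Statements.S0087
import Cfsg.Agent.Transfer.AbelianHall
-- import your own Cfsg.Agent.* helpers here

set_option autoImplicit false
open Cfsg

namespace Cfsg.Agent.S0087

open scoped IsMulCommutative in
/-- If `H` is an abelian Hall subgroup such that no two distinct elements of `H` are conjugate,
then the kernel of the transfer `G →* H` is a normal complement of `H`. -/
theorem exists_normal_complement_of_no_fusion {G : Type*} [Group G] [Finite G] (H : Subgroup G)
    [IsMulCommutative H] (hHall : Nat.Coprime (Nat.card H) H.index)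
    (key : ∀ x ∈ H, ∀ g : G, g⁻¹ * x * g ∈ H → g⁻¹ * x * g = x) :
    ∃ N : Subgroup G, N.Normal ∧ N.IsComplement' H := by
  let f : G →* H := MonoidHom.transfer (MonoidHom.id H)
  have hf : ∀ h : H, f h = h ^ H.index := by
    intro h
    have h1 := MonoidHom.transfer_eq_pow (MonoidHom.id H) (h : G)
      (fun k g₀ hk => key _ (H.pow_mem h.2 k) g₀ hk)
    exact h1
  refine ⟨f.ker, inferInstance, ?_⟩
  have hdisj : Disjoint f.ker H := by
    rw [Subgroup.disjoint_def]
    intro x hx hxH
    have h1 : (⟨x, hxH⟩ : H) ^ H.index = 1 := by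
      rw [← hf ⟨x, hxH⟩]; exact hx
    have h2 : (⟨x, hxH⟩ : H) ^ Nat.card H = 1 := pow_card_eq_one'
    have h3 : (⟨x, hxH⟩ : H) ^ (Nat.gcd (Nat.card H) H.index) = 1 :=
      pow_gcd_eq_one.mpr ⟨h2, h1⟩
    rw [Nat.Coprime] at hHall
    rw [hHall, pow_one] at h3
    exact congrArg Subtype.val h3
  apply Subgroup.isComplement'_of_card_mul_and_disjoint _ hdisj
  have hsurj : Function.Surjective f := by
    have hinj : Function.Injective (fun h : H => f h) := by
      have hinj' : Function.Injective (f.comp H.subtype) := by
        rw [injective_iff_map_eq_one]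
        intro h hh
        have : (h : G) = 1 := (Subgroup.disjoint_def.mp hdisj) hh h.2
        exact Subtype.ext this
      exact hinj'
    intro y
    obtain ⟨x, hx⟩ := (Finite.injective_iff_surjective.mp hinj) y
    exact ⟨x, hx⟩
  have h4 : f.ker.index = Nat.card H := by
    rw [Subgroup.index_ker, MonoidHom.range_eq_top.mpr hsurj, Subgroup.card_top]
  rw [← h4, Subgroup.card_mul_index]

/-- A Hall subgroup that is central in its normalizer has a normal complement. -/
theorem result {G : Type*} [Group G] [Finite G] (H : Subgroup G) (hHall : Nat.Coprime (Nat.card H) H.index) (h : Subgroup.normalizer (H : Set G) ≤ Subgroup.centralizer (H : Set G)) : ∃ N : Subgroup G, N.Normal ∧ N.IsComplement' H := by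
  have hcomm : IsMulCommutative H :=
    ⟨⟨fun a b => Subtype.ext (h (Subgroup.le_normalizer b.2) a a.2)⟩⟩
  apply exists_normal_complement_of_no_fusion H hHall
  intro x hx g hg
  obtain ⟨n, hn, hn'⟩ :=
    Cfsg.Agent.Transfer.AbelianHall.conj_eq_normalizer_conj_of_mem H hHall hx hg
  rw [hn', mul_assoc, h hn x hx, inv_mul_cancel_left]

end Cfsg.Agent.S0087
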