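import Cfsg.Statements.S0091
-- import your own Cfsg.Agent.* helpers here
import Mathlib

set_option autoImplicit false
open Cfsg

namespace Cfsg.Agent.S0091

open scoped commutatorElement in
/-- If conjugacy in `G` between elements of `P` is realised in `P`, the focal subgroup of `P` is `P'`. -/
theorem focal_le_of_no_fusion {G : Type*} [Group G] (P : Subgroup G)
    (h : ∀ x ∈ P, ∀ y ∈ P, (∃ g : G, g * x * g⁻¹ = y) → ∃ z ∈ P, z * x * z⁻¹ = y) :
    Subgroup.focalSubgroup P ≤ ⁅P, P⁆ := by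
  rw [Subgroup.focalSubgroup_def, Subgroup.closure_le]
  rintro g ⟨hg, x, hx, u, rfl⟩
  have hy : u * x * u⁻¹ ∈ P := by
    have h1 : (⁅x, u⁆)⁻¹ * x ∈ P := Subgroup.mul_mem _ (Subgroup.inv_mem _ hg) hx
    have h2 : (⁅x, u⁆)⁻¹ * x = u * x * u⁻¹ := by
      rw [commutatorElement_def]; group
    rwa [h2] at h1
  obtain ⟨z, hz, hzx⟩ := h x hx _ hy ⟨u, rfl⟩
  have h3 : ⁅x, u⁆ = ⁅x, z⁆ := by
    rw [commutatorElement_def, commutatorElement_def]
    have : x * u * x⁻¹ * u⁻¹ = x * (u * x * u⁻¹)⁻¹ := by group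
    rw [this, ← hzx]; group
  rw [SetLike.mem_coe, h3]
  exact Subgroup.commutator_mem_commutator hx hz

/-- If a nontrivial Sylow p-subgroup controls its own fusion then it is not contained in the derived subgroup. -/
theorem result {G : Type*} [Group G] [Finite G] {p : ℕ} [Fact p.Prime] (P : Sylow p G) (hp : p ∣ Nat.card G) (h : ∀ x ∈ P, ∀ y ∈ P, (∃ g : G, g * x * g⁻¹ = y) → ∃ z ∈ P, z * x * z⁻¹ = y) : ¬ (P : Subgroup G) ≤ commutator G := by
  intro hle
  have hfoc := Subgroup.commutator_inf_eq_focalSubgroup P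
  rw [inf_eq_right.mpr hle] at hfoc
  have hcomm : Subgroup.focalSubgroup (P : Subgroup G) ≤ ⁅(P : Subgroup G), (P : Subgroup G)⁆ :=
    focal_le_of_no_fusion _ h
  rw [← hfoc] at hcomm
  have heq : ⁅(P : Subgroup G), (P : Subgroup G)⁆ = (P : Subgroup G) :=
    le_antisymm (Subgroup.commutator_le_self _) hcomm
  have hnil : Group.IsNilpotent (P : Subgroup G) := P.2.isNilpotent
  have hne : (P : Subgroup G) ≠ ⊥ := P.ne_bot_of_dvd_card hp
  have hnt : Nontrivial (P : Subgroup G) := (Subgroup.nontrivial_iff_ne_bot _).mpr hne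
  have hlt := Group.IsSolvable.commutator_lt_top_of_nontrivial (P : Subgroup G)
  rw [lt_top_iff_ne_top] at hlt
  apply hlt
  apply Subgroup.map_injective (P : Subgroup G).subtype_injective
  rw [Subgroup.map_subtype_commutator, heq, ← MonoidHom.range_eq_map, Subgroup.range_subtype]

end Cfsg.Agent.S0091
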