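import Cfsg.Statements.S0098
-- import your own Cfsg.Agent.* helpers here
import Cfsg.Agent.Transfer.HyperbolicPair

set_option autoImplicit false
open Cfsg

namespace Cfsg.Agent.S0098

open Cfsg.Agent.Transfer.HyperbolicPair
open scoped commutatorElement

universe u v

/-- Two groups with a central commutator subgroup of prime order `p` generating the centre, of
exponent `p` and of the same order, are isomorphic. -/
theorem exists_iso {p : ℕ} (hp : p.Prime) : ∀ (n : ℕ) (G₁ : Type u) (G₂ : Type v) [Group G₁]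
    [Group G₂] [Finite G₁] [Finite G₂] (z₁ : G₁) (z₂ : G₂), Core p G₁ z₁ → Core p G₂ z₂ →
    (∀ x : G₁, x ^ p = 1) → (∀ x : G₂, x ^ p = 1) → Nat.card G₁ = n → Nat.card G₂ = n →
    ∃ Φ : G₁ ≃* G₂, Φ z₁ = z₂ := by
  intro n
  induction n using Nat.strong_induction_on with
  | _ n ih =>
    intro G₁ G₂ _ _ _ _ z₁ z₂ h₁ h₂ he₁ he₂ hn₁ hn₂
    have htop : ∀ {G : Type _} [Group G] [Finite G] (z : G), Core p G z →
        (Subgroup.center G = ⊤ ↔ Nat.card G = p) := by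
      intro G _ _ z h
      rw [← h.ord, ← Nat.card_zpowers, ← h.center_eq, ← Subgroup.card_eq_iff_eq_top, eq_comm]
    have htop' : ∀ {G : Type _} [Group G] [Finite G] (z : G), Core p G z →
        (Subgroup.center G = ⊤ ↔ Nat.card G = p) := by
      intro G _ _ z h
      rw [← h.ord, ← Nat.card_zpowers, ← h.center_eq, ← Subgroup.card_eq_iff_eq_top, eq_comm]
    by_cases hnp : n = p
    · have ht₁ : Subgroup.center G₁ = ⊤ := (htop z₁ h₁).mpr (hn₁.trans hnp)
      have ht₂ : Subgroup.center G₂ = ⊤ := (htop' z₂ h₂).mpr (hn₂.trans hnp)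
      have hg₁ : ∀ x : G₁, x ∈ Subgroup.zpowers z₁ := fun x => by
        rw [← h₁.center_eq, ht₁]; exact Subgroup.mem_top x
      have hg₂ : ∀ x : G₂, x ∈ Subgroup.zpowers z₂ := fun x => by
        rw [← h₂.center_eq, ht₂]; exact Subgroup.mem_top x
      refine ⟨mulEquivOfOrderOfEq hg₁ hg₂ (h₁.ord.trans h₂.ord.symm), ?_⟩
      exact mulEquivOfOrderOfEq_apply_gen hg₁ hg₂ (h₁.ord.trans h₂.ord.symm)
    · have hex₁ : ∃ x₁ y₁ : G₁, ⁅x₁, y₁⁆ = z₁ := by
        obtain ⟨x, hx⟩ : ∃ x, x ∉ Subgroup.center G₁ := by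
          by_contra hcon
          push Not at hcon
          exact hnp (hn₁.symm.trans ((htop z₁ h₁).mp ((Subgroup.eq_top_iff' _).mpr hcon)))
        exact ⟨x, h₁.exists_partner hp hx⟩
      have hex₂ : ∃ x₂ y₂ : G₂, ⁅x₂, y₂⁆ = z₂ := by
        obtain ⟨x, hx⟩ : ∃ x, x ∉ Subgroup.center G₂ := by
          by_contra hcon
          push Not at hcon
          exact hnp (hn₂.symm.trans ((htop' z₂ h₂).mp ((Subgroup.eq_top_iff' _).mpr hcon)))
        exact ⟨x, h₂.exists_partner hp hx⟩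
      obtain ⟨x₁, y₁, e₁⟩ := hex₁
      obtain ⟨x₂, y₂, e₂⟩ := hex₂
      have c₁ := h₁.card_eq e₁
      have c₂ := h₂.card_eq e₂
      have hp2 : 0 < p ^ 2 := pow_pos hp.pos 2
      have hcc : Nat.card (pairCentralizer x₂ y₂) = Nat.card (pairCentralizer x₁ y₁) := by
        apply Nat.eq_of_mul_eq_mul_left hp2
        rw [← c₁, ← c₂, hn₁, hn₂]
      have hlt : Nat.card (pairCentralizer x₁ y₁) < n := by
        rw [← hn₁, c₁]
        have hpos : 0 < Nat.card (pairCentralizer x₁ y₁) := Nat.card_pos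
        have : 1 < p ^ 2 := Nat.one_lt_pow (by norm_num) hp.one_lt
        exact lt_mul_of_one_lt_left hpos this
      obtain ⟨ψ, hψ⟩ := ih (Nat.card (pairCentralizer x₁ y₁)) hlt (pairCentralizer x₁ y₁)
        (pairCentralizer x₂ y₂) ⟨z₁, h₁.z_mem_pair x₁ y₁⟩ ⟨z₂, h₂.z_mem_pair x₂ y₂⟩
        (h₁.centralizer_pair e₁) (h₂.centralizer_pair e₂)
        (fun x => Subtype.ext (he₁ x)) (fun x => Subtype.ext (he₂ x)) rfl hcc
      obtain ⟨Φ, hΦ, -⟩ := glue h₁ h₂ e₁ e₂ (a := 0) (b := 0) (by rw [he₁, zpow_zero])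
        (by rw [he₁, zpow_zero]) (by rw [he₂, zpow_zero]) (by rw [he₂, zpow_zero]) ψ hψ
      exact ⟨Φ, hΦ⟩

/-- For odd p, extraspecial p-groups of exponent p are determined up to isomorphism by their order. -/
theorem result {E₁ : Type*} {E₂ : Type*} [Group E₁] [Group E₂] [Finite E₁] [Finite E₂] {p : ℕ} [Fact p.Prime] (hp : p ≠ 2) (h₁ : Cfsg.IsExtraspecial p E₁) (h₂ : Cfsg.IsExtraspecial p E₂) (he₁ : Monoid.exponent E₁ = p) (he₂ : Monoid.exponent E₂ = p) (hc : Nat.card E₁ = Nat.card E₂) : Nonempty (E₁ ≃* E₂) := by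
  have hpp : p.Prime := Fact.out
  obtain ⟨z₁, hz₁⟩ := Core.of_isExtraspecial hpp h₁
  obtain ⟨z₂, hz₂⟩ := Core.of_isExtraspecial hpp h₂
  obtain ⟨Φ, -⟩ := exists_iso hpp (Nat.card E₁) E₁ E₂ z₁ z₂ hz₁ hz₂
    (fun x => by rw [← he₁]; exact Monoid.pow_exponent_eq_one x)
    (fun x => by rw [← he₂]; exact Monoid.pow_exponent_eq_one x) rfl hc.symm
  exact ⟨Φ⟩

end Cfsg.Agent.S0098
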