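import Cfsg.Statements.S0107
import Mathlib.GroupTheory.SpecificGroups.Cyclic
import Cfsg.Agent.Transfer.ThompsonTransfer

set_option autoImplicit false
open Cfsg

namespace Cfsg.Agent.S0107

open Cfsg.Agent.Transfer.ThompsonTransfer

/-- A cyclic subgroup has at most one involution. -/
theorem eq_of_mem_zpowers {G : Type*} [Group G] [Finite G] {q x y : G}
    (hx : orderOf x = 2) (hy : orderOf y = 2) (hxq : x ∈ Subgroup.zpowers q)
    (hyq : y ∈ Subgroup.zpowers q) : x = y := by
  classical
  by_contra hxy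
  have : Fintype (Subgroup.zpowers q) := Fintype.ofFinite _
  have h := IsCyclic.card_pow_eq_one_le (α := Subgroup.zpowers q) (n := 2) (by norm_num)
  have hsub : ({1, ⟨x, hxq⟩, ⟨y, hyq⟩} : Finset (Subgroup.zpowers q)) ⊆
      (Finset.univ.filter fun a : Subgroup.zpowers q => a ^ 2 = 1) := by
    intro a ha
    rw [Finset.mem_filter]
    refine ⟨Finset.mem_univ _, ?_⟩
    simp only [Finset.mem_insert, Finset.mem_singleton] at ha
    rcases ha with rfl | rfl | rfl
    · exact one_pow 2
    · apply Subtype.ext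
      rw [Subgroup.coe_pow, Subgroup.coe_one]
      show x ^ 2 = 1
      rw [← hx]
      exact pow_orderOf_eq_one x
    · apply Subtype.ext
      rw [Subgroup.coe_pow, Subgroup.coe_one]
      show y ^ 2 = 1
      rw [← hy]
      exact pow_orderOf_eq_one y
  have hcard : ({1, ⟨x, hxq⟩, ⟨y, hyq⟩} : Finset (Subgroup.zpowers q)).card = 3 := by
    rw [Finset.card_eq_three]
    refine ⟨1, ⟨x, hxq⟩, ⟨y, hyq⟩, ?_, ?_, ?_, rfl⟩
    · intro h1
      have h2 : (1 : G) = x := congrArg Subtype.val h1
      rw [← h2, orderOf_one] at hx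
      exact absurd hx (by norm_num)
    · intro h1
      have h2 : (1 : G) = y := congrArg Subtype.val h1
      rw [← h2, orderOf_one] at hy
      exact absurd hy (by norm_num)
    · intro h1
      exact hxy (congrArg Subtype.val h1)
  have h3 := Finset.card_le_card hsub
  rw [hcard] at h3
  omega

/-- Every involution is conjugate to an element of a given subgroup of index two of `T`. -/
theorem exists_conj_mem {G : Type*} [Group G] [Finite G] (T : Sylow 2 G)
    (hO : Cfsg.pResidual 2 G = ⊤) (Q : Subgroup G) (hQP : Q ≤ (T : Subgroup G))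
    (hQi : Q.relIndex (T : Subgroup G) = 2) (x : G) (hx : orderOf x = 2) :
    ∃ g : G, g * x * g⁻¹ ∈ Q := by
  exact exists_conj_mem_of_pResidual_eq_top hO T Q hQP hQi x (by rw [← hx]; exact pow_orderOf_eq_one x)

/-- A finite group with no nontrivial 2-group quotient and dihedral Sylow 2-subgroups of order at least 8 has a single class of involutions. -/
theorem result {G : Type*} [Group G] [Finite G] (T : Sylow 2 G) (n : ℕ) (hn : 2 ≤ n) (hT : Nonempty ((T : Subgroup G) ≃* DihedralGroup (2 ^ n))) (hO : Cfsg.pResidual 2 G = ⊤) (x y : G) (hx : orderOf x = 2) (hy : orderOf y = 2) : ∃ g : G, g * x * g⁻¹ = y := by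
  obtain ⟨e⟩ := hT
  have : NeZero (2 ^ n) := ⟨by positivity⟩
  set q : G := ((e.symm (DihedralGroup.r 1) : (T : Subgroup G)) : G) with hq
  have hoq : orderOf q = 2 ^ n := by
    rw [hq, Subgroup.orderOf_coe, MulEquiv.orderOf_eq, DihedralGroup.orderOf_r_one]
  have hQP : Subgroup.zpowers q ≤ (T : Subgroup G) := by
    rw [Subgroup.zpowers_le]
    exact (e.symm (DihedralGroup.r 1)).2
  have hcT : Nat.card (T : Subgroup G) = 2 * 2 ^ n := by
    rw [Nat.card_congr e.toEquiv, DihedralGroup.nat_card]
  have hQi : (Subgroup.zpowers q).relIndex (T : Subgroup G) = 2 := by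
    have h1 := ((Subgroup.zpowers q).subgroupOf (T : Subgroup G)).index_mul_card
    rw [Nat.card_congr (Subgroup.subgroupOfEquivOfLe hQP).toEquiv, Nat.card_zpowers, hoq, hcT] at h1
    exact Nat.eq_of_mul_eq_mul_right (by positivity) h1
  obtain ⟨g, hg⟩ := exists_conj_mem T hO _ hQP hQi x hx
  obtain ⟨k, hk⟩ := exists_conj_mem T hO _ hQP hQi y hy
  have hgx : orderOf (g * x * g⁻¹) = 2 := by
    have := MulEquiv.orderOf_eq (MulAut.conj g) x
    rw [MulAut.conj_apply] at this
    rw [this, hx]
  have hky : orderOf (k * y * k⁻¹) = 2 := by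
    have := MulEquiv.orderOf_eq (MulAut.conj k) y
    rw [MulAut.conj_apply] at this
    rw [this, hy]
  have heq := eq_of_mem_zpowers hgx hky hg hk
  refine ⟨k⁻¹ * g, ?_⟩
  have : k⁻¹ * g * x * (k⁻¹ * g)⁻¹ = k⁻¹ * (g * x * g⁻¹) * k := by group
  rw [this, heq]
  group

end Cfsg.Agent.S0107
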