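import Cfsg.Statements.S0119
import Cfsg.Agent.Transfer.CharAbelianCentral
-- import your own Cfsg.Agent.* helpers here

set_option autoImplicit false
open Cfsg

namespace Cfsg.Agent.S0119

/-- A characteristic abelian subgroup fixed by `A` is central when `G = [G, A]`. -/
theorem cac {G : Type*} [Group G] (A : Subgroup (MulAut G)) (hGA : Subgroup.closure {x : G | ∃ g : G, ∃ a ∈ A, x = g⁻¹ * a g} = ⊤) (hchar : ∀ H : Subgroup G, H.Characteristic → IsMulCommutative H → ∀ a ∈ A, ∀ h ∈ H, a h = h) :
    Cfsg.Agent.Transfer.CharAbelianCentral.CAC G := by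
  intro H hH hab h hh
  have hHab : IsMulCommutative H := ⟨⟨fun x y => Subtype.ext (hab x x.2 y y.2)⟩⟩
  have hfix := hchar H hH hHab
  have hN : H.Normal := inferInstance
  have hle : Subgroup.closure {x : G | ∃ g : G, ∃ a ∈ A, x = g⁻¹ * a g} ≤ Subgroup.centralizer {h} := by
    rw [Subgroup.closure_le]
    rintro _ ⟨g, a, ha, rfl⟩
    rw [SetLike.mem_coe, Subgroup.mem_centralizer_iff]
    rintro k hk
    obtain rfl : k = h := hk
    have h1 := hfix a ha _ (hN.conj_mem k hh g)
    rw [map_mul, map_mul, map_inv, hfix a ha k hh] at h1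
    -- a g * k * (a g)⁻¹ = g * k * g⁻¹
    have h2 : a g * k = g * k * g⁻¹ * a g := by rw [← h1]; group
    calc k * (g⁻¹ * a g) = g⁻¹ * (g * k * g⁻¹ * a g) := by group
      _ = g⁻¹ * (a g * k) := by rw [h2]
      _ = g⁻¹ * a g * k := by group
  rw [hGA] at hle
  rw [Subgroup.mem_center_iff]
  intro g
  have := Subgroup.mem_centralizer_iff.mp (hle (Subgroup.mem_top g)) h rfl
  exact this.symm

/-- The fixed points of `A` lie in the derived subgroup when `G = [G, A]` and the action is coprime. -/
theorem fixed_mem_commutator {G : Type*} [Group G] [Finite G] {p : ℕ} [Fact p.Prime] (hG : IsPGroup p G) (A : Subgroup (MulAut G)) (hA : Nat.Coprime (Nat.card A) p) (hGA : Subgroup.closure {x : G | ∃ g : G, ∃ a ∈ A, x = g⁻¹ * a g} = ⊤)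
    (g : G) (hg : ∀ a ∈ A, a g = g) : g ∈ commutator G := by
  classical
  have : Fintype A := Fintype.ofFinite A
  -- the norm map
  let N : G →* Abelianization G :=
    { toFun := fun x => ∏ a : A, Abelianization.of ((a : MulAut G) x)
      map_one' := by simp
      map_mul' := fun x y => by simp [Finset.prod_mul_distrib] }
  have hN : ∀ x : G, N x = ∏ a : A, Abelianization.of ((a : MulAut G) x) := fun x => rfl
  have hNinv : ∀ b ∈ A, ∀ x : G, N (b x) = N x := by
    intro b hb x
    rw [hN, hN]
    refine Fintype.prod_equiv (Equiv.mulRight (⟨b, hb⟩ : A)) _ _ ?_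
    intro a
    rfl
  have hker : N.ker = ⊤ := by
    rw [eq_top_iff, ← hGA, Subgroup.closure_le]
    rintro _ ⟨x, a, ha, rfl⟩
    rw [SetLike.mem_coe, MonoidHom.mem_ker, map_mul, map_inv, hNinv a ha, inv_mul_cancel]
  have h1 : N g = 1 := by
    rw [← MonoidHom.mem_ker, hker]; exact Subgroup.mem_top g
  have h2 : (Abelianization.of g) ^ Nat.card A = 1 := by
    rw [← h1, hN]
    have : ∀ a : A, Abelianization.of ((a : MulAut G) g) = Abelianization.of g := fun a => by
      rw [hg a a.2]
    rw [Finset.prod_congr rfl (fun a _ => this a), Finset.prod_const, Finset.card_univ,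
      Nat.card_eq_fintype_card]
  obtain ⟨k, hk⟩ := hG g
  have h3 : (Abelianization.of g) ^ (p ^ k) = 1 := by
    rw [← map_pow, hk, map_one]
  have h4 : Abelianization.of g = 1 := by
    rw [← orderOf_eq_one_iff]
    have h5 := orderOf_dvd_of_pow_eq_one h2
    have h6 := orderOf_dvd_of_pow_eq_one h3
    have hc : Nat.Coprime (Nat.card A) (p ^ k) := Nat.Coprime.pow_right k hA
    have : orderOf (Abelianization.of g) ∣ 1 := by
      rw [← hc]; exact Nat.dvd_gcd h5 h6
    exact Nat.dvd_one.mp this
  rw [← MonoidHom.mem_ker, Abelianization.ker_of] at h4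
  exact h4

open scoped commutatorElement in
/-- If a p'-group A of automorphisms of a p-group G satisfies G = [G, A] and acts trivially on every characteristic abelian subgroup, then G is special with centre equal to the fixed points of A. -/
theorem result {G : Type*} [Group G] [Finite G] {p : ℕ} [Fact p.Prime] (hG : IsPGroup p G) (A : Subgroup (MulAut G)) (hA : Nat.Coprime (Nat.card A) p) (hGA : Subgroup.closure {x : G | ∃ g : G, ∃ a ∈ A, x = g⁻¹ * a g} = ⊤) (hchar : ∀ H : Subgroup G, H.Characteristic → IsMulCommutative H → ∀ a ∈ A, ∀ h ∈ H, a h = h) : Cfsg.IsSpecial p G ∧ (∀ g : G, (g ∈ Subgroup.center G ↔ ∀ a ∈ A, a g = g)) := by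
  have hcac := cac A hGA hchar
  have := hG.isNilpotent
  have h1 : commutator G ≤ Subgroup.center G :=
    Cfsg.Agent.Transfer.CharAbelianCentral.commutator_le_center hcac
  have h2 : ∀ g : G, (∀ a ∈ A, a g = g) → g ∈ commutator G :=
    fixed_mem_commutator hG A hA hGA
  have h3 : ∀ g ∈ Subgroup.center G, ∀ a ∈ A, a g = g := by
    intro g hg a ha
    refine hchar (Subgroup.center G) inferInstance ⟨⟨fun x y => Subtype.ext ?_⟩⟩ a ha g hg
    exact (Subgroup.mem_center_iff.mp y.2 x)
  have h4 : commutator G = Subgroup.center G :=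
    le_antisymm h1 (fun g hg => h2 g (h3 g hg))
  have hc : ∀ x y : G, ⁅x, y⁆ ∈ Subgroup.center G := fun x y =>
    h1 (Subgroup.commutator_mem_commutator (Subgroup.mem_top x) (Subgroup.mem_top y))
  refine ⟨⟨hG, ?_, h4⟩, fun g => ⟨h3 g, fun hg => h1 (h2 g hg)⟩⟩
  apply le_antisymm
  · apply Cfsg.Agent.Lib.FrattiniPGroup.frattini_le (p := p) (Subgroup.center G) hc
    intro x
    rw [Subgroup.mem_center_iff]
    intro y
    have h5 := Cfsg.Agent.Transfer.CharAbelianCentral.comm_pow_eq_one hG hcac x y
    rw [← Cfsg.Agent.Transfer.CharAbelianCentral.comm_pow_left hc,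
      commutatorElement_eq_one_iff_mul_comm] at h5
    exact h5.symm
  · rw [← h4]
    exact Cfsg.Agent.Lib.FrattiniPGroup.commutator_le_frattini hG

end Cfsg.Agent.S0119
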