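import Cfsg.Statements.S0132
import Mathlib
import Cfsg.Agent.S0071

set_option autoImplicit false
open Cfsg
open scoped commutatorElement

namespace Cfsg.Agent.S0132

/-- In a finite nilpotent group, an element of order prime to `p` centralizes a normal `p`-subgroup. -/
theorem mem_centralizer_of_isNilpotent {G : Type*} [Group G] [Finite G] [Group.IsNilpotent G] {p : ℕ}
    [Fact p.Prime] (Q : Subgroup G) (hQ : IsPGroup p Q) [Q.Normal] (g : G)
    (hg : Nat.Coprime (orderOf g) p) : g ∈ Subgroup.centralizer (Q : Set G) := by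
  classical
  -- the image of `g` in the quotient by the centralizer of `Q`
  have hsyl : ∀ r : ℕ, r.Prime → r ≠ p → ∀ R : Sylow r G, (R : Subgroup G) ≤
      Subgroup.centralizer (Q : Set G) := by
    intro r hr hrp R
    have : Fact r.Prime := ⟨hr⟩
    have hRn : (R : Subgroup G).Normal := by
      infer_instance
    have hdisj : Disjoint (R : Subgroup G) Q := IsPGroup.disjoint_of_ne r p hrp _ _ R.isPGroup' hQ
    intro x hx
    rw [Subgroup.mem_centralizer_iff]
    intro y hy
    exact (Subgroup.commute_of_normal_of_disjoint _ _ hRn inferInstance hdisj x y hx hy).symm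
  have hindex : ∀ r : ℕ, r.Prime → r ≠ p → ¬ r ∣ (Subgroup.centralizer (Q : Set G)).index := by
    intro r hr hrp hdvd
    have : Fact r.Prime := ⟨hr⟩
    obtain ⟨R⟩ : Nonempty (Sylow r G) := inferInstance
    have h1 : (Subgroup.centralizer (Q : Set G)).index ∣ (R : Subgroup G).index :=
      Subgroup.index_dvd_of_le (hsyl r hr hrp R)
    exact R.not_dvd_index (hdvd.trans h1)
  have hCn : (Subgroup.centralizer (Q : Set G)).Normal := Subgroup.normal_centralizer
  rw [← QuotientGroup.eq_one_iff]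
  have h1 : orderOf (g : G ⧸ Subgroup.centralizer (Q : Set G)) ∣ orderOf g :=
    orderOf_map_dvd (QuotientGroup.mk' _) g
  have h2 : orderOf (g : G ⧸ Subgroup.centralizer (Q : Set G)) ∣
      (Subgroup.centralizer (Q : Set G)).index := by
    rw [Subgroup.index_eq_card]; exact orderOf_dvd_natCard _
  rw [← orderOf_eq_one_iff]
  by_contra hne
  obtain ⟨r, hr, hrd⟩ := Nat.exists_prime_and_dvd hne
  by_cases hrp : r = p
  · subst hrp
    have := hrd.trans h1
    have h3 : r ∣ Nat.gcd (orderOf g) r := Nat.dvd_gcd this dvd_rfl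
    rw [hg] at h3
    exact hr.one_lt.ne' (Nat.dvd_one.mp h3)
  · exact hindex r hr hrp (hrd.trans h2)

/-- A minimal non-p-nilpotent finite group is a minimal non-nilpotent group with a normal Sylow p-subgroup. -/
theorem result {G : Type*} [Group G] [Finite G] {p : ℕ} [Fact p.Prime] (h1 : ¬ Cfsg.HasNormalPComplement p G) (h2 : ∀ H : Subgroup G, H ≠ ⊤ → Cfsg.HasNormalPComplement p H) : (∀ H : Subgroup G, H ≠ ⊤ → Group.IsNilpotent H) ∧ ¬ Group.IsNilpotent G ∧ ∀ P : Sylow p G, (P : Subgroup G).Normal := by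
  classical
  obtain ⟨P⟩ : Nonempty (Sylow p G) := inferInstance
  -- Frobenius: a `p`-subgroup `Q` and a `p'`-element `g` normalizing but not centralizing it
  have hfrob : ∃ Q : Subgroup G, Q ≤ (P : Subgroup G) ∧ ∃ g ∈ Subgroup.normalizer (Q : Set G),
      Nat.Coprime (orderOf g) p ∧ g ∉ Subgroup.centralizer (Q : Set G) := by
    by_contra hcon
    push Not at hcon
    apply h1
    obtain ⟨N, hN, hNP⟩ := (Cfsg.Agent.S0071.result P).mpr hcon
    exact ⟨P, N, hN, hNP⟩
  obtain ⟨Q, hQP, g, hgN, hgp, hgC⟩ := hfrob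
  have hQ : IsPGroup p Q := P.isPGroup'.to_le hQP
  -- the subgroup `H = Q ⟨g⟩`
  set H : Subgroup G := Q ⊔ Subgroup.zpowers g with hH
  have hQH : Q ≤ H := le_sup_left
  have hgH : g ∈ H := Subgroup.mem_sup_right (Subgroup.mem_zpowers g)
  have hHN : H ≤ Subgroup.normalizer (Q : Set G) := by
    rw [hH, sup_le_iff]
    refine ⟨Subgroup.le_normalizer, ?_⟩
    rw [Subgroup.zpowers_le]; exact hgN
  have hHtop : H = ⊤ := by
    by_contra hne
    obtain ⟨P', K, hK, hKP⟩ := h2 H hne
    have hKindex : K.index = Nat.card P' := hKP.symm.index_eq_card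
    have hP'index : (P' : Subgroup H).index = Nat.card K := hKP.index_eq_card
    have hKcop : Nat.Coprime (Nat.card K) p := by
      rw [← hP'index]
      exact (Nat.Prime.coprime_iff_not_dvd Fact.out).mpr P'.not_dvd_index |>.symm
    -- the image of `g` is in `K`
    have hgK : (⟨g, hgH⟩ : H) ∈ K := by
      rw [← QuotientGroup.eq_one_iff, ← orderOf_eq_one_iff]
      have e1 : orderOf ((⟨g, hgH⟩ : H) : H ⧸ K) ∣ orderOf g := by
        have := orderOf_map_dvd (QuotientGroup.mk' K) (⟨g, hgH⟩ : H)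
        rwa [Subgroup.orderOf_mk] at this
      have e2 : orderOf ((⟨g, hgH⟩ : H) : H ⧸ K) ∣ Nat.card P' := by
        rw [← hKindex, Subgroup.index_eq_card]; exact orderOf_dvd_natCard _
      obtain ⟨n, hn⟩ := IsPGroup.iff_card.mp P'.isPGroup'
      rw [hn] at e2
      have e3 : Nat.Coprime (orderOf g) (p ^ n) := Nat.Coprime.pow_right n hgp
      exact Nat.eq_one_of_dvd_coprimes e3 e1 e2
    have hQn : (Q.subgroupOf H).Normal := Subgroup.normal_subgroupOf_of_le_normalizer hHN
    have hQp : IsPGroup p (Q.subgroupOf H) := hQ.comap_of_injective H.subtype H.subtype_injective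
    have hdisj : Disjoint K (Q.subgroupOf H) := by
      rw [Subgroup.disjoint_def]
      intro x hxK hxQ
      have e1 : orderOf x ∣ Nat.card K := by
        have := orderOf_dvd_natCard (⟨x, hxK⟩ : K)
        rwa [Subgroup.orderOf_mk] at this
      obtain ⟨n, hn⟩ := IsPGroup.iff_card.mp hQp
      have e2 : orderOf x ∣ p ^ n := by
        have := orderOf_dvd_natCard (⟨x, hxQ⟩ : Q.subgroupOf H)
        rwa [Subgroup.orderOf_mk, hn] at this
      rw [← orderOf_eq_one_iff]
      exact Nat.eq_one_of_dvd_coprimes (Nat.Coprime.pow_right n hKcop) e1 e2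
    apply hgC
    rw [Subgroup.mem_centralizer_iff]
    intro y hy
    have hyH : y ∈ H := hQH hy
    have hyQ : (⟨y, hyH⟩ : H) ∈ Q.subgroupOf H := hy
    have := Subgroup.commute_of_normal_of_disjoint _ _ hK hQn hdisj ⟨g, hgH⟩ ⟨y, hyH⟩ hgK hyQ
    exact (congrArg Subtype.val this.eq).symm
  have hQn : Q.Normal := by
    rw [← Subgroup.normalizer_eq_top_iff, eq_top_iff, ← hHtop]
    exact hHN
  -- `G ⧸ Q` is cyclic, generated by the image of `g`
  have hgen : ∀ x : G, ∃ k : ℤ, (x : G ⧸ Q) = (g : G ⧸ Q) ^ k := by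
    intro x
    have hx : x ∈ Subgroup.zpowers g ⊔ Q := by rw [sup_comm, ← hH, hHtop]; trivial
    obtain ⟨y, hy, q, hq, rfl⟩ := Subgroup.mem_sup_of_normal_right.mp hx
    obtain ⟨k, rfl⟩ := Subgroup.mem_zpowers_iff.mp hy
    refine ⟨k, ?_⟩
    rw [QuotientGroup.mk_mul, (QuotientGroup.eq_one_iff q).mpr hq, mul_one, QuotientGroup.mk_zpow]
  have hcyc : IsCyclic (G ⧸ Q) := by
    refine ⟨⟨(g : G ⧸ Q), ?_⟩⟩
    intro x
    obtain ⟨x, rfl⟩ := QuotientGroup.mk_surjective x
    obtain ⟨k, hk⟩ := hgen x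
    exact Subgroup.mem_zpowers_iff.mpr ⟨k, hk.symm⟩
  have hnilQ : Group.IsNilpotent (G ⧸ Q) := by
    let _ : CommGroup (G ⧸ Q) := IsCyclic.commGroup
    infer_instance
  have hcard : Nat.card (G ⧸ Q) = orderOf (g : G ⧸ Q) := by
    refine (orderOf_eq_card_of_forall_mem_zpowers ?_).symm
    intro x
    obtain ⟨x, rfl⟩ := QuotientGroup.mk_surjective x
    obtain ⟨k, hk⟩ := hgen x
    exact Subgroup.mem_zpowers_iff.mpr ⟨k, hk.symm⟩
  have hindex : Nat.Coprime Q.index p := by
    rw [Subgroup.index_eq_card, hcard]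
    exact Nat.Coprime.of_dvd_left (orderOf_map_dvd (QuotientGroup.mk' Q) g) hgp
  refine ⟨?_, ?_, ?_⟩
  · -- proper subgroups are nilpotent
    intro M hM
    obtain ⟨P', K, hK, hKP⟩ := h2 M hM
    have hKindex : K.index = Nat.card P' := hKP.symm.index_eq_card
    have hP'index : (P' : Subgroup M).index = Nat.card K := hKP.index_eq_card
    have hKcop : Nat.Coprime (Nat.card K) p := by
      rw [← hP'index]
      exact (Nat.Prime.coprime_iff_not_dvd Fact.out).mpr P'.not_dvd_index |>.symm
    have hMK : IsPGroup p (M ⧸ K) := by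
      obtain ⟨n, hn⟩ := IsPGroup.iff_card.mp P'.isPGroup'
      apply IsPGroup.of_card (n := n)
      rw [← Subgroup.index_eq_card, hKindex, hn]
    have : Group.IsNilpotent (M ⧸ K) := hMK.isNilpotent
    let f : M →* (M ⧸ K) × (G ⧸ Q) :=
      (QuotientGroup.mk' K).prod ((QuotientGroup.mk' Q).comp M.subtype)
    have hf : Function.Injective f := by
      rw [injective_iff_map_eq_one]
      intro x hx
      have hx1 : x ∈ K := by
        rw [← QuotientGroup.eq_one_iff]; exact congrArg Prod.fst hx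
      have hx2 : (x : G) ∈ Q := by
        rw [← QuotientGroup.eq_one_iff]; exact congrArg Prod.snd hx
      have e1 : orderOf x ∣ Nat.card K := by
        have := orderOf_dvd_natCard (⟨x, hx1⟩ : K)
        rwa [Subgroup.orderOf_mk] at this
      obtain ⟨n, hn⟩ := IsPGroup.iff_card.mp hQ
      have e2 : orderOf x ∣ p ^ n := by
        have := orderOf_dvd_natCard (⟨(x : G), hx2⟩ : Q)
        rwa [Subgroup.orderOf_mk, hn, Subgroup.orderOf_coe] at this
      rw [← orderOf_eq_one_iff]
      exact Nat.eq_one_of_dvd_coprimes (Nat.Coprime.pow_right n hKcop) e1 e2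
    exact Group.nilpotent_of_mulEquiv (MonoidHom.ofInjective hf).symm
  · intro hnil
    exact hgC (mem_centralizer_of_isNilpotent Q hQ g hgp)
  · intro R
    have hQR : (R : Subgroup G) = Q := by
      have hle : Q ≤ (R : Subgroup G) := by
        exact hQ.le_sylow_of_normal R
      have h3 : Q.relIndex (R : Subgroup G) = 1 := by
        obtain ⟨n, hn⟩ := IsPGroup.iff_card.mp R.isPGroup'
        have e1 : Q.relIndex (R : Subgroup G) ∣ p ^ n := by
          rw [← hn]; exact Subgroup.relIndex_dvd_card _ _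
        have e2 : Q.relIndex (R : Subgroup G) ∣ Q.index := Subgroup.relIndex_dvd_index_of_le hle
        exact Nat.eq_one_of_dvd_coprimes (Nat.Coprime.pow_right n hindex) e2 e1
      exact le_antisymm (Subgroup.relIndex_eq_one.mp h3) hle
    rw [hQR]; exact hQn

end Cfsg.Agent.S0132
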