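import Cfsg.Statements.S0137
import Cfsg.Agent.Characters.AverageRoots

set_option autoImplicit false
open Cfsg

namespace Cfsg.Agent.S0137

/-- A character value of a finite group has absolute value at most the degree of the representation. -/
theorem result {G : Type*} [Group G] [Finite G] {V : Type*} [AddCommGroup V] [Module ℂ V] [FiniteDimensional ℂ V] (ρ : Representation ℂ G V) (g : G) : ‖ρ.character g‖ ≤ (Module.finrank ℂ V : ℝ) := by
  obtain ⟨s, hcard, hsum, hz, -⟩ :=
    Cfsg.Agent.Characters.AverageRoots.exists_multiset_roots ρ g (orderOf g) (pow_orderOf_eq_one g)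
  rw [← hsum, ← hcard]
  refine (norm_multiset_sum_le _).trans ?_
  have h1 : s.map (fun z => ‖z‖) = s.map (fun _ => (1 : ℝ)) := by
    refine Multiset.map_congr rfl fun z hzs => ?_
    exact Complex.norm_eq_one_of_pow_eq_one (hz z hzs) (orderOf_pos g).ne'
  rw [h1]
  simp

end Cfsg.Agent.S0137
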