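import Mathlib
import Cfsg.Statements.S0160
import Cfsg.Agent.S0133
import Cfsg.Agent.S0145

set_option autoImplicit false
open Cfsg

namespace Cfsg.Agent.S0160

open scoped ComplexConjugate

/-- There are finitely many irreducible characters. -/
theorem finite_irrCharacter (G : Type*) [Group G] [Finite G] : Finite (Cfsg.IrrCharacter G) := by
  have : Finite (ConjClasses G) := Quotient.finite _
  have : Nonempty (ConjClasses G) := ⟨1⟩
  apply Nat.finite_of_card_ne_zero
  rw [Cfsg.Agent.S0133.result]
  exact Nat.card_pos.ne'

open scoped ComplexOrder in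
/-- The character of a complex representation on a coordinate space at the inverse element is
the complex conjugate. -/
theorem character_inv {G : Type*} [Group G] [Finite G] {n : ℕ}
    (ρ : Representation ℂ G (Fin n → ℂ)) (g : G) : ρ.character g⁻¹ = conj (ρ.character g) := by
  classical
  cases nonempty_fintype G
  let M : G → Matrix (Fin n) (Fin n) ℂ := fun g => LinearMap.toMatrix' (ρ g)
  have hM1 : M 1 = 1 := by simp [M]
  have hMmul : ∀ a b, M (a * b) = M a * M b := by
    intro a b
    simp [M, LinearMap.toMatrix'_mul]
  have htr : ∀ a, ρ.character a = (M a).trace := by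
    intro a
    rw [Representation.character, LinearMap.trace_eq_matrix_trace ℂ (Pi.basisFun ℂ (Fin n))]
    rfl
  let H : Matrix (Fin n) (Fin n) ℂ := ∑ a : G, (M a).conjTranspose * M a
  have hHinv : ∀ b, (M b).conjTranspose * H * M b = H := by
    intro b
    simp only [H, Finset.mul_sum, Finset.sum_mul]
    have : ∀ a, (M b).conjTranspose * ((M a).conjTranspose * M a) * M b
        = (M (a * b)).conjTranspose * M (a * b) := by
      intro a
      rw [hMmul, Matrix.conjTranspose_mul]
      simp only [Matrix.mul_assoc]
    simp only [this]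
    exact Equiv.sum_comp (Equiv.mulRight b) (fun a => (M a).conjTranspose * M a)
  have hHpos : H.PosDef := by
    have h1 : H = (M 1).conjTranspose * M 1 + ∑ a ∈ Finset.univ.erase (1 : G), (M a).conjTranspose * M a :=
      (Finset.add_sum_erase Finset.univ (fun a => (M a).conjTranspose * M a) (Finset.mem_univ 1)).symm
    rw [h1, hM1]
    apply Matrix.PosDef.add_posSemidef
    · simpa using Matrix.PosDef.one
    · apply Matrix.posSemidef_sum
      intro a _
      exact Matrix.posSemidef_conjTranspose_mul_self _
  have hHu : IsUnit H := hHpos.isUnit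
  have hHdet : IsUnit H.det := (Matrix.isUnit_iff_isUnit_det H).1 hHu
  have hinv : M g * M g⁻¹ = 1 := by rw [← hMmul, mul_inv_cancel, hM1]
  have key : (M g).conjTranspose * H = H * M g⁻¹ := by
    calc (M g).conjTranspose * H = (M g).conjTranspose * H * (M g * M g⁻¹) := by
          rw [hinv, Matrix.mul_one]
      _ = ((M g).conjTranspose * H * M g) * M g⁻¹ := by simp only [Matrix.mul_assoc]
      _ = H * M g⁻¹ := by rw [hHinv]
  have key2 : (M g).conjTranspose = H * M g⁻¹ * H⁻¹ := by
    rw [← key, Matrix.mul_nonsing_inv_cancel_right _ _ hHdet]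
  have : ((M g).conjTranspose).trace = (M g⁻¹).trace := by
    rw [key2, Matrix.trace_mul_comm, ← Matrix.mul_assoc, Matrix.nonsing_inv_mul _ hHdet, Matrix.one_mul]
  rw [htr, htr, ← this, Matrix.trace_conjTranspose]
  rfl

/-- The bilinear square norm of an irreducible character is 1 or 0 according to reality. -/
theorem sum_mul_self {G : Type*} [Group G] [Fintype G] (χ : Cfsg.IrrCharacter G)
    [Decidable (∀ g : G, ((χ : G → ℂ) g).im = 0)] :
    (Nat.card G : ℂ)⁻¹ * ∑ g : G, (χ : G → ℂ) g * (χ : G → ℂ) g
      = if (∀ g : G, ((χ : G → ℂ) g).im = 0) then 1 else 0 := by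
  obtain ⟨χ, n, ρ, hρ, rfl⟩ := χ
  simp only
  have : Invertible (Nat.card G : ℂ) := invertibleOfNonzero (by exact_mod_cast Nat.card_pos.ne')
  split_ifs with hreal
  · have h1 : ∀ g, ρ.character g * ρ.character g = ρ.character g * ρ.character g⁻¹ := by
      intro g
      rw [character_inv, Complex.conj_eq_iff_im.2 (hreal g)]
    simp_rw [h1]
    rw [Representation.card_inv_mul_sum_char_mul_char_eq_finrank]
    simp
  · have h1 : ∀ g, ρ.character g * ρ.character g = ρ.character g * ρ.dual.character g⁻¹ := by
      intro g
      rw [Representation.char_dual, inv_inv]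
    simp_rw [h1]
    rw [Representation.card_inv_mul_sum_char_mul_char_eq_finrank]
    have : Subsingleton (Representation.IntertwiningMap ρ.dual ρ) := by
      refine ⟨fun f f' => ?_⟩
      have h0 : ∀ f : Representation.IntertwiningMap ρ.dual ρ, f = 0 := by
        intro f
        rcases Representation.IsIrreducible.surjective_or_eq_zero (ρ := ρ) f with h | h
        · exfalso
          apply hreal
          have hinj : Function.Injective f := by
            have hs : Function.Surjective f.toLinearMap := h
            have := (LinearMap.injective_iff_surjective_of_finrank_eq_finrank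
              (f := f.toLinearMap) (by simp)).2 hs
            exact this
          have e := f.ofBijective ⟨hinj, h⟩
          intro g
          rw [← Complex.conj_eq_iff_im, ← character_inv, ← Representation.char_dual,
            Representation.char_iso e]
        · exact h
      rw [h0 f, h0 f']
    rw [Module.finrank_zero_of_subsingleton, Nat.cast_zero]

/-- Orbit-stabiliser for conjugation. -/
theorem card_centralizer_mul_card_class {G : Type*} [Group G] [Fintype G] [DecidableEq (ConjClasses G)]
    (g : G) : Nat.card (Subgroup.centralizer ({g} : Set G)) *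
      (Finset.univ.filter (fun x : G => ConjClasses.mk x = ConjClasses.mk g)).card = Nat.card G := by
  classical
  rw [Subgroup.nat_card_centralizer_nat_card_stabilizer]
  have h := MulAction.card_orbit_mul_card_stabilizer_eq_card_group (ConjAct G) g
  rw [ConjAct.card] at h
  rw [Nat.card_eq_fintype_card, Nat.card_eq_fintype_card, ← h, mul_comm]
  congr 1
  rw [← Fintype.card_subtype]
  apply Fintype.card_congr
  apply Equiv.subtypeEquivRight
  intro x
  rw [ConjAct.orbit_eq_carrier_conjClasses, ConjClasses.mem_carrier_iff_mk_eq]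

/-- A finite group has as many real-valued irreducible complex characters as conjugacy classes closed under taking inverses. -/
theorem result {G : Type*} [Group G] [Finite G] : Nat.card {χ : Cfsg.IrrCharacter G // ∀ g : G, ((χ : G → ℂ) g).im = 0} = Nat.card {C : ConjClasses G // ∀ g : G, ConjClasses.mk g = C → IsConj g g⁻¹} := by
  classical
  cases nonempty_fintype G
  have : Finite (Cfsg.IrrCharacter G) := finite_irrCharacter G
  cases nonempty_fintype (Cfsg.IrrCharacter G)
  have : Finite (ConjClasses G) := Quotient.finite _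
  cases nonempty_fintype (ConjClasses G)
  have hG : (Nat.card G : ℂ) ≠ 0 := by exact_mod_cast Nat.card_pos.ne'
  have hcol : ∀ g : G, ∑ χ : Cfsg.IrrCharacter G, (χ : G → ℂ) g * (χ : G → ℂ) g
      = if IsConj g g⁻¹ then (Nat.card (Subgroup.centralizer ({g} : Set G)) : ℂ) else 0 := by
    intro g
    have h1 : ∀ χ : Cfsg.IrrCharacter G, (χ : G → ℂ) g * (χ : G → ℂ) g
        = (χ : G → ℂ) g * conj ((χ : G → ℂ) g⁻¹) := by
      rintro ⟨χ, n, ρ, hρ, rfl⟩
      simp only
      rw [character_inv, Complex.conj_conj]
    simp_rw [h1]
    have h2 := Cfsg.Agent.S0145.result g g⁻¹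
    rw [finsum_eq_sum_of_fintype] at h2
    split_ifs with h
    · exact h2.1 h
    · exact h2.2 h
  have hinvar : ∀ g h : G, IsConj g h → IsConj g g⁻¹ → IsConj h h⁻¹ := by
    intro g h hgh hg
    have h3 : IsConj g⁻¹ h⁻¹ := by
      obtain ⟨c, hc⟩ := isConj_iff.1 hgh
      exact isConj_iff.2 ⟨c, by rw [← hc]; group⟩
    exact hgh.symm.trans (hg.trans h3)
  have hreal : (Nat.card {χ : Cfsg.IrrCharacter G // ∀ g : G, ((χ : G → ℂ) g).im = 0} : ℂ)
      = (Nat.card {C : ConjClasses G // ∀ g : G, ConjClasses.mk g = C → IsConj g g⁻¹} : ℂ) := by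
    calc (Nat.card {χ : Cfsg.IrrCharacter G // ∀ g : G, ((χ : G → ℂ) g).im = 0} : ℂ)
        = ∑ χ : Cfsg.IrrCharacter G, if (∀ g : G, ((χ : G → ℂ) g).im = 0) then (1 : ℂ) else 0 := by
          rw [← Finset.sum_filter, Finset.sum_const, Nat.card_eq_fintype_card, Fintype.card_subtype,
            nsmul_eq_mul, mul_one]
      _ = ∑ χ : Cfsg.IrrCharacter G, (Nat.card G : ℂ)⁻¹ * ∑ g : G, (χ : G → ℂ) g * (χ : G → ℂ) g := by
          refine Finset.sum_congr rfl fun χ _ => ?_
          rw [sum_mul_self]
      _ = (Nat.card G : ℂ)⁻¹ * ∑ g : G, ∑ χ : Cfsg.IrrCharacter G, (χ : G → ℂ) g * (χ : G → ℂ) g := by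
          rw [← Finset.mul_sum, Finset.sum_comm]
      _ = (Nat.card G : ℂ)⁻¹ * ∑ g : G, if IsConj g g⁻¹ then (Nat.card (Subgroup.centralizer ({g} : Set G)) : ℂ) else 0 := by
          simp_rw [hcol]
      _ = (Nat.card G : ℂ)⁻¹ * ∑ C : ConjClasses G, ∑ g : G with ConjClasses.mk g = C,
            if IsConj g g⁻¹ then (Nat.card (Subgroup.centralizer ({g} : Set G)) : ℂ) else 0 := by
          rw [← Finset.sum_fiberwise Finset.univ ConjClasses.mk]
      _ = (Nat.card G : ℂ)⁻¹ * ∑ C : ConjClasses G,
            if (∀ g : G, ConjClasses.mk g = C → IsConj g g⁻¹) then (Nat.card G : ℂ) else 0 := by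
          congr 1
          refine Finset.sum_congr rfl fun C _ => ?_
          obtain ⟨c, rfl⟩ := ConjClasses.exists_rep C
          have h4 : ∀ g ∈ Finset.univ.filter (fun g : G => ConjClasses.mk g = ConjClasses.mk c),
              (if IsConj g g⁻¹ then (Nat.card (Subgroup.centralizer ({g} : Set G)) : ℂ) else 0)
              = if IsConj c c⁻¹ then (Nat.card (Subgroup.centralizer ({c} : Set G)) : ℂ) else 0 := by
            intro g hg
            rw [Finset.mem_filter] at hg
            have hgc : IsConj g c := ConjClasses.mk_eq_mk_iff_isConj.1 hg.2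
            have h5 : (IsConj g g⁻¹) ↔ (IsConj c c⁻¹) := ⟨hinvar _ _ hgc, hinvar _ _ hgc.symm⟩
            have h6 : Nat.card (Subgroup.centralizer ({g} : Set G)) = Nat.card (Subgroup.centralizer ({c} : Set G)) := by
              have h7 := card_centralizer_mul_card_class g
              have h8 := card_centralizer_mul_card_class c
              rw [hg.2] at h7
              rw [← h8] at h7
              refine Nat.eq_of_mul_eq_mul_right ?_ h7
              apply Finset.card_pos.2
              exact ⟨c, by simp⟩
            simp only [h5, h6]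
          rw [Finset.sum_congr rfl h4, Finset.sum_const]
          have h9 : (∀ g : G, ConjClasses.mk g = ConjClasses.mk c → IsConj g g⁻¹) ↔ IsConj c c⁻¹ :=
            ⟨fun h => h c rfl, fun h g hg => hinvar _ _ (ConjClasses.mk_eq_mk_iff_isConj.1 hg).symm h⟩
          simp only [h9]
          split_ifs
          · rw [nsmul_eq_mul, ← Nat.cast_mul, mul_comm, card_centralizer_mul_card_class]
          · simp
      _ = (Nat.card {C : ConjClasses G // ∀ g : G, ConjClasses.mk g = C → IsConj g g⁻¹} : ℂ) := by
          rw [← Finset.sum_filter, Finset.sum_const, Nat.card_eq_fintype_card (α := {C : ConjClasses G // ∀ g : G, ConjClasses.mk g = C → IsConj g g⁻¹}), Fintype.card_subtype,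
            nsmul_eq_mul]
          field_simp
  exact_mod_cast hreal

end Cfsg.Agent.S0160
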