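import Cfsg.Statements.S0162
-- import your own Cfsg.Agent.* helpers here
import Mathlib.Data.ZMod.Basic
import Cfsg.Agent.Characters.Core
import Cfsg.Agent.S0134
import Cfsg.Agent.S0135
import Cfsg.Agent.S0161

set_option autoImplicit false
open Cfsg

namespace Cfsg.Agent.S0162

/-- Pure counting: if a finite type carries an involution preserving `f` whose only fixed points
have `f = 0`, then `∑ f` is even. -/
theorem even_sum_of_involution {ι : Type*} [Fintype ι] (σ : ι → ι) (hσ : ∀ i, σ (σ i) = i)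
    (f : ι → ℕ) (hf : ∀ i, f (σ i) = f i) (h0 : ∀ i, σ i = i → f i = 0) :
    2 ∣ ∑ i, f i := by
  have key : ∑ i, ((f i : ℕ) : ZMod 2) = 0 := by
    refine Finset.sum_involution (fun i _ => σ i) ?_ ?_ ?_ ?_
    · intro i _
      have h2 : (2 : ZMod 2) = 0 := by decide
      rw [hf i, ← two_mul, h2, zero_mul]
    · intro i _ hi h
      exact hi (by rw [h0 i h, Nat.cast_zero])
    · intro i _
      exact Finset.mem_univ _
    · intro i _
      exact hσ i
  rw [← Nat.cast_sum] at key
  exact (ZMod.natCast_eq_zero_iff _ _).1 key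

/-- If a finite group has odd order, its order is congruent to its number of conjugacy classes modulo 16. -/
theorem result {G : Type*} [Group G] [Finite G] (hodd : Odd (Nat.card G)) : Nat.card G ≡ Nat.card (ConjClasses G) [MOD 16] := by
  classical
  have : Fintype G := Fintype.ofFinite G
  have : Finite (IrrCharacter G) := Characters.Core.finite_irr
  have : Fintype (IrrCharacter G) := Fintype.ofFinite _
  -- degrees
  have hdeg : ∀ χ : IrrCharacter G, ∃ d : ℕ, (χ : G → ℂ) 1 = d ∧ Odd d := by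
    rintro ⟨χ, n, ρ, hirr, rfl⟩
    have : ρ.IsIrreducible := hirr
    refine ⟨Module.finrank ℂ (Fin n → ℂ), ρ.char_one, ?_⟩
    exact Odd.of_dvd_nat hodd (S0135.result ρ)
  choose d hd hdodd using hdeg
  have hquad : ∀ χ : IrrCharacter G, ∃ f : ℕ, d χ ^ 2 = 1 + 8 * f := by
    intro χ
    obtain ⟨k, hk⟩ := hdodd χ
    obtain ⟨m, hm⟩ := Nat.even_mul_succ_self k
    refine ⟨m, ?_⟩
    rw [hk]
    nlinarith [hm, Nat.succ_eq_add_one k]
  choose f hf using hquad
  -- conjugation
  let σ : IrrCharacter G → IrrCharacter G := fun χ =>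
    ⟨fun g => (starRingEnd ℂ) ((χ : G → ℂ) g), Characters.Core.isIrr_conj χ.2⟩
  have hσσ : ∀ χ, σ (σ χ) = χ := by
    intro χ
    apply Subtype.ext
    funext g
    exact Complex.conj_conj _
  have hdσ : ∀ χ, d (σ χ) = d χ := by
    intro χ
    have h1 : ((d (σ χ) : ℕ) : ℂ) = (d χ : ℂ) := by
      rw [← hd (σ χ)]
      change (starRingEnd ℂ) ((χ : G → ℂ) 1) = _
      rw [hd χ, Complex.conj_natCast]
    exact_mod_cast h1
  have hfσ : ∀ χ, f (σ χ) = f χ := by
    intro χ
    have h1 := hf (σ χ)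
    rw [hdσ χ, hf χ] at h1
    omega
  have hf0 : ∀ χ, σ χ = χ → f χ = 0 := by
    intro χ hχ
    have hreal : ∀ g : G, ((χ : G → ℂ) g).im = 0 := by
      intro g
      have h1 : (starRingEnd ℂ) ((χ : G → ℂ) g) = (χ : G → ℂ) g :=
        congrFun (congrArg Subtype.val hχ) g
      exact Complex.conj_eq_iff_im.1 h1
    have h1 := S0161.result hodd χ hreal
    have h2 : (χ : G → ℂ) 1 = 1 := by rw [h1]
    have h3 : d χ = 1 := by
      have := (hd χ).symm.trans h2
      exact_mod_cast this
    have h4 := hf χ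
    rw [h3] at h4
    omega
  obtain ⟨m, hm⟩ := even_sum_of_involution σ hσσ f hfσ hf0
  have hsum : Nat.card G = ∑ χ : IrrCharacter G, d χ ^ 2 := by
    have h1 := S0134.result (G := G)
    rw [finsum_eq_sum_of_fintype] at h1
    have h2 : ((∑ χ : IrrCharacter G, d χ ^ 2 : ℕ) : ℂ) = (Nat.card G : ℂ) := by
      rw [← h1, Nat.cast_sum]
      refine Finset.sum_congr rfl fun χ _ => ?_
      rw [hd χ, Nat.cast_pow]
    exact_mod_cast h2.symm
  have hk : Nat.card (IrrCharacter G) = Nat.card (ConjClasses G) := Characters.Core.card_irr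
  have hfin : Nat.card G = Nat.card (ConjClasses G) + 16 * m := by
    rw [hsum, ← hk, Nat.card_eq_fintype_card]
    have h1 : ∑ χ : IrrCharacter G, d χ ^ 2 = ∑ χ : IrrCharacter G, (1 + 8 * f χ) :=
      Finset.sum_congr rfl fun χ _ => hf χ
    rw [h1, Finset.sum_add_distrib, ← Finset.mul_sum, hm, Finset.sum_const, smul_eq_mul, mul_one,
      Finset.card_univ]
    ring
  rw [hfin]
  exact (Nat.modEq_iff_dvd' (Nat.le_add_right _ _)).2 ⟨m, by omega⟩ |>.symm

end Cfsg.Agent.S0162
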