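import Cfsg.Statements.S0176
-- import your own Cfsg.Agent.* helpers here
import Cfsg.Agent.Characters.MonomialNil

set_option autoImplicit false
open Cfsg

namespace Cfsg.Agent.S0176

/-- A finite nilpotent group is an M-group: each irreducible complex character is induced from a homomorphism of some subgroup into ℂˣ. -/
theorem result {G : Type*} [Group G] [Fintype G] [Group.IsNilpotent G] (χ : G → ℂ) (hχ : Cfsg.IsIrrCharacter G χ) : ∃ (H : Subgroup G) (lam : H →* ℂˣ), χ = Cfsg.indFun H (fun h => (lam h : ℂ)) := by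
  obtain ⟨n, ρ, hρ, rfl⟩ := hχ
  have hnt : Nontrivial (Fin n → ℂ) := by
    by_contra h
    rw [not_nontrivial_iff_subsingleton] at h
    have h1 : (⊥ : Subrepresentation ρ) ≠ ⊤ := hρ.bot_ne_top
    apply h1
    refine SetLike.ext fun x => ?_
    rw [Subsingleton.elim x 0]
    exact ⟨fun _ => (⊤ : Subrepresentation ρ).toSubmodule.zero_mem,
      fun _ => (⊥ : Subrepresentation ρ).toSubmodule.zero_mem⟩
  obtain ⟨H, v, hv, hH, hidx⟩ := Characters.MonomialNil.exists_eigenvector_of_nilpotent ρ
  obtain ⟨lam, hlam⟩ := Characters.MonomialVec.exists_hom_of_eigenvector ρ H hv hH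
  exact ⟨H, lam, Characters.MonomialVec.character_eq_indFun ρ hρ H lam hv hlam hidx⟩

end Cfsg.Agent.S0176
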