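import Cfsg.Statements.S0163
-- import your own Cfsg.Agent.* helpers here
import Cfsg.Agent.Characters.Core
import Cfsg.Agent.Characters.Elementary
import Cfsg.Agent.Characters.Brauer
import Cfsg.Agent.CharactersDeep.NormalInd
import Cfsg.Agent.S0147
import Cfsg.Agent.S0176

set_option autoImplicit false
open Cfsg

namespace Cfsg.Agent.S0163

open Cfsg.Agent.CharactersDeep.NormalInd

universe u

/-- `f` is an integer combination of functions induced from linear characters of elementary
subgroups. -/
def Good {G : Type u} [Group G] [Fintype G] (f : G → ℂ) : Prop :=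
  ∃ l : List ((E : Subgroup G) × ((E →* ℂˣ) × ℤ)),
    (∀ t ∈ l, ∃ p : ℕ, p.Prime ∧ Cfsg.IsElementary p t.1) ∧
      f = (l.map fun t => (t.2.2 : ℂ) • Cfsg.indFun t.1 (fun e => (t.2.1 e : ℂ))).sum

variable {G : Type u} [Group G] [Fintype G]

theorem good_zero : Good (0 : G → ℂ) :=
  ⟨[], fun _ h => absurd h List.not_mem_nil, rfl⟩

theorem good_add {f g : G → ℂ} (hf : Good f) (hg : Good g) : Good (f + g) := by
  obtain ⟨l, hl, rfl⟩ := hf
  obtain ⟨m, hm, rfl⟩ := hg
  refine ⟨l ++ m, ?_, ?_⟩
  · intro t ht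
    rcases List.mem_append.1 ht with h | h
    · exact hl t h
    · exact hm t h
  · rw [List.map_append, List.sum_append]

theorem good_neg {f : G → ℂ} (hf : Good f) : Good (-f) := by
  obtain ⟨l, hl, rfl⟩ := hf
  refine ⟨l.map fun t => ⟨t.1, (t.2.1, -t.2.2)⟩, ?_, ?_⟩
  · intro t ht
    obtain ⟨s, hs, rfl⟩ := List.mem_map.1 ht
    exact hl s hs
  · clear hl
    induction l with
    | nil => simp
    | cons a l ih =>
      rw [List.map_cons, List.sum_cons, neg_add, ih, List.map_cons, List.map_cons, List.sum_cons]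
      congr 1
      push_cast
      rw [neg_smul]

theorem good_sum {ι : Type*} (s : Finset ι) (f : ι → G → ℂ) (h : ∀ i ∈ s, Good (f i)) :
    Good (∑ i ∈ s, f i) := by
  classical
  induction s using Finset.induction_on with
  | empty => exact good_zero
  | insert a s ha ih =>
    rw [Finset.sum_insert ha]
    exact good_add (h a (Finset.mem_insert_self a s))
      (ih fun i hi => h i (Finset.mem_insert_of_mem hi))

theorem good_nsmul (n : ℕ) {f : G → ℂ} (hf : Good f) : Good (n • f) := by
  induction n with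
  | zero => rw [zero_smul]; exact good_zero
  | succ n ih => rw [succ_nsmul]; exact good_add ih hf

theorem good_basic (E : Subgroup G) (p : ℕ) (hp : p.Prime) (hE : IsElementary p E)
    (lam : E →* ℂˣ) : Good (indFun E (fun e => (lam e : ℂ))) := by
  refine ⟨[⟨E, (lam, 1)⟩], ?_, ?_⟩
  · intro t ht
    rw [List.mem_singleton] at ht
    subst ht
    exact ⟨p, hp, hE⟩
  · simp

theorem indFun_nsmul_sum (H : Subgroup G) {ι : Type*} (s : Finset ι) (m : ι → ℕ)
    (θ : ι → H → ℂ) :
    indFun H (∑ i ∈ s, m i • θ i) = ∑ i ∈ s, m i • indFun H (θ i) := by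
  funext g
  rw [Finset.sum_apply, indFun_apply]
  have h1 : ∀ x : G, extendByZero H (∑ i ∈ s, m i • θ i) (x⁻¹ * g * x) =
      ∑ i ∈ s, (m i : ℂ) * extendByZero H (θ i) (x⁻¹ * g * x) := by
    intro x
    by_cases h : x⁻¹ * g * x ∈ H
    · rw [extendByZero_of_mem H _ h, Finset.sum_apply]
      refine Finset.sum_congr rfl fun i _ => ?_
      rw [extendByZero_of_mem H _ h, Pi.smul_apply, nsmul_eq_mul]
    · rw [extendByZero_of_not_mem H _ h]
      symm
      refine Finset.sum_eq_zero fun i _ => ?_
      rw [extendByZero_of_not_mem H _ h, mul_zero]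
  rw [Finset.sum_congr rfl fun x _ => h1 x, Finset.sum_comm, Finset.mul_sum]
  refine Finset.sum_congr rfl fun i _ => ?_
  rw [Pi.smul_apply, indFun_apply, nsmul_eq_mul, ← Finset.mul_sum]
  ring

/-- Inducing from an elementary subgroup a function induced from a linear character of a
subgroup of it. -/
theorem good_ind_ind (E : Subgroup G) [Fintype E] (p : ℕ) (hp : p.Prime) (hE : IsElementary p E)
    (H' : Subgroup E) (lam : H' →* ℂˣ) :
    Good (indFun E (indFun H' (fun h => (lam h : ℂ)))) := by
  obtain ⟨H, hHE, rfl⟩ : ∃ H : Subgroup G, H ≤ E ∧ H' = H.subgroupOf E := by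
    refine ⟨H'.map E.subtype, ?_, ?_⟩
    · rintro x ⟨y, -, rfl⟩
      exact y.2
    · exact (Subgroup.comap_map_eq_self_of_injective E.subtype_injective H').symm
  let e := Subgroup.subgroupOfEquivOfLe hHE
  let mu : H →* ℂˣ := lam.comp e.symm.toMonoidHom
  have h1 := S0147.result H E hHE (fun h => (mu h : ℂ))
  have h2 : (fun x : H.subgroupOf E => ((mu ⟨((x : E) : G), Subgroup.mem_subgroupOf.mp x.2⟩ : ℂˣ) : ℂ)) =
      fun x => (lam x : ℂ) := by
    funext x
    have h3 : (⟨((x : E) : G), Subgroup.mem_subgroupOf.mp x.2⟩ : H) = e x := rfl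
    rw [h3]
    change ((lam (e.symm (e x)) : ℂˣ) : ℂ) = _
    rw [e.symm_apply_apply]
  rw [h2] at h1
  rw [h1]
  exact good_basic H p hp (Characters.Elementary.isElementary_of_le hp hHE hE) mu

theorem good_ind (E : Subgroup G) (p : ℕ) (hp : p.Prime) (hE : IsElementary p E)
    (ψ : E → ℂ) (hψ : IsCharacter E ψ) : Good (indFun E ψ) := by
  classical
  have : Fintype E := Fintype.ofFinite E
  have : Finite (IrrCharacter E) := Characters.Core.finite_irr
  have : Fintype (IrrCharacter E) := Fintype.ofFinite _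
  obtain ⟨m, rfl⟩ := Characters.Core.isCharacter_iff.1 hψ
  rw [indFun_nsmul_sum]
  refine good_sum _ _ fun χ _ => good_nsmul _ ?_
  have : Group.IsNilpotent E := Characters.Elementary.isNilpotent_of_isElementary hp hE
  obtain ⟨H', lam, hlam⟩ := S0176.result (G := E) (χ : E → ℂ) χ.2
  rw [hlam]
  exact good_ind_ind E p hp hE H' lam

/-- Brauer's induction Theorem: every character of a finite group is a ℤ-linear combination of functions induced from linear characters (homomorphisms to ℂˣ) of elementary subgroups. -/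
theorem result {G : Type*} [Group G] [Fintype G] (χ : G → ℂ) (hχ : Cfsg.IsCharacter G χ) : ∃ l : List ((E : Subgroup G) × ((E →* ℂˣ) × ℤ)), (∀ t ∈ l, ∃ p : ℕ, p.Prime ∧ Cfsg.IsElementary p t.1) ∧ χ = (l.map fun t => (t.2.2 : ℂ) • Cfsg.indFun t.1 (fun e => (t.2.1 e : ℂ))).sum := by
  change Good χ
  have key : ∀ f ∈ AddSubgroup.closure {f : G → ℂ | ∃ (E : Subgroup G) (p : ℕ) (φ : E → ℂ),
      p.Prime ∧ Cfsg.IsElementary p E ∧ Cfsg.IsCharacter E φ ∧ f = Cfsg.indFun E φ},
      Good (f * χ) := by
    intro f hf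
    induction hf using AddSubgroup.closure_induction with
    | mem x hx =>
      obtain ⟨E, p, φ, hp, hE, hφ, rfl⟩ := hx
      rw [indFun_mul E φ χ (Characters.Core.isCharacter_isClassFunction hχ)]
      refine good_ind E p hp hE _ ?_
      exact Characters.Core.isCharacter_mul hφ (Characters.Core.isCharacter_comp E.subtype hχ)
    | zero => rw [zero_mul]; exact good_zero
    | add x y _ _ hx hy => rw [add_mul]; exact good_add hx hy
    | neg x _ hx => rw [neg_mul]; exact good_neg hx
  have h1 := key 1 (Characters.Brauer.one_mem_brauer G)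
  rwa [one_mul] at h1

end Cfsg.Agent.S0163
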