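import Cfsg.Statements.S0166
import Cfsg.Agent.S0163
import Cfsg.Agent.Characters.SplittingField
-- import your own Cfsg.Agent.* helpers here

set_option autoImplicit false
open Cfsg

namespace Cfsg.Agent.S0166

open Cfsg.Agent.Characters.Core Cfsg.Agent.Characters.SplittingField
open scoped IntermediateField

section aux

universe u

variable {G : Type u} [Group G]

/-- An integer multiple of a `K`-character is a difference of two `K`-characters. -/
theorem exists_sub_of_zsmul {K : Type*} [Field K] [Algebra K ℂ] {ψ : G → ℂ}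
    (hψ : IsCharOver K G ψ) (z : ℤ) :
    ∃ α β : G → ℂ, IsCharOver K G α ∧ IsCharOver K G β ∧ (z : ℂ) • ψ = α - β := by
  rcases Int.le_total 0 z with h | h
  · obtain ⟨n, rfl⟩ := Int.eq_ofNat_of_zero_le h
    refine ⟨n • ψ, 0, isCharOver_nsmul n hψ, isCharOver_zero, ?_⟩
    rw [sub_zero, Int.cast_natCast, Nat.cast_smul_eq_nsmul]
  · obtain ⟨n, hn⟩ := Int.eq_ofNat_of_zero_le (Int.neg_nonneg_of_nonpos h)
    refine ⟨0, n • ψ, isCharOver_zero, isCharOver_nsmul n hψ, ?_⟩
    have : z = -(n : ℤ) := by rw [← hn]; ring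
    rw [this, zero_sub, Int.cast_neg, Int.cast_natCast, neg_smul, Nat.cast_smul_eq_nsmul]

/-- Every complex character of a finite group is afforded by a representation over any field `K`
containing (in `ℂ`) all values of linear characters of subgroups. -/
theorem isCharOver_of_isCharacter [Finite G] {K : Type*} [Field K] [Algebra K ℂ]
    (hK : ∀ z : ℂ, z ^ Monoid.exponent G = 1 → z ∈ Set.range (algebraMap K ℂ))
    {χ : G → ℂ} (hχ : IsCharacter G χ) : IsCharOver K G χ := by
  classical
  have := Fintype.ofFinite G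
  obtain ⟨l, -, hl⟩ := Cfsg.Agent.S0163.result χ hχ
  have key : ∀ l : List ((E : Subgroup G) × ((E →* ℂˣ) × ℤ)),
      ∃ α β : G → ℂ, IsCharOver K G α ∧ IsCharOver K G β ∧
        (l.map fun t => (t.2.2 : ℂ) • Cfsg.indFun t.1 (fun e => (t.2.1 e : ℂ))).sum = α - β := by
    intro l
    induction l with
    | nil => exact ⟨0, 0, isCharOver_zero, isCharOver_zero, by simp⟩
    | cons t l ih =>
      obtain ⟨α, β, hα, hβ, hab⟩ := ih
      have hval : ∀ e : t.1, ∃ k : K, algebraMap K ℂ k = (t.2.1 e : ℂ) := by
        intro e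
        apply hK
        rw [← Units.val_pow_eq_pow_val, ← map_pow]
        have : e ^ Monoid.exponent G = 1 := by
          apply Subtype.ext
          exact Monoid.pow_exponent_eq_one (e : G)
        rw [this, map_one, Units.val_one]
      choose k hk using hval
      have hinj : Function.Injective (algebraMap K ℂ) := (algebraMap K ℂ).injective
      let μ : t.1 →* K :=
        { toFun := k
          map_one' := hinj (by rw [hk, map_one, map_one, Units.val_one])
          map_mul' := fun a b => hinj (by rw [hk, map_mul, map_mul, hk, hk, Units.val_mul]) }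
      have hind : IsCharOver K G (Cfsg.indFun t.1 (fun e => (t.2.1 e : ℂ))) := by
        have h1 := isCharOver_indFun t.1 μ
        have h2 : (fun e => algebraMap K ℂ (μ e)) = fun e : t.1 => (t.2.1 e : ℂ) :=
          funext fun e => hk e
        rwa [h2] at h1
      obtain ⟨α', β', hα', hβ', hab'⟩ := exists_sub_of_zsmul hind t.2.2
      refine ⟨α' + α, β' + β, isCharOver_add hα' hα, isCharOver_add hβ' hβ, ?_⟩
      rw [List.map_cons, List.sum_cons, hab, hab', add_sub_add_comm]
  obtain ⟨α, β, hα, hβ, hab⟩ := key l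
  exact isCharOver_of_sub hχ hα hβ (hl.trans hab)

end aux

/-- Brauer's splitting field Theorem: a complex representation of a finite group of exponent m is equivalent to a representation by matrices with entries in ℚ adjoined exp(2πi/m). -/
theorem result {G : Type*} [Group G] [Finite G] (n : ℕ) (ρ : Representation ℂ G (Fin n → ℂ)) : ∃ σ : Representation ℂ G (Fin n → ℂ), Nonempty (ρ.Equiv σ) ∧ ∀ g : G, ∀ i j : Fin n, LinearMap.toMatrix' (σ g) i j ∈ Algebra.adjoin ℚ ({Complex.exp (2 * Real.pi * Complex.I / (Monoid.exponent G : ℂ))} : Set ℂ) := by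
  classical
  have hm : Monoid.exponent G ≠ 0 := Monoid.exponent_ne_zero_of_finite
  set ζ : ℂ := Complex.exp (2 * Real.pi * Complex.I / (Monoid.exponent G : ℂ)) with hζ
  have hprim : IsPrimitiveRoot ζ (Monoid.exponent G) := Complex.isPrimitiveRoot_exp _ hm
  have halg : IsAlgebraic ℚ ζ := by
    have h1 : IsIntegral ℤ ζ := hprim.isIntegral (Nat.pos_of_ne_zero hm)
    exact (h1.tower_top (A := ℚ)).isAlgebraic
  let K : IntermediateField ℚ ℂ := ℚ⟮ζ⟯
  have hKadj : ∀ x : ℂ, x ∈ K → x ∈ Algebra.adjoin ℚ ({ζ} : Set ℂ) := by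
    intro x hx
    rw [← IntermediateField.adjoin_simple_toSubalgebra_of_isAlgebraic halg]
    exact hx
  have hζK : ζ ∈ K := IntermediateField.mem_adjoin_simple_self ℚ ζ
  have hK : ∀ z : ℂ, z ^ Monoid.exponent G = 1 → z ∈ Set.range (algebraMap K ℂ) := by
    intro z hz
    have : NeZero (Monoid.exponent G) := ⟨hm⟩
    obtain ⟨i, -, rfl⟩ := hprim.eq_pow_of_pow_eq_one hz
    exact ⟨⟨ζ ^ i, pow_mem hζK i⟩, rfl⟩
  obtain ⟨m, σ, hσ⟩ := isCharOver_of_isCharacter (K := K) hK (isCharacter_of_rep ρ)
  have hnm : m = n := by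
    have h1 := hσ 1
    rw [Representation.char_one, Representation.char_one, Module.finrank_fin_fun,
      Module.finrank_fin_fun, map_natCast] at h1
    exact_mod_cast h1.symm
  subst hnm
  refine ⟨baseChange σ, nonempty_equiv_of_character_eq ρ (baseChange σ) ?_, ?_⟩
  · funext g
    rw [baseChange_character, hσ]
  · intro g i j
    rw [baseChange_toMatrix, Matrix.map_apply]
    exact hKadj _ (LinearMap.toMatrix' (σ g) i j).2

end Cfsg.Agent.S0166
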