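import Cfsg.Statements.S0168
import Cfsg.Agent.Characters.Values
import Mathlib

set_option autoImplicit false
open Cfsg

namespace Cfsg.Agent.S0168

open Polynomial in
/-- The Burnside–Brauer Theorem. Let χ be the character of a faithful complex representation of a finite group, taking m distinct values. Then every irreducible character has nonzero inner product with χ ^ i for some i < m. -/
theorem result {G : Type*} [Group G] [Fintype G] {V : Type*} [AddCommGroup V] [Module ℂ V] [FiniteDimensional ℂ V] (ρ : Representation ℂ G V) (hfaithful : Function.Injective ρ) (ψ : G → ℂ) (hψ : Cfsg.IsIrrCharacter G ψ) : ∃ i : ℕ, i < Nat.card (Set.range ρ.character) ∧ Cfsg.classInner (fun g => ρ.character g ^ i) ψ ≠ 0 := by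
  classical
  by_contra hcon
  push Not at hcon
  -- the degree of `ψ` is not zero
  have hψ1 : ψ 1 ≠ 0 := by
    obtain ⟨n, σ, hσ, rfl⟩ := hψ
    rw [Representation.char_one, Module.finrank_fin_fun]
    intro h
    have hn : n = 0 := by exact_mod_cast h
    subst hn
    obtain ⟨a, b, hab⟩ := (inferInstance : Nontrivial (Subrepresentation σ))
    exact hab (SetLike.ext fun x => by
      have hx : x = 0 := Subsingleton.elim _ _
      subst hx
      exact ⟨fun _ => b.toSubmodule.zero_mem, fun _ => a.toSubmodule.zero_mem⟩)
  set S : Finset ℂ := Finset.univ.image ρ.character with hS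
  have hcard : Nat.card (Set.range ρ.character) = S.card := by
    have : (Set.range ρ.character) = (S : Set ℂ) := by
      ext x; simp [hS]
    rw [this, Nat.card_coe_set_eq, Set.ncard_coe_finset]
  have h1S : ρ.character 1 ∈ S := Finset.mem_image_of_mem _ (Finset.mem_univ _)
  have hsum : ∀ i, i < S.card → ∑ g : G, ρ.character g ^ i * (starRingEnd ℂ) (ψ g) = 0 := by
    intro i hi
    have h := hcon i (hcard ▸ hi)
    unfold classInner at h
    rcases mul_eq_zero.1 h with h' | h'
    · exact absurd h' (inv_ne_zero (Nat.cast_ne_zero.2 Nat.card_pos.ne'))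
    · exact h'
  set p : ℂ[X] := ∏ a ∈ S.erase (ρ.character 1), (X - C a) with hp
  have hdeg : p.natDegree + 1 = S.card := by
    rw [hp, natDegree_finsetProd_X_sub_C_eq_card, Finset.card_erase_of_mem h1S]
    have : 0 < S.card := Finset.card_pos.2 ⟨_, h1S⟩
    omega
  have hpsum : ∑ g : G, p.eval (ρ.character g) * (starRingEnd ℂ) (ψ g) = 0 := by
    have : ∀ g : G, p.eval (ρ.character g) * (starRingEnd ℂ) (ψ g)
        = ∑ i ∈ Finset.range (p.natDegree + 1), p.coeff i * (ρ.character g ^ i * (starRingEnd ℂ) (ψ g)) := by
      intro g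
      rw [eval_eq_sum_range, Finset.sum_mul]
      exact Finset.sum_congr rfl fun i _ => by ring
    simp_rw [this]
    rw [Finset.sum_comm]
    refine Finset.sum_eq_zero fun i hi => ?_
    rw [← Finset.mul_sum, hsum i (by rw [← hdeg]; exact Finset.mem_range.1 hi), mul_zero]
  rw [Finset.sum_eq_single (1 : G)] at hpsum
  · rcases mul_eq_zero.1 hpsum with h | h
    · rw [hp, eval_prod, Finset.prod_eq_zero_iff] at h
      obtain ⟨a, ha, h⟩ := h
      rw [eval_sub, eval_X, eval_C, sub_eq_zero] at h
      exact (Finset.mem_erase.1 ha).1 h.symm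
    · exact hψ1 ((map_eq_zero _).1 h)
  · intro g _ hg
    have hne : ρ.character g ≠ ρ.character 1 := by
      intro h
      rw [Representation.char_one] at h
      have h2 := (Cfsg.Agent.Characters.Values.character_eq_finrank_iff ρ g).1 h
      exact hg (hfaithful (by rw [h2, map_one]; rfl))
    have : p.eval (ρ.character g) = 0 := by
      rw [hp, eval_prod]
      refine Finset.prod_eq_zero (i := ρ.character g) ?_ (by simp)
      exact Finset.mem_erase.2 ⟨hne, Finset.mem_image_of_mem _ (Finset.mem_univ _)⟩
    rw [this, zero_mul]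
  · intro h
    exact absurd (Finset.mem_univ _) h

end Cfsg.Agent.S0168
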