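import Cfsg.Statements.S0172
import Cfsg.Agent.Characters.FrobeniusBasic
-- import your own Cfsg.Agent.* helpers here

set_option autoImplicit false
open Cfsg

namespace Cfsg.Agent.S0172

open Cfsg.Agent.Characters.FrobeniusBasic

theorem sum_card_commute (M : Type*) [Group M] [Fintype M] :
    ∑ m : M, Nat.card {x : M // Commute m x} = Nat.card (ConjClasses M) * Nat.card M := by
  rw [← card_comm_eq_card_conjClasses_mul_card, ← Nat.card_sigma]
  exact Nat.card_congr
    { toFun := fun p => ⟨(p.1, p.2.1), p.2.2⟩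
      invFun := fun p => ⟨p.1.1, ⟨p.1.2, p.2⟩⟩
      left_inv := fun _ => rfl
      right_inv := fun _ => rfl }

theorem card_commute_conj {G : Type*} [Group G] (x g : G) :
    Nat.card {y : G // Commute (x * g * x⁻¹) y} = Nat.card {y : G // Commute g y} := by
  refine Nat.card_congr ((MulAut.conj x).symm.toEquiv.subtypeEquiv ?_)
  intro y
  have h : (MulAut.conj x).symm.toEquiv y = x⁻¹ * y * x := rfl
  rw [h]
  constructor
  · intro hc
    have h1 : x * g * x⁻¹ * y = y * (x * g * x⁻¹) := hc
    show g * (x⁻¹ * y * x) = (x⁻¹ * y * x) * g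
    calc g * (x⁻¹ * y * x) = x⁻¹ * (x * g * x⁻¹ * y) * x := by group
      _ = x⁻¹ * (y * (x * g * x⁻¹)) * x := by rw [h1]
      _ = (x⁻¹ * y * x) * g := by group
  · intro hc
    have h1 : g * (x⁻¹ * y * x) = (x⁻¹ * y * x) * g := hc
    show x * g * x⁻¹ * y = y * (x * g * x⁻¹)
    calc x * g * x⁻¹ * y = x * (g * (x⁻¹ * y * x)) * x⁻¹ := by group
      _ = x * ((x⁻¹ * y * x) * g) * x⁻¹ := by rw [h1]
      _ = y * (x * g * x⁻¹) := by group

theorem card_commute_subgroup {G : Type*} [Group G] (L : Subgroup G) (g : L)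
    (hg : ∀ y : G, Commute (g : G) y → y ∈ L) :
    Nat.card {y : G // Commute (g : G) y} = Nat.card {y : L // Commute g y} := by
  refine Nat.card_congr
    { toFun := fun y => ⟨⟨y.1, hg y.1 y.2⟩, Subtype.ext y.2⟩
      invFun := fun y => ⟨y.1.1, congrArg Subtype.val y.2⟩
      left_inv := fun _ => rfl
      right_inv := fun _ => rfl }

/-- Class number of a Frobenius group: if G = K H with K normal, K ⊓ H trivial and no non-identity element of H commuting with a non-identity element of K, then |H| * k(G) + 1 = |H| * k(H) + k(K), where k denotes the number of conjugacy classes. -/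
theorem result {G : Type*} [Group G] [Finite G] (K H : Subgroup G) [K.Normal] (hKH : K ⊓ H = ⊥) (hKH' : K ⊔ H = ⊤) (hfpf : ∀ h ∈ H, h ≠ 1 → ∀ k ∈ K, h * k = k * h → k = 1) : Nat.card H * Nat.card (ConjClasses G) + 1 = Nat.card H * Nat.card (ConjClasses H) + Nat.card (ConjClasses K) := by
  classical
  haveI : Fintype G := Fintype.ofFinite G
  -- the bijection `H × K → G`
  have hinj : Function.Injective (fun p : H × K => (p.2 : G) * (p.1 : G)) := by
    rintro ⟨h, k⟩ ⟨h', k'⟩ he
    have he' : (k : G) * h = k' * h' := he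
    have h1 : (k' : G)⁻¹ * k = h' * (h : G)⁻¹ := by
      rw [inv_mul_eq_iff_eq_mul, ← mul_assoc, ← he']
      group
    have h2 : (k' : G)⁻¹ * k ∈ K ⊓ H :=
      ⟨K.mul_mem (K.inv_mem k'.2) k.2, by rw [h1]; exact H.mul_mem h'.2 (H.inv_mem h.2)⟩
    rw [hKH, Subgroup.mem_bot] at h2
    have h3 : (k' : G) = k := inv_mul_eq_one.mp h2
    have h4 : (h' : G) = h := by
      rw [h2] at h1
      exact (mul_inv_eq_one.mp h1.symm)
    exact Prod.ext (Subtype.ext h4.symm) (Subtype.ext h3.symm)
  have hsurj : Function.Surjective (fun p : H × K => (p.2 : G) * (p.1 : G)) := by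
    intro g
    obtain ⟨k, hk, h, hh, rfl⟩ := exists_mul_eq K H hKH' g
    exact ⟨(⟨h, hh⟩, ⟨k, hk⟩), rfl⟩
  have hcardG : Nat.card G = Nat.card H * Nat.card K := by
    rw [← Nat.card_prod]
    exact (Nat.card_congr (Equiv.ofBijective _ ⟨hinj, hsurj⟩)).symm
  have hsumG : ∑ g : G, Nat.card {x : G // Commute g x}
      = ∑ h : H, ∑ k : K, Nat.card {x : G // Commute ((k : G) * (h : G)) x} := by
    rw [← Fintype.sum_prod_type']
    exact (Fintype.sum_bijective _ ⟨hinj, hsurj⟩ _ _ (fun _ => rfl)).symm
  -- the inner sums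
  have hin : ∀ h : H, h ≠ 1 → ∑ k : K, Nat.card {x : G // Commute ((k : G) * (h : G)) x}
      = Nat.card K * Nat.card {x : H // Commute h x} := by
    intro h h1
    have h1' : (h : G) ≠ 1 := fun he => h1 (Subtype.ext he)
    have hC : ∀ y : G, Commute (h : G) y → y ∈ H := by
      intro y hy
      obtain ⟨k, hk, h', hh', rfl⟩ := exists_mul_eq K H hKH' y
      have hy' : (h : G) * (k * h') = k * h' * h := hy
      have e1 : k⁻¹ * ((h : G) * k * (h : G)⁻¹) = h' * h * h'⁻¹ * (h : G)⁻¹ := by
        calc k⁻¹ * ((h : G) * k * (h : G)⁻¹)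
            = k⁻¹ * ((h : G) * (k * h')) * h'⁻¹ * (h : G)⁻¹ := by group
          _ = k⁻¹ * (k * h' * h) * h'⁻¹ * (h : G)⁻¹ := by rw [hy']
          _ = h' * h * h'⁻¹ * (h : G)⁻¹ := by group
      have e2 : k⁻¹ * ((h : G) * k * (h : G)⁻¹) ∈ K ⊓ H :=
        ⟨K.mul_mem (K.inv_mem hk) (Subgroup.Normal.conj_mem inferInstance _ hk _), by
          rw [e1]
          exact H.mul_mem (H.mul_mem (H.mul_mem hh' h.2) (H.inv_mem hh')) (H.inv_mem h.2)⟩
      rw [hKH, Subgroup.mem_bot] at e2
      have e3 : (h : G) * k = k * h := by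
        have e4 : k = (h : G) * k * (h : G)⁻¹ := inv_mul_eq_one.mp e2
        calc (h : G) * k = ((h : G) * k * (h : G)⁻¹) * h := by group
          _ = k * h := by rw [← e4]
      have e5 := hfpf h h.2 h1' k hk e3
      rw [e5, one_mul]
      exact hh'
    have hk : ∀ k : K, Nat.card {x : G // Commute ((k : G) * (h : G)) x}
        = Nat.card {x : H // Commute h x} := by
      intro k
      obtain ⟨x, hx, hxe⟩ := exists_conj_eq_of_centralizer K (h : G)
        (fun c hc hch => hfpf h h.2 h1' c hc hch.symm) k k.2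
      rw [← hxe, card_commute_conj, card_commute_subgroup H h hC]
    rw [Finset.sum_congr rfl (fun k _ => hk k), Finset.sum_const, Finset.card_univ,
      smul_eq_mul, Fintype.card_eq_nat_card]
  have hin1 : ∑ k : K, Nat.card {x : G // Commute ((k : G) * ((1 : H) : G)) x} + Nat.card K
      = Nat.card (ConjClasses K) * Nat.card K + Nat.card G := by
    rw [← sum_card_commute K]
    have hk : ∀ k : K, k ≠ 1 → Nat.card {x : G // Commute ((k : G) * ((1 : H) : G)) x}
        = Nat.card {x : K // Commute k x} := by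
      intro k k1
      have e0 : (k : G) * ((1 : H) : G) = k := by simp
      rw [e0]
      refine card_commute_subgroup K k ?_
      intro y hy
      by_contra hyK
      have := eq_one_of_commute K H hKH' hfpf y hyK k k.2 hy
      exact k1 (Subtype.ext this)
    rw [← Finset.add_sum_erase Finset.univ _ (Finset.mem_univ (1 : K)),
      ← Finset.add_sum_erase Finset.univ (fun k : K => Nat.card {x : K // Commute k x})
        (Finset.mem_univ (1 : K))]
    rw [Finset.sum_congr rfl (fun k hk' => hk k (Finset.ne_of_mem_erase hk'))]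
    have e1 : Nat.card {x : G // Commute (((1 : K) : G) * ((1 : H) : G)) x} = Nat.card G := by
      refine Nat.card_congr (Equiv.subtypeUnivEquiv ?_)
      intro x
      simp
    have e2 : Nat.card {x : K // Commute (1 : K) x} = Nat.card K := by
      refine Nat.card_congr (Equiv.subtypeUnivEquiv ?_)
      intro x
      simp
    rw [e1, e2]
    ring
  -- put together
  have htot : Nat.card (ConjClasses G) * Nat.card G + Nat.card K + Nat.card K * Nat.card H
      = Nat.card (ConjClasses K) * Nat.card K + Nat.card G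
        + Nat.card K * (Nat.card (ConjClasses H) * Nat.card H) := by
    rw [← sum_card_commute G, hsumG, ← sum_card_commute H]
    rw [← Finset.add_sum_erase Finset.univ _ (Finset.mem_univ (1 : H)),
      ← Finset.add_sum_erase Finset.univ (fun h : H => Nat.card {x : H // Commute h x})
        (Finset.mem_univ (1 : H))]
    rw [Finset.sum_congr rfl (fun h hh' => hin h (Finset.ne_of_mem_erase hh'))]
    have e2 : Nat.card {x : H // Commute (1 : H) x} = Nat.card H := by
      refine Nat.card_congr (Equiv.subtypeUnivEquiv ?_)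
      intro x
      simp
    rw [e2, ← Finset.mul_sum]
    linarith [hin1]
  have hKpos : 0 < Nat.card K := Nat.card_pos
  rw [hcardG] at htot
  have : Nat.card K * (Nat.card H * Nat.card (ConjClasses G) + 1)
      = Nat.card K * (Nat.card H * Nat.card (ConjClasses H) + Nat.card (ConjClasses K)) := by
    nlinarith [htot]
  exact Nat.eq_of_mul_eq_mul_left hKpos this

end Cfsg.Agent.S0172
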