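-- Statement S0174 (row 174): Clifford's theorem for characters.
import Cfsg.Statements.S0174
import Cfsg.Agent.Characters.Core
import Cfsg.Agent.Characters.Clifford

set_option autoImplicit false
open Cfsg

namespace Cfsg.Agent.S0174

open Cfsg.Agent.Characters.Core Cfsg.Agent.Characters.Clifford

/-- The Clifford Theorem for characters: if θ is an irreducible character of a finite group G, N is a normal subgroup and χ is an irreducible character of N occurring in the restriction of θ, then θ restricted to N equals e times the sum of the distinct G-conjugates of χ, where e is the inner product of the restriction with χ. -/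
theorem result {G : Type*} [Group G] [Fintype G] (N : Subgroup G) [Fintype N] (hN : N.Normal) (θ : G → ℂ) (hθ : Cfsg.IsIrrCharacter G θ) (χ : N → ℂ) (hχ : Cfsg.IsIrrCharacter N χ) (hconst : Cfsg.classInner (fun n : N => θ n) χ ≠ 0) : (fun n : N => θ n) = Cfsg.classInner (fun n : N => θ n) χ • ∑ᶠ ψ ∈ {ψ : N → ℂ | ∃ g : G, ψ = fun n : N => χ ⟨g * n * g⁻¹, hN.conj_mem n n.2 g⟩}, ψ := by
  classical
  have := finite_irr (G := N)
  have := Fintype.ofFinite (IrrCharacter N)
  have hconj : ∀ g : G, (fun n : N => χ ⟨g * n * g⁻¹, hN.conj_mem n n.2 g⟩) =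
      χ ∘ (MulAut.conjNormal g : MulAut N) := by
    intro g
    funext n
    simp only [Function.comp]
    congr 1
  let T : Finset (N → ℂ) := Finset.univ.image (fun g : G => χ ∘ (MulAut.conjNormal g : MulAut N))
  have hT : {ψ : N → ℂ | ∃ g : G, ψ = fun n : N => χ ⟨g * n * g⁻¹, hN.conj_mem n n.2 g⟩} =
      (T : Set (N → ℂ)) := by
    ext ψ
    simp only [Set.mem_ofPred_eq, T, Finset.coe_image, Finset.coe_univ, Set.image_univ, Set.mem_range]
    simp_rw [hconj]
    exact ⟨fun ⟨g, hg⟩ => ⟨g, hg.symm⟩, fun ⟨g, hg⟩ => ⟨g, hg.symm⟩⟩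
  rw [hT, finsum_mem_coe_finset]
  have hcl : IsClassFunction N (fun n : N => θ n) :=
    isCharacter_isClassFunction (isCharacter_restrict N (isIrr_isCharacter hθ))
  have h1 : (fun n : N => θ n) = ∑ ψ ∈ Finset.univ.image (fun ψ : IrrCharacter N => (ψ : N → ℂ)),
      classInner (fun n : N => θ n) ψ • ψ := by
    conv_lhs => rw [classFunction_eq_sum hcl]
    rw [Finset.sum_image (fun a _ b _ h => Subtype.ext h)]
  have hsub : T ⊆ Finset.univ.image (fun ψ : IrrCharacter N => (ψ : N → ℂ)) := by
    intro ψ hψ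
    simp only [T, Finset.mem_image, Finset.mem_univ, true_and] at hψ ⊢
    obtain ⟨g, rfl⟩ := hψ
    exact ⟨⟨_, isIrr_conjNormal hχ g⟩, rfl⟩
  have hz : ∀ ψ ∈ Finset.univ.image (fun ψ : IrrCharacter N => (ψ : N → ℂ)), ψ ∉ T →
      classInner (fun n : N => θ n) ψ • ψ = 0 := by
    intro ψ hψ hψT
    simp only [Finset.mem_image, Finset.mem_univ, true_and] at hψ
    obtain ⟨ψ, rfl⟩ := hψ
    by_cases h0 : classInner (fun n : N => θ n) ψ = 0
    · rw [h0, zero_smul]
    · exfalso
      obtain ⟨g, hg⟩ := exists_conj_of_constituents N hθ hχ ψ.2 hconst h0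
      apply hψT
      simp only [T, Finset.mem_image, Finset.mem_univ, true_and]
      exact ⟨g, hg.symm⟩
  rw [← Finset.sum_subset hsub hz] at h1
  conv_lhs => rw [h1]
  rw [Finset.smul_sum]
  refine Finset.sum_congr rfl fun ψ hψ => ?_
  simp only [T, Finset.mem_image, Finset.mem_univ, true_and] at hψ
  obtain ⟨g, rfl⟩ := hψ
  rw [classInner_restrict_conjNormal (isIrr_isClassFunction hθ)]

end Cfsg.Agent.S0174
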