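import Cfsg.Statements.S0182
-- import your own Cfsg.Agent.* helpers here
import Cfsg.Agent.Characters.CCFinal

set_option autoImplicit false
open Cfsg

namespace Cfsg.Agent.S0182

/-- The CA-Theorem for odd order: a finite group of odd order in which every non-identity element has an abelian centralizer is solvable. -/
theorem result {G : Type*} [Group G] [Finite G] (hodd : Odd (Nat.card G)) (hCA : ∀ x : G, x ≠ 1 → ∀ a ∈ Subgroup.centralizer ({x} : Set G), ∀ b ∈ Subgroup.centralizer ({x} : Set G), a * b = b * a) : Group.IsSolvable G := by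
  rw [Group.isSolvable_iff_commutator_lt]
  intro H hH
  have hnt : Nontrivial H := (Subgroup.nontrivial_iff_ne_bot H).2 hH
  have hoddH : Odd (Nat.card H) := by
    obtain ⟨c, hc⟩ := Subgroup.card_subgroup_dvd_card H
    rw [hc] at hodd
    exact (Nat.odd_mul.1 hodd).1
  have hCAH : ∀ x : H, x ≠ 1 → ∀ a ∈ Subgroup.centralizer ({x} : Set H),
      ∀ b ∈ Subgroup.centralizer ({x} : Set H), a * b = b * a := by
    intro x hx a ha b hb
    rw [Subgroup.mem_centralizer_singleton_iff] at ha hb
    apply Subtype.ext
    refine hCA (x : G) (fun h => hx (Subtype.ext h)) a ?_ b ?_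
    · rw [Subgroup.mem_centralizer_singleton_iff]
      exact congrArg Subtype.val ha
    · rw [Subgroup.mem_centralizer_singleton_iff]
      exact congrArg Subtype.val hb
  have hne := Cfsg.Agent.Characters.CCFinal.commutator_ne_top hoddH hCAH
  have h1 : (commutator H).map H.subtype = ⁅H, H⁆ := by
    rw [commutator_def, Subgroup.map_commutator, ← MonoidHom.range_eq_map, Subgroup.range_subtype]
  have hle : ⁅H, H⁆ ≤ H := by
    rw [← h1]
    exact Subgroup.map_subtype_le _
  refine lt_of_le_of_ne hle (fun h => hne ?_)
  rw [h] at h1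
  apply Subgroup.map_injective H.subtype_injective
  rw [h1, ← MonoidHom.range_eq_map, Subgroup.range_subtype]

end Cfsg.Agent.S0182
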