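import Cfsg.Statements.S1483
import Cfsg.Agent.OddOrderLocal.CNMaxNil
import Cfsg.Agent.S1479

set_option autoImplicit false
open Cfsg

namespace Cfsg.Agent.S1483

open Cfsg.Agent.OddOrderLocal.CNMaxNil
/-- Let G be a minimal simple group of odd order in which every non-identity element has nilpotent centralizer. Then any two nilpotent subgroups each contained in no larger nilpotent subgroup are either conjugate or of coprime orders; and for primes p, q, r: if some elements x, y ≠ 1 of p-power and q-power order commute, and some elements y', z ≠ 1 of q-power and r-power order commute, then some elements of p-power and r-power order, both ≠ 1, commute. -/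
theorem result {G : Type*} [Group G] [Finite G] (hG : Cfsg.IsMinSimpleOddOrder G) (hCN : Cfsg.IsCNGroup G) :
    (∀ H₁ H₂ : Subgroup G, (Group.IsNilpotent ↥H₁ ∧ ∀ L : Subgroup G, Group.IsNilpotent L → H₁ ≤ L → L = H₁) → (Group.IsNilpotent ↥H₂ ∧ ∀ L : Subgroup G, Group.IsNilpotent L → H₂ ≤ L → L = H₂) → (∃ g : G, H₂ = H₁.map (MulAut.conj g).toMonoidHom) ∨ (Nat.card H₁).Coprime (Nat.card H₂)) ∧
      ∀ (p q r : ℕ), p.Prime → q.Prime → r.Prime → ∀ (x y y' z : G), x ≠ 1 → y ≠ 1 → y' ≠ 1 → z ≠ 1 →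
        IsPGroup p (Subgroup.zpowers x) → IsPGroup q (Subgroup.zpowers y) → IsPGroup q (Subgroup.zpowers y') → IsPGroup r (Subgroup.zpowers z) →
        x * y = y * x → y' * z = z * y' →
        ∃ x' z' : G, x' ≠ 1 ∧ z' ≠ 1 ∧ IsPGroup p (Subgroup.zpowers x') ∧ IsPGroup r (Subgroup.zpowers z') ∧ x' * z' = z' * x' := by
  have h1 : ∀ H₁ H₂ : Subgroup G, (Group.IsNilpotent ↥H₁ ∧ ∀ L : Subgroup G, Group.IsNilpotent L → H₁ ≤ L → L = H₁) → (Group.IsNilpotent ↥H₂ ∧ ∀ L : Subgroup G, Group.IsNilpotent L → H₂ ≤ L → L = H₂) → (∃ g : G, H₂ = H₁.map (MulAut.conj g).toMonoidHom) ∨ (Nat.card H₁).Coprime (Nat.card H₂) := by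
    intro H₁ H₂ hm₁ hm₂
    obtain ⟨hHall, hTI, -, E, hE, -, hfree⟩ := (Cfsg.Agent.S1479.result hG hCN).1 H₁ hm₁.1 hm₁.2
    exact conj_or_coprime hm₁ hm₂ hHall
      (fun x hx hx1 => centralizer_le_of_ti_of_compl H₁ E hTI hE hfree hx hx1)
  refine ⟨h1, ?_⟩
  intro p q r hp hq hr x y y' z hx1 hy1 hy'1 hz1 hxp hyq hy'q hzr hxy hyz
  by_cases hpr : p = r
  · subst hpr
    exact ⟨x, x, hx1, hx1, hxp, hxp, rfl⟩
  have : Fact p.Prime := ⟨hp⟩
  have : Fact q.Prime := ⟨hq⟩
  have : Fact r.Prime := ⟨hr⟩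
  -- orders of `p`-elements
  have key : ∀ (l : ℕ) (_ : l.Prime) (w : G) (_ : w ≠ 1) (_ : IsPGroup l (Subgroup.zpowers w)) (H : Subgroup G)
      (_ : w ∈ H), l ∣ Nat.card H := by
    intro l hl w hw hwl H hwH
    have : Fact l.Prime := ⟨hl⟩
    obtain ⟨n, hn⟩ := IsPGroup.iff_card.1 hwl
    rw [Nat.card_zpowers] at hn
    have hn0 : n ≠ 0 := by
      rintro rfl
      rw [pow_zero, orderOf_eq_one_iff] at hn
      exact hw hn
    have h2 : orderOf w ∣ Nat.card H := by
      have := orderOf_dvd_natCard (⟨w, hwH⟩ : H)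
      rwa [Subgroup.orderOf_mk] at this
    exact (dvd_trans (dvd_pow_self l hn0) (hn ▸ h2))
  -- a maximal nilpotent subgroup containing two commuting elements
  have key2 : ∀ a b : G, a * b = b * a → ∃ H : Subgroup G, IsMaxNil H ∧ a ∈ H ∧ b ∈ H := by
    intro a b hab
    have hcomm : IsMulCommutative (Subgroup.closure ({a, b} : Set G)) := by
      apply Subgroup.isMulCommutative_closure
      intro u hu v hv
      rcases hu with rfl | rfl <;> rcases hv with rfl | rfl
      · rfl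
      · exact hab
      · exact hab.symm
      · rfl
    have hnil : Group.IsNilpotent (Subgroup.closure ({a, b} : Set G)) := by
      letI : CommGroup (Subgroup.closure ({a, b} : Set G)) :=
        { (inferInstance : Group (Subgroup.closure ({a, b} : Set G))) with
          mul_comm := fun u v => hcomm.is_comm.comm u v }
      infer_instance
    obtain ⟨H, hH, hle⟩ := exists_isMaxNil_ge _ hnil
    exact ⟨H, hH, hle (Subgroup.subset_closure (by simp)), hle (Subgroup.subset_closure (by simp))⟩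
  obtain ⟨H₁, hm₁, hxH, hyH⟩ := key2 x y hxy
  obtain ⟨H₂, hm₂, hy'H, hzH⟩ := key2 y' z hyz
  have hp1 := key p hp x hx1 hxp H₁ hxH
  have hq1 := key q hq y hy1 hyq H₁ hyH
  have hq2 := key q hq y' hy'1 hy'q H₂ hy'H
  have hr2 := key r hr z hz1 hzr H₂ hzH
  obtain ⟨g, hg⟩ : ∃ g : G, H₂ = H₁.map (MulAut.conj g).toMonoidHom := by
    refine (h1 H₁ H₂ hm₁ hm₂).resolve_right (fun hcop => ?_)
    have := Nat.dvd_gcd hq1 hq2
    rw [Nat.Coprime] at hcop
    rw [hcop] at this
    exact hq.one_lt.ne' (Nat.dvd_one.1 this)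
  have hr1 : r ∣ Nat.card H₁ := by
    have : Nat.card H₂ = Nat.card H₁ := by
      rw [hg]
      exact Nat.card_congr (H₁.equivMapOfInjective _ (MulAut.conj g).injective).symm.toEquiv
    rwa [this] at hr2
  have hnil := hm₁.1
  obtain ⟨a, hao, hac⟩ := exists_central_orderOf_eq (G := H₁) p hp1
  obtain ⟨b, hbo, hbc⟩ := exists_central_orderOf_eq (G := H₁) r hr1
  refine ⟨a, b, ?_, ?_, ?_, ?_, congrArg Subtype.val (hac b)⟩
  · intro h
    rw [show a = 1 from Subtype.ext h, orderOf_one] at hao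
    exact hp.one_lt.ne hao
  · intro h
    rw [show b = 1 from Subtype.ext h, orderOf_one] at hbo
    exact hr.one_lt.ne hbo
  · rw [IsPGroup.iff_card]
    exact ⟨1, by rw [Nat.card_zpowers, Subgroup.orderOf_coe, hao, pow_one]⟩
  · rw [IsPGroup.iff_card]
    exact ⟨1, by rw [Nat.card_zpowers, Subgroup.orderOf_coe, hbo, pow_one]⟩

end Cfsg.Agent.S1483
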