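import Cfsg.Statements.S0183
-- import your own Cfsg.Agent.* helpers here
import Mathlib
import Cfsg.Agent.S1473
import Cfsg.Agent.S1479
import Cfsg.Agent.S1483
import Cfsg.Agent.S1526

set_option autoImplicit false
open Cfsg

namespace Cfsg.Agent.S0183

universe u

/-- maximal nilpotent subgroups -/
def IsMaxNil {G : Type u} [Group G] (H : Subgroup G) : Prop :=
  Group.IsNilpotent H ∧ ∀ L : Subgroup G, Group.IsNilpotent L → H ≤ L → L = H

theorem exists_isMaxNil_ge {G : Type u} [Group G] [Finite G] (K : Subgroup G)
    (hK : Group.IsNilpotent K) : ∃ H : Subgroup G, K ≤ H ∧ IsMaxNil H := by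
  classical
  obtain ⟨H, hKH, hH⟩ := Finite.exists_le_maximal (α := Subgroup G)
    (p := fun H => Group.IsNilpotent H) hK
  exact ⟨H, hKH, hH.1, fun L hL hHL => le_antisymm (hH.2 hL hHL) hHL⟩

theorem isCNGroup_subgroup {G : Type u} [Group G] (hCN : Cfsg.IsCNGroup G) (H : Subgroup G) :
    Cfsg.IsCNGroup H := by
  intro x hx
  have hx' : (x : G) ≠ 1 := fun h => hx (Subtype.ext h)
  have hn := hCN x hx'
  let f : Subgroup.centralizer ({x} : Set H) →* Subgroup.centralizer ({(x : G)} : Set G) :=
    { toFun := fun y => ⟨((y : H) : G), by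
        rw [Subgroup.mem_centralizer_singleton_iff]
        have := Subgroup.mem_centralizer_singleton_iff.mp y.2
        exact congrArg Subtype.val this⟩
      map_one' := rfl
      map_mul' := fun a b => rfl }
  have hf : f.ker ≤ Subgroup.center _ := by
    intro a ha
    have h1 : f a = 1 := ha
    have h2 : ((a : H) : G) = 1 := congrArg Subtype.val h1
    have h3 : a = 1 := by
      apply Subtype.ext
      apply Subtype.ext
      exact h2
    rw [h3]
    exact Subgroup.one_mem _
  exact Subgroup.isNilpotent_of_ker_le_center f hf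

/-- cyclic subgroups are nilpotent -/
theorem isNilpotent_zpowers {G : Type u} [Group G] (x : G) :
    Group.IsNilpotent (Subgroup.zpowers x) := by
  let _ : CommGroup (Subgroup.zpowers x) := IsCyclic.commGroup
  exact CommGroup.isNilpotent

theorem card_map_conj {G : Type u} [Group G] (H : Subgroup G) (g : G) :
    Nat.card (H.map (MulAut.conj g).toMonoidHom) = Nat.card H :=
  (Nat.card_congr (H.equivMapOfInjective _ (MulAut.conj g).injective).toEquiv).symm

theorem mem_normalizer_of_map_eq {G : Type u} [Group G] (H : Subgroup G) (g : G)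
    (h : H.map (MulAut.conj g).toMonoidHom = H) : g ∈ Subgroup.normalizer (H : Set G) := by
  rw [Subgroup.mem_normalizer_iff]
  intro x
  constructor
  · intro hx
    have : g * x * g⁻¹ ∈ H.map (MulAut.conj g).toMonoidHom := ⟨x, hx, rfl⟩
    rw [h] at this
    exact this
  · intro hx
    have hx' : g * x * g⁻¹ ∈ H.map (MulAut.conj g).toMonoidHom := by rw [h]; exact hx
    obtain ⟨y, hy, hyx⟩ := hx'
    have : (MulAut.conj g) y = (MulAut.conj g) x := hyx
    rw [← (MulAut.conj g).injective this]
    exact hy

/-- There is no minimal simple CN-group of odd order. -/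
theorem false_of_minSimple {G : Type u} [Group G] [Finite G] (hG : Cfsg.IsMinSimpleOddOrder G)
    (hCN : Cfsg.IsCNGroup G) : False := by
  classical
  have h79 := (Cfsg.Agent.S1479.result hG hCN).1
  have h83 := (Cfsg.Agent.S1483.result hG hCN).1
  have hsimple : IsSimpleGroup G := hG.2.1
  have hnt : Nontrivial G := hsimple.toNontrivial
  -- conjugacy as a setoid on maximal nilpotent subgroups
  let X := {H : Subgroup G // IsMaxNil H}
  let s : Setoid X :=
    { r := fun H K => ∃ g : G, K.1 = H.1.map (MulAut.conj g).toMonoidHom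
      iseqv :=
        { refl := fun H => ⟨1, by
            ext x
            simp [Subgroup.mem_map]⟩
          symm := by
            rintro H K ⟨g, hg⟩
            refine ⟨g⁻¹, ?_⟩
            rw [hg, Subgroup.map_map]
            ext x
            simp [Subgroup.mem_map, mul_assoc]
          trans := by
            rintro H K L ⟨g, hg⟩ ⟨h, hh⟩
            refine ⟨h * g, ?_⟩
            rw [hh, hg, Subgroup.map_map]
            congr 1
            ext x
            simp } }
  have hfinX : Finite X := Subtype.finite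
  have hfinι : Finite (Quotient s) := inferInstance
  let _ : Fintype (Quotient s) := Fintype.ofFinite _
  let Hs : Quotient s → Subgroup G := fun i => (Quotient.out i).1
  have hHs : ∀ i, IsMaxNil (Hs i) := fun i => (Quotient.out i).2
  -- every maximal nilpotent subgroup is conjugate to a representative
  have hrep : ∀ K : Subgroup G, IsMaxNil K → ∃ i, ∃ g : G, Hs i = K.map (MulAut.conj g).toMonoidHom := by
    intro K hK
    refine ⟨Quotient.mk s ⟨K, hK⟩, ?_⟩
    have h1 : s.r ⟨K, hK⟩ (Quotient.out (Quotient.mk s ⟨K, hK⟩)) :=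
      Quotient.exact (Quotient.out_eq (Quotient.mk s ⟨K, hK⟩)).symm
    exact h1
  have hne : ∀ H : Subgroup G, IsMaxNil H → H ≠ ⊥ := by
    rintro H hH rfl
    obtain ⟨x, hx⟩ := exists_ne (1 : G)
    have h1 : Group.IsNilpotent (Subgroup.zpowers x) := isNilpotent_zpowers x
    have h2 := hH.2 (Subgroup.zpowers x) h1 bot_le
    exact hx (Subgroup.zpowers_eq_bot.mp h2)
  have hlt : ∀ H : Subgroup G, IsMaxNil H → H < Subgroup.normalizer (H : Set G) := by
    intro H hH
    refine lt_of_le_of_ne Subgroup.le_normalizer ?_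
    intro heq
    obtain ⟨-, -, -, E, hE, hE1, -⟩ := h79 H hH.1 hH.2
    apply hE1
    have h1 : E ≤ H := by
      have := hE.2.1
      rw [← heq] at this
      exact this
    have h2 := hE.2.2.1
    rw [inf_eq_right.mpr h1] at h2
    exact h2
  have hcent : ∀ H : Subgroup G, IsMaxNil H → ∀ h ∈ H, h ≠ 1 →
      Subgroup.centralizer ({h} : Set G) ≤ H := by
    intro H hH h hh h1
    obtain ⟨K, hCK, hK⟩ := exists_isMaxNil_ge _ (hCN h h1)
    have hhK : h ∈ K := hCK (Subgroup.mem_centralizer_singleton_iff.mpr rfl)
    rcases h83 H K hH hK with ⟨g, hg⟩ | hcop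
    · by_cases hKH : H.map (MulAut.conj g).toMonoidHom = H
      · rw [hg, hKH] at hCK
        exact hCK
      · exfalso
        have h2 := (h79 H hH.1 hH.2).2.1 g hKH
        have h3 : h ∈ H ⊓ H.map (MulAut.conj g).toMonoidHom := ⟨hh, by rw [← hg]; exact hhK⟩
        rw [h2, Subgroup.mem_bot] at h3
        exact h1 h3
    · exfalso
      have h2 : orderOf h ∣ Nat.card H := by
        rw [← Nat.card_zpowers]
        exact Subgroup.card_dvd_of_le ((Subgroup.zpowers_le).mpr hh)
      have h3 : orderOf h ∣ Nat.card K := by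
        rw [← Nat.card_zpowers]
        exact Subgroup.card_dvd_of_le ((Subgroup.zpowers_le).mpr hhK)
      have h4 := Nat.dvd_gcd h2 h3
      rw [hcop] at h4
      exact h1 (orderOf_eq_one_iff.mp (Nat.dvd_one.mp h4))
  refine Cfsg.Agent.S1526.result (G := G) hG.1 (ι := Quotient s) ?_
    (fun i => Subgroup.normalizer (Hs i : Set G)) Hs (fun i => hlt _ (hHs i))
    (fun i => hne _ (hHs i)) ?_ ?_ ?_ ?_ ?_
  · -- at least two classes
    by_contra hcon
    have hle : Fintype.card (Quotient s) ≤ 1 := by omega
    have hsub := Fintype.card_le_one_iff_subsingleton.mp hle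
    obtain ⟨H, -, hH⟩ := exists_isMaxNil_ge (⊥ : Subgroup G) inferInstance
    have hidx : H.index ≠ 1 := by
      rw [Ne, Subgroup.index_eq_one]
      intro htop
      have h1 := hlt H hH
      rw [htop] at h1
      exact not_top_lt h1
    obtain ⟨p, hp, hpd⟩ := Nat.exists_prime_and_dvd hidx
    have := Fact.mk hp
    have hpG : p ∣ Nat.card G := hpd.trans H.index_dvd_card
    obtain ⟨x, hx⟩ := exists_prime_orderOf_dvd_card' p hpG
    obtain ⟨K, hxK, hK⟩ := exists_isMaxNil_ge (Subgroup.zpowers x) (isNilpotent_zpowers x)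
    obtain ⟨i, g, hg⟩ := hrep H hH
    obtain ⟨j, g', hg'⟩ := hrep K hK
    have hij : i = j := Subsingleton.elim _ _
    subst hij
    have hcard : Nat.card H = Nat.card K := by
      rw [← card_map_conj H g, ← card_map_conj K g', ← hg, ← hg']
    have hpK : p ∣ Nat.card K := by
      rw [← hx, ← Nat.card_zpowers]
      exact Subgroup.card_dvd_of_le hxK
    have hcop := (h79 H hH.1 hH.2).1
    rw [hcard] at hcop
    exact hp.one_lt.ne' (Nat.dvd_one.mp (hcop ▸ Nat.dvd_gcd hpK hpd))
  · intro i x hx h hh
    exact (Subgroup.mem_normalizer_iff.mp hx h).mp hh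
  · intro i h hh h1
    exact inf_le_right.trans (hcent _ (hHs i) h hh h1)
  · intro i j hij
    rcases h83 (Hs i) (Hs j) (hHs i) (hHs j) with ⟨g, hg⟩ | hcop
    · exfalso
      apply hij
      have h1 : s.r (Quotient.out i) (Quotient.out j) := ⟨g, hg⟩
      have h2 : Quotient.mk s (Quotient.out i) = Quotient.mk s (Quotient.out j) := Quotient.sound h1
      rw [Quotient.out_eq, Quotient.out_eq] at h2
      exact h2
    · exact hcop
  · intro i
    refine ⟨?_, rfl⟩
    intro g hg x hx hgx
    have h1 : (Hs i).map (MulAut.conj g).toMonoidHom ≠ Hs i := fun h => hg (mem_normalizer_of_map_eq _ _ h)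
    have h2 := (h79 (Hs i) (hHs i).1 (hHs i).2).2.1 g h1
    have h3 : g * x * g⁻¹ ∈ Hs i ⊓ (Hs i).map (MulAut.conj g).toMonoidHom := ⟨hgx, ⟨x, hx, rfl⟩⟩
    rw [h2, Subgroup.mem_bot] at h3
    have h4 : g * x = g := by
      rw [mul_inv_eq_one] at h3
      exact h3
    exact mul_eq_left.mp h4
  · intro g hg
    obtain ⟨K, hgK, hK⟩ := exists_isMaxNil_ge (Subgroup.zpowers g) (isNilpotent_zpowers g)
    obtain ⟨i, x, hx⟩ := hrep K hK
    refine ⟨i, x, ?_⟩
    rw [hx]
    exact ⟨g, hgK (Subgroup.mem_zpowers g), rfl⟩

theorem result_aux (n : ℕ) : ∀ (G : Type u) [Group G] [Finite G], Nat.card G ≤ n →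
    Odd (Nat.card G) → Cfsg.IsCNGroup G → Group.IsSolvable G := by
  induction n with
  | zero =>
    intro G _ _ hn hodd
    have : 0 < Nat.card G := Nat.card_pos
    omega
  | succ n ih =>
    intro G _ _ hn hodd hCN
    by_contra hns
    have hsub : ∀ H : Subgroup G, H ≠ ⊤ → Group.IsSolvable H := by
      intro H hH
      have hlt : Nat.card H < Nat.card G := by
        refine lt_of_le_of_ne (Subgroup.card_le_card_group H) ?_
        intro heq
        exact hH (Subgroup.eq_top_of_card_eq H heq)
      refine ih H (by omega) ?_ (isCNGroup_subgroup hCN H)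
      exact Odd.of_dvd_nat hodd (Subgroup.card_subgroup_dvd_card H)
    have hnt : Nontrivial G := by
      by_contra hcon
      rw [not_nontrivial_iff_subsingleton] at hcon
      exact hns inferInstance
    have hsimple : IsSimpleGroup G := by
      refine ⟨?_⟩
      intro N hN
      by_contra hcon
      push Not at hcon
      obtain ⟨hN1, hN2⟩ := hcon
      have hNs := hsub N hN2
      have hq := Cfsg.Agent.S1473.result hCN N hNs
      have hqs : Group.IsSolvable (G ⧸ N) := by
        refine ih (G ⧸ N) ?_ ?_ hq
        · have h1 : Nat.card (G ⧸ N) * Nat.card N = Nat.card G :=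
            (Subgroup.card_eq_card_quotient_mul_card_subgroup N).symm
          have h2 : 1 < Nat.card N := (Subgroup.one_lt_card_iff_ne_bot N).mpr hN1
          have h3 : 0 < Nat.card (G ⧸ N) := Nat.card_pos
          nlinarith
        · exact Odd.of_dvd_nat hodd (Subgroup.card_quotient_dvd_card N)
      exact hns ((Group.isSolvable_iff_subgroup_quotient N).mpr ⟨hNs, hqs⟩)
    have hnc : ¬ IsMulCommutative G := by
      intro hc
      exact hns (Group.isSolvable_of_comm fun a b => hc.is_comm.comm a b)
    exact false_of_minSimple ⟨hodd, hsimple, hnc, hsub⟩ hCN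

/-- The CN-Theorem for odd order: a finite group of odd order in which every non-identity element has a nilpotent centralizer (a CN-group) is solvable. -/
theorem result {G : Type*} [Group G] [Finite G] (hodd : Odd (Nat.card G)) (hCN : Cfsg.IsCNGroup G) : Group.IsSolvable G := by
  exact result_aux _ G le_rfl hodd hCN

end Cfsg.Agent.S0183
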