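import Cfsg.Statements.S0184
-- import your own Cfsg.Agent.* helpers here
import Mathlib

set_option autoImplicit false
open Cfsg

namespace Cfsg.Agent.S0184

/-- Transport of a finite-dimensional irreducible representation to `Fin n → ℂ`. -/
theorem exists_fin_model {G : Type*} [Group G] {V : Type*} [AddCommGroup V] [Module ℂ V]
    [FiniteDimensional ℂ V] (ρ : Representation ℂ G V) (hρ : ρ.IsIrreducible) :
    ∃ (n : ℕ) (σ : Representation ℂ G (Fin n → ℂ)), σ.IsIrreducible ∧
      Nonempty (Representation.Equiv ρ σ) := by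
  classical
  let e : V ≃ₗ[ℂ] (Fin (Module.finrank ℂ V) → ℂ) := (Module.finBasis ℂ V).equivFun
  let σ : Representation ℂ G (Fin (Module.finrank ℂ V) → ℂ) :=
    { toFun := fun g => e.toLinearMap ∘ₗ (ρ g) ∘ₗ e.symm.toLinearMap
      map_one' := by
        rw [map_one]
        apply LinearMap.ext
        intro v
        simp
      map_mul' := by
        intro a b
        rw [map_mul]
        apply LinearMap.ext
        intro v
        simp }
  have he : ∀ g, e.toLinearMap ∘ₗ (ρ g) = (σ g) ∘ₗ e.toLinearMap := by
    intro g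
    apply LinearMap.ext
    intro v
    simp [σ]
  refine ⟨Module.finrank ℂ V, σ, ?_, ⟨Representation.Equiv.mk e he⟩⟩
  have hσρ : ∀ (g : G) (v : V), σ g (e v) = e (ρ g v) := fun g v => by
    have := LinearMap.congr_fun (he g) v
    simpa using this.symm
  have hσρ' : ∀ (g : G) (w : Fin (Module.finrank ℂ V) → ℂ), e.symm (σ g w) = ρ g (e.symm w) := by
    intro g w
    rw [LinearEquiv.symm_apply_eq, ← hσρ, LinearEquiv.apply_symm_apply]
  let φ : Subrepresentation ρ ≃o Subrepresentation σ :=
    { toFun := fun N => ⟨N.toSubmodule.map e.toLinearMap, by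
        rintro g v ⟨w, hw, rfl⟩
        exact ⟨ρ g w, N.apply_mem_toSubmodule g hw, (hσρ g w).symm⟩⟩
      invFun := fun N => ⟨N.toSubmodule.map e.symm.toLinearMap, by
        rintro g v ⟨w, hw, rfl⟩
        exact ⟨σ g w, N.apply_mem_toSubmodule g hw, (hσρ' g w)⟩⟩
      left_inv := by
        intro N
        apply Subrepresentation.toSubmodule_injective
        ext v
        simp
      right_inv := by
        intro N
        apply Subrepresentation.toSubmodule_injective
        ext v
        simp
      map_rel_iff' := by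
        intro N M
        exact Submodule.map_le_map_iff_of_injective e.injective _ _ }
  exact (OrderIso.isSimpleOrder_iff φ).mp hρ

set_option backward.isDefEq.respectTransparency false in
/-- A simple module over the complex group algebra of a finite group, as an irreducible
representation on a coordinate space. -/
theorem exists_fin_model_of_simple {G : Type*} [Group G] [Finite G] {M : Type*} [AddCommGroup M]
    [Module (MonoidAlgebra ℂ G) M] (hM : IsSimpleModule (MonoidAlgebra ℂ G) M) :
    ∃ (n : ℕ) (σ : Representation ℂ G (Fin n → ℂ)), σ.IsIrreducible ∧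
      ∃ e : M ≃ (Fin n → ℂ), ∀ (g : G) (m : M), e (MonoidAlgebra.single g (1 : ℂ) • m) = σ g (e m) := by
  classical
  have hSirr := (Representation.isSimpleModule_iff_irreducible_ofModule (k := ℂ) (G := G) M).mp hM
  have hfd : Module.Finite ℂ (MonoidAlgebra ℂ G) := inferInstance
  have hfS : Module.Finite (MonoidAlgebra ℂ G) M := inferInstance
  let _ : Module (MonoidAlgebra ℂ G) (RestrictScalars ℂ (MonoidAlgebra ℂ G) M) :=
    RestrictScalars.moduleOrig ℂ (MonoidAlgebra ℂ G) M
  have hfS' : Module.Finite (MonoidAlgebra ℂ G) (RestrictScalars ℂ (MonoidAlgebra ℂ G) M) := hfS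
  have : FiniteDimensional ℂ (RestrictScalars ℂ (MonoidAlgebra ℂ G) M) :=
    Module.Finite.trans (MonoidAlgebra ℂ G) _
  obtain ⟨n, σ, hσ, ⟨φ⟩⟩ := exists_fin_model _ hSirr
  refine ⟨n, σ, hσ, ((RestrictScalars.addEquiv ℂ (MonoidAlgebra ℂ G) M).symm.toEquiv.trans
    φ.toLinearEquiv.toEquiv), ?_⟩
  intro g m
  have h3 := Representation.IntertwiningMap.isIntertwining _ _ φ.toIntertwiningMap g
    ((RestrictScalars.addEquiv ℂ (MonoidAlgebra ℂ G) M).symm m)
  exact h3

/-- If an element `z ≠ 1` of a finite group is given then it acts nontrivially in some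
irreducible representation. -/
theorem exists_irreducible_ne_one {G : Type*} [Group G] [Finite G] (z : G) (hz : z ≠ 1) :
    ∃ (n : ℕ) (σ : Representation ℂ G (Fin n → ℂ)), σ.IsIrreducible ∧ σ z ≠ 1 := by
  classical
  have : NeZero (Nat.card G : ℂ) := ⟨by exact_mod_cast Nat.card_pos.ne'⟩
  have hss : IsSemisimpleModule (MonoidAlgebra ℂ G) (MonoidAlgebra ℂ G) := inferInstance
  have htop := IsSemisimpleModule.sSup_simples_eq_top (MonoidAlgebra ℂ G) (MonoidAlgebra ℂ G)
  obtain ⟨S, hS, x, hxS, hx⟩ : ∃ S : Submodule (MonoidAlgebra ℂ G) (MonoidAlgebra ℂ G),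
      IsSimpleModule (MonoidAlgebra ℂ G) S ∧ ∃ x ∈ S, MonoidAlgebra.single z (1 : ℂ) * x ≠ x := by
    by_contra hcon
    push Not at hcon
    have h1 : (1 : MonoidAlgebra ℂ G) ∈
        sSup {m : Submodule (MonoidAlgebra ℂ G) (MonoidAlgebra ℂ G) |
          IsSimpleModule (MonoidAlgebra ℂ G) m} := by
      rw [htop]; trivial
    have key : ∀ y ∈ sSup {m : Submodule (MonoidAlgebra ℂ G) (MonoidAlgebra ℂ G) |
          IsSimpleModule (MonoidAlgebra ℂ G) m}, MonoidAlgebra.single z (1 : ℂ) * y = y := by
      intro y hy
      rw [sSup_eq_iSup'] at hy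
      refine Submodule.iSup_induction _ (motive := fun y => MonoidAlgebra.single z (1 : ℂ) * y = y)
        hy ?_ ?_ ?_
      · rintro ⟨S, hS⟩ x hx
        exact hcon S hS x hx
      · simp
      · intro a b ha hb
        rw [mul_add, ha, hb]
    have h2 := key 1 h1
    rw [mul_one, MonoidAlgebra.one_def] at h2
    have h3 : (MonoidAlgebra.of ℂ G) z = (MonoidAlgebra.of ℂ G) 1 := h2
    exact hz (MonoidAlgebra.of_injective h3)
  obtain ⟨n, σ, hσ, e, he⟩ := exists_fin_model_of_simple hS
  refine ⟨n, σ, hσ, fun h1 => hx ?_⟩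
  have h2 := he z ⟨x, hxS⟩
  rw [h1] at h2
  have h3 := e.injective h2
  exact congrArg Subtype.val h3

/-- For a faithful irreducible complex representation of a finite group the centre is cyclic. -/
theorem isCyclic_center {G : Type*} [Group G] [Finite G] (n : ℕ)
    (ρ : Representation ℂ G (Fin n → ℂ)) (hρ : ρ.IsIrreducible) (hinj : Function.Injective ρ) :
    IsCyclic (Subgroup.center G) := by
  classical
  have hbij := Representation.IsIrreducible.algebraMap_intertwiningMap_bijective_of_isAlgClosed
    (ρ := ρ)
  have hsc : ∀ z : Subgroup.center G, ∃ c : ℂ, ρ z = c • (1 : Module.End ℂ (Fin n → ℂ)) := by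
    intro z
    let f : Representation.IntertwiningMap ρ ρ :=
      { toLinearMap := ρ z
        isIntertwining' := by
          intro g
          change ρ z * ρ g = ρ g * ρ z
          rw [← map_mul, ← map_mul, Subgroup.mem_center_iff.mp z.2 g] }
    obtain ⟨c, hc⟩ := hbij.2 f
    refine ⟨c, ?_⟩
    have : ρ z = f.toLinearMap := rfl
    rw [this, ← hc]
    rfl
  have hnt : Nontrivial (Fin n → ℂ) := by
    have h1 : (⊥ : Subrepresentation ρ) ≠ ⊤ := bot_ne_top
    by_contra hcon
    rw [not_nontrivial_iff_subsingleton] at hcon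
    apply h1
    apply Subrepresentation.toSubmodule_injective
    exact Subsingleton.elim _ _
  choose c hc using hsc
  have hone : (1 : Module.End ℂ (Fin n → ℂ)) ≠ 0 := one_ne_zero
  have hcinj : ∀ a b : ℂ, a • (1 : Module.End ℂ (Fin n → ℂ)) = b • (1 : Module.End ℂ (Fin n → ℂ)) → a = b :=
    fun a b h => smul_left_injective ℂ hone h
  let f : Subgroup.center G →* ℂ :=
    { toFun := c
      map_one' := by
        apply hcinj
        rw [← hc]
        simp
      map_mul' := by
        intro a b
        apply hcinj
        rw [← hc, Subgroup.coe_mul, map_mul, hc, hc, smul_mul_smul_comm, mul_one] }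
  refine isCyclic_of_injective_ringHom f ?_
  intro a b hab
  have hab' : c a = c b := hab
  apply Subtype.ext
  apply hinj
  rw [hc, hc, hab']

/-- A nontrivial normal subgroup of a finite `p`-group contains a central element of order `p`. -/
theorem exists_center_mem {G : Type*} [Group G] [Finite G] (p : ℕ) [Fact p.Prime]
    (hG : IsPGroup p G) (N : Subgroup G) [N.Normal] (hN : N ≠ ⊥) :
    ∃ w ∈ N, w ∈ Subgroup.center G ∧ orderOf w = p := by
  classical
  have hGc : IsPGroup p (ConjAct G) := hG
  have hdvd : p ∣ Nat.card N := by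
    have h1 := (hG.to_subgroup N).card_eq_or_dvd
    rcases h1 with h1 | h1
    · exact absurd (Subgroup.card_eq_one.mp h1) hN
    · exact h1
  have h1 : (1 : N) ∈ MulAction.fixedPoints (ConjAct G) N := by
    intro g
    apply Subtype.ext
    simp
  obtain ⟨b, hb, hb1⟩ := hGc.exists_fixed_point_of_prime_dvd_card_of_fixed_point N hdvd h1
  have hbc : (b : G) ∈ Subgroup.center G := by
    rw [Subgroup.mem_center_iff]
    intro g
    have h2 := congrArg Subtype.val (hb (ConjAct.toConjAct g))
    rw [ConjAct.Subgroup.val_conj_smul, ConjAct.toConjAct_smul] at h2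
    exact mul_inv_eq_iff_eq_mul.mp h2
  have hne : N ⊓ Subgroup.center G ≠ ⊥ := by
    intro h3
    apply hb1
    have h4 : (b : G) ∈ N ⊓ Subgroup.center G := ⟨b.2, hbc⟩
    rw [h3, Subgroup.mem_bot] at h4
    exact (Subtype.ext h4).symm
  have hdvd2 : p ∣ Nat.card (N ⊓ Subgroup.center G : Subgroup G) := by
    have h1 := (hG.to_subgroup (N ⊓ Subgroup.center G)).card_eq_or_dvd
    rcases h1 with h1 | h1
    · exact absurd (Subgroup.card_eq_one.mp h1) hne
    · exact h1
  obtain ⟨x, hx⟩ := exists_prime_orderOf_dvd_card' p hdvd2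
  exact ⟨x, x.2.1, x.2.2, by rw [Subgroup.orderOf_coe]; exact hx⟩


/-- In a finite group with cyclic centre, two central elements of the same prime order generate
the same subgroup. -/
theorem mem_zpowers_of_center {G : Type*} [Group G] [Finite G] (p : ℕ) [Fact p.Prime]
    (hc : IsCyclic (Subgroup.center G)) (w z : G) (hw : w ∈ Subgroup.center G)
    (hz : z ∈ Subgroup.center G) (hwp : orderOf w = p) (hzp : orderOf z = p) :
    z ∈ Subgroup.zpowers w := by
  classical
  have := Fintype.ofFinite (Subgroup.center G)
  let w' : Subgroup.center G := ⟨w, hw⟩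
  let z' : Subgroup.center G := ⟨z, hz⟩
  have hw' : orderOf w' = p := by rw [← hwp, ← Subgroup.orderOf_coe]
  have hz' : orderOf z' = p := by rw [← hzp, ← Subgroup.orderOf_coe]
  have hle := IsCyclic.card_pow_eq_one_le (α := Subgroup.center G) (n := p) (Fact.out : p.Prime).pos
  have hsub : (Finset.univ.filter (fun a : Subgroup.center G => a ∈ Subgroup.zpowers w')) ⊆
      (Finset.univ.filter (fun a : Subgroup.center G => a ^ p = 1)) := by
    intro a ha
    simp only [Finset.mem_filter, Finset.mem_univ, true_and] at ha ⊢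
    rw [← hw']
    obtain ⟨k, rfl⟩ := Subgroup.mem_zpowers_iff.mp ha
    rw [← zpow_natCast, ← zpow_mul, mul_comm, zpow_mul, zpow_natCast, pow_orderOf_eq_one, one_zpow]
  have hcard : (Finset.univ.filter (fun a : Subgroup.center G => a ∈ Subgroup.zpowers w')).card = p := by
    rw [← hw', ← Nat.card_zpowers, Nat.card_eq_fintype_card, Fintype.card_subtype]
  have heq := Finset.eq_of_subset_of_card_le hsub (by rw [hcard]; exact hle)
  have hzmem : z' ∈ (Finset.univ.filter (fun a : Subgroup.center G => a ^ p = 1)) := by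
    simp only [Finset.mem_filter, Finset.mem_univ, true_and]
    rw [← hz', pow_orderOf_eq_one]
  rw [← heq] at hzmem
  simp only [Finset.mem_filter, Finset.mem_univ, true_and] at hzmem
  obtain ⟨k, hk⟩ := Subgroup.mem_zpowers_iff.mp hzmem
  refine Subgroup.mem_zpowers_iff.mpr ⟨k, ?_⟩
  have := congrArg Subtype.val hk
  simpa using this

/-- A finite p-group admits a faithful irreducible complex representation if and only if its centre is cyclic. -/
theorem result {G : Type*} [Group G] [Finite G] (p : ℕ) [Fact p.Prime] (hG : IsPGroup p G) : (∃ (n : ℕ) (ρ : Representation ℂ G (Fin n → ℂ)), ρ.IsIrreducible ∧ Function.Injective ρ) ↔ IsCyclic (Subgroup.center G) := by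
  classical
  constructor
  · rintro ⟨n, ρ, hρ, hinj⟩
    exact isCyclic_center n ρ hρ hinj
  · intro hc
    rcases subsingleton_or_nontrivial G with hs | hn
    · have h1 : Representation.IsIrreducible (1 : Representation ℂ G ℂ) := by
        have h2 : IsSimpleOrder (Submodule ℂ ℂ) := inferInstance
        let φ : Subrepresentation (1 : Representation ℂ G ℂ) ≃o Submodule ℂ ℂ :=
          { toFun := fun N => N.toSubmodule
            invFun := fun N => ⟨N, by intro g v hv; exact hv⟩
            left_inv := fun N => rfl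
            right_inv := fun N => rfl
            map_rel_iff' := Iff.rfl }
        exact (OrderIso.isSimpleOrder_iff φ).mpr h2
      obtain ⟨n, σ, hσ, -⟩ := exists_fin_model _ h1
      exact ⟨n, σ, hσ, fun a b _ => Subsingleton.elim a b⟩
    · obtain ⟨z, -, hzc, hzp⟩ := exists_center_mem p hG (⊤ : Subgroup G) top_ne_bot
      have hz1 : z ≠ 1 := by
        rintro rfl
        rw [orderOf_one] at hzp
        exact (Fact.out : p.Prime).one_lt.ne hzp
      obtain ⟨n, σ, hσ, hσz⟩ := exists_irreducible_ne_one z hz1
      refine ⟨n, σ, hσ, ?_⟩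
      let f : G →* Module.End ℂ (Fin n → ℂ) := σ
      have hker : f.ker = ⊥ := by
        by_contra hne
        obtain ⟨w, hw, hwc, hwp⟩ := exists_center_mem p hG f.ker hne
        apply hσz
        have h3 := mem_zpowers_of_center p hc w z hwc hzc hwp hzp
        have h4 : z ∈ f.ker := (Subgroup.zpowers_le.mpr hw) h3
        exact h4
      exact (MonoidHom.ker_eq_bot_iff f).mp hker

end Cfsg.Agent.S0184
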