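import Cfsg.Statements.S0189

set_option autoImplicit false
open Cfsg

namespace Cfsg.Agent.S0189

/-- A character vanishing on the non-identity elements of a subgroup `H` has degree divisible by
`|H|`. -/
theorem card_dvd_degree_of_vanishing {G : Type*} [Group G] [Finite G] (H : Subgroup G)
    (χ : G → ℂ) (hχ : Cfsg.IsCharacter G χ) (hvan : ∀ g : G, g ∈ H → g ≠ 1 → χ g = 0) :
    ∃ k : ℕ, χ 1 = (Nat.card H : ℂ) * k := by
  obtain ⟨n, ρ, rfl⟩ := hχ
  have : Fintype H := Fintype.ofFinite _
  have hcard : (Nat.card H : ℂ) ≠ 0 := by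
    exact_mod_cast Nat.card_pos.ne'
  let : Invertible (Nat.card H : ℂ) := invertibleOfNonzero hcard
  let σ : Representation ℂ H (Fin n → ℂ) := ρ.comp H.subtype
  have h := Representation.card_inv_mul_sum_char_eq_finrank σ
  refine ⟨Module.finrank ℂ (Representation.invariants σ), ?_⟩
  have hsum : ∑ g : H, σ.character g = ρ.character 1 := by
    rw [Finset.sum_eq_single (1 : H)]
    · rfl
    · intro g _ hg
      exact hvan g g.2 (fun h => hg (Subtype.ext h))
    · intro h; exact absurd (Finset.mem_univ _) h
  rw [hsum] at h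
  rw [← h]
  field_simp

/-- If a complex character of a finite group vanishes at every non-identity element of a Sylow p-subgroup P, then |P| divides its degree. -/
theorem result {G : Type*} [Group G] [Finite G] (p : ℕ) [Fact p.Prime] (P : Sylow p G) (χ : G → ℂ) (hχ : Cfsg.IsCharacter G χ) (hvan : ∀ g : G, g ∈ P → g ≠ 1 → χ g = 0) : ∃ k : ℕ, χ 1 = (Nat.card P : ℂ) * k :=
  card_dvd_degree_of_vanishing (P : Subgroup G) χ hχ hvan

end Cfsg.Agent.S0189
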