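import Cfsg.Statements.S0191
import Cfsg.Agent.Characters.Galois

set_option autoImplicit false
open Cfsg

namespace Cfsg.Agent.S0191

open Cfsg.Agent.Characters.Galois

/-- The character value at the inverse is the complex conjugate. -/
theorem character_inv {G : Type*} [Group G] [Finite G] {V : Type*} [AddCommGroup V] [Module ℂ V]
    [FiniteDimensional ℂ V] (ρ : Representation ℂ G V) (g : G) :
    ρ.character g⁻¹ = (starRingEnd ℂ) (ρ.character g) := by
  have hn : Nat.card G ≠ 0 := Nat.card_pos.ne'
  have hg : g ^ Nat.card G = 1 := pow_card_eq_one'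
  have h1 := map_character (starRingEnd ℂ) hn (m := Nat.card G - 1) (fun z hz => by
    have hnorm : ‖z‖ = 1 := Complex.norm_eq_one_of_pow_eq_one hz hn
    have h2 : z * z ^ (Nat.card G - 1) = 1 := by
      rw [← pow_succ', Nat.sub_add_cancel Nat.card_pos, hz]
    have h3 : z * (starRingEnd ℂ) z = 1 := by
      rw [Complex.mul_conj, Complex.normSq_eq_norm_sq, hnorm]; simp
    have hz0 : z ≠ 0 := by
      rintro rfl
      simp at hnorm
    exact mul_left_cancel₀ hz0 (h3.trans h2.symm)) ρ g hg
  rw [h1]
  congr 1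
  have h4 : g * g ^ (Nat.card G - 1) = 1 := by
    rw [← pow_succ', Nat.sub_add_cancel Nat.card_pos, hg]
  exact inv_eq_of_mul_eq_one_right h4

/-- The sum of the squared absolute values of an irreducible character is the group order. -/
theorem sum_norm_sq {G : Type*} [Group G] [Fintype G] {V : Type*} [AddCommGroup V] [Module ℂ V]
    [FiniteDimensional ℂ V] (ρ : Representation ℂ G V) [ρ.IsIrreducible] :
    ∑ g : G, ‖ρ.character g‖ ^ 2 = Nat.card G := by
  have hcard : (Nat.card G : ℂ) ≠ 0 := by
    exact_mod_cast Nat.card_pos.ne'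
  let : Invertible (Nat.card G : ℂ) := invertibleOfNonzero hcard
  have h := Representation.char_orthonormal ρ ρ
  rw [if_pos ⟨Representation.Equiv.refl ρ⟩] at h
  have h2 : ∑ g : G, ρ.character g * ρ.character g⁻¹ = Nat.card G := by
    have h3 : (Nat.card G : ℂ) * ((Nat.card G : ℂ)⁻¹ * ∑ g : G, ρ.character g * ρ.character g⁻¹) =
        (Nat.card G : ℂ) * 1 := by rw [h]
    rw [← mul_assoc, mul_inv_cancel₀ hcard, one_mul, mul_one] at h3
    exact h3
  have h4 : ((∑ g : G, ‖ρ.character g‖ ^ 2 : ℝ) : ℂ) = Nat.card G := by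
    rw [← h2, Complex.ofReal_sum]
    refine Finset.sum_congr rfl fun g _ => ?_
    rw [character_inv, Complex.mul_conj, Complex.normSq_eq_norm_sq]
  exact_mod_cast h4

/-- An irreducible complex representation of a finite group of degree greater than 1 has a character that vanishes somewhere. -/
theorem result {G : Type*} [Group G] [Finite G] {V : Type*} [AddCommGroup V] [Module ℂ V] [FiniteDimensional ℂ V] (ρ : Representation ℂ G V) [ρ.IsIrreducible] (hdeg : 1 < Module.finrank ℂ V) : ∃ g : G, ρ.character g = 0 := by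
  classical
  have : Fintype G := Fintype.ofFinite G
  by_contra hcon
  push Not at hcon
  have hn : Nat.card G ≠ 0 := Nat.card_pos.ne'
  set S : Finset G := Finset.univ.erase 1 with hS
  set P : ℂ := ∏ g ∈ S, ρ.character g with hP
  have hP0 : P ≠ 0 := Finset.prod_ne_zero_iff.mpr fun g _ => hcon g
  -- `P` is an algebraic integer
  have hPint : IsIntegral ℤ P := by
    refine IsIntegral.prod _ fun g _ => ?_
    have hζ := Complex.isPrimitiveRoot_exp (Nat.card G) hn
    obtain ⟨f, hf⟩ := exists_int_poly ρ g hn pow_card_eq_one' hζ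
    have h1 : IsIntegral ℤ (Complex.exp (2 * Real.pi * Complex.I / (Nat.card G))) :=
      IsIntegral.of_pow (Nat.pos_of_ne_zero hn) (by
        rw [hζ.pow_eq_one]; exact isIntegral_one)
    have h2 := hf 1
    rw [pow_one, pow_one] at h2
    rw [h2]
    exact IsIntegral.of_mem_of_fg _ h1.fg_adjoin_singleton _
      (Polynomial.aeval_mem_adjoin_singleton ℤ _)
  -- `P` is fixed by every automorphism
  have hfix : ∀ σ : ℂ ≃+* ℂ, σ P = P := by
    intro σ
    obtain ⟨m, hm, hσ⟩ := exists_pow_of_ringHom (σ : ℂ →+* ℂ) hn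
    rw [hP, map_prod]
    have h1 : ∀ g ∈ S, σ (ρ.character g) = ρ.character (g ^ m) := fun g _ =>
      map_character (σ : ℂ →+* ℂ) hn hσ ρ g pow_card_eq_one'
    rw [Finset.prod_congr rfl h1]
    let e : G ≃ G := powCoprime hm.symm
    have he : ∀ g, e g = g ^ m := fun g => rfl
    refine Finset.prod_bij (fun g _ => e g) ?_ ?_ ?_ ?_
    · intro g hg
      rw [hS, Finset.mem_erase] at hg ⊢
      refine ⟨?_, Finset.mem_univ _⟩
      intro h
      apply hg.1
      apply e.injective
      rw [h, he, one_pow]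
    · intro a _ b _ hab
      exact e.injective hab
    · intro b hb
      refine ⟨e.symm b, ?_, e.apply_symm_apply b⟩
      rw [hS, Finset.mem_erase] at hb ⊢
      refine ⟨?_, Finset.mem_univ _⟩
      intro h
      apply hb.1
      rw [← e.apply_symm_apply b, h, he, one_pow]
    · intro g _
      rfl
  obtain ⟨k, hk⟩ := exists_int_of_forall_ringEquiv hPint hfix
  have hk0 : k ≠ 0 := by
    rintro rfl
    exact hP0 (by rw [hk]; simp)
  have hPnorm : 1 ≤ ‖P‖ := by
    rw [hk, Complex.norm_intCast]
    exact_mod_cast Int.one_le_abs hk0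
  -- the arithmetic-geometric inequality
  have hpos : ∀ g, 0 < ‖ρ.character g‖ ^ 2 := fun g => by
    have := norm_pos_iff.mpr (hcon g)
    positivity
  have hAG : (S.card : ℝ) ≤ ∑ g ∈ S, ‖ρ.character g‖ ^ 2 := by
    have h1 : ∑ g ∈ S, (Real.log (‖ρ.character g‖ ^ 2) + 1) ≤ ∑ g ∈ S, ‖ρ.character g‖ ^ 2 := by
      refine Finset.sum_le_sum fun g _ => ?_
      have := Real.log_le_sub_one_of_pos (hpos g)
      linarith
    have h2 : 0 ≤ ∑ g ∈ S, Real.log (‖ρ.character g‖ ^ 2) := by
      rw [← Real.log_prod (fun g _ => (hpos g).ne'), Finset.prod_pow, ← norm_prod]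
      apply Real.log_nonneg
      exact one_le_pow₀ hPnorm
    rw [Finset.sum_add_distrib, Finset.sum_const, nsmul_eq_mul, mul_one] at h1
    linarith
  have hsum := sum_norm_sq ρ
  rw [← Finset.add_sum_erase _ _ (Finset.mem_univ (1 : G)), ← hS, Representation.char_one] at hsum
  have hScard : (S.card : ℝ) = Nat.card G - 1 := by
    rw [hS, Finset.card_erase_of_mem (Finset.mem_univ _), Finset.card_univ, Nat.card_eq_fintype_card,
      Nat.cast_sub Fintype.card_pos, Nat.cast_one]
  rw [Complex.norm_natCast] at hsum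
  have hd : (1 : ℝ) < (Module.finrank ℂ V : ℝ) := by exact_mod_cast hdeg
  nlinarith

end Cfsg.Agent.S0191
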