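import Cfsg.Statements.S0212
import Cfsg.Agent.Involutions.PairCount
-- import your own Cfsg.Agent.* helpers here

set_option autoImplicit false
open Cfsg

namespace Cfsg.Agent.S0212

open Cfsg.Agent.Involutions.PairCount

/-- Brauer–Fowler: if the class of the involution `t` has at least two elements, then some
nonidentity element has centralizer of index at most `2 n ^ 2`, with `n = |C(t)|`. -/
theorem exists_index_centralizer_le {G : Type*} [Group G] [Finite G] (t : G) (ht : orderOf t = 2)
    (hm : 2 ≤ Nat.card {u : G // IsConj t u}) :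
    ∃ x : G, x ≠ 1 ∧ (Subgroup.centralizer ({x} : Set G)).index ≤
      2 * (Nat.card (Subgroup.centralizer ({t} : Set G))) ^ 2 := by
  classical
  have : Fintype G := Fintype.ofFinite G
  by_contra hcon
  push Not at hcon
  set n := Nat.card (Subgroup.centralizer ({t} : Set G)) with hn
  have k := card_class_mul_card_centralizer t
  set m := Nat.card {u : G // IsConj t u} with hm'
  have hord : ∀ y : G, IsConj t y → orderOf y = 2 := by
    intro y hxy
    obtain ⟨g, rfl⟩ := isConj_iff.mp hxy
    rw [← ht]
    exact MulEquiv.orderOf_eq (MulAut.conj g) t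
  let s : Finset (G × G) := Finset.univ.filter (fun p => IsConj t p.1 ∧ IsConj t p.2)
  let K : Finset G := Finset.univ.filter (fun z => IsConj t z)
  have hK : K.card = m := by
    rw [hm', Nat.card_eq_fintype_card, Fintype.card_subtype]
  have hs : s.card = m * m := by
    rw [← hK, ← Finset.card_product]
    congr 1
    ext ⟨u, v⟩
    simp [s, K]
  have hcount := Finset.card_eq_sum_card_fiberwise (s := s) (t := Finset.univ)
    (f := fun p : G × G => p.1 * p.2) (fun _ _ => Finset.mem_univ _)
  rw [← Finset.add_sum_erase _ _ (Finset.mem_univ (1 : G))] at hcount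
  have h1 : (s.filter (fun p => p.1 * p.2 = 1)).card = m := by
    rw [← hK]
    refine Finset.card_bij' (fun p _ => p.1) (fun u _ => (u, u)) ?_ ?_ ?_ ?_
    · intro p hp
      simp only [s, K, Finset.mem_filter, Finset.mem_univ, true_and] at hp ⊢
      exact hp.1.1
    · intro u hu
      simp only [s, K, Finset.mem_filter, Finset.mem_univ, true_and] at hu ⊢
      exact ⟨⟨hu, hu⟩, mul_self_of_orderOf_two (hord u hu)⟩
    · rintro ⟨u, v⟩ hp
      simp only [s, Finset.mem_filter, Finset.mem_univ, true_and] at hp
      simp only [Prod.mk.injEq, true_and]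
      have hu := mul_self_of_orderOf_two (hord u hp.1.1)
      exact mul_left_cancel (hu.trans hp.2.symm)
    · intro u _
      rfl
  have h2 : ∀ x ∈ (Finset.univ : Finset G).erase 1,
      2 * n ^ 2 * (s.filter (fun p => p.1 * p.2 = x)).card ≤ Nat.card G := by
    intro x hx
    have hx1 : x ≠ 1 := (Finset.mem_erase.mp hx).1
    have hc := card_pairs_mul_eq_le x (fun u => IsConj t u)
      (fun u hu => mul_self_of_orderOf_two (hord u hu))
    have he : (s.filter (fun p => p.1 * p.2 = x)).card =
        Nat.card {p : G × G // IsConj t p.1 ∧ IsConj t p.2 ∧ p.1 * p.2 = x} := by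
      rw [Nat.card_eq_fintype_card, Fintype.card_subtype]
      congr 1
      ext p
      simp only [s, Finset.mem_filter, Finset.mem_univ, true_and, and_assoc]
    rw [he]
    calc 2 * n ^ 2 * Nat.card {p : G × G // IsConj t p.1 ∧ IsConj t p.2 ∧ p.1 * p.2 = x}
        ≤ (Subgroup.centralizer ({x} : Set G)).index *
          Nat.card (Subgroup.centralizer ({x} : Set G)) :=
          Nat.mul_le_mul (hcon x hx1).le hc
      _ = Nat.card G := Subgroup.index_mul_card _
  have h3 : 2 * n ^ 2 * ∑ x ∈ (Finset.univ : Finset G).erase 1,
      (s.filter (fun p => p.1 * p.2 = x)).card < Nat.card G * Nat.card G := by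
    rw [Finset.mul_sum]
    refine (Finset.sum_le_card_nsmul _ _ _ h2).trans_lt ?_
    rw [smul_eq_mul]
    refine Nat.mul_lt_mul_of_pos_right ?_ Nat.card_pos
    rw [Finset.card_erase_of_mem (Finset.mem_univ _), Finset.card_univ, Nat.card_eq_fintype_card]
    have : 0 < Fintype.card G := Fintype.card_pos
    omega
  rw [h1, hs] at hcount
  have hpos : 0 < n := Nat.card_pos
  -- 2 n^2 (m^2 - m) ≤ n^2 m^2
  have h4 : ∑ x ∈ (Finset.univ : Finset G).erase 1,
      (s.filter (fun p => p.1 * p.2 = x)).card = m * (m - 1) := by
    rw [Nat.mul_sub, mul_one]; omega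
  rw [h4, ← k] at h3
  obtain ⟨j, hj⟩ : ∃ j, m = j + 2 := ⟨m - 2, by omega⟩
  rw [hj] at h3
  have h5 : j + 2 - 1 = j + 1 := rfl
  rw [h5] at h3
  have h6 : n ^ 2 * ((j + 2) * (j + 2)) ≤ 2 * n ^ 2 * ((j + 2) * (j + 1)) := by
    have : (j + 2) * (j + 2) ≤ 2 * ((j + 2) * (j + 1)) := by nlinarith
    calc n ^ 2 * ((j + 2) * (j + 2)) ≤ n ^ 2 * (2 * ((j + 2) * (j + 1))) :=
          Nat.mul_le_mul_left _ this
      _ = 2 * n ^ 2 * ((j + 2) * (j + 1)) := by ring
  have h7 : (j + 2) * n * ((j + 2) * n) = n ^ 2 * ((j + 2) * (j + 2)) := by ring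
  rw [h7] at h3
  exact absurd h3 (not_lt.mpr h6)

/-- A finite simple group embeds in the symmetric group on the cosets of a proper subgroup. -/
theorem card_le_factorial_index {G : Type*} [Group G] [Finite G] [IsSimpleGroup G]
    (H : Subgroup G) (hH : H ≠ ⊤) : Nat.card G ≤ Nat.factorial H.index := by
  have hcore : H.normalCore = ⊥ := by
    rcases IsSimpleGroup.eq_bot_or_eq_top_of_normal H.normalCore H.normalCore_normal with h | h
    · exact h
    · exact absurd (top_le_iff.mp (h ▸ H.normalCore_le)) hH
  have hinj : Function.Injective (MulAction.toPermHom G (G ⧸ H)) := by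
    rw [← MonoidHom.ker_eq_bot_iff, ← Subgroup.normalCore_eq_ker, hcore]
  have hle := Nat.card_le_card_of_injective _ hinj
  classical
  have : Fintype (G ⧸ H) := Fintype.ofFinite _
  have hc : Nat.card (Equiv.Perm (G ⧸ H)) = H.index.factorial := by
    rw [Nat.card_eq_fintype_card, Fintype.card_perm, Subgroup.index, Nat.card_eq_fintype_card]
  rw [hc] at hle
  exact hle

/-- The Brauer–Fowler bound: if G is a finite simple group and t an involution of G whose centralizer has order n, then |G| ≤ (2n^2)!. -/
theorem result {G : Type*} [Group G] [Finite G] [IsSimpleGroup G] (t : G) (ht : orderOf t = 2) : Nat.card G ≤ Nat.factorial (2 * (Nat.card (Subgroup.centralizer ({t} : Set G))) ^ 2) := by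
  have k := card_class_mul_card_centralizer t
  have hpos : 0 < Nat.card (Subgroup.centralizer ({t} : Set G)) := Nat.card_pos
  have hmpos : 0 < Nat.card {u : G // IsConj t u} := by
    have : Nonempty {u : G // IsConj t u} := ⟨⟨t, IsConj.refl t⟩⟩
    exact Nat.card_pos
  by_cases hm : 2 ≤ Nat.card {u : G // IsConj t u}
  · obtain ⟨x, hx1, hx⟩ := exists_index_centralizer_le t ht hm
    by_cases htop : Subgroup.centralizer ({x} : Set G) = ⊤
    · -- then `x` is central, `G` is abelian, and the class of `t` has one element
      exfalso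
      have hxc : x ∈ Subgroup.center G := by
        rw [Subgroup.mem_center_iff]
        intro g
        have : g ∈ Subgroup.centralizer ({x} : Set G) := htop ▸ Subgroup.mem_top g
        exact (Subgroup.mem_centralizer_singleton_iff.mp this)
      have hcen : Subgroup.center G = ⊤ := by
        rcases IsSimpleGroup.eq_bot_or_eq_top_of_normal (Subgroup.center G) inferInstance with h | h
        · rw [h, Subgroup.mem_bot] at hxc
          exact absurd hxc hx1
        · exact h
      have hct : Subgroup.centralizer ({t} : Set G) = ⊤ := by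
        rw [eq_top_iff]
        intro g _
        rw [Subgroup.mem_centralizer_singleton_iff]
        have : t ∈ Subgroup.center G := hcen ▸ Subgroup.mem_top t
        exact (Subgroup.mem_center_iff.mp this g)
      rw [hct, Subgroup.card_top] at k
      have hG : 0 < Nat.card G := Nat.card_pos
      have : Nat.card {u : G // IsConj t u} = 1 := by
        have := Nat.eq_of_mul_eq_mul_right hG (k.trans (one_mul _).symm)
        exact this
      omega
    · exact (card_le_factorial_index _ htop).trans (Nat.factorial_le hx)
  · have h1 : Nat.card {u : G // IsConj t u} = 1 := by omega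
    rw [h1, one_mul] at k
    rw [k]
    refine le_trans ?_ (Nat.self_le_factorial _)
    have hG : 0 < Nat.card G := Nat.card_pos
    nlinarith

end Cfsg.Agent.S0212
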