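import Cfsg.Statements.S0219
import Mathlib.GroupTheory.Transfer

set_option autoImplicit false
open Cfsg

namespace Cfsg.Agent.S0219

open Subgroup in
/-- A finite group of even order with a cyclic Sylow 2-subgroup has a subgroup of index two. -/
theorem aux {G : Type*} [Group G] [Finite G] (heven : Even (Nat.card G)) (T : Sylow 2 G)
    (hT : IsCyclic (T : Subgroup G)) : ∃ H : Subgroup G, H.index = 2 := by
  have h2 : (2 : ℕ) ∣ Nat.card G := heven.two_dvd
  have hmin : (Nat.card G).minFac = 2 := (Nat.minFac_eq_two_iff _).2 h2
  have hcomp := IsCyclic.isComplement' hmin hT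
  set f := MonoidHom.transferSylow T (hT.normalizer_le_centralizer hmin) with hf
  have hidx : f.ker.index = Nat.card T := hcomp.symm.index_eq_card
  have hrange : f.range = ⊤ := by
    apply Subgroup.eq_top_of_card_eq
    rw [← hidx, Subgroup.index_ker]
  have hsurj : Function.Surjective f := MonoidHom.range_eq_top.1 hrange
  obtain ⟨n, hn⟩ := T.isPGroup'.exists_card_eq
  have hTne : Nat.card T ≠ 1 := by
    intro h1
    have hT1 : (T : Subgroup G) = ⊥ := Subgroup.card_eq_one.1 h1
    exact T.ne_bot_of_dvd_card h2 hT1
  have hn0 : n ≠ 0 := by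
    rintro rfl
    exact hTne (by simpa using hn)
  obtain ⟨m, rfl⟩ := Nat.exists_eq_succ_of_ne_zero hn0
  obtain ⟨K, hK⟩ := Sylow.exists_subgroup_card_pow_prime (G := T) 2 (n := m)
    (by rw [hn]; exact pow_dvd_pow 2 (Nat.le_succ m))
  have hKidx : K.index = 2 := by
    have h := K.card_mul_index
    rw [hK, hn, pow_succ] at h
    exact Nat.eq_of_mul_eq_mul_left (pow_pos (by norm_num) m) h
  exact ⟨K.comap f, by rw [Subgroup.index_comap_of_surjective _ hsurj, hKidx]⟩

/-- If a finite group has even order and a cyclic Sylow 2-subgroup, then it has a subgroup of index 2 (consider the parity of permutations in the regular representation). -/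
theorem result {G : Type*} [Group G] [Finite G] (heven : Even (Nat.card G)) (T : Sylow 2 G) (hT : IsCyclic (T : Subgroup G)) : ∃ H : Subgroup G, H.index = 2 := by
  exact aux heven T hT

end Cfsg.Agent.S0219
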