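import Cfsg.Statements.S0230
import Cfsg.Agent.Involutions.CommonInvolution
import Mathlib

set_option autoImplicit false
open Cfsg

namespace Cfsg.Agent.S0230

private theorem class_card {G : Type*} [Group G] [Finite G] (s : G) :
    ({y : G | IsConj s y}).ncard * Nat.card (Subgroup.centralizer ({s} : Set G)) = Nat.card G := by
  have h1 : (MulAction.orbit (ConjAct G) s) = {y : G | IsConj s y} := by
    ext y
    rw [Set.mem_setOf_eq, ConjAct.mem_orbit_conjAct, isConj_comm]
  have h2 : (MulAction.stabilizer (ConjAct G) s).index = (MulAction.orbit (ConjAct G) s).ncard :=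
    MulAction.index_stabilizer (ConjAct G) s
  have h3 := (MulAction.stabilizer (ConjAct G) s).index_mul_card
  rw [h2, h1] at h3
  rw [Subgroup.nat_card_centralizer_nat_card_stabilizer]
  exact h3

/-- Let G be a finite group with two non-conjugate involutions, and let t be an involution whose centralizer has maximal order among centralizers of involutions. Then |G| < |C_G(t)|^3. -/
theorem result {G : Type*} [Group G] [Finite G] (s t : G) (hs : orderOf s = 2) (ht : orderOf t = 2) (hnc : ¬ IsConj s t) (hmax : ∀ u : G, orderOf u = 2 → Nat.card (Subgroup.centralizer ({u} : Set G)) ≤ Nat.card (Subgroup.centralizer ({t} : Set G))) : Nat.card G < Nat.card (Subgroup.centralizer ({t} : Set G)) ^ 3 := by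
  classical
  haveI := Fintype.ofFinite G
  set c := Nat.card (Subgroup.centralizer ({t} : Set G)) with hc
  have hcpos : 0 < c := Nat.card_pos
  have key : ({y : G | IsConj s y}).ncard ≤ (c - 1) * c := by
    let Z : Finset G := Finset.univ.filter (fun z => Commute z t ∧ orderOf z = 2)
    have hsub : (Finset.univ.filter (fun y : G => IsConj s y)) ⊆
        Z.biUnion (fun z => Finset.univ.filter (fun y => y ∈ Subgroup.centralizer ({z} : Set G))) := by
      intro y hy
      rw [Finset.mem_filter] at hy
      have hy2 : orderOf y = 2 := by
        obtain ⟨g, hg⟩ := isConj_iff.mp hy.2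
        rw [← hg, ← hs]
        exact orderOf_injective (MulAut.conj g).toMonoidHom (MulAut.conj g).injective s
      have hnc' : ¬ IsConj t y := fun h => hnc (hy.2.trans h.symm)
      obtain ⟨z, hz, hz1, hz2, _⟩ :=
        Cfsg.Agent.Involutions.CommonInvolution.exists_common_involution t y ht hy2 hnc'
      rw [Finset.mem_biUnion]
      refine ⟨z, ?_, ?_⟩
      · simp only [Z, Finset.mem_filter, Finset.mem_univ, true_and]
        exact ⟨hz1, hz⟩
      · simp only [Finset.mem_filter, Finset.mem_univ, true_and]
        rw [Subgroup.mem_centralizer_singleton_iff]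
        exact hz2.symm
    have hZ : Z.card ≤ c - 1 := by
      have h1 : insert 1 Z ⊆ Finset.univ.filter (fun z => z ∈ Subgroup.centralizer ({t} : Set G)) := by
        intro z hz
        simp only [Finset.mem_filter, Finset.mem_univ, true_and]
        rw [Subgroup.mem_centralizer_singleton_iff]
        rw [Finset.mem_insert] at hz
        rcases hz with rfl | hz
        · simp
        · simp only [Z, Finset.mem_filter, Finset.mem_univ, true_and] at hz
          exact hz.1
      have h2 := Finset.card_le_card h1
      have h3 : (1 : G) ∉ Z := by
        simp [Z]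
      rw [Finset.card_insert_of_notMem h3] at h2
      have h4 : (Finset.univ.filter (fun z => z ∈ Subgroup.centralizer ({t} : Set G))).card = c := by
        rw [hc, Nat.card_eq_fintype_card, Fintype.card_subtype]
      omega
    have h5 : ({y : G | IsConj s y}).ncard = (Finset.univ.filter (fun y : G => IsConj s y)).card := by
      rw [← Set.ncard_coe_finset]
      congr 1
      ext y
      simp
    rw [h5]
    refine (Finset.card_le_card hsub).trans ((Finset.card_biUnion_le_card_mul _ _ c ?_).trans
      (Nat.mul_le_mul_right c hZ))
    intro z hz
    simp only [Z, Finset.mem_filter, Finset.mem_univ, true_and] at hz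
    refine le_trans (le_of_eq ?_) (hmax z hz.2)
    rw [Nat.card_eq_fintype_card, Fintype.card_subtype]
  have hcl := class_card s
  have hs' := hmax s hs
  calc Nat.card G = ({y : G | IsConj s y}).ncard * Nat.card (Subgroup.centralizer ({s} : Set G)) := hcl.symm
    _ ≤ ((c - 1) * c) * c := Nat.mul_le_mul key hs'
    _ < (c * c) * c := by
        apply Nat.mul_lt_mul_of_pos_right _ hcpos
        exact Nat.mul_lt_mul_of_pos_right (by omega) hcpos
    _ = c ^ 3 := by ring

end Cfsg.Agent.S0230
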