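import Cfsg.Statements.S0241
import Mathlib

set_option autoImplicit false
open Cfsg

namespace Cfsg.Agent.S0241

/-- If x ≠ 1 is conjugate to x⁻¹ in a finite group G and |C_G(x)| is odd, then some involution t satisfies t x t⁻¹ = x⁻¹. -/
theorem result {G : Type*} [Group G] [Finite G] (x : G) (hx : x ≠ 1) (hreal : IsConj x x⁻¹) (hodd : Odd (Nat.card (Subgroup.centralizer ({x} : Set G)))) : ∃ t : G, orderOf t = 2 ∧ t * x * t⁻¹ = x⁻¹ := by
  obtain ⟨g, hg⟩ := isConj_iff.1 hreal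
  have hg' : g * x⁻¹ * g⁻¹ = x := by
    have := congrArg (fun z => z⁻¹) hg
    simpa [mul_assoc] using this
  have hg2 : g ^ 2 * x = x * g ^ 2 := by
    calc g ^ 2 * x = g * (g * x * g⁻¹) * g⁻¹ * g ^ 2 := by simp [sq, mul_assoc]
      _ = g * x⁻¹ * g⁻¹ * g ^ 2 := by rw [hg]
      _ = x * g ^ 2 := by rw [hg']
  have hmem : g ^ 2 ∈ Subgroup.centralizer ({x} : Set G) := by
    rw [Subgroup.mem_centralizer_singleton_iff]
    exact hg2
  have hxmem : x ∈ Subgroup.centralizer ({x} : Set G) := by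
    rw [Subgroup.mem_centralizer_singleton_iff]
  have hxne : x ≠ x⁻¹ := by
    intro hxx
    have hx2 : x ^ 2 = 1 := by
      rw [sq]; nth_rewrite 2 [hxx]; simp
    have hxodd : Odd (orderOf x) :=
      Odd.of_dvd_nat hodd (Subgroup.orderOf_dvd_natCard _ hxmem)
    rcases (Nat.dvd_prime Nat.prime_two).1 (orderOf_dvd_of_pow_eq_one hx2) with h | h
    · exact hx (orderOf_eq_one_iff.1 h)
    · rw [h] at hxodd
      exact absurd hxodd (by decide)
  have hodd2 : Odd (orderOf (g ^ 2)) :=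
    Odd.of_dvd_nat hodd (Subgroup.orderOf_dvd_natCard _ hmem)
  obtain ⟨k, hk⟩ := hodd2
  have hcomm : Commute ((g ^ 2) ^ k) x := Commute.pow_left hg2 k
  refine ⟨g ^ orderOf (g ^ 2), ?_, ?_⟩
  · apply orderOf_eq_prime
    · rw [← pow_mul, mul_comm, pow_mul, pow_orderOf_eq_one]
    · intro h1
      apply hxne
      rw [hk, pow_succ, pow_mul] at h1
      have h2 : g = ((g ^ 2) ^ k)⁻¹ := (inv_eq_of_mul_eq_one_right h1).symm
      have h3 : g * x = x * g := by
        have := hcomm.inv_left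
        rw [h2]; exact this
      rw [← hg, h3]; group
  · rw [hk, pow_succ, pow_mul]
    calc (g ^ 2) ^ k * g * x * ((g ^ 2) ^ k * g)⁻¹
        = (g ^ 2) ^ k * (g * x * g⁻¹) * ((g ^ 2) ^ k)⁻¹ := by group
      _ = (g ^ 2) ^ k * x⁻¹ * ((g ^ 2) ^ k)⁻¹ := by rw [hg]
      _ = x⁻¹ := by
        have h4 : (g ^ 2) ^ k * x⁻¹ = x⁻¹ * (g ^ 2) ^ k := hcomm.inv_right
        rw [h4]; group

end Cfsg.Agent.S0241
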