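import Cfsg.Statements.S0264
import Cfsg.Agent.LieClassical.SLGen

set_option autoImplicit false
open Cfsg

namespace Cfsg.Agent.S0264

open scoped commutatorElement in
/-- Elementary transvections of `GL₂` are commutators with a diagonal matrix. -/
theorem gl_two_transvection_mem {F : Type*} [Field F] {a : F} (ha0 : a ≠ 0) (ha1 : a ≠ 1)
    {i j : Fin 2} (hij : i ≠ j) (c : F) :
    (Matrix.SpecialLinearGroup.transvection hij c).toGL ∈
      commutator (Matrix.GeneralLinearGroup (Fin 2) F) := by
  have ha : a - 1 ≠ 0 := sub_ne_zero.2 ha1
  let D : Matrix.GeneralLinearGroup (Fin 2) F :=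
    Matrix.GeneralLinearGroup.mkOfDetNeZero (Matrix.diagonal (Function.update 1 i a)) (by
      rw [Matrix.det_diagonal, Finset.prod_ne_zero_iff]
      intro k _
      by_cases hk : k = i
      · subst hk; simpa using ha0
      · simp [Function.update_of_ne hk])
  let T : Matrix.GeneralLinearGroup (Fin 2) F :=
    (Matrix.SpecialLinearGroup.transvection hij (c / (a - 1))).toGL
  have h1 : (Matrix.SpecialLinearGroup.transvection hij c).toGL = ⁅D, T⁆ := by
    rw [commutatorElement_def, eq_mul_inv_iff_mul_eq, eq_mul_inv_iff_mul_eq]
    apply Units.ext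
    change (Matrix.SpecialLinearGroup.transvection hij c : Matrix (Fin 2) (Fin 2) F) *
      (Matrix.SpecialLinearGroup.transvection hij (c / (a - 1)) : Matrix (Fin 2) (Fin 2) F) *
      Matrix.diagonal (Function.update 1 i a) = Matrix.diagonal (Function.update 1 i a) *
      (Matrix.SpecialLinearGroup.transvection hij (c / (a - 1)) : Matrix (Fin 2) (Fin 2) F)
    change (Matrix.transvection i j c) * (Matrix.transvection i j (c / (a - 1))) *
      Matrix.diagonal (Function.update 1 i a) = Matrix.diagonal (Function.update 1 i a) *
      (Matrix.transvection i j (c / (a - 1)))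
    rw [Matrix.transvection_mul_transvection_same _ _ hij]
    have hc : c + c / (a - 1) = a * (c / (a - 1)) := by
      field_simp
      ring
    rw [hc]
    ext k l
    rw [Matrix.mul_diagonal, Matrix.diagonal_mul]
    fin_cases i <;> fin_cases j <;> first
      | exact absurd rfl hij
      | (fin_cases k <;> fin_cases l <;>
          simp [Matrix.transvection, Function.update, Matrix.single])
  rw [h1]
  exact Subgroup.commutator_mem_commutator (Subgroup.mem_top _) (Subgroup.mem_top _)

/-- GL_n(F)' = SL_n(F) (as the kernel of det), for every field F and every n, except n = 2 over the field of two elements. -/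
theorem result {F : Type*} [Field F] (n : ℕ) (h : n = 2 → ∃ a : F, a ≠ 0 ∧ a ≠ 1) : commutator (Matrix.GeneralLinearGroup (Fin n) F) = (Matrix.GeneralLinearGroup.det : Matrix.GeneralLinearGroup (Fin n) F →* Fˣ).ker := by
  apply le_antisymm
  · exact Abelianization.commutator_subset_ker _
  · intro A hA
    have hdet : (A : Matrix (Fin n) (Fin n) F).det = 1 := by
      have h1 : ((Matrix.GeneralLinearGroup.det A : Fˣ) : F) = ((1 : Fˣ) : F) :=
        congrArg Units.val (MonoidHom.mem_ker.1 hA)
      simpa using h1
    obtain ⟨B, rfl⟩ : ∃ B : Matrix.SpecialLinearGroup (Fin n) F, B.toGL = A :=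
      ⟨⟨A, hdet⟩, by ext i j; rfl⟩
    rcases Nat.lt_or_ge n 2 with hn | hn
    · have hB : B = 1 := by
        rcases (show n = 0 ∨ n = 1 by omega) with rfl | rfl
        · exact Subsingleton.elim _ _
        · apply Subtype.ext
          have h2 := B.2
          rw [Matrix.det_unique] at h2
          ext i j
          fin_cases i
          fin_cases j
          simpa using h2
      rw [hB, map_one]
      exact one_mem _
    · rcases (show n = 2 ∨ 3 ≤ n by omega) with rfl | hn3
      · obtain ⟨a, ha0, ha1⟩ := h rfl
        refine Cfsg.Agent.LieClassical.SLGen.transvection_induction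
          (fun B => B.toGL ∈ commutator (Matrix.GeneralLinearGroup (Fin 2) F))
          (fun i j hij c => ?_) (fun A B hA hB => by rw [map_mul]; exact mul_mem hA hB) B
        exact gl_two_transvection_mem ha0 ha1 hij c
      · have h1 := Cfsg.Agent.LieClassical.SLGen.commutator_eq_top (ι := Fin n) (F := F)
          (by simpa using hn3)
        have h2 : Subgroup.map Matrix.SpecialLinearGroup.toGL
            (commutator (Matrix.SpecialLinearGroup (Fin n) F)) ≤
            commutator (Matrix.GeneralLinearGroup (Fin n) F) := by
          rw [commutator_def, Subgroup.map_commutator, commutator_def]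
          exact Subgroup.commutator_mono le_top le_top
        exact h2 (Subgroup.mem_map_of_mem _ (h1 ▸ Subgroup.mem_top B))

end Cfsg.Agent.S0264
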