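import Cfsg.Statements.S0266
import Mathlib

set_option autoImplicit false
open scoped MatrixGroups
open Cfsg

namespace Cfsg.Agent.S0266

open Matrix Projectivization

/-- The standard basis vectors and their sum. -/
theorem exists_std {F : Type*} [Field F] (u v w : Fin 2 → F)
    (huv : LinearIndependent F ![u, v]) (huw : LinearIndependent F ![u, w])
    (hvw : LinearIndependent F ![v, w]) :
    ∃ g : GL (Fin 2) F, (∃ a : F, a ≠ 0 ∧ g.1 *ᵥ ![1, 0] = a • u) ∧
      (∃ b : F, b ≠ 0 ∧ g.1 *ᵥ ![0, 1] = b • v) ∧ g.1 *ᵥ ![1, 1] = w := by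
  have hd : u 0 * v 1 - u 1 * v 0 ≠ 0 := by
    intro h0
    rw [LinearIndependent.pair_iff] at huv
    by_cases hv : v 0 = 0 ∧ v 1 = 0
    · obtain ⟨hv0, hv1⟩ := hv
      have := (huv 0 1 (by ext i; fin_cases i <;> simp [hv0, hv1])).2
      exact one_ne_zero this
    · by_cases hv0 : v 0 = 0
      · have hv1 : v 1 ≠ 0 := fun h => hv ⟨hv0, h⟩
        have h2 : u 0 = 0 := by
          rw [hv0] at h0
          simpa [hv1] using h0
        have := (huv (v 1) (-(u 1)) (by ext i; fin_cases i <;> simp [hv0, h2]; ring)).1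
        exact hv1 this
      · have := (huv (v 0) (-(u 0)) (by
          ext i; fin_cases i
          · simp; ring
          · simp; linear_combination -h0)).1
        exact hv0 this
  set d := u 0 * v 1 - u 1 * v 0 with hddef
  -- w = a u + b v
  set a := (w 0 * v 1 - w 1 * v 0) / d with ha
  set b := (u 0 * w 1 - u 1 * w 0) / d with hb
  have hw0 : w 0 = a * u 0 + b * v 0 := by
    rw [ha, hb]; field_simp; rw [hddef]; ring
  have hw1 : w 1 = a * u 1 + b * v 1 := by
    rw [ha, hb]; field_simp; rw [hddef]; ring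
  have hane : a ≠ 0 := by
    intro h0
    rw [LinearIndependent.pair_iff] at hvw
    have := (hvw b (-1) (by ext i; fin_cases i <;> simp [hw0, hw1, h0])).2
    simp at this
  have hbne : b ≠ 0 := by
    intro h0
    rw [LinearIndependent.pair_iff] at huw
    have := (huw a (-1) (by ext i; fin_cases i <;> simp [hw0, hw1, h0])).2
    simp at this
  have hdet : Matrix.det !![a * u 0, b * v 0; a * u 1, b * v 1] ≠ 0 := by
    rw [Matrix.det_fin_two_of]
    have : a * u 0 * (b * v 1) - b * v 0 * (a * u 1) = a * b * d := by rw [hddef]; ring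
    rw [this]
    exact mul_ne_zero (mul_ne_zero hane hbne) hd
  refine ⟨GeneralLinearGroup.mkOfDetNeZero _ hdet, ⟨a, hane, ?_⟩, ⟨b, hbne, ?_⟩, ?_⟩
  · ext i; fin_cases i <;> simp [Matrix.mulVec, dotProduct]
  · ext i; fin_cases i <;> simp [Matrix.mulVec, dotProduct]
  · ext i; fin_cases i <;> simp [Matrix.mulVec, dotProduct, hw0, hw1]

/-- The three standard points. -/
noncomputable def P0 (F : Type*) [Field F] : Projectivization F (Fin 2 → F) :=
  Projectivization.mk F ![1, 0] (by intro h; simpa using congrFun h 0)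
noncomputable def P1 (F : Type*) [Field F] : Projectivization F (Fin 2 → F) :=
  Projectivization.mk F ![0, 1] (by intro h; simpa using congrFun h 1)
noncomputable def P2 (F : Type*) [Field F] : Projectivization F (Fin 2 → F) :=
  Projectivization.mk F ![1, 1] (by intro h; simpa using congrFun h 1)

theorem exists_move {F : Type*} [Field F] (a b c : Projectivization F (Fin 2 → F))
    (hab : a ≠ b) (hac : a ≠ c) (hbc : b ≠ c) :
    ∃ g : Matrix.ProjGenLinGroup (Fin 2) F, g • P0 F = a ∧ g • P1 F = b ∧ g • P2 F = c := by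
  have h1 := Projectivization.linearIndependent_pair_iff_ne.2 hab
  have h2 := Projectivization.linearIndependent_pair_iff_ne.2 hac
  have h3 := Projectivization.linearIndependent_pair_iff_ne.2 hbc
  obtain ⟨g, ⟨x, hx, hgx⟩, ⟨y, hy, hgy⟩, hgz⟩ := exists_std a.rep b.rep c.rep h1 h2 h3
  refine ⟨Matrix.ProjGenLinGroup.mk g, ?_, ?_, ?_⟩
  · rw [P0, PGL.mk_smul_mk, ← Projectivization.mk_rep a, Projectivization.mk_eq_mk_iff']
    exact ⟨x, by rw [← hgx]; rfl⟩
  · rw [P1, PGL.mk_smul_mk, ← Projectivization.mk_rep b, Projectivization.mk_eq_mk_iff']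
    exact ⟨y, by rw [← hgy]; rfl⟩
  · rw [P2, PGL.mk_smul_mk, ← Projectivization.mk_rep c, Projectivization.mk_eq_mk_iff']
    exact ⟨1, by rw [one_smul]; rw [← hgz]; rfl⟩

theorem fix_std {F : Type*} [Field F] (g : Matrix.ProjGenLinGroup (Fin 2) F)
    (h0 : g • P0 F = P0 F) (h1 : g • P1 F = P1 F) (h2 : g • P2 F = P2 F) : g = 1 := by
  induction g using Matrix.ProjGenLinGroup.induction_on with | mk g =>
  rw [P0, PGL.mk_smul_mk, Projectivization.mk_eq_mk_iff'] at h0
  rw [P1, PGL.mk_smul_mk, Projectivization.mk_eq_mk_iff'] at h1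
  rw [P2, PGL.mk_smul_mk, Projectivization.mk_eq_mk_iff'] at h2
  obtain ⟨x, hx⟩ := h0
  obtain ⟨y, hy⟩ := h1
  obtain ⟨z, hz⟩ := h2
  have hx' : x • ![1, 0] = g.1 *ᵥ ![1, 0] := hx
  have hy' : y • ![0, 1] = g.1 *ᵥ ![0, 1] := hy
  have hz' : z • ![1, 1] = g.1 *ᵥ ![1, 1] := hz
  have x0 := congrFun hx' 0
  have x1 := congrFun hx' 1
  have y0 := congrFun hy' 0
  have y1 := congrFun hy' 1
  have z0 := congrFun hz' 0
  have z1 := congrFun hz' 1
  simp [Matrix.mulVec, dotProduct, Fin.sum_univ_two] at x0 x1 y0 y1 z0 z1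
  rw [Matrix.ProjGenLinGroup.mk_eq_one, GeneralLinearGroup.mem_center_iff_val_mem_range_scalar]
  refine ⟨x, ?_⟩
  ext i j
  fin_cases i <;> fin_cases j
  · simp [x0]
  · simp [← y0]
  · simp [← x1]
  · simp [← x1, ← y0] at z0 z1 ⊢
    rw [x0, ← z0, z1]

/-- PGL_2(F) is sharply 3-transitive on the projective line: it is 3-transitive and the stabiliser of three distinct points is trivial. -/
theorem result {F : Type*} [Field F] : MulAction.IsMultiplyPretransitive (Matrix.ProjGenLinGroup (Fin 2) F) (Projectivization F (Fin 2 → F)) 3 ∧ ∀ (g : Matrix.ProjGenLinGroup (Fin 2) F) (a b c : Projectivization F (Fin 2 → F)), a ≠ b → a ≠ c → b ≠ c → g • a = a → g • b = b → g • c = c → g = 1 := by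
  constructor
  · rw [MulAction.isMultiplyPretransitive_iff]
    intro s t
    have hs : ∀ i j : Fin 3, i ≠ j → s i ≠ s j := fun i j hij h => hij (s.injective h)
    have ht : ∀ i j : Fin 3, i ≠ j → t i ≠ t j := fun i j hij h => hij (t.injective h)
    obtain ⟨g, g0, g1, g2⟩ := exists_move (s 0) (s 1) (s 2) (hs _ _ (by decide)) (hs _ _ (by decide))
      (hs _ _ (by decide))
    obtain ⟨k, k0, k1, k2⟩ := exists_move (t 0) (t 1) (t 2) (ht _ _ (by decide)) (ht _ _ (by decide))
      (ht _ _ (by decide))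
    refine ⟨k * g⁻¹, ?_⟩
    ext i
    rw [Function.Embedding.smul_apply]
    fin_cases i
    · show (k * g⁻¹) • s 0 = t 0
      rw [← g0, mul_smul, inv_smul_smul, k0]
    · show (k * g⁻¹) • s 1 = t 1
      rw [← g1, mul_smul, inv_smul_smul, k1]
    · show (k * g⁻¹) • s 2 = t 2
      rw [← g2, mul_smul, inv_smul_smul, k2]
  · intro g a b c hab hac hbc ha hb hc
    obtain ⟨k, k0, k1, k2⟩ := exists_move a b c hab hac hbc
    have : k⁻¹ * g * k = 1 := by
      apply fix_std
      · rw [mul_smul, mul_smul, k0, ha, ← k0, inv_smul_smul]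
      · rw [mul_smul, mul_smul, k1, hb, ← k1, inv_smul_smul]
      · rw [mul_smul, mul_smul, k2, hc, ← k2, inv_smul_smul]
    have h2 : g = k * (k⁻¹ * g * k) * k⁻¹ := by group
    rw [h2, this]; simp

end Cfsg.Agent.S0266
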