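import Cfsg.Statements.S0299
import Cfsg.Agent.LieClassical.OrthFourPlus

set_option autoImplicit false
open Cfsg

namespace Cfsg.Agent.S0299

/-- PΩ^+_4(q) is isomorphic to PSL_2(q) x PSL_2(q) for q at least 3. -/
theorem result {F : Type*} [Field F] [Fintype F] (hF : 3 ≤ Fintype.card F) : Nonempty (Cfsg.POmega F (Cfsg.quadFormPlus 2 F) ≃* Matrix.ProjectiveSpecialLinearGroup (Fin 2) F × Matrix.ProjectiveSpecialLinearGroup (Fin 2) F) := by
  classical
  obtain ⟨a, ha⟩ : ∃ a : F, a ∉ ({0, 1} : Finset F) := by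
    by_contra h
    push Not at h
    have h1 : Fintype.card F ≤ ({0, 1} : Finset F).card :=
      Finset.card_le_card (fun x _ => h x)
    have h2 : ({0, 1} : Finset F).card ≤ 2 := Finset.card_le_two
    omega
  simp only [Finset.mem_insert, Finset.mem_singleton, not_or] at ha
  exact Cfsg.Agent.LieClassical.OrthFourPlus.pomega_equiv a ha.1 ha.2

end Cfsg.Agent.S0299
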