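import Cfsg.Statements.S0304
import Mathlib

set_option autoImplicit false
open Cfsg

namespace Cfsg.Agent.S0304

open Matrix

variable {F : Type*} [Field F] {m : ℕ}

/-- The hyperbolic form on `F^{2m}`. -/
def qf (w : Fin m ⊕ Fin m → F) : F := ∑ i, w (.inl i) * w (.inr i)

/-- Its polar form. -/
def bil (u v : Fin m ⊕ Fin m → F) : F :=
  ∑ i, (u (.inl i) * v (.inr i) + u (.inr i) * v (.inl i))

theorem qf_add (u v : Fin m ⊕ Fin m → F) : qf (u + v) = qf u + qf v + bil u v := by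
  simp only [qf, bil, Pi.add_apply]
  rw [← Finset.sum_add_distrib, ← Finset.sum_add_distrib]
  apply Finset.sum_congr rfl
  intro i _
  ring

theorem qf_smul (c : F) (u : Fin m ⊕ Fin m → F) : qf (c • u) = c ^ 2 * qf u := by
  simp only [qf, Pi.smul_apply, smul_eq_mul]
  rw [Finset.mul_sum]
  apply Finset.sum_congr rfl
  intro i _
  ring

theorem qf_single (i : Fin m ⊕ Fin m) (c : F) : qf (Pi.single i c) = 0 := by
  simp only [qf]
  apply Finset.sum_eq_zero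
  intro j _
  rcases i with i | i <;> simp [Pi.single_apply]

theorem bil_single_inl (u : Fin m ⊕ Fin m → F) (i : Fin m) :
    bil u (Pi.single (.inl i) 1) = u (.inr i) := by
  simp [bil, Pi.single_apply]

theorem bil_single_inr (u : Fin m ⊕ Fin m → F) (i : Fin m) :
    bil u (Pi.single (.inr i) 1) = u (.inl i) := by
  simp [bil, Pi.single_apply]

theorem quad_eq (v : Unit ⊕ (Fin m ⊕ Fin m) → F) :
    Cfsg.quadFormOdd m F v = v (.inl ()) ^ 2 + qf (v ∘ Sum.inr) := rfl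

theorem bil_eq [CharP F 2] (u v : Fin m ⊕ Fin m → F) :
    bil u v = u ⬝ᵥ (Matrix.J (Fin m) F *ᵥ v) := by
  have h1 : Matrix.J (Fin m) F *ᵥ v = Sum.elim (fun i => v (.inr i)) (fun i => v (.inl i)) := by
    rw [Matrix.J, Matrix.fromBlocks_mulVec]
    funext i
    rcases i with i | i
    · simp [Matrix.neg_mulVec, CharTwo.neg_eq]
    · simp
  rw [h1]
  simp [bil, dotProduct, Fintype.sum_sum_type, Finset.sum_add_distrib]

theorem dot_mulVec_mulVec (A M : Matrix (Fin m ⊕ Fin m) (Fin m ⊕ Fin m) F)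
    (u v : Fin m ⊕ Fin m → F) :
    (A *ᵥ u) ⬝ᵥ (M *ᵥ (A *ᵥ v)) = u ⬝ᵥ ((Aᵀ * M * A) *ᵥ v) := by
  rw [← Matrix.mulVec_mulVec, ← Matrix.mulVec_mulVec, Matrix.dotProduct_mulVec u,
    Matrix.vecMul_transpose]

theorem mem_symplectic_iff [CharP F 2] (A : Matrix (Fin m ⊕ Fin m) (Fin m ⊕ Fin m) F) :
    A ∈ Matrix.symplecticGroup (Fin m) F ↔ ∀ u v, bil (A *ᵥ u) (A *ᵥ v) = bil u v := by
  rw [SymplecticGroup.mem_iff']
  constructor
  · intro h u v
    rw [bil_eq, bil_eq, dot_mulVec_mulVec, h]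
  · intro h
    ext i j
    have := h (Pi.single i 1) (Pi.single j 1)
    rw [bil_eq, bil_eq, dot_mulVec_mulVec] at this
    simpa using this

/-- block form of the action -/
theorem mulVec_inr (g : Matrix (Unit ⊕ (Fin m ⊕ Fin m)) (Unit ⊕ (Fin m ⊕ Fin m)) F)
    (v : Unit ⊕ (Fin m ⊕ Fin m) → F) :
    (g *ᵥ v) ∘ Sum.inr = g.toBlocks₂₁ *ᵥ (v ∘ Sum.inl) + g.toBlocks₂₂ *ᵥ (v ∘ Sum.inr) := by
  conv_lhs => rw [← Matrix.fromBlocks_toBlocks g, Matrix.fromBlocks_mulVec]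
  rfl

theorem mulVec_inl (g : Matrix (Unit ⊕ (Fin m ⊕ Fin m)) (Unit ⊕ (Fin m ⊕ Fin m)) F)
    (v : Unit ⊕ (Fin m ⊕ Fin m) → F) :
    (g *ᵥ v) ∘ Sum.inl = g.toBlocks₁₁ *ᵥ (v ∘ Sum.inl) + g.toBlocks₁₂ *ᵥ (v ∘ Sum.inr) := by
  conv_lhs => rw [← Matrix.fromBlocks_toBlocks g, Matrix.fromBlocks_mulVec]
  rfl

theorem quad_add [CharP F 2] (u v : Unit ⊕ (Fin m ⊕ Fin m) → F) :
    Cfsg.quadFormOdd m F (u + v) = Cfsg.quadFormOdd m F u + Cfsg.quadFormOdd m F v
      + bil (u ∘ Sum.inr) (v ∘ Sum.inr) := by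
  rw [quad_eq, quad_eq, quad_eq]
  have : (u + v) ∘ Sum.inr = u ∘ Sum.inr + v ∘ (Sum.inr : Fin m ⊕ Fin m → Unit ⊕ (Fin m ⊕ Fin m)) := rfl
  rw [this, qf_add, Pi.add_apply, CharTwo.add_sq]
  ring

/-- the first basis vector -/
def e0 : Unit ⊕ (Fin m ⊕ Fin m) → F := Sum.elim (fun _ => 1) (fun _ => 0)

theorem block_of_isometry [CharP F 2] (g : Matrix.GeneralLinearGroup (Unit ⊕ (Fin m ⊕ Fin m)) F)
    (hg : ∀ v, Cfsg.quadFormOdd m F (g.1 *ᵥ v) = Cfsg.quadFormOdd m F v) :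
    g.1.toBlocks₂₁ = 0 ∧ g.1.toBlocks₁₁ = 1 := by
  have hB : ∀ u v, bil ((g.1 *ᵥ u) ∘ Sum.inr) ((g.1 *ᵥ v) ∘ Sum.inr) = bil (u ∘ Sum.inr) (v ∘ Sum.inr) := by
    intro u v
    have h1 := hg (u + v)
    rw [Matrix.mulVec_add, quad_add, quad_add, hg, hg] at h1
    exact add_left_cancel h1
  have hsurj : ∀ w, ∃ v, g.1 *ᵥ v = w := by
    intro w
    refine ⟨(g⁻¹).1 *ᵥ w, ?_⟩
    rw [Matrix.mulVec_mulVec, ← Units.val_mul, mul_inv_cancel]
    simp
  have he0 : (e0 (F := F) (m := m)) ∘ Sum.inr = 0 := rfl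
  have h0 : ∀ w : Unit ⊕ (Fin m ⊕ Fin m) → F, bil ((g.1 *ᵥ e0) ∘ Sum.inr) (w ∘ Sum.inr) = 0 := by
    intro w
    obtain ⟨v, rfl⟩ := hsurj w
    rw [hB, he0]
    simp [bil]
  have h21 : (g.1 *ᵥ e0) ∘ Sum.inr = (0 : Fin m ⊕ Fin m → F) := by
    funext i
    rcases i with i | i
    · have := h0 (Sum.elim (fun _ => 0) (Pi.single (.inr i) 1))
      rw [Sum.elim_comp_inr, bil_single_inr] at this
      exact this
    · have := h0 (Sum.elim (fun _ => 0) (Pi.single (.inl i) 1))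
      rw [Sum.elim_comp_inr, bil_single_inl] at this
      exact this
  have hcol : ∀ i, g.1 i (.inl ()) = (g.1 *ᵥ e0) i := by
    intro i
    simp [Matrix.mulVec, dotProduct, Fintype.sum_sum_type, e0]
  constructor
  · ext i j
    rw [Matrix.toBlocks₂₁, Matrix.of_apply, Matrix.zero_apply]
    have : j = () := rfl
    rw [hcol]
    exact congrFun h21 i
  · have h1 := hg e0
    rw [quad_eq, quad_eq, h21, he0, add_left_inj] at h1
    have h2 : e0 (F := F) (m := m) (.inl ()) = 1 := rfl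
    rw [h2, CharTwo.sq_inj] at h1
    ext i j
    rw [Matrix.toBlocks₁₁, Matrix.of_apply]
    rw [hcol]
    simpa using h1

theorem quad_mulVec (g : Matrix (Unit ⊕ (Fin m ⊕ Fin m)) (Unit ⊕ (Fin m ⊕ Fin m)) F)
    (h21 : g.toBlocks₂₁ = 0) (h11 : g.toBlocks₁₁ = 1) (v : Unit ⊕ (Fin m ⊕ Fin m) → F) :
    Cfsg.quadFormOdd m F (g *ᵥ v) =
      (v (.inl ()) + (g.toBlocks₁₂ *ᵥ (v ∘ Sum.inr)) ()) ^ 2
        + qf (g.toBlocks₂₂ *ᵥ (v ∘ Sum.inr)) := by
  rw [quad_eq, mulVec_inr, h21, Matrix.zero_mulVec, zero_add]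
  have h := congrFun (mulVec_inl g v) ()
  rw [h11, Matrix.one_mulVec] at h
  have h' : (g *ᵥ v) (.inl ()) = v (.inl ()) + (g.toBlocks₁₂ *ᵥ (v ∘ Sum.inr)) () := h
  rw [h']

theorem block_mul (g h : Matrix (Unit ⊕ (Fin m ⊕ Fin m)) (Unit ⊕ (Fin m ⊕ Fin m)) F)
    (h21 : g.toBlocks₂₁ = 0) :
    (g * h).toBlocks₂₂ = g.toBlocks₂₂ * h.toBlocks₂₂ := by
  conv_lhs => rw [← Matrix.fromBlocks_toBlocks g, ← Matrix.fromBlocks_toBlocks h,
    Matrix.fromBlocks_multiply, Matrix.toBlocks_fromBlocks₂₂, h21, Matrix.zero_mul, zero_add]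

theorem bil_block [CharP F 2] (g : Matrix.GeneralLinearGroup (Unit ⊕ (Fin m ⊕ Fin m)) F)
    (hg : ∀ v, Cfsg.quadFormOdd m F (g.1 *ᵥ v) = Cfsg.quadFormOdd m F v)
    (u v : Fin m ⊕ Fin m → F) :
    bil (g.1.toBlocks₂₂ *ᵥ u) (g.1.toBlocks₂₂ *ᵥ v) = bil u v := by
  obtain ⟨h21, h11⟩ := block_of_isometry g hg
  have hB : ∀ u v, bil ((g.1 *ᵥ u) ∘ Sum.inr) ((g.1 *ᵥ v) ∘ Sum.inr)
      = bil (u ∘ Sum.inr) (v ∘ Sum.inr) := by
    intro u v
    have h1 := hg (u + v)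
    rw [Matrix.mulVec_add, quad_add, quad_add, hg, hg] at h1
    exact add_left_cancel h1
  have := hB (Sum.elim (fun _ => 0) u) (Sum.elim (fun _ => 0) v)
  rw [mulVec_inr, mulVec_inr, h21, Matrix.zero_mulVec, Matrix.zero_mulVec, zero_add, zero_add,
    Sum.elim_comp_inr, Sum.elim_comp_inr] at this
  exact this

theorem isom_iff (g : Matrix.GeneralLinearGroup (Unit ⊕ (Fin m ⊕ Fin m)) F) :
    g ∈ Cfsg.isometryGroup F (Cfsg.quadFormOdd m F) ↔
      ∀ v, Cfsg.quadFormOdd m F (g.1 *ᵥ v) = Cfsg.quadFormOdd m F v :=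
  ⟨fun h v => h v v, fun h u _ => h u⟩

/-- the homomorphism to the symplectic group -/
def toSp [CharP F 2] :
    Cfsg.isometryGroup F (Cfsg.quadFormOdd m F) →* Matrix.symplecticGroup (Fin m) F where
  toFun g := ⟨g.1.1.toBlocks₂₂,
    (mem_symplectic_iff _).2 (bil_block g.1 ((isom_iff g.1).1 g.2))⟩
  map_one' := by
    apply Subtype.ext
    change (1 : Matrix (Unit ⊕ (Fin m ⊕ Fin m)) (Unit ⊕ (Fin m ⊕ Fin m)) F).toBlocks₂₂ = 1
    rw [← Matrix.fromBlocks_one, Matrix.toBlocks_fromBlocks₂₂]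
  map_mul' g h := by
    apply Subtype.ext
    change (g.1.1 * h.1.1).toBlocks₂₂ = g.1.1.toBlocks₂₂ * h.1.1.toBlocks₂₂
    exact block_mul _ _ (block_of_isometry g.1 ((isom_iff g.1).1 g.2)).1

theorem toSp_injective [CharP F 2] : Function.Injective (toSp (F := F) (m := m)) := by
  rw [injective_iff_map_eq_one]
  intro g hg
  have h22 : g.1.1.toBlocks₂₂ = 1 := congrArg Subtype.val hg
  have hiso := (isom_iff g.1).1 g.2
  obtain ⟨h21, h11⟩ := block_of_isometry g.1 hiso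
  have h12 : g.1.1.toBlocks₁₂ = 0 := by
    ext i j
    have h1 := hiso (Sum.elim (fun _ => 0) (Pi.single j 1))
    rw [quad_mulVec _ h21 h11, quad_eq, h22, Matrix.one_mulVec, add_left_inj, CharTwo.sq_inj,
      Sum.elim_comp_inr] at h1
    simpa using h1
  apply Subtype.ext
  apply Units.ext
  change g.1.1 = 1
  rw [← Matrix.fromBlocks_toBlocks g.1.1, h21, h11, h12, h22, Matrix.fromBlocks_one]

theorem toSp_surjective [Fintype F] [CharP F 2] :
    Function.Surjective (toSp (F := F) (m := m)) := by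
  intro A
  have hA := (mem_symplectic_iff A.1).1 A.2
  have hsq : ∀ x : F, ∃ y : F, y ^ 2 = x :=
    Finite.surjective_of_injective (CharTwo.sq_injective (R := F))
  choose s hs using hsq
  let a : Matrix Unit (Fin m ⊕ Fin m) F := Matrix.of fun _ j => s (qf (A.1 *ᵥ Pi.single j 1))
  -- the key identity
  let f : (Fin m ⊕ Fin m → F) → F := fun w => qf (A.1 *ᵥ w) + qf w
  have hf_add : ∀ u v, f (u + v) = f u + f v := by
    intro u v
    simp only [f]
    rw [Matrix.mulVec_add, qf_add, qf_add, hA]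
    have : bil u v + bil u v = 0 := CharTwo.add_self_eq_zero _
    linear_combination this
  have hf_smul : ∀ (c : F) u, f (c • u) = c ^ 2 * f u := by
    intro c u
    simp only [f]
    rw [Matrix.mulVec_smul, qf_smul, qf_smul]
    ring
  have hf_zero : f 0 = 0 := by
    have := hf_smul 0 0
    rw [zero_smul] at this
    rw [this]; ring
  have hf_sum : ∀ (S : Finset (Fin m ⊕ Fin m)) (w : Fin m ⊕ Fin m → F),
      f (∑ j ∈ S, w j • Pi.single j 1) = (∑ j ∈ S, a () j * w j) ^ 2 := by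
    intro S w
    induction S using Finset.induction_on with
    | empty => simp [hf_zero]
    | insert j S hj ih =>
      rw [Finset.sum_insert hj, Finset.sum_insert hj, hf_add, ih, hf_smul, CharTwo.add_sq, mul_pow]
      congr 1
      simp only [f, a, Matrix.of_apply]
      rw [hs, qf_single, add_zero, mul_comm]
  have hf : ∀ w : Fin m ⊕ Fin m → F, ((a *ᵥ w) ()) ^ 2 = qf (A.1 *ᵥ w) + qf w := by
    intro w
    have h1 := hf_sum Finset.univ w
    have h2 : ∑ j, w j • (Pi.single j 1 : Fin m ⊕ Fin m → F) = w := by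
      funext i
      simp [Finset.sum_apply, Pi.single_apply]
    rw [h2] at h1
    rw [show f w = qf (A.1 *ᵥ w) + qf w from rfl] at h1
    rw [h1]
    rfl
  -- the block matrix
  let M : Matrix (Unit ⊕ (Fin m ⊕ Fin m)) (Unit ⊕ (Fin m ⊕ Fin m)) F :=
    Matrix.fromBlocks 1 a 0 A.1
  have hM : M.det ≠ 0 := by
    rw [Matrix.det_fromBlocks_zero₂₁, Matrix.det_one, one_mul]
    exact (SymplecticGroup.symplectic_det A.2).ne_zero
  let g : Matrix.GeneralLinearGroup (Unit ⊕ (Fin m ⊕ Fin m)) F :=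
    Matrix.GeneralLinearGroup.mkOfDetNeZero M hM
  have hgM : g.1 = M := rfl
  have hg : g ∈ Cfsg.isometryGroup F (Cfsg.quadFormOdd m F) := by
    rw [isom_iff]
    intro v
    rw [hgM, quad_mulVec M (Matrix.toBlocks_fromBlocks₂₁ _ _ _ _)
      (Matrix.toBlocks_fromBlocks₁₁ _ _ _ _), Matrix.toBlocks_fromBlocks₁₂,
      Matrix.toBlocks_fromBlocks₂₂, CharTwo.add_sq, hf, quad_eq]
    have : qf (A.1 *ᵥ (v ∘ Sum.inr)) + qf (A.1 *ᵥ (v ∘ Sum.inr)) = 0 :=
      CharTwo.add_self_eq_zero _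
    linear_combination this
  refine ⟨⟨g, hg⟩, ?_⟩
  apply Subtype.ext
  exact Matrix.toBlocks_fromBlocks₂₂ _ _ _ _

/-- In characteristic 2, O_{2m+1}(q) is isomorphic to Sp_{2m}(q). -/
theorem result {F : Type*} [Field F] [Fintype F] [CharP F 2] (m : ℕ) : Nonempty (Cfsg.isometryGroup F (Cfsg.quadFormOdd m F) ≃* Matrix.symplecticGroup (Fin m) F) := by
  exact ⟨MulEquiv.ofBijective toSp ⟨toSp_injective, toSp_surjective⟩⟩

end Cfsg.Agent.S0304
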