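import Cfsg.Statements.S0305
import Mathlib

set_option autoImplicit false
open Cfsg

namespace Cfsg.Agent.S0305

open Matrix

variable {F : Type*} [Field F]

/-- diagonal element -/
def dg (a : Fˣ) : Matrix (Fin 1 ⊕ Fin 1) (Fin 1 ⊕ Fin 1) F :=
  Matrix.fromBlocks (Matrix.of fun _ _ => (a : F)) 0 0 (Matrix.of fun _ _ => ((a⁻¹ : Fˣ) : F))

/-- antidiagonal element -/
def ad (a : Fˣ) : Matrix (Fin 1 ⊕ Fin 1) (Fin 1 ⊕ Fin 1) F :=
  Matrix.fromBlocks 0 (Matrix.of fun _ _ => ((a⁻¹ : Fˣ) : F)) (Matrix.of fun _ _ => (a : F)) 0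

theorem dg_one : dg (1 : Fˣ) = 1 := by
  ext i j
  rcases i with i | i <;> rcases j with j | j <;>
    simp [dg, Matrix.one_apply, Subsingleton.elim i j]

theorem dg_mul_dg (a b : Fˣ) : dg a * dg b = dg (a * b) := by
  ext i j
  rcases i with i | i <;> rcases j with j | j <;>
    simp [dg, Matrix.mul_apply, Fintype.sum_sum_type, mul_comm]

theorem dg_mul_ad (a b : Fˣ) : dg a * ad b = ad (b * a⁻¹) := by
  ext i j
  rcases i with i | i <;> rcases j with j | j <;>
    simp [dg, ad, Matrix.mul_apply, Fintype.sum_sum_type, mul_comm]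

theorem ad_mul_dg (a b : Fˣ) : ad a * dg b = ad (a * b) := by
  ext i j
  rcases i with i | i <;> rcases j with j | j <;>
    simp [dg, ad, Matrix.mul_apply, Fintype.sum_sum_type, mul_comm]

theorem ad_mul_ad (a b : Fˣ) : ad a * ad b = dg (a⁻¹ * b) := by
  ext i j
  rcases i with i | i <;> rcases j with j | j <;>
    simp [dg, ad, Matrix.mul_apply, Fintype.sum_sum_type, mul_comm]

/-- the map from the dihedral group -/
def toMat {n : ℕ} (φ : Multiplicative (ZMod n) →* Fˣ) :
    DihedralGroup n → Matrix (Fin 1 ⊕ Fin 1) (Fin 1 ⊕ Fin 1) F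
  | .r i => dg (φ (Multiplicative.ofAdd i))
  | .sr i => ad (φ (Multiplicative.ofAdd i))

theorem toMat_mul {n : ℕ} (φ : Multiplicative (ZMod n) →* Fˣ) (x y : DihedralGroup n) :
    toMat φ (x * y) = toMat φ x * toMat φ y := by
  rcases x with i | i <;> rcases y with j | j
  · rw [DihedralGroup.r_mul_r]
    simp only [toMat]
    rw [dg_mul_dg, ofAdd_add, map_mul]
  · rw [DihedralGroup.r_mul_sr]
    simp only [toMat]
    rw [dg_mul_ad, ofAdd_sub, map_div, div_eq_mul_inv]
  · rw [DihedralGroup.sr_mul_r]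
    simp only [toMat]
    rw [ad_mul_dg, ofAdd_add, map_mul]
  · rw [DihedralGroup.sr_mul_sr]
    simp only [toMat]
    rw [ad_mul_ad, ofAdd_sub, map_div, div_eq_mul_inv, mul_comm]

/-- the monoid hom -/
def toMatHom {n : ℕ} (φ : Multiplicative (ZMod n) →* Fˣ) :
    DihedralGroup n →* Matrix (Fin 1 ⊕ Fin 1) (Fin 1 ⊕ Fin 1) F where
  toFun := toMat φ
  map_one' := by
    change dg (φ (Multiplicative.ofAdd 0)) = 1
    rw [ofAdd_zero, map_one, dg_one]
  map_mul' := toMat_mul φ

theorem toMat_injective {n : ℕ} (φ : Multiplicative (ZMod n) →* Fˣ) (hφ : Function.Injective φ) :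
    Function.Injective (toMat φ) := by
  intro x y h
  rcases x with i | i <;> rcases y with j | j
  · have h1 := congrFun (congrFun h (.inl 0)) (.inl 0)
    simp [toMat, dg] at h1
    rw [Units.val_inj] at h1
    have := hφ h1
    have := Multiplicative.ofAdd.injective this
    rw [this]
  · exfalso
    have h1 := congrFun (congrFun h (.inl 0)) (.inl 0)
    simp [toMat, dg, ad] at h1
  · exfalso
    have h1 := congrFun (congrFun h (.inl 0)) (.inl 0)
    simp [toMat, dg, ad] at h1
    exact (φ (Multiplicative.ofAdd j)).ne_zero h1.symm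
  · have h1 := congrFun (congrFun h (.inr 0)) (.inl 0)
    simp [toMat, ad] at h1
    rw [Units.val_inj] at h1
    have := hφ h1
    have := Multiplicative.ofAdd.injective this
    rw [this]

/-- the hom to GL -/
def toGL {n : ℕ} (φ : Multiplicative (ZMod n) →* Fˣ) :
    DihedralGroup n →* Matrix.GeneralLinearGroup (Fin 1 ⊕ Fin 1) F :=
  (toMatHom φ).toHomUnits

theorem toGL_coe {n : ℕ} (φ : Multiplicative (ZMod n) →* Fˣ) (x : DihedralGroup n) :
    ((toGL φ x : Matrix.GeneralLinearGroup (Fin 1 ⊕ Fin 1) F) :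
      Matrix (Fin 1 ⊕ Fin 1) (Fin 1 ⊕ Fin 1) F) = toMat φ x := rfl

theorem toGL_injective {n : ℕ} (φ : Multiplicative (ZMod n) →* Fˣ) (hφ : Function.Injective φ) :
    Function.Injective (toGL φ) := by
  intro x y h
  apply toMat_injective φ hφ
  rw [← toGL_coe, ← toGL_coe, h]

theorem mem_iff (g : Matrix.GeneralLinearGroup (Fin 1 ⊕ Fin 1) F) :
    g ∈ Cfsg.isometryGroup F (Cfsg.quadFormPlus 1 F) ↔
    ∀ v : Fin 1 ⊕ Fin 1 → F,
      (g.1 (.inl 0) (.inl 0) * v (.inl 0) + g.1 (.inl 0) (.inr 0) * v (.inr 0)) *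
      (g.1 (.inr 0) (.inl 0) * v (.inl 0) + g.1 (.inr 0) (.inr 0) * v (.inr 0)) =
      v (.inl 0) * v (.inr 0) := by
  have key : ∀ v : Fin 1 ⊕ Fin 1 → F, Cfsg.quadFormPlus 1 F (g.1 *ᵥ v) =
      (g.1 (.inl 0) (.inl 0) * v (.inl 0) + g.1 (.inl 0) (.inr 0) * v (.inr 0)) *
      (g.1 (.inr 0) (.inl 0) * v (.inl 0) + g.1 (.inr 0) (.inr 0) * v (.inr 0)) := by
    intro v
    simp [Cfsg.quadFormPlus, Matrix.mulVec, dotProduct, Fintype.sum_sum_type]
  have key2 : ∀ v : Fin 1 ⊕ Fin 1 → F, Cfsg.quadFormPlus 1 F v = v (.inl 0) * v (.inr 0) := by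
    intro v
    simp [Cfsg.quadFormPlus]
  constructor
  · intro h v
    rw [← key, ← key2]
    exact h v v
  · intro h u v
    have := h u
    rw [← key, ← key2] at this
    exact this

theorem range_eq {n : ℕ} (φ : Multiplicative (ZMod n) →* Fˣ) (hφ : Function.Surjective φ) :
    (toGL φ).range = Cfsg.isometryGroup F (Cfsg.quadFormPlus 1 F) := by
  ext g
  rw [mem_iff]
  constructor
  · rintro ⟨x, rfl⟩ v
    rw [toGL_coe]
    rcases x with i | i
    · simp [toMat, dg]
      field_simp
    · simp [toMat, ad]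
      field_simp
  · intro h
    have h1 := h (Sum.elim (fun _ => 1) (fun _ => 0))
    have h2 := h (Sum.elim (fun _ => 0) (fun _ => 1))
    have h3 := h (Sum.elim (fun _ => 1) (fun _ => 1))
    simp only [Sum.elim_inl, Sum.elim_inr, mul_one, mul_zero, add_zero, zero_add] at h1 h2 h3
    set a := g.1 (.inl 0) (.inl 0) with ha
    set b := g.1 (.inl 0) (.inr 0) with hb
    set c := g.1 (.inr 0) (.inl 0) with hc
    set d := g.1 (.inr 0) (.inr 0) with hd
    by_cases ha0 : a = 0
    · have hbc : b * c = 1 := by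
        rw [ha0] at h3
        rw [zero_add] at h3
        have : b * (c + d) = b * c + b * d := by ring
        rw [this, h2, add_zero] at h3
        exact h3
      have hb0 : b ≠ 0 := left_ne_zero_of_mul_eq_one hbc
      have hd0 : d = 0 := by
        rcases mul_eq_zero.1 h2 with h | h
        · exact absurd h hb0
        · exact h
      have hc0 : c ≠ 0 := right_ne_zero_of_mul_eq_one hbc
      obtain ⟨i, hi⟩ := hφ (Units.mk0 c hc0)
      refine ⟨.sr (Multiplicative.toAdd i), ?_⟩
      apply Units.ext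
      rw [toGL_coe]
      simp only [toMat, ofAdd_toAdd]
      rw [hi]
      ext x y
      rcases x with x | x <;> rcases y with y | y <;> rw [Subsingleton.elim x 0, Subsingleton.elim y 0]
      · simp [ad, ← ha, ha0]
      · simp [ad, ← hb]
        exact (eq_inv_of_mul_eq_one_left hbc).symm
      · simp [ad, ← hc]
      · simp [ad, ← hd, hd0]
    · have hc0 : c = 0 := by
        rcases mul_eq_zero.1 h1 with h | h
        · exact absurd h ha0
        · exact h
      have had : a * d = 1 := by
        rw [hc0] at h3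
        rw [zero_add] at h3
        have : (a + b) * d = a * d + b * d := by ring
        rw [this, h2, add_zero] at h3
        exact h3
      have hd0 : d ≠ 0 := right_ne_zero_of_mul_eq_one had
      have hb0 : b = 0 := by
        rcases mul_eq_zero.1 h2 with h | h
        · exact h
        · exact absurd h hd0
      obtain ⟨i, hi⟩ := hφ (Units.mk0 a ha0)
      refine ⟨.r (Multiplicative.toAdd i), ?_⟩
      apply Units.ext
      rw [toGL_coe]
      simp only [toMat, ofAdd_toAdd]
      rw [hi]
      ext x y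
      rcases x with x | x <;> rcases y with y | y <;> rw [Subsingleton.elim x 0, Subsingleton.elim y 0]
      · simp [dg, ← ha]
      · simp [dg, ← hb, hb0]
      · simp [dg, ← hc, hc0]
      · simp [dg, ← hd]
        exact (eq_inv_of_mul_eq_one_right had).symm

/-- GO^+_2(q) is dihedral of order 2(q-1). -/
theorem result {F : Type*} [Field F] [Fintype F] {q : ℕ} (hF : Fintype.card F = q) : Nonempty (Cfsg.isometryGroup F (Cfsg.quadFormPlus 1 F) ≃* DihedralGroup (q - 1)) := by
  classical
  have hcard : Nat.card Fˣ = q - 1 := by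
    rw [Nat.card_eq_fintype_card, Fintype.card_units, hF]
  let e : Multiplicative (ZMod (Nat.card Fˣ)) ≃* Fˣ := zmodCyclicMulEquiv (inferInstance : IsCyclic Fˣ)
  rw [← hcard]
  let f := MonoidHom.ofInjective (toGL_injective e.toMonoidHom e.injective)
  have h := range_eq e.toMonoidHom e.surjective
  exact ⟨(f.trans (MulEquiv.subgroupCongr h)).symm⟩

end Cfsg.Agent.S0305
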