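import Cfsg.Statements.S0307
import Mathlib

set_option autoImplicit false
open Cfsg

namespace Cfsg.Agent.S0307

open Matrix

/-- The natural map `Z/m → Z/gcd(n,m)` in multiplicative notation. -/
noncomputable def red (n m : ℕ) : Multiplicative (ZMod m) →* Multiplicative (ZMod (Nat.gcd n m)) :=
  AddMonoidHom.toMultiplicative (ZMod.castHom (Nat.gcd_dvd_right n m) (ZMod (Nat.gcd n m))).toAddMonoidHom

theorem red_surjective (n m : ℕ) : Function.Surjective (red n m) := by
  intro x
  obtain ⟨y, hy⟩ := ZMod.castHom_surjective (Nat.gcd_dvd_right n m) (Multiplicative.toAdd x)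
  exact ⟨Multiplicative.ofAdd y, congrArg Multiplicative.ofAdd hy⟩

theorem red_pow (n m : ℕ) (x : Multiplicative (ZMod m)) : red n m (x ^ n) = 1 := by
  rw [map_pow]
  apply Multiplicative.toAdd.injective
  rw [toAdd_pow, toAdd_one, nsmul_eq_mul, (ZMod.natCast_eq_zero_iff n _).2 (Nat.gcd_dvd_left n m),
    zero_mul]

theorem exists_pow_of_red (n m : ℕ) (x : Multiplicative (ZMod m)) (hx : red n m x = 1) :
    ∃ y, y ^ n = x := by
  have h1 : ZMod.castHom (Nat.gcd_dvd_right n m) (ZMod (Nat.gcd n m)) (Multiplicative.toAdd x) = 0 :=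
    congrArg Multiplicative.toAdd hx
  obtain ⟨i, hi⟩ := ZMod.intCast_surjective (Multiplicative.toAdd x)
  rw [← hi, map_intCast, ZMod.intCast_zmod_eq_zero_iff_dvd] at h1
  obtain ⟨k, hk⟩ := h1
  refine ⟨Multiplicative.ofAdd ((Nat.gcdA n m * k : ℤ) : ZMod m), ?_⟩
  apply Multiplicative.toAdd.injective
  rw [toAdd_pow, toAdd_ofAdd, ← hi, hk, Nat.gcd_eq_gcd_ab, nsmul_eq_mul]
  push_cast
  rw [ZMod.natCast_self]
  ring

/-- PSL_n(q) is normal in PGL_n(q) with cyclic quotient of order gcd(n, q-1): the image of the natural map PSL_n → PGL_n is the kernel of a surjective homomorphism onto the cyclic group of that order. -/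
theorem result {F : Type*} [Field F] [Fintype F] {q : ℕ} (hF : Fintype.card F = q) (n : ℕ) (hn : 1 ≤ n) : ∃ g : Matrix.ProjGenLinGroup (Fin n) F →* Multiplicative (ZMod (Nat.gcd n (q - 1))), Function.Surjective g ∧ g.ker = (Matrix.ProjectiveSpecialLinearGroup.toPGL : Matrix.ProjectiveSpecialLinearGroup (Fin n) F →* Matrix.ProjGenLinGroup (Fin n) F).range := by
  classical
  have hcard : Nat.card Fˣ = q - 1 := by
    rw [Nat.card_eq_fintype_card, Fintype.card_units, hF]
  let e : Multiplicative (ZMod (Nat.card Fˣ)) ≃* Fˣ := zmodCyclicMulEquiv (inferInstance : IsCyclic Fˣ)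
  rw [← hcard]
  let θ : Fˣ →* Multiplicative (ZMod (Nat.gcd n (Nat.card Fˣ))) :=
    (red n (Nat.card Fˣ)).comp e.symm.toMonoidHom
  have hθ : ∀ x, θ x = red n (Nat.card Fˣ) (e.symm x) := fun x => rfl
  have hθpow : ∀ x : Fˣ, θ (x ^ n) = 1 := by
    intro x
    rw [hθ, map_pow, red_pow]
  have hθs : Function.Surjective θ := (red_surjective _ _).comp e.symm.surjective
  have hθker : ∀ x : Fˣ, θ x = 1 → ∃ y, y ^ n = x := by
    intro x hx
    obtain ⟨y, hy⟩ := exists_pow_of_red _ _ _ hx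
    refine ⟨e y, ?_⟩
    rw [← map_pow, hy]
    exact e.apply_symm_apply x
  let δ : Matrix.GeneralLinearGroup (Fin n) F →* Multiplicative (ZMod (Nat.gcd n (Nat.card Fˣ))) :=
    θ.comp Matrix.GeneralLinearGroup.det
  have hδ : ∀ x, δ x = θ (Matrix.GeneralLinearGroup.det x) := fun x => rfl
  have hdets : ∀ u : Fˣ, Matrix.GeneralLinearGroup.det (Matrix.GeneralLinearGroup.scalar (Fin n) u) = u ^ n := by
    intro u
    ext
    simp
  have hdsurj : Function.Surjective
      (Matrix.GeneralLinearGroup.det : Matrix.GeneralLinearGroup (Fin n) F →* Fˣ) := by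
    have : Nonempty (Fin n) := ⟨⟨0, by omega⟩⟩
    exact Matrix.GeneralLinearGroup.det_surjective
  have hδc : Subgroup.center (Matrix.GeneralLinearGroup (Fin n) F) ≤ δ.ker := by
    intro x hx
    rw [Matrix.GeneralLinearGroup.center_eq_range_scalar] at hx
    obtain ⟨u, rfl⟩ := hx
    rw [MonoidHom.mem_ker, hδ, hdets, hθpow]
  let g : Matrix.ProjGenLinGroup (Fin n) F →* Multiplicative (ZMod (Nat.gcd n (Nat.card Fˣ))) :=
    QuotientGroup.lift _ δ hδc
  have hg : ∀ x, g (Matrix.ProjGenLinGroup.mk x) = δ x := fun x => rfl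
  refine ⟨g, ?_, ?_⟩
  · intro y
    obtain ⟨u, hu⟩ := hθs y
    obtain ⟨x, hx⟩ := hdsurj u
    exact ⟨Matrix.ProjGenLinGroup.mk x, by rw [hg, hδ, hx, hu]⟩
  · ext x
    induction x using Matrix.ProjGenLinGroup.induction_on with | mk x => ?_
    rw [MonoidHom.mem_ker, hg, hδ]
    constructor
    · intro h
      obtain ⟨u, hu⟩ := hθker _ h
      have hdet : Matrix.GeneralLinearGroup.det
          (x * Matrix.GeneralLinearGroup.scalar (Fin n) u⁻¹) = 1 := by
        rw [map_mul, hdets, ← hu, ← mul_pow, mul_inv_cancel, one_pow]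
      let s : Matrix.SpecialLinearGroup (Fin n) F :=
        ⟨((x * Matrix.GeneralLinearGroup.scalar (Fin n) u⁻¹ : Matrix.GeneralLinearGroup (Fin n) F) :
          Matrix (Fin n) (Fin n) F), congrArg Units.val hdet⟩
      have hs : Matrix.SpecialLinearGroup.toGL s =
          x * Matrix.GeneralLinearGroup.scalar (Fin n) u⁻¹ := Units.ext rfl
      refine ⟨QuotientGroup.mk s, ?_⟩
      rw [Matrix.ProjectiveSpecialLinearGroup.toPGL_mk, Matrix.ProjGenLinGroup.mk_eq_mk_iff]
      refine ⟨u, ?_⟩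
      rw [hs, mul_assoc, ← map_mul, inv_mul_cancel, map_one, mul_one]
    · rintro ⟨y, hy⟩
      obtain ⟨s, rfl⟩ := QuotientGroup.mk_surjective y
      rw [Matrix.ProjectiveSpecialLinearGroup.toPGL_mk, Matrix.ProjGenLinGroup.mk_eq_mk_iff] at hy
      obtain ⟨u, hu⟩ := hy
      rw [← hu, map_mul, hdets, map_mul, hθpow, mul_one]
      have : Matrix.GeneralLinearGroup.det (Matrix.SpecialLinearGroup.toGL s) = 1 :=
        Units.ext s.2
      rw [this, map_one]

end Cfsg.Agent.S0307
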