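import Cfsg.Statements.S0315
import Cfsg.Agent.S0311
import Cfsg.Agent.S0314

set_option autoImplicit false
open Cfsg

namespace Cfsg.Agent.S0315

/-- Standard parabolic subgroups intersect as the index sets do: `P_J ⊓ P_K = P_{J ∩ K}`. -/
theorem result {G : Type*} [Group G] (P : Cfsg.BNPair G) {J K : Set G}
    (hJ : J ⊆ P.S) (hK : K ⊆ P.S) : P.parabolic J ⊓ P.parabolic K = P.parabolic (J ∩ K) := by
  have hmono : ∀ {A C : Set G}, A ⊆ C → P.parabolic A ≤ P.parabolic C := by
    intro A C hAC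
    exact sup_le_sup_left (Subgroup.closure_mono hAC) P.B
  refine le_antisymm ?_ (le_inf (hmono Set.inter_subset_left) (hmono Set.inter_subset_right))
  obtain ⟨L, hL, hM⟩ := Cfsg.Agent.S0311.result P (P.parabolic J ⊓ P.parabolic K)
    (le_inf (le_sup_left : P.B ≤ P.B ⊔ Subgroup.closure J) (le_sup_left : P.B ≤ P.B ⊔ Subgroup.closure K))
  rw [hM]
  apply hmono
  refine Set.subset_inter ?_ ?_
  · exact Cfsg.Agent.S0314.subset_of_parabolic_le P hL hJ (hM ▸ inf_le_left)
  · exact Cfsg.Agent.S0314.subset_of_parabolic_le P hL hK (hM ▸ inf_le_right)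

end Cfsg.Agent.S0315
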