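import Cfsg.Statements.S0325
-- import your own Cfsg.Agent.* helpers here
import Cfsg.Agent.LieExceptional.SuzukiBasic

set_option autoImplicit false
open Cfsg

namespace Cfsg.Agent.S0325

open Cfsg.Agent.LieExceptional.SuzukiBasic

section
variable {F : Type*} [Field F] [Fintype F] {m : ℕ}

/-- the order of `F` is more than `2`, so there is a unit different from `1` -/
theorem exists_unit_ne_one (hm : 1 ≤ m) (hF : Fintype.card F = 2 ^ (2 * m + 1)) :
    ∃ k : Fˣ, k ≠ 1 := by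
  classical
  have h8 : 2 < Fintype.card F := by
    rw [hF]
    calc 2 < 2 ^ 3 := by norm_num
      _ ≤ 2 ^ (2 * m + 1) := Nat.pow_le_pow_right (by norm_num) (by omega)
  have hu : 1 < Fintype.card Fˣ := by
    rw [Fintype.card_units]
    omega
  have : Nontrivial Fˣ := Fintype.one_lt_card_iff_nontrivial.1 hu
  exact exists_ne 1

/-- `k^(σ+1) = 1` only for `k = 1` -/
theorem pow_sigma_succ_eq_one (hF : Fintype.card F = 2 ^ (2 * m + 1)) (k : F) (hk : k ≠ 0)
    (h : k ^ (2 ^ (m + 1) + 1) = 1) : k = 1 := by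
  have h2 : (k ^ 2 ^ (m + 1)) ^ 2 ^ (m + 1) = k ^ 2 := sigma_sigma hF k
  have h1 : k ^ 2 ^ (m + 1) = k⁻¹ := by
    rw [pow_succ] at h
    exact eq_inv_of_mul_eq_one_left h
  rw [h1, inv_pow, h1, inv_inv] at h2
  have h3 : k * 1 = k * k := by rw [mul_one, ← sq]; exact h2
  exact (mul_left_cancel₀ hk h3).symm

/-- the unipotent elements lie in the derived subgroup -/
theorem U_mem_commutator (hm : 1 ≤ m) (hF : Fintype.card F = 2 ^ (2 * m + 1)) (a b : F) :
    (⟨U m a b, U_mem hF a b⟩ : Cfsg.Sz F m) ∈ commutator (Cfsg.Sz F m) := by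
  obtain ⟨k, hk⟩ := exists_unit_ne_one hm hF
  have hk0 : (k : F) ≠ 0 := k.ne_zero
  have hk1 : (k : F) - 1 ≠ 0 := by
    intro h
    exact hk (Units.ext (sub_eq_zero.1 h))
  have hk2 : (k : F) ^ (2 ^ (m + 1) + 1) - 1 ≠ 0 := by
    intro h
    exact hk (Units.ext (pow_sigma_succ_eq_one hF (k : F) hk0 (sub_eq_zero.1 h)))
  have := charP_two hF
  have h2 : (2 : F) = 0 := CharTwo.two_eq_zero
  -- choose parameters
  set a' : F := a / ((k : F) - 1) with ha'
  have e1 : (k : F) * a' + a' = a := by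
    have : (k : F) * a' - a' = a := by
      rw [ha']; field_simp
    rw [← this]
    linear_combination a' * h2
  set c : F := b + a' ^ (2 ^ (m + 1) + 1) + ((k : F) * a') ^ 2 ^ (m + 1) * a' with hc
  set b' : F := c / ((k : F) ^ (2 ^ (m + 1) + 1) - 1) with hb'
  have e2 : (k : F) ^ (2 ^ (m + 1) + 1) * b' + b' = c := by
    have : (k : F) ^ (2 ^ (m + 1) + 1) * b' - b' = c := by
      rw [hb']; field_simp
    rw [← this]
    linear_combination b' * h2
  have key : H m k * U m a' b' * (H m k)⁻¹ * (U m a' b')⁻¹ = U m a b := by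
    rw [H_mul_U hF, mul_inv_cancel_right, U_inv hF, U_mul hF, U_eq_U_iff]
    refine ⟨e1, ?_⟩
    have : (k : F) ^ (2 ^ (m + 1) + 1) * b' + (b' + a' ^ (2 ^ (m + 1) + 1)) +
        ((k : F) * a') ^ 2 ^ (m + 1) * a' = c + a' ^ (2 ^ (m + 1) + 1) +
        ((k : F) * a') ^ 2 ^ (m + 1) * a' := by
      rw [← e2]; ring
    rw [this, hc]
    linear_combination (a' ^ (2 ^ (m + 1) + 1) + ((k : F) * a') ^ 2 ^ (m + 1) * a') * h2
  have hmem := Subgroup.commutator_mem_commutator (G := Cfsg.Sz F m) (H₁ := ⊤) (H₂ := ⊤)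
    (g₁ := ⟨H m k, H_mem hF k⟩) (g₂ := ⟨U m a' b', U_mem hF a' b'⟩) trivial trivial
  rw [commutator_def]
  convert hmem using 1
  apply Subtype.ext
  exact key.symm

/-- the diagonal elements lie in the derived subgroup -/
theorem H_mem_commutator (hF : Fintype.card F = 2 ^ (2 * m + 1)) (k : Fˣ) :
    (⟨H m k, H_mem hF k⟩ : Cfsg.Sz F m) ∈ commutator (Cfsg.Sz F m) := by
  have := charP_two hF
  -- squares are everything
  obtain ⟨l, hl⟩ : ∃ l : Fˣ, l ^ 2 = k := by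
    have hinj : Function.Injective (fun l : Fˣ => l ^ 2) := by
      intro x y h
      have h' : (x : F) ^ 2 = (y : F) ^ 2 := by
        have := congrArg (Units.val) h
        simpa using this
      exact Units.ext (CharTwo.sq_injective h')
    exact (Finite.injective_iff_surjective.1 hinj) k
  have key : W F * H m l⁻¹ * (W F)⁻¹ * (H m l⁻¹)⁻¹ = H m k := by
    have hW : (W F)⁻¹ = W F := inv_eq_of_mul_eq_one_left W_mul_W
    rw [W_mul_H, H_inv, inv_inv, hW, mul_assoc (H m l), W_mul_W, mul_one, H_mul, ← hl, sq]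
  have hmem := Subgroup.commutator_mem_commutator (G := Cfsg.Sz F m) (H₁ := ⊤) (H₂ := ⊤)
    (g₁ := ⟨W F, W_mem hF⟩) (g₂ := ⟨H m l⁻¹, H_mem hF l⁻¹⟩) trivial trivial
  rw [commutator_def]
  convert hmem using 1
  apply Subtype.ext
  exact key.symm

/-- a nontrivial normal subgroup is transitive on the ovoid, so every element is in `N * B` -/
theorem exists_mul_of_normal (hm : 1 ≤ m) (hF : Fintype.card F = 2 ^ (2 * m + 1))
    (N : Subgroup (Cfsg.Sz F m)) [hN : N.Normal] (hN1 : N ≠ ⊥) (g : Cfsg.Sz F m) :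
    ∃ n ∈ N, ∃ (a b : F) (k : Fˣ), g = n * ⟨U m a b * H m k, mul_mem (U_mem hF a b) (H_mem hF k)⟩ := by
  classical
  have h2 := two_pretransitive hF
  have hprim : MulAction.IsPreprimitive (Cfsg.Sz F m) (suzukiOvoid F m) :=
    MulAction.isPreprimitive_of_is_two_pretransitive h2
  let inf : suzukiOvoid F m := ⟨suzukiPointInfinity F, infinity_mem_ovoid m⟩
  have hfix : MulAction.fixedPoints N (suzukiOvoid F m) ≠ ⊤ := by
    intro hfix
    apply hN1
    rw [eq_bot_iff]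
    intro n hn
    rw [Subgroup.mem_bot]
    have h3 : ∀ p ∈ suzukiOvoid F m, (n : Matrix.SpecialLinearGroup (Fin 4) F) • p = p := by
      intro p hp
      have : (⟨p, hp⟩ : suzukiOvoid F m) ∈ MulAction.fixedPoints N (suzukiOvoid F m) := by
        rw [hfix]; trivial
      have := this ⟨n, hn⟩
      have h4 := congrArg Subtype.val this
      exact h4
    apply Subtype.ext
    refine eq_one_of_fix_three hm hF n.2 (infinity_mem_ovoid m) (pt_mem_ovoid m 0 0)
      (pt_mem_ovoid m 1 0) (pt_ne_infinity m _ _).symm (pt_ne_infinity m _ _).symm ?_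
      (h3 _ (infinity_mem_ovoid m)) (h3 _ (pt_mem_ovoid m 0 0)) (h3 _ (pt_mem_ovoid m 1 0))
    intro h
    rw [pt_eq_pt_iff] at h
    exact zero_ne_one h.1
  have htrans : MulAction.IsPretransitive N (suzukiOvoid F m) :=
    MulAction.IsQuasiPreprimitive.isPretransitive_of_normal hfix
  obtain ⟨⟨n, hn⟩, hng⟩ := MulAction.exists_smul_eq N inf (g • inf)
  refine ⟨n, hn, ?_⟩
  have h1 : (n⁻¹ * g) • inf = inf := by
    rw [mul_smul, ← hng]
    exact inv_smul_smul n inf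
  have h5 := congrArg Subtype.val h1
  obtain ⟨a, b, k, h6⟩ := eq_U_mul_H_of_fix_infinity hm hF (n⁻¹ * g).2 h5
  refine ⟨a, b, k, ?_⟩
  rw [← inv_mul_eq_iff_eq_mul]
  exact Subtype.ext h6

theorem perfect (hm : 1 ≤ m) (hF : Fintype.card F = 2 ^ (2 * m + 1)) :
    commutator (Cfsg.Sz F m) = ⊤ := by
  rw [eq_top_iff]
  rintro g -
  have hne : commutator (Cfsg.Sz F m) ≠ ⊥ := by
    intro h
    have h1 := U_mem_commutator hm hF (1 : F) 0
    rw [h, Subgroup.mem_bot] at h1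
    have h2 : U m (1 : F) 0 = U m 0 0 := by
      rw [U_zero_zero]
      exact congrArg Subtype.val h1
    rw [U_eq_U_iff] at h2
    exact one_ne_zero h2.1
  obtain ⟨n, hn, a, b, k, rfl⟩ := exists_mul_of_normal hm hF (commutator (Cfsg.Sz F m)) hne g
  exact mul_mem hn (mul_mem (U_mem_commutator hm hF a b) (H_mem_commutator hF k))

/-- the derived series of the Borel subgroup, as subgroups of the Suzuki group -/
theorem borel_series (hF : Fintype.card F = 2 ^ (2 * m + 1)) :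
    ∃ B K1 K2 : Subgroup (Cfsg.Sz F m),
      (∀ g : Cfsg.Sz F m, g ∈ B ↔ ∃ (a b : F) (k : Fˣ), (g : Matrix.SpecialLinearGroup (Fin 4) F) =
        U m a b * H m k) ∧ ⁅B, B⁆ ≤ K1 ∧ ⁅K1, K1⁆ ≤ K2 ∧ ⁅K2, K2⁆ = ⊥ := by
  have hmulB : ∀ (a b : F) (k : Fˣ) (c d : F) (l : Fˣ), ∃ e f : F,
      (U m a b * H m k) * (U m c d * H m l) = U m e f * H m (k * l) := by
    intro a b k c d l
    refine ⟨a + k * c, b + (k : F) ^ (2 ^ (m + 1) + 1) * d + a ^ 2 ^ (m + 1) * (k * c), ?_⟩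
    rw [mul_assoc, ← mul_assoc (H m k), H_mul_U hF, mul_assoc (U m _ _) (H m k), H_mul, ← mul_assoc,
      U_mul hF]
  have hinvB : ∀ (a b : F) (k : Fˣ), ∃ e f : F, (U m a b * H m k)⁻¹ = U m e f * H m k⁻¹ := by
    intro a b k
    exact ⟨_, _, by rw [mul_inv_rev, U_inv hF, H_inv, H_mul_U hF]⟩
  let B : Subgroup (Cfsg.Sz F m) :=
    { carrier := {g | ∃ (a b : F) (k : Fˣ), (g : Matrix.SpecialLinearGroup (Fin 4) F) = U m a b * H m k}
      mul_mem' := by
        rintro ⟨x, hx⟩ ⟨y, hy⟩ ⟨a, b, k, h⟩ ⟨c, d, l, h'⟩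
        obtain ⟨e, f, h''⟩ := hmulB a b k c d l
        refine ⟨e, f, k * l, ?_⟩
        rw [← h'', ← h, ← h']
        rfl
      one_mem' := ⟨0, 0, 1, by rw [U_zero_zero, H_one, mul_one]; rfl⟩
      inv_mem' := by
        rintro ⟨x, hx⟩ ⟨a, b, k, h⟩
        obtain ⟨e, f, h''⟩ := hinvB a b k
        refine ⟨e, f, k⁻¹, ?_⟩
        rw [← h'', ← h]
        rfl }
  let K1 : Subgroup (Cfsg.Sz F m) :=
    { carrier := {g | ∃ (a b : F), (g : Matrix.SpecialLinearGroup (Fin 4) F) = U m a b}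
      mul_mem' := by
        rintro ⟨x, hx⟩ ⟨y, hy⟩ ⟨a, b, h⟩ ⟨c, d, h'⟩
        have h'' := U_mul hF a b c d
        rw [← h, ← h'] at h''
        exact ⟨_, _, h''⟩
      one_mem' := ⟨0, 0, by rw [U_zero_zero]; rfl⟩
      inv_mem' := by
        rintro ⟨x, hx⟩ ⟨a, b, h⟩
        have h'' := U_inv hF a b
        rw [← h] at h''
        exact ⟨_, _, h''⟩ }
  let K2 : Subgroup (Cfsg.Sz F m) :=
    { carrier := {g | ∃ (b : F), (g : Matrix.SpecialLinearGroup (Fin 4) F) = U m 0 b}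
      mul_mem' := by
        rintro ⟨x, hx⟩ ⟨y, hy⟩ ⟨b, h⟩ ⟨d, h'⟩
        refine ⟨b + d, ?_⟩
        simp only at h h'
        simp only [Subgroup.coe_mul]
        rw [h, h', U_mul hF]
        congr 1
        · rw [add_zero]
        · rw [mul_zero, add_zero]
      one_mem' := ⟨0, by rw [U_zero_zero]; rfl⟩
      inv_mem' := by
        rintro ⟨x, hx⟩ ⟨b, h⟩
        refine ⟨b, ?_⟩
        simp only at h
        simp only [Subgroup.coe_inv]
        rw [h, U_inv hF]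
        congr 1
        rw [zero_pow (Nat.succ_ne_zero _), add_zero] }
  refine ⟨B, K1, K2, fun g => Iff.rfl, ?_, ?_, ?_⟩
  · rw [Subgroup.commutator_le]
    rintro ⟨x, hx⟩ ⟨a, b, k, h⟩ ⟨y, hy⟩ ⟨c, d, l, h'⟩
    simp only at h h'
    obtain ⟨e1, f1, h1⟩ := hmulB a b k c d l
    obtain ⟨e2, f2, h2⟩ := hinvB a b k
    obtain ⟨e3, f3, h3⟩ := hmulB e1 f1 (k * l) e2 f2 k⁻¹
    obtain ⟨e4, f4, h4⟩ := hinvB c d l
    obtain ⟨e5, f5, h5⟩ := hmulB e3 f3 (k * l * k⁻¹) e4 f4 l⁻¹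
    refine ⟨e5, f5, ?_⟩
    simp only [commutatorElement_def, Subgroup.coe_mul, Subgroup.coe_inv]
    rw [h, h', h1, h2, h3, h4, h5, mul_comm k l, mul_inv_cancel_right, mul_inv_cancel, H_one, mul_one]
  · rw [Subgroup.commutator_le]
    rintro ⟨x, hx⟩ ⟨a, b, h⟩ ⟨y, hy⟩ ⟨c, d, h'⟩
    simp only at h h'
    show ∃ f : F, x * y * x⁻¹ * y⁻¹ = U m 0 f
    rw [h, h', U_inv hF, U_inv hF, U_mul hF, U_mul hF, U_mul hF]
    have h0 : a + c + a + c = 0 := by linear_combination add_self hF a + add_self hF c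
    rw [h0]
    exact ⟨_, rfl⟩
  · rw [eq_bot_iff, Subgroup.commutator_le]
    rintro ⟨x, hx⟩ ⟨b, h⟩ ⟨y, hy⟩ ⟨d, h'⟩
    simp only at h h'
    rw [Subgroup.mem_bot]
    apply Subtype.ext
    simp only [commutatorElement_def, Subgroup.coe_mul, Subgroup.coe_inv, Subgroup.coe_one]
    rw [h, h', U_inv hF, U_inv hF, U_mul hF, U_mul hF, U_mul hF, ← U_zero_zero m]
    congr 1
    · ring
    · rw [zero_pow (Nat.succ_ne_zero _), zero_pow (by positivity)]
      linear_combination add_self hF b + add_self hF d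

end

/-- The Suzuki group over a field with `2^(2m+1)` elements, `m ≥ 1`, is a simple group. -/
theorem result {F : Type*} [Field F] [Fintype F] {m : ℕ} (hm : 1 ≤ m)
    (hF : Fintype.card F = 2 ^ (2 * m + 1)) :
    IsSimpleGroup (Cfsg.Sz F m) := by
  have hnt : Nontrivial (Cfsg.Sz F m) := by
    refine ⟨⟨⟨U m 1 0, U_mem hF 1 0⟩, ⟨U m 0 0, U_mem hF 0 0⟩, ?_⟩⟩
    intro h
    have h' : U m (1 : F) 0 = U m 0 0 := congrArg Subtype.val h
    rw [U_eq_U_iff] at h'
    exact one_ne_zero h'.1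
  refine ⟨fun N hN => ?_⟩
  rw [or_iff_not_imp_left]
  intro hN1
  obtain ⟨B, K1, K2, hB, hB1, hK1, hK2⟩ := borel_series (F := F) (m := m) hF
  have hperf := perfect hm hF
  -- everything is in `N * B`
  have hmapB : Subgroup.map (QuotientGroup.mk' N) B = ⊤ := by
    rw [eq_top_iff]
    rintro x -
    obtain ⟨g, rfl⟩ := QuotientGroup.mk'_surjective N x
    obtain ⟨n, hn, a, b, k, rfl⟩ := exists_mul_of_normal hm hF N hN1 g
    refine ⟨⟨U m a b * H m k, mul_mem (U_mem hF a b) (H_mem hF k)⟩, (hB _).2 ⟨a, b, k, rfl⟩, ?_⟩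
    have h1 : (QuotientGroup.mk' N) n = 1 := (QuotientGroup.eq_one_iff n).2 hn
    rw [map_mul, h1, one_mul]
  have hQ : ⁅(⊤ : Subgroup (Cfsg.Sz F m ⧸ N)), (⊤ : Subgroup (Cfsg.Sz F m ⧸ N))⁆ = ⊤ := by
    have h1 : Subgroup.map (QuotientGroup.mk' N) ⊤ = ⊤ :=
      Subgroup.map_top_of_surjective _ (QuotientGroup.mk'_surjective N)
    have h2 : Subgroup.map (QuotientGroup.mk' N) ⁅(⊤ : Subgroup (Cfsg.Sz F m)), ⊤⁆ = ⊤ := by
      rw [← commutator_def, hperf, h1]
    rw [Subgroup.map_commutator, h1] at h2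
    exact h2
  have step : ∀ K L : Subgroup (Cfsg.Sz F m), ⁅K, K⁆ ≤ L →
      Subgroup.map (QuotientGroup.mk' N) K = ⊤ → Subgroup.map (QuotientGroup.mk' N) L = ⊤ := by
    intro K L hKL hK
    rw [eq_top_iff, ← hQ, ← hK, ← Subgroup.map_commutator]
    exact Subgroup.map_mono hKL
  have h3 := step K2 ⊥ hK2.le (step K1 K2 hK1 (step B K1 hB1 hmapB))
  rw [Subgroup.map_bot] at h3
  have h4 : Subsingleton (Cfsg.Sz F m ⧸ N) := by
    rw [← Subgroup.subsingleton_iff (G := Cfsg.Sz F m ⧸ N)]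
    exact subsingleton_of_bot_eq_top h3
  exact QuotientGroup.subgroup_eq_top_of_subsingleton N h4

end Cfsg.Agent.S0325
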