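import Cfsg.Statements.S0327
import Cfsg.Agent.LieExceptional.SuzukiBasic
import Cfsg.Agent.S0325

set_option autoImplicit false
open Cfsg

namespace Cfsg.Agent.S0327

open Cfsg.Agent.LieExceptional.SuzukiBasic

/-- The Suzuki group (`m ≥ 1`) is a Zassenhaus group on the `q² + 1` points of the Suzuki–Tits ovoid. -/
theorem result {F : Type*} [Field F] [Fintype F] {m : ℕ} (hm : 1 ≤ m)
    (hF : Fintype.card F = 2 ^ (2 * m + 1)) :
    Cfsg.IsZassenhausGroup (Cfsg.Sz F m) (Cfsg.suzukiOvoid F m) := by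
  classical
  obtain ⟨k, hk⟩ := Cfsg.Agent.S0325.exists_unit_ne_one hm hF
  have hHk : (⟨H m k, H_mem hF k⟩ : Cfsg.Sz F m) ≠ 1 := by
    intro h
    have h' : H m k = 1 := congrArg Subtype.val h
    rw [← H_one m, H_eq_H_iff hF] at h'
    exact hk h'
  have hinfzero : (⟨suzukiPointInfinity F, infinity_mem_ovoid m⟩ : suzukiOvoid F m) ≠
      ⟨suzukiPointZero F, zero_mem_ovoid m⟩ := by
    intro h
    exact zero_ne_infinity (congrArg Subtype.val h).symm
  have hfix3 : ∀ g : Cfsg.Sz F m, ∀ a b c : suzukiOvoid F m, a ≠ b → b ≠ c → a ≠ c →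
      g • a = a → g • b = b → g • c = c → g = 1 := by
    intro g a b c hab hbc hac ha hb hc
    apply Subtype.ext
    exact eq_one_of_fix_three hm hF g.2 a.2 b.2 c.2 (fun h => hab (Subtype.ext h))
      (fun h => hac (Subtype.ext h)) (fun h => hbc (Subtype.ext h))
      (congrArg Subtype.val ha) (congrArg Subtype.val hb) (congrArg Subtype.val hc)
  refine ⟨?_, two_pretransitive hF, hfix3, ?_, ?_⟩
  · refine ⟨fun {g h} hgh => ?_⟩
    have h1 : ∀ p : suzukiOvoid F m, (h⁻¹ * g) • p = p := by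
      intro p
      rw [mul_smul, hgh p, inv_smul_smul]
    have h2 : h⁻¹ * g = 1 := by
      refine hfix3 _ ⟨suzukiPointInfinity F, infinity_mem_ovoid m⟩ ⟨pt m 0 0, pt_mem_ovoid m 0 0⟩
        ⟨pt m 1 0, pt_mem_ovoid m 1 0⟩ ?_ ?_ ?_ (h1 _) (h1 _) (h1 _)
      · intro h
        exact pt_ne_infinity m _ _ (congrArg Subtype.val h).symm
      · intro h
        have := congrArg Subtype.val h
        rw [pt_eq_pt_iff] at this
        exact zero_ne_one this.1
      · intro h
        exact pt_ne_infinity m _ _ (congrArg Subtype.val h).symm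
    exact (inv_mul_eq_one.1 h2).symm
  · exact ⟨_, hHk, _, _, hinfzero, Subtype.ext (H_smul_infinity k), Subtype.ext (H_smul_zero hF k)⟩
  · intro N hN htrans
    have := Cfsg.Agent.S0325.result hm hF
    rcases this.eq_bot_or_eq_top_of_normal N hN with h | h
    · exfalso
      obtain ⟨⟨n, hn⟩, h1⟩ := MulAction.exists_smul_eq N
        (⟨suzukiPointInfinity F, infinity_mem_ovoid m⟩ : suzukiOvoid F m)
        ⟨suzukiPointZero F, zero_mem_ovoid m⟩
      rw [h, Subgroup.mem_bot] at hn
      subst hn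
      apply hinfzero
      rw [← h1]
      exact (one_smul _ _).symm
    · refine ⟨⟨suzukiPointInfinity F, infinity_mem_ovoid m⟩, ?_⟩
      intro hbot
      have hmem : (⟨⟨H m k, H_mem hF k⟩, by rw [h]; trivial⟩ : N) ∈
          MulAction.stabilizer N (⟨suzukiPointInfinity F, infinity_mem_ovoid m⟩ : suzukiOvoid F m) :=
        Subtype.ext (H_smul_infinity k)
      rw [hbot, Subgroup.mem_bot] at hmem
      exact hHk (congrArg Subtype.val hmem)

end Cfsg.Agent.S0327
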