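import Cfsg.Statements.S0329
import Cfsg.Agent.LieExceptional.SuzukiBasic

set_option autoImplicit false
open Cfsg

namespace Cfsg.Agent.S0329

open Cfsg.Agent.LieExceptional.SuzukiBasic

/-- The stabiliser in the Suzuki group of the ovoid point spanned by `(1,0,0,0)` has order `q² (q - 1)`. -/
theorem result {F : Type*} [Field F] [Fintype F] {m : ℕ} (hm : 1 ≤ m)
    (hF : Fintype.card F = 2 ^ (2 * m + 1)) :
    Nat.card (MulAction.stabilizer (Cfsg.Sz F m) (Cfsg.suzukiPointInfinity F)) =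
      (2 ^ (2 * m + 1)) ^ 2 * (2 ^ (2 * m + 1) - 1) := by
  classical
  let f : (F × F) × Fˣ → MulAction.stabilizer (Cfsg.Sz F m) (Cfsg.suzukiPointInfinity F) := fun t =>
    ⟨⟨U m t.1.1 t.1.2 * H m t.2, mul_mem (U_mem hF _ _) (H_mem hF _)⟩, by
      show (U m t.1.1 t.1.2 * H m t.2) • suzukiPointInfinity F = suzukiPointInfinity F
      rw [mul_smul, H_smul_infinity, U_smul_infinity]⟩
  have hf : Function.Bijective f := by
    constructor
    · rintro ⟨⟨a, b⟩, k⟩ ⟨⟨a', b'⟩, k'⟩ h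
      have h' : U m a b * H m k = U m a' b' * H m k' :=
        congrArg (fun z : MulAction.stabilizer (Cfsg.Sz F m) (Cfsg.suzukiPointInfinity F) =>
          ((z : Cfsg.Sz F m) : Matrix.SpecialLinearGroup (Fin 4) F)) h
      obtain ⟨rfl, rfl, rfl⟩ := U_mul_H_inj hF h'
      rfl
    · rintro ⟨⟨g, hg⟩, hg'⟩
      have h1 : g • suzukiPointInfinity F = suzukiPointInfinity F := hg'
      obtain ⟨a, b, k, rfl⟩ := eq_U_mul_H_of_fix_infinity hm hF hg h1
      exact ⟨((a, b), k), rfl⟩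
  rw [← Nat.card_congr (Equiv.ofBijective f hf), Nat.card_prod, Nat.card_prod, Nat.card_units,
    Nat.card_eq_fintype_card, hF]
  ring

end Cfsg.Agent.S0329
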