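import Cfsg.Statements.S0331
import Cfsg.Agent.S0324
import Cfsg.Agent.S0328
import Cfsg.Agent.LieExceptional.CyclicSylow

set_option autoImplicit false
open Cfsg

namespace Cfsg.Agent.S0331

open Cfsg.Agent.LieExceptional.CyclicSylow

/-- If `p` is odd, the `p`-part of `q² (q² + 1) (q - 1)` is that of `q - 1` when `p ∣ q - 1`. -/
theorem fact_aux {p q : ℕ} [Fact p.Prime] (hp : p ≠ 2) (hq : 2 ≤ q) (hpq : p ∣ q - 1) :
    (q ^ 2 * (q ^ 2 + 1) * (q - 1)).factorization p = (q - 1).factorization p := by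
  have hpp : p.Prime := Fact.out
  have h1 : ¬ p ∣ q := by
    intro h
    have h2 : p ∣ q - (q - 1) := Nat.dvd_sub h hpq
    rw [show q - (q - 1) = 1 by omega] at h2
    exact hpp.one_lt.ne' (Nat.dvd_one.1 h2)
  have h2 : ¬ p ∣ q ^ 2 + 1 := by
    intro h
    obtain ⟨k, hk⟩ := hpq
    have h3 : q = p * k + 1 := by omega
    rw [h3] at h
    have h4 : (p * k + 1) ^ 2 + 1 = p * (p * k * k + 2 * k) + 2 := by ring
    rw [h4] at h
    have h5 : p ∣ 2 := (Nat.dvd_add_right (dvd_mul_right _ _)).1 h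
    exact hp ((Nat.prime_dvd_prime_iff_eq hpp Nat.prime_two).1 h5)
  have h3 : q - 1 ≠ 0 := by omega
  have h4 : q ^ 2 * (q ^ 2 + 1) ≠ 0 := by positivity
  rw [Nat.factorization_mul h4 h3, Finsupp.add_apply, Nat.factorization_eq_zero_of_not_dvd, zero_add]
  intro h
  rcases hpp.dvd_mul.1 h with h | h
  · exact h1 (hpp.dvd_of_dvd_pow h)
  · exact h2 h

/-- If the odd prime `p` divides `q² + 1` with `q` even, then it does not divide `q ^ i - 1` for `0 < i < 4`. -/
theorem order_aux {p q : ℕ} [Fact p.Prime] (hp : p ≠ 2) (hq : 2 ≤ q) (hpq : p ∣ q ^ 2 + 1) :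
    ∀ i, 0 < i → i < 4 → ¬ p ∣ q ^ i - 1 := by
  have hpp : p.Prime := Fact.out
  have hp2 : ¬ p ∣ 2 := fun h => hp ((Nat.prime_dvd_prime_iff_eq hpp Nat.prime_two).1 h)
  have key2 : ¬ p ∣ q ^ 2 - 1 := by
    intro h
    have h1 : p ∣ (q ^ 2 + 1) - (q ^ 2 - 1) := Nat.dvd_sub hpq h
    have h2 : 1 ≤ q ^ 2 := Nat.one_le_pow _ _ (by omega)
    rw [show (q ^ 2 + 1) - (q ^ 2 - 1) = 2 by omega] at h1
    exact hp2 h1
  have key1 : ¬ p ∣ q - 1 := by
    intro h
    apply key2
    have : q - 1 ∣ q ^ 2 - 1 := by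
      simpa using Nat.sub_dvd_pow_sub_pow q 1 2
    exact h.trans this
  intro i hi hi4
  interval_cases i
  · simpa using key1
  · exact key2
  · intro h
    -- `q³ ≡ 1`, `q² ≡ -1` gives `q ≡ -1`, so `q² ≡ 1`
    have h1 : (q ^ 3 : ZMod p) = 1 := by
      have h2 : ((q ^ 3 - 1 : ℕ) : ZMod p) = 0 := (ZMod.natCast_eq_zero_iff _ _).2 h
      rw [Nat.cast_sub (Nat.one_le_pow _ _ (by omega))] at h2
      push_cast at h2
      exact sub_eq_zero.1 h2
    have h2 : (q ^ 2 + 1 : ZMod p) = 0 := by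
      have := (ZMod.natCast_eq_zero_iff (q ^ 2 + 1) p).2 hpq
      push_cast at this
      exact this
    have h3 : (q : ZMod p) = -1 := by
      linear_combination (q : ZMod p) * h2 - h1
    rw [h3] at h2
    have h4 : ((2 : ℕ) : ZMod p) = 0 := by
      push_cast
      linear_combination h2
    exact hp2 ((ZMod.natCast_eq_zero_iff _ _).1 h4)

/-- For every odd prime `p` the Sylow `p`-subgroups of the Suzuki group are cyclic. -/
theorem result {F : Type*} [Field F] [Fintype F] {m : ℕ} (hm : 1 ≤ m)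
    (hF : Fintype.card F = 2 ^ (2 * m + 1)) {p : ℕ} [Fact p.Prime] (hp : p ≠ 2)
    (P : Sylow p (Cfsg.Sz F m)) : IsCyclic P := by
  have hpp : p.Prime := Fact.out
  have hcard := Cfsg.Agent.S0324.result hm hF
  obtain ⟨e⟩ := Cfsg.Agent.S0328.result hm hF
  rw [← hF] at hcard
  set q := Fintype.card F with hq
  have hq2 : 2 ≤ q := by
    rw [hF]
    calc 2 = 2 ^ 1 := rfl
      _ ≤ 2 ^ (2 * m + 1) := Nat.pow_le_pow_right (by norm_num) (by omega)
  have hpq : ¬ p ∣ q := by
    intro h
    rw [hF] at h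
    exact hp ((Nat.prime_dvd_prime_iff_eq hpp Nat.prime_two).1 (hpp.dvd_of_dvd_pow h))
  by_cases h1 : p ∣ q - 1
  · -- the Sylow subgroup of the two-point stabiliser
    let H := (MulAction.stabilizer (Cfsg.Sz F m) (Cfsg.suzukiPointInfinity F) ⊓
        MulAction.stabilizer (Cfsg.Sz F m) (Cfsg.suzukiPointZero F))
    have hcyc : IsCyclic H := isCyclic_of_surjective e.symm e.symm.surjective
    have hcH : Nat.card H = q - 1 := by
      rw [Nat.card_congr e.toEquiv, Nat.card_units, Nat.card_eq_fintype_card]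
    refine isCyclic_sylow_of_hom H.subtype H.subtype_injective ?_ P
    rw [hcard, hcH]
    exact fact_aux hp hq2 h1
  · by_cases h2 : p ∣ q ^ 2 + 1
    · -- Sylow subgroups of `GL_4(q)`
      refine isCyclic_of_isPGroup_of_hom_GL (F := F) (n := 4) (p := p) ?_ ?_ P.isPGroup'
        ((Matrix.SpecialLinearGroup.toGL.comp (Subgroup.subtype _)).comp (Subgroup.subtype _)) ?_
      · rw [Nat.card_eq_fintype_card]; exact hpq
      · rw [Nat.card_eq_fintype_card]; exact order_aux hp hq2 h2
      · rw [MonoidHom.coe_comp, MonoidHom.coe_comp]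
        refine (Function.Injective.comp ?_ (Subgroup.subtype_injective _)).comp
          (Subgroup.subtype_injective _)
        exact Matrix.SpecialLinearGroup.toGL_injective
    · -- `p` does not divide the order
      have h3 : ¬ p ∣ Nat.card (Cfsg.Sz F m) := by
        rw [hcard]
        intro h
        rcases hpp.dvd_mul.1 h with h | h
        · rcases hpp.dvd_mul.1 h with h | h
          · exact hpq (hpp.dvd_of_dvd_pow h)
          · exact h2 h
        · exact h1 h
      have h4 : Nat.card P = 1 := by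
        rw [Sylow.card_eq_multiplicity, Nat.factorization_eq_zero_of_not_dvd h3, pow_zero]
      have := (Nat.card_eq_one_iff_unique.1 h4).1
      infer_instance

end Cfsg.Agent.S0331
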