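import Cfsg.Statements.S0341
import Cfsg.Agent.S0034
import Cfsg.Agent.S0035
import Cfsg.Agent.LieExceptional.FrobDim
import Cfsg.Agent.LieExceptional.FrobInvariantAbelian

set_option autoImplicit false
open Cfsg

namespace Cfsg.Agent.S0341

/-- If a finite group acts faithfully and doubly transitively, no non-identity element fixes three points, some
non-identity element fixes two points, and some normal subgroup acts regularly, then the number of points
is `2^p` with `p` prime. -/
theorem result {G Ω : Type*} [Group G]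
    [MulAction G Ω] [Fintype Ω] [FaithfulSMul G Ω] (h2 : MulAction.IsMultiplyPretransitive G Ω 2)
    (h3 : ∀ g : G, ∀ a b c : Ω, a ≠ b → b ≠ c → a ≠ c → g • a = a → g • b = b → g • c = c → g = 1)
    (hfix : ∃ g : G, g ≠ 1 ∧ ∃ a b : Ω, a ≠ b ∧ g • a = a ∧ g • b = b)
    (N : Subgroup G) [N.Normal] (hNt : MulAction.IsPretransitive N Ω)
    (hNr : ∀ a : Ω, MulAction.stabilizer N a = ⊥) :
    ∃ p : ℕ, p.Prime ∧ Fintype.card Ω = 2 ^ p := by
  classical
  obtain ⟨g, hg1, a, b, hab, hga, hgb⟩ := hfix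
  have hfinG : Finite G := Finite.of_injective (MulAction.toPermHom G Ω) MulAction.toPerm_injective
  -- regularity of N
  have huniq : ∀ n ∈ N, n • a = a → n = 1 := by
    intro n hn h
    have h1 : (⟨n, hn⟩ : N) ∈ MulAction.stabilizer N a := h
    rw [hNr a] at h1
    exact congrArg Subtype.val (Subgroup.mem_bot.mp h1)
  have huniq2 : ∀ n ∈ N, ∀ m ∈ N, n • a = m • a → n = m := by
    intro n hn m hm h
    have h1 : (m⁻¹ * n) • a = a := by rw [mul_smul, h, inv_smul_smul]
    exact (inv_mul_eq_one.mp (huniq _ (N.mul_mem (N.inv_mem hm) hn) h1)).symm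
  have htrans : ∀ c : Ω, ∃ n ∈ N, n • a = c := by
    intro c
    obtain ⟨n, hn⟩ := hNt.exists_smul_eq a c
    exact ⟨n, n.2, hn⟩
  obtain ⟨n₀, hn₀, hn₀b⟩ := htrans b
  have hn₀1 : n₀ ≠ 1 := by
    rintro rfl
    exact hab (by simpa using hn₀b)
  have hKact : ∀ k : G, k • a = a → ∀ n : G, k • (n • a) = (k * n * k⁻¹) • a := by
    intro k hk n
    have h1 : k⁻¹ • a = a := inv_smul_eq_iff.mpr hk.symm
    rw [mul_smul, mul_smul, h1]
  have hcommiff : ∀ k : G, k • a = a → ∀ n ∈ N, (k • (n • a) = n • a ↔ k * n * k⁻¹ = n) := by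
    intro k hk n hn
    rw [hKact k hk n]
    constructor
    · intro h
      exact huniq2 _ ((inferInstance : N.Normal).conj_mem n hn k) _ hn h
    · intro h
      rw [h]
  rw [MulAction.is_two_pretransitive_iff] at h2
  have htr2 : ∀ n ∈ N, n ≠ 1 → ∀ m ∈ N, m ≠ 1 → ∃ k : G, k • a = a ∧ k * n * k⁻¹ = m := by
    intro n hn hn1 m hm hm1
    have h4 : a ≠ n • a := fun h => hn1 (huniq n hn h.symm)
    have h5 : a ≠ m • a := fun h => hm1 (huniq m hm h.symm)
    obtain ⟨k, hk1, hk2⟩ := h2 h4 h5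
    refine ⟨k, hk1, ?_⟩
    rw [hKact k hk1 n] at hk2
    exact huniq2 _ ((inferInstance : N.Normal).conj_mem n hn k) _ hm hk2
  -- exponent two
  have hg0 : g * n₀ * g⁻¹ = n₀ := (hcommiff g hga n₀ hn₀).mp (by rw [hn₀b]; exact hgb)
  have hn₀2 : n₀ * n₀ = 1 := by
    by_contra hne
    apply hg1
    refine h3 g a b ((n₀ * n₀) • a) hab ?_ ?_ hga hgb ?_
    · intro h
      rw [← hn₀b, mul_smul] at h
      have h4 := huniq n₀ hn₀ (smul_left_cancel n₀ h).symm
      exact hn₀1 h4
    · intro h
      exact hne (huniq _ (N.mul_mem hn₀ hn₀) h.symm)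
    · rw [hcommiff g hga _ (N.mul_mem hn₀ hn₀)]
      have h5 : g * (n₀ * n₀) * g⁻¹ = (g * n₀ * g⁻¹) * (g * n₀ * g⁻¹) := by group
      rw [h5, hg0]
  have hexp : ∀ n ∈ N, n * n = 1 := by
    intro n hn
    by_cases hn1 : n = 1
    · rw [hn1, one_mul]
    · obtain ⟨k, hk, rfl⟩ := htr2 n₀ hn₀ hn₀1 n hn hn1
      have h5 : (k * n₀ * k⁻¹) * (k * n₀ * k⁻¹) = k * (n₀ * n₀) * k⁻¹ := by group
      rw [h5, hn₀2, mul_one, mul_inv_cancel]
  have hNcomm : ∀ n m : N, n * m = m * n := by
    intro n m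
    have e1 : ∀ y : N, y⁻¹ = y := fun y => inv_eq_of_mul_eq_one_left (Subtype.ext (hexp y y.2))
    calc n * m = (n * m)⁻¹ := (e1 _).symm
      _ = m⁻¹ * n⁻¹ := mul_inv_rev _ _
      _ = m * n := by rw [e1, e1]
  let _ : CommGroup N := { (inferInstance : Group N) with mul_comm := hNcomm }
  have hcardN : Nat.card N = Fintype.card Ω := by
    rw [← Nat.card_eq_fintype_card]
    apply Nat.card_congr
    refine Equiv.ofBijective (fun n : N => (n : G) • a) ⟨?_, ?_⟩
    · intro n m h
      exact Subtype.ext (huniq2 _ n.2 _ m.2 h)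
    · intro c
      obtain ⟨n, hn, h⟩ := htrans c
      exact ⟨⟨n, hn⟩, h⟩
  -- the stabiliser
  let K : Subgroup G := MulAction.stabilizer G a
  have hKa : ∀ k : K, (k : G) • a = a := fun k => k.2
  let H : Subgroup K := MulAction.stabilizer K b
  have hHmem : ∀ k : K, k ∈ H ↔ (k : G) • b = b := fun k => Iff.rfl
  have hHFrob : Cfsg.IsFrobeniusComplement H := by
    refine ⟨?_, ?_, ?_⟩
    · intro h
      have h1 : (⟨g, hga⟩ : K) ∈ H := hgb
      rw [h] at h1
      exact hg1 (congrArg Subtype.val (Subgroup.mem_bot.mp h1))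
    · intro h
      apply hg1
      apply FaithfulSMul.eq_of_smul_eq_smul (α := Ω)
      intro c
      rw [one_smul]
      by_cases hca : c = a
      · rw [hca]; exact hga
      by_cases hcb : c = b
      · rw [hcb]; exact hgb
      exfalso
      obtain ⟨k, hk1, hk2⟩ := h2 hab (Ne.symm hca)
      have h1 : (⟨k, hk1⟩ : K) ∈ H := by rw [h]; trivial
      exact hcb (by rw [← hk2]; exact h1)
    · intro k hk
      rw [eq_bot_iff]
      intro y hy
      obtain ⟨hy1, hy2⟩ := Subgroup.mem_inf.mp hy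
      rw [Subgroup.mem_bot]
      rw [Subgroup.mem_pointwise_smul_iff_inv_smul_mem] at hy2
      have h4 : k⁻¹ * y * k ∈ H := by simpa using hy2
      have h5 : ((k : G)⁻¹ * (y : G) * (k : G)) • b = b := h4
      have h6 : (y : G) • ((k : G) • b) = (k : G) • b := by
        rw [mul_smul, mul_smul] at h5
        exact inv_smul_eq_iff.mp h5
      apply Subtype.ext
      refine h3 y a b ((k : G) • b) hab (fun h => hk h.symm) ?_ (hKa y) hy1 h6
      intro h
      apply hab
      have h7 : (k : G) • a = (k : G) • b := by rw [hKa k]; exact h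
      exact smul_left_cancel _ h7
  obtain ⟨M, hMset, hMn, hMH⟩ := Cfsg.Agent.S0035.result H hHFrob
  obtain ⟨hcardker, hmod⟩ := Cfsg.Agent.S0034.result H hHFrob
  have hcardM : Nat.card M = H.index := hMH.index_eq_card.symm
  have hindex : H.index = Fintype.card Ω - 1 := by
    have h4 : MulAction.orbit K b = {a}ᶜ := by
      ext c
      simp only [MulAction.mem_orbit_iff, Set.mem_compl_iff, Set.mem_singleton_iff]
      constructor
      · rintro ⟨k, rfl⟩ h
        apply hab
        have h7 : (k : G) • a = (k : G) • b := by rw [hKa k]; exact h.symm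
        exact smul_left_cancel _ h7
      · intro hc
        obtain ⟨k, hk1, hk2⟩ := h2 hab (Ne.symm hc)
        exact ⟨⟨k, hk1⟩, hk2⟩
    change (MulAction.stabilizer K b).index = _
    rw [MulAction.index_stabilizer, h4, Set.ncard_compl, Set.ncard_singleton, Nat.card_eq_fintype_card]
  have heven : 2 ∣ Fintype.card Ω := by
    rw [← hcardN]
    have h4 : orderOf (⟨n₀, hn₀⟩ : N) = 2 := by
      apply orderOf_eq_prime
      · rw [pow_two]; exact Subtype.ext hn₀2
      · intro h; exact hn₀1 (congrArg Subtype.val h)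
    rw [← h4]
    exact orderOf_dvd_natCard _
  have hpos : 0 < Fintype.card Ω := Fintype.card_pos_iff.mpr ⟨a⟩
  have hoddM : Odd (Nat.card M) := by
    rw [hcardM, hindex]
    obtain ⟨t, ht⟩ := heven
    refine ⟨t - 1, ?_⟩
    omega
  -- an element of prime order in H
  have hH1 : Nat.card H ≠ 1 := fun h => hHFrob.1 (Subgroup.card_eq_one.mp h)
  obtain ⟨r, hr, hrH⟩ := Nat.exists_prime_and_dvd hH1
  have : Fact r.Prime := ⟨hr⟩
  obtain ⟨⟨x, hxH⟩, hxord⟩ := exists_prime_orderOf_dvd_card' r hrH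
  have hxr : x ^ r = 1 := by
    have h4 := pow_orderOf_eq_one (⟨x, hxH⟩ : H)
    rw [hxord] at h4
    exact congrArg Subtype.val h4
  have hx1 : x ≠ 1 := by
    rintro rfl
    have h4 : (⟨1, hxH⟩ : H) = 1 := rfl
    rw [h4, orderOf_one] at hxord
    exact hr.one_lt.ne hxord
  have hrM : ¬ r ∣ Nat.card M := by
    intro h
    have h4 : Nat.card M ≡ 1 [MOD Nat.card H] := by rw [hcardM]; exact hmod
    have h5 : Nat.card M ≡ 1 [MOD r] := h4.of_dvd hrH
    have h6 : r ∣ 1 := (Nat.modEq_zero_iff_dvd.mp (h5.symm.trans (Nat.modEq_zero_iff_dvd.mpr h)))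
    exact hr.one_lt.ne' (Nat.dvd_one.mp h6)
  have hMbot : M ≠ ⊥ := by
    rintro rfl
    exact hHFrob.2.1 (Subgroup.isComplement'_bot_left.mp hMH)
  obtain ⟨A, hAM, hA1, hAcomm, hAx⟩ :=
    Cfsg.Agent.LieExceptional.FrobInvariantAbelian.exists_abelian_invariant M hMbot x hr hxr hrM
  have hMHdisj : ∀ y : K, y ∈ M → y ∈ H → y = 1 := by
    intro y hy1 hy2
    exact Subgroup.mem_bot.mp (hMH.disjoint.le_bot (Subgroup.mem_inf.mpr ⟨hy1, hy2⟩))
  have hKcomm : ∀ k : K, k ∈ H ↔ (k : G) * n₀ * (k : G)⁻¹ = n₀ := by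
    intro k
    rw [hHmem, ← hn₀b]
    exact hcommiff k (hKa k) n₀ hn₀
  have hMfree : ∀ y ∈ M, ∀ n ∈ N, n ≠ 1 → (y : G) * n * (y : G)⁻¹ = n → y = 1 := by
    intro y hy n hn hn1 hyn
    obtain ⟨k, hk1, hk2⟩ := htr2 n₀ hn₀ hn₀1 n hn hn1
    let k' : K := ⟨k, hk1⟩
    have h4 : k'⁻¹ * y * k' ∈ M := by
      have := hMn.conj_mem y hy k'⁻¹
      simpa using this
    have h5 : k'⁻¹ * y * k' ∈ H := by
      rw [hKcomm]
      change (k⁻¹ * (y : G) * k) * n₀ * (k⁻¹ * (y : G) * k)⁻¹ = n₀
      have h6 : (k⁻¹ * (y : G) * k) * n₀ * (k⁻¹ * (y : G) * k)⁻¹ = k⁻¹ * ((y : G) * (k * n₀ * k⁻¹) * (y : G)⁻¹) * k := by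
        group
      rw [h6, hk2, hyn, ← hk2]
      group
    have h6 := hMHdisj _ h4 h5
    have h7 : y = k' * (k'⁻¹ * y * k') * k'⁻¹ := by group
    rw [h7, h6]
    group
  -- the representation
  let ρ : K →* AddMonoid.End (Additive N) :=
    { toFun := fun k => MonoidHom.toAdditive (MulAut.conjNormal (k : G) : MulAut N).toMonoidHom
      map_one' := by
        apply AddMonoidHom.ext
        intro v
        change Additive.ofMul (MulAut.conjNormal ((1 : K) : G) (Additive.toMul v)) = v
        simp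
      map_mul' := by
        intro k l
        apply AddMonoidHom.ext
        intro v
        change Additive.ofMul (MulAut.conjNormal ((k * l : K) : G) (Additive.toMul v)) =
          Additive.ofMul (MulAut.conjNormal (k : G) (MulAut.conjNormal (l : G) (Additive.toMul v)))
        rw [Subgroup.coe_mul, map_mul]
        rfl }
  have hρ : ∀ (k : K) (v : Additive N), ρ k v = v ↔ (k : G) * ((Additive.toMul v : N) : G) * (k : G)⁻¹ = ((Additive.toMul v : N) : G) := by
    intro k v
    constructor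
    · intro h
      exact congrArg (fun w : Additive N => ((Additive.toMul w : N) : G)) h
    · intro h
      exact congrArg Additive.ofMul (Subtype.ext h : (MulAut.conjNormal (k : G) (Additive.toMul v)) = Additive.toMul v)
  have hAodd : Odd (Nat.card A) := hoddM.of_dvd_nat (Subgroup.card_dvd_of_le hAM)
  have hmain := Cfsg.Agent.LieExceptional.FrobDim.card_eq_two_pow (V := Additive N) (K := K)
    (fun v => by
      change Additive.ofMul (Additive.toMul v * Additive.toMul v) = Additive.ofMul 1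
      exact congrArg Additive.ofMul (Subtype.ext (hexp _ (Additive.toMul v).2)))
    ρ A hAcomm hAodd hA1 x hr hxr hAx
    (by
      intro y hy hxy
      apply hMHdisj y (hAM hy)
      by_contra hyH
      have h4 := hHFrob.2.2 y hyH
      apply hx1
      rw [← Subgroup.mem_bot, ← h4]
      refine Subgroup.mem_inf.mpr ⟨hxH, ?_⟩
      rw [Subgroup.mem_pointwise_smul_iff_inv_smul_mem]
      have h5 : (MulAut.conj y)⁻¹ • x = x := by
        rw [← map_inv, MulAut.smul_def, MulAut.conj_apply, inv_inv]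
        rw [mul_assoc, hxy.eq, inv_mul_cancel_left]
      rw [h5]
      exact hxH)
    (Additive.ofMul ⟨n₀, hn₀⟩)
    (by
      intro h
      apply hn₀1
      have : (⟨n₀, hn₀⟩ : N) = 1 := Additive.ofMul.injective h
      exact congrArg Subtype.val this)
    (by
      intro v hv
      rw [hρ] at hv
      by_contra hcon
      push Not at hcon
      obtain ⟨hc1, hc2⟩ := hcon
      apply hx1
      have hn := (Additive.toMul v : N).2
      have hc1' : ((Additive.toMul v : N) : G) ≠ 1 := by
        intro h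
        exact hc1 (congrArg Additive.ofMul (Subtype.ext h : Additive.toMul v = 1))
      have hc2' : ((Additive.toMul v : N) : G) ≠ n₀ := by
        intro h
        exact hc2 (congrArg Additive.ofMul (Subtype.ext h : Additive.toMul v = ⟨n₀, hn₀⟩))
      apply Subtype.ext
      refine h3 x a b (((Additive.toMul v : N) : G) • a) hab ?_ ?_ (hKa x) hxH ?_
      · intro h
        rw [← hn₀b] at h
        exact hc2' (huniq2 _ hn _ hn₀ h.symm)
      · intro h
        exact hc1' (huniq _ hn h.symm)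
      · rw [hcommiff x (hKa x) _ hn]
        exact hv)
    (by
      rw [hρ]
      exact (hKcomm x).mp hxH)
    (by
      intro v hv
      by_contra hv0
      obtain ⟨⟨y, hy⟩, hy1⟩ := Subgroup.ne_bot_iff_exists_ne_one.mp hA1
      apply hy1
      apply Subtype.ext
      refine hMfree y (hAM hy) _ (Additive.toMul v : N).2 ?_ ((hρ y v).mp (hv y hy))
      intro h
      exact hv0 (congrArg Additive.ofMul (Subtype.ext h : Additive.toMul v = 1)))
    (by
      intro y hy hy1
      refine hMfree y (hAM hy) n₀ hn₀ hn₀1 ?_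
      have := (hρ y (Additive.ofMul ⟨n₀, hn₀⟩)).mp (by rw [hy1]; rfl)
      exact this)
  refine ⟨r, hr, ?_⟩
  rw [← hcardN]
  exact hmain

end Cfsg.Agent.S0341
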