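import Cfsg.Statements.S0345
import Cfsg.Agent.LieExceptional.SharpNotSimple2
import Cfsg.Agent.Solvable.FixedPointFree
import Cfsg.Agent.Solvable.FrobeniusKernel
import Cfsg.Agent.S0739
import Cfsg.Agent.S0740

set_option autoImplicit false
open Cfsg

namespace Cfsg.Agent.S0345

open Cfsg.Agent.PermutationGroups

/-- the order of a two-point stabiliser divides `|Ω| - 2` -/
theorem card_dvd {G Ω : Type*} [Group G] [Finite G] [MulAction G Ω] [Finite Ω]
    (hZ : Cfsg.IsZassenhausGroup G Ω) {a b : Ω} (hab : a ≠ b) :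
    Nat.card ↥(MulAction.stabilizer G a ⊓ MulAction.stabilizer G b) ∣ Nat.card Ω - 2 := by
  classical
  have := Fintype.ofFinite Ω
  set S := MulAction.stabilizer G a with hS
  set E : Subgroup S := (MulAction.stabilizer G a ⊓ MulAction.stabilizer G b).subgroupOf S with hE
  have hEcompl : Cfsg.IsFrobeniusComplement E := ZassenhausBasic.isFrobeniusComplement hZ hab
  have h1 := Cfsg.Agent.Solvable.FrobeniusKernel.index_modEq_one hEcompl
  have hcardE : Nat.card E = Nat.card ↥(MulAction.stabilizer G a ⊓ MulAction.stabilizer G b) :=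
    Nat.card_congr (Subgroup.subgroupOfEquivOfLe inf_le_left).toEquiv
  have h2 : E.index = Nat.card Ω - 1 := by
    have hpre : MulAction.IsPretransitive G Ω := by
      have := hZ.2.1
      exact MulAction.isPretransitive_of_is_two_pretransitive
    have h3 := Cfsg.Agent.CharactersDeep.ZassenhausCount.card_eq hZ hab
    have h4 : Nat.card S * S.index = Nat.card G := Subgroup.card_mul_index S
    have h5 : S.index = Nat.card Ω := by
      rw [hS, MulAction.index_stabilizer_of_transitive]
    have h6 : Nat.card E * E.index = Nat.card S := Subgroup.card_mul_index E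
    have hpos : 0 < Nat.card Ω := Nat.card_pos_iff.2 ⟨⟨a⟩, inferInstance⟩
    have hposE : 0 < Nat.card E := Nat.card_pos
    rw [h5, ← h6, h3, ← hcardE] at h4
    have h7 : (Nat.card Ω * Nat.card E) * E.index = (Nat.card Ω * Nat.card E) * (Nat.card Ω - 1) := by
      rw [show (Nat.card Ω * Nat.card E) * E.index = Nat.card E * E.index * Nat.card Ω by ring, h4]
      ring
    exact Nat.eq_of_mul_eq_mul_left (Nat.mul_pos hpos hposE) h7
  rw [← hcardE]
  rw [h2] at h1
  have hge : 1 ≤ Nat.card Ω - 1 := by
    obtain ⟨c, hca, hcb⟩ := ZassenhausBasic.exists_third hZ hab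
    have h : 1 < Nat.card Ω := Finite.one_lt_card_iff_nontrivial.2 ⟨a, b, hab⟩
    omega
  have h8 := (Nat.modEq_iff_dvd' hge).1 h1.symm
  have h9 : Nat.card Ω - 1 - 1 = Nat.card Ω - 2 := by omega
  rwa [h9] at h8

/-- In a finite simple Zassenhaus group the stabiliser `H` of two points `a ≠ b` is cyclic, and some involution
interchanging `a` and `b` inverts every element of `H`. -/
theorem result {G Ω : Type*} [Group G] [Finite G] [MulAction G Ω] [Finite Ω]
    (hZ : Cfsg.IsZassenhausGroup G Ω) [IsSimpleGroup G]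
    {a b : Ω} (hab : a ≠ b) :
    IsCyclic ↥(MulAction.stabilizer G a ⊓ MulAction.stabilizer G b) ∧
      ∃ v : G, orderOf v = 2 ∧ v • a = b ∧ v • b = a ∧ ∀ h ∈ MulAction.stabilizer G a ⊓ MulAction.stabilizer G b, v * h * v⁻¹ = h⁻¹ := by
  classical
  have := Fintype.ofFinite Ω
  obtain ⟨v, hv, hva, hvb⟩ := (Cfsg.Agent.S0740.result hZ hab).1
  obtain ⟨c, hca, hcb⟩ := ZassenhausBasic.exists_third hZ hab
  have h3 : 3 ≤ Nat.card Ω := by
    rw [Nat.card_eq_fintype_card]
    have h : 2 < Fintype.card Ω := by
      rw [Fintype.two_lt_card_iff]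
      exact ⟨a, b, c, hab, hca.symm, hcb.symm⟩
    exact h
  rcases Nat.even_or_odd (Nat.card ↥(MulAction.stabilizer G a ⊓ MulAction.stabilizer G b)) with
    heven | hodd
  · -- even case
    have h2 := hZ.2.1
    have ht := ZassenhausEven.threeTrivial_of_zassenhaus hZ
    have hI : ZassenhausEven.TwoInv G Ω := ZassenhausEven.twoInv_of_even h2 hab heven
    have hle := ZassenhausEven.card_sub_two_le h2 ht hI hab
    obtain ⟨m, hm⟩ := card_dvd hZ hab
    have hpos : 0 < Nat.card ↥(MulAction.stabilizer G a ⊓ MulAction.stabilizer G b) := Nat.card_pos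
    have hm0 : m ≠ 0 := by
      rintro rfl
      rw [mul_zero] at hm
      omega
    have hm2 : m ≤ 2 := by
      rw [hm, mul_comm] at hle
      exact Nat.le_of_mul_le_mul_right hle hpos
    have hm1 : m ≠ 1 := by
      rintro rfl
      apply Cfsg.Agent.LieExceptional.SharpNotSimple2.not_simple_of_card hZ hab _ heven
        (inferInstance : IsSimpleGroup G)
      omega
    have hm' : m = 2 := by omega
    rw [hm'] at hm
    have hd : 2 * Nat.card ↥(MulAction.stabilizer G a ⊓ MulAction.stabilizer G b) ≤ Nat.card Ω - 2 := by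
      omega
    have hinv : ∀ h ∈ MulAction.stabilizer G a ⊓ MulAction.stabilizer G b, v * h * v⁻¹ = h⁻¹ :=
      fun h hh => ZassenhausEven.swap_conj h2 ht hI hab hd hva hvb hh
    refine ⟨?_, v, hv, hva, hvb, hinv⟩
    have hcomm : ∀ x y : ↥(MulAction.stabilizer G a ⊓ MulAction.stabilizer G b), x * y = y * x := by
      rintro ⟨x, hx⟩ ⟨y, hy⟩
      apply Subtype.ext
      change x * y = y * x
      have e1 := hinv x hx
      have e2 := hinv y hy
      have e3 := hinv (x * y) (mul_mem hx hy)
      have e4 : v * (x * y) * v⁻¹ = (v * x * v⁻¹) * (v * y * v⁻¹) := by group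
      rw [e4, e1, e2, ← mul_inv_rev, inv_inj] at e3
      exact e3.symm
    obtain ⟨F, hF1, hF2, hF3, hF4, hF5, hF6⟩ := ZassenhausEven.exists_kernel h2 ht hI hab
    have hHF : MulAction.stabilizer G a ⊓ MulAction.stabilizer G b ≤ Subgroup.normalizer (F : Set G) := by
      have key : ∀ x ∈ MulAction.stabilizer G a, ∀ y ∈ F, x * y * x⁻¹ ∈ F := by
        intro x hx y hy
        have h4 := hF3.conj_mem ⟨y, hF2 hy⟩ (Subgroup.mem_subgroupOf.2 hy) ⟨x, hx⟩
        exact Subgroup.mem_subgroupOf.1 h4
      intro x hx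
      rw [Subgroup.mem_normalizer_iff]
      intro y
      refine ⟨key x hx.1 y, fun h => ?_⟩
      have h5 := key x⁻¹ (inv_mem hx.1) _ h
      have e : x⁻¹ * (x * y * x⁻¹) * x⁻¹⁻¹ = y := by group
      rwa [e] at h5
    letI : CommGroup F :=
      { (inferInstance : Group F) with
        mul_comm := fun x y => Subtype.ext (hF4 x x.2 y y.2) }
    have hnt : Nontrivial F := by
      apply Finite.one_lt_card_iff_nontrivial.1
      omega
    refine Cfsg.Agent.Solvable.FixedPointFree.isCyclic_of_comm' hcomm
      (Cfsg.Agent.Solvable.FixedPointFree.conjHom _ F hHF) ?_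
    apply Cfsg.Agent.Solvable.FixedPointFree.conjHom_fpf
    intro x hx hx1
    rw [eq_bot_iff]
    rintro y ⟨hyF, hyx⟩
    rw [Subgroup.mem_bot]
    have hyx' : x * y = y * x := Subgroup.mem_centralizer_iff.1 hyx x rfl
    -- `y` commutes with `x`, hence fixes the second fixed point `b` of `x`
    have hya : y • a = a := hF2 hyF
    have hyb : y • b = b := by
      have h6 : x • (y • b) = y • b := by
        rw [← mul_smul, hyx', mul_smul, show x • b = b from hx.2]
      rcases ZassenhausBasic.eq_or_eq_of_fix hZ hab hx1 hx.1 hx.2 h6 with h7 | h7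
      · exact absurd (MulAction.injective y (h7.trans hya.symm)) hab.symm
      · exact h7
    have hyF' : y ∈ ZassenhausEven.kerSet G a := by rw [← hF1]; exact hyF
    exact hyF'.2 b hab.symm hyb
  · -- odd case
    have hcard := Cfsg.Agent.CharactersDeep.ZassenhausCount.card_eq hZ hab
    have hres := Cfsg.Agent.S0739.result hZ hab hodd (by
      rintro q hq hqd ⟨N, hN, hNi⟩
      rcases IsSimpleGroup.eq_bot_or_eq_top_of_normal N hN with h | h
      · rw [h, Subgroup.index_bot] at hNi
        have hfac : ∀ p : ℕ, p.Prime → p ∣ Nat.card G → p = q := by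
          intro p hp hpd
          rw [hNi] at hpd
          exact (Nat.prime_dvd_prime_iff_eq hp hq).1 (hp.dvd_of_dvd_pow hpd)
        obtain ⟨p, hp, hpd⟩ := Nat.exists_prime_and_dvd (show Nat.card Ω ≠ 1 by omega)
        obtain ⟨p', hp', hpd'⟩ := Nat.exists_prime_and_dvd (show Nat.card Ω - 1 ≠ 1 by omega)
        have e1 := hfac p hp (by rw [hcard]; exact (hpd.mul_right _).mul_right _)
        have e2 := hfac p' hp' (by rw [hcard]; exact (hpd'.mul_left _).mul_right _)
        rw [e1] at hpd
        rw [e2] at hpd'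
        have h4 : q ∣ Nat.card Ω - (Nat.card Ω - 1) := Nat.dvd_sub hpd hpd'
        have h5 : Nat.card Ω - (Nat.card Ω - 1) = 1 := by omega
        rw [h5] at h4
        exact hq.one_lt.ne' (Nat.dvd_one.1 h4)
      · rw [h, Subgroup.index_top] at hNi
        have h6 : (Nat.card G).factorization q = 0 := by
          by_contra hne
          have : 1 < q ^ (Nat.card G).factorization q := Nat.one_lt_pow hne hq.one_lt
          omega
        have h7 : q ∣ Nat.card G := by rw [hcard]; exact hqd.mul_left _
        rw [Nat.factorization_eq_zero_iff] at h6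
        have h8 : Nat.card G ≠ 0 := Nat.card_pos.ne'
        rcases h6 with h6 | h6 | h6
        · exact h6 hq
        · exact h6 h7
        · exact h8 h6)
    exact ⟨hres.1, v, hv, hva, hvb, fun h hh => hres.2.2 v hva hvb h hh⟩

end Cfsg.Agent.S0345
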