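import Cfsg.Statements.S0349
import Cfsg.Agent.S0222
import Cfsg.Agent.S1174
import Cfsg.Agent.StrongEmb.SplitBN

set_option autoImplicit false
open Cfsg

namespace Cfsg.Agent.S0349

/-- Let a finite simple group have a (B,N)-pair of rank one which is strongly split (`B = U (B ⊓ N)` with `U` nilpotent,
normal in `B` and meeting `N` trivially), with `[G : B]` and `|B ⊓ N|` odd. Then the group is isomorphic to `PSL₂(F)` with
`|F|` a power of `2`, or is simple of Suzuki order, or is isomorphic to `PSU₃` realised over a field with `q²` elements,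
`q = 2^n`, `n ≥ 2`. -/
theorem result {G : Type*} [Group G] [Finite G] [IsSimpleGroup G]
    (P : Cfsg.BNPair G) (hrank : P.rank = 1) (U : Subgroup G) (hUB : U ≤ P.B)
    (hUn : (U.subgroupOf P.B).Normal) (hUnil : Group.IsNilpotent U) (hsplit : U ⊔ (P.B ⊓ P.N) = P.B)
    (hdisj : U ⊓ P.N = ⊥) (hind : Odd P.B.index) (hH : Odd (Nat.card ↥(P.B ⊓ P.N))) :
    (∃ (F : Type) (_ : Field F) (_ : Fintype F), (∃ n : ℕ, Fintype.card F = 2 ^ n) ∧ Nonempty (G ≃* Matrix.ProjectiveSpecialLinearGroup (Fin 2) F)) ∨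
      Cfsg.IsSuzuki G ∨
      (∃ (F : Type) (_ : Field F) (_ : Fintype F) (n : ℕ), 2 ≤ n ∧ Fintype.card F = (2 ^ n) ^ 2 ∧
        Nonempty (G ≃* Cfsg.PSU 3 F (2 ^ n))) := by
  classical
  obtain ⟨S, T, hT1, hTS, hTB, hBtop, hle⟩ :=
    Cfsg.Agent.StrongEmb.SplitBN.exists_stronglyClosed P hrank U hUB hUn hUnil hsplit hind hH
  have hprop : (⨆ t : {t : G // t ∈ T ∧ orderOf t = 2}, Subgroup.centralizer ({(t : G)} : Set G)) ≠ ⊤ := by
    intro h
    rw [h] at hle
    exact hBtop (top_le_iff.1 hle)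
  obtain ⟨H, hHse⟩ := Cfsg.Agent.S1174.result S T hT1 hTS hprop
  have hna : ∃ a b : G, a * b ≠ b * a := by
    by_contra hab
    push Not at hab
    have hn : P.B.Normal := ⟨fun x hx g => by
      have : g * x * g⁻¹ = x := by rw [hab g x]; group
      rwa [this]⟩
    rcases hn.eq_bot_or_eq_top with h | h
    · rw [h, le_bot_iff] at hTB
      exact hT1 hTB
    · exact hBtop h
  rcases Cfsg.Agent.S0222.result hna H hHse with ⟨F, hF, hFF, hchar, -, he⟩ | h | ⟨F, hF, hFF, q, hq, heven, h4, he⟩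
  · left
    refine ⟨F, hF, hFF, ?_, he⟩
    obtain ⟨n, hp, hn⟩ := FiniteField.card F 2
    exact ⟨n, hn⟩
  · right; left; exact h
  · right; right
    -- `q ^ 2` is a prime power, and even
    obtain ⟨p, hpchar⟩ := CharP.exists F
    obtain ⟨n, hp, hn⟩ := FiniteField.card F p
    have hp2 : p = 2 := by
      have h2 : 2 ∣ p ^ (n : ℕ) := by
        rw [← hn, hq]
        exact (even_iff_two_dvd.1 heven).trans (dvd_pow_self q two_ne_zero)
      exact ((Nat.prime_dvd_prime_iff_eq Nat.prime_two hp).1 (Nat.prime_two.dvd_of_dvd_pow h2)).symm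
    subst hp2
    have hqdvd : q ∣ 2 ^ (n : ℕ) := by
      rw [← hn, hq]; exact dvd_pow_self q two_ne_zero
    obtain ⟨m, -, rfl⟩ := (Nat.dvd_prime_pow Nat.prime_two).1 hqdvd
    refine ⟨F, hF, hFF, m, ?_, hq, he⟩
    by_contra hm
    have : m ≤ 1 := by omega
    have h1 : 2 ^ m ≤ 2 ^ 1 := Nat.pow_le_pow_right (by norm_num) this
    omega

end Cfsg.Agent.S0349
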