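import Cfsg.Statements.S0354
-- import your own Cfsg.Agent.* helpers here
import Cfsg.Agent.S0352
import Cfsg.Agent.SporadicA.SteinerCount

set_option autoImplicit false
open Cfsg

namespace Cfsg.Agent.S0354

/-- In an S(5, 8, 24), each block is disjoint from exactly 30 blocks. -/
theorem result {α : Type*} [Fintype α] [DecidableEq α] (hα : Fintype.card α = 24) {B : Set (Finset α)} (hB : Cfsg.IsSteinerSystem 5 8 B) {b : Finset α} (hb : b ∈ B) : {c : Finset α | c ∈ B ∧ Disjoint b c}.ncard = 30 := by
  classical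
  let F : Finset (Finset α) := Finset.univ.filter (fun c => c ∈ B)
  have hF : ∀ c, c ∈ F ↔ c ∈ B := fun c => by simp [F]
  have hbF : b ∈ F := (hF b).2 hb
  have hb8 : b.card = 8 := hB.1 b hb
  -- block counts
  have c0 : F.card = 759 := by
    have h := Cfsg.Agent.SporadicA.SteinerCount.card_blocks hB F hF
    rw [hα] at h
    have e1 : Nat.choose 8 5 = 56 := by decide
    have e2 : Nat.choose 24 5 = 42504 := by decide
    rw [e1, e2] at h
    omega
  have c1 : ∀ x : α, (F.filter (fun d => x ∈ d)).card = 253 := by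
    intro x
    have h := Cfsg.Agent.SporadicA.SteinerCount.card_blocks_containing hB F hF {x} (by simp)
    rw [hα, Finset.card_singleton] at h
    have e1 : Nat.choose (8 - 1) (5 - 1) = 35 := by decide
    have e2 : Nat.choose (24 - 1) (5 - 1) = 8855 := by decide
    rw [e1, e2] at h
    simp only [Finset.singleton_subset_iff] at h
    omega
  have c2 : ∀ x y : α, x ≠ y → (F.filter (fun d => x ∈ d ∧ y ∈ d)).card = 77 := by
    intro x y hxy
    have h := Cfsg.Agent.SporadicA.SteinerCount.card_blocks_containing hB F hF {x, y}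
      (by rw [Finset.card_pair hxy]; norm_num)
    rw [hα, Finset.card_pair hxy] at h
    have e1 : Nat.choose (8 - 2) (5 - 2) = 20 := by decide
    have e2 : Nat.choose (24 - 2) (5 - 2) = 1540 := by decide
    rw [e1, e2] at h
    simp only [Finset.insert_subset_iff, Finset.singleton_subset_iff] at h
    omega
  -- moments
  have m1 : ∑ d ∈ F, (d ∩ b).card = 2024 := by
    rw [Cfsg.Agent.SporadicA.SteinerCount.sum_inter]
    rw [Finset.sum_congr rfl (fun x _ => c1 x)]
    rw [Finset.sum_const, hb8]; rfl
  have m2 : ∑ d ∈ F, (d ∩ b).card * (d ∩ b).card = 6336 := by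
    rw [Cfsg.Agent.SporadicA.SteinerCount.sum_inter_mul]
    have : ∀ x ∈ b, ∑ y ∈ b, (F.filter (fun d => x ∈ d ∧ y ∈ d)).card = 792 := by
      intro x hx
      rw [← Finset.add_sum_erase _ _ hx]
      have h1 : (F.filter (fun d => x ∈ d ∧ x ∈ d)).card = 253 := by
        simp only [and_self]; exact c1 x
      have h2 : ∑ y ∈ b.erase x, (F.filter (fun d => x ∈ d ∧ y ∈ d)).card = 539 := by
        rw [Finset.sum_congr rfl (fun y hy => c2 x y (Finset.ne_of_mem_erase hy).symm)]
        rw [Finset.sum_const, Finset.card_erase_of_mem hx, hb8]; rfl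
      rw [h1, h2]
    rw [Finset.sum_congr rfl this, Finset.sum_const, hb8]; rfl
  -- remove `b` itself
  have s0 : (F.erase b).card = 758 := by rw [Finset.card_erase_of_mem hbF, c0]
  have s1 : ∑ d ∈ F.erase b, (d ∩ b).card = 2016 := by
    have := Finset.add_sum_erase F (fun d => (d ∩ b).card) hbF
    simp only [Finset.inter_self, hb8, m1] at this
    omega
  have s2 : ∑ d ∈ F.erase b, (d ∩ b).card * (d ∩ b).card = 6272 := by
    have := Finset.add_sum_erase F (fun d => (d ∩ b).card * (d ∩ b).card) hbF
    simp only [Finset.inter_self, hb8, m2] at this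
    omega
  -- the indicator of `d ∩ b = ∅` as a polynomial
  have key : ∀ d ∈ F.erase b, 8 * (if (d ∩ b).card = 0 then 1 else 0) + 6 * (d ∩ b).card
      = 8 + (d ∩ b).card * (d ∩ b).card := by
    intro d hd
    rw [Finset.mem_erase, hF] at hd
    rcases Cfsg.Agent.S0352.result hα hB hd.2 hb hd.1 with h | h | h <;> simp [h]
  have hsum := Finset.sum_congr rfl key
  rw [Finset.sum_add_distrib, Finset.sum_add_distrib, ← Finset.mul_sum, ← Finset.mul_sum, s1, s2,
    Finset.sum_const, s0, ← Finset.card_filter] at hsum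
  have h30 : ((F.erase b).filter (fun d => (d ∩ b).card = 0)).card = 30 := by
    simp only [smul_eq_mul] at hsum
    omega
  rw [← h30, ← Set.ncard_coe_finset]
  congr 1
  ext d
  simp only [Set.mem_ofPred_eq, Finset.coe_filter, Finset.mem_erase, hF, Finset.card_eq_zero]
  rw [← Finset.disjoint_iff_inter_eq_empty, disjoint_comm]
  constructor
  · rintro ⟨h1, h2⟩
    refine ⟨⟨?_, h1⟩, h2⟩
    rintro rfl
    rw [disjoint_self] at h2
    rw [h2] at hb8
    simp at hb8
  · rintro ⟨⟨-, h1⟩, h2⟩
    exact ⟨h1, h2⟩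

end Cfsg.Agent.S0354
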