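import Cfsg.Statements.S0362
import Cfsg.Agent.SporadicA.GolayMask

set_option autoImplicit false
open Cfsg

namespace Cfsg.Agent.S0362

open Cfsg.Agent.SporadicA.GolayMask

theorem dot_basis : ∀ b ∈ basis, ∀ c ∈ basis, ∑ i, word b i * word c i = 0 := by
  decide +kernel

/-- The length-24 code is self-orthogonal: the dot product over ZMod 2 of any two of its words vanishes (with dimension 12 this makes it self-dual). -/
theorem result (v w : Cfsg.GolayPt → ZMod 2) (hv : v ∈ Cfsg.golayCode) (hw : w ∈ Cfsg.golayCode) : ∑ i, v i * w i = 0 := by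
  obtain ⟨m, hm, rfl⟩ := exists_mask_of_mem hv
  obtain ⟨n, hn, rfl⟩ := exists_mask_of_mem hw
  refine combos_induction (fun v => ∑ i, v i * word n i = 0) (by simp) basis ?_ m hm
  intro b hb x hx
  have h1 : ∑ i, word b i * word n i = 0 := by
    refine combos_induction (fun w => ∑ i, word b i * w i = 0) (by simp) basis ?_ n hn
    intro c hc y hy
    simp only [Pi.add_apply, mul_add, Finset.sum_add_distrib]
    rw [hy, dot_basis b hb c hc, add_zero]
  simp only [Pi.add_apply, add_mul, Finset.sum_add_distrib]
  rw [hx, h1, add_zero]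

end Cfsg.Agent.S0362
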