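import Cfsg.Statements.S0377
import Cfsg.Agent.S0366
import Cfsg.Agent.S0376
import Cfsg.Agent.SporadicA.M23Simple

set_option autoImplicit false
open Cfsg

namespace Cfsg.Agent.S0377

/-- A point stabiliser in the group of the length-24 code is simple. -/
theorem result (p : Cfsg.GolayPt) : IsSimpleGroup (MulAction.stabilizer Cfsg.M24 p) := by
  have hcard : Nat.card GolayPt = 24 := by
    rw [Nat.card_eq_fintype_card]; rfl
  have h5 : MulAction.IsMultiplyPretransitive Cfsg.M24 Cfsg.GolayPt 5 := Cfsg.Agent.S0366.result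
  have h3 : MulAction.IsMultiplyPretransitive Cfsg.M24 Cfsg.GolayPt 3 :=
    MulAction.isMultiplyPretransitive_of_le (n := 5) (by norm_num) (by rw [hcard]; norm_num)
  have h1 : MulAction.IsMultiplyPretransitive Cfsg.M24 Cfsg.GolayPt 1 :=
    MulAction.isMultiplyPretransitive_of_le (n := 5) (by norm_num) (by rw [hcard]; norm_num)
  have htr : MulAction.IsPretransitive Cfsg.M24 Cfsg.GolayPt :=
    MulAction.is_one_pretransitive_iff.1 h1
  have hs : IsSimpleGroup (MulAction.stabilizer Cfsg.M24 (none : Cfsg.GolayPt)) :=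
    Cfsg.Agent.SporadicA.M23Simple.isSimpleGroup_M0 (Cfsg.Agent.S0376.result none) h3
  obtain ⟨g, hg⟩ := MulAction.exists_smul_eq Cfsg.M24 p (none : Cfsg.GolayPt)
  exact (MulAction.stabilizerEquivStabilizer hg.symm).isSimpleGroup

end Cfsg.Agent.S0377
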