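import Cfsg.Statements.S0389
import Cfsg.Agent.S0368
import Cfsg.Agent.S0384
import Cfsg.Agent.SporadicA.M11Comp

set_option autoImplicit false
open scoped Pointwise
open Cfsg

namespace Cfsg.Agent.S0389

open Cfsg.Agent.SporadicA.M11Comp in
/-- Every (dodecad, point on it) is the image of (squares, 0) under an element of `M24`. -/
theorem exists_flag (d : Finset Cfsg.GolayPt) (hd : d ∈ Cfsg.dodecads) (p : Cfsg.GolayPt) (hp : p ∈ d) :
    ∃ g : Cfsg.M24, g • sqD = d ∧ (g : Equiv.Perm Cfsg.GolayPt) (some 0) = p := by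
  classical
  obtain ⟨g, hg⟩ := Cfsg.Agent.S0368.result sqD d sqD_mem_dodecads hd
  have hp' : (g : Equiv.Perm Cfsg.GolayPt)⁻¹ p ∈ sqD := by
    have h1 : g⁻¹ • p ∈ g⁻¹ • d := Finset.smul_mem_smul_finset hp
    rw [← hg, inv_smul_smul] at h1
    exact h1
  have h0 : (some 0 : Cfsg.GolayPt) ∈ sqD := by
    rw [mem_sqD]; decide
  -- two 5-tuples in `sqD` starting with `some 0` and `g⁻¹ p`
  have hex : ∀ q ∈ sqD, ∃ x : Fin 5 ↪ Cfsg.GolayPt, (∀ i, x i ∈ sqD) ∧ x 0 = q := by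
    intro q hq
    have hc : (sqD.erase q).card = 11 := by
      rw [Finset.card_erase_of_mem hq, sqD_mem_dodecads.2]
    obtain ⟨y⟩ : Nonempty (Fin 4 ↪ {r : Cfsg.GolayPt // r ∈ sqD.erase q}) := by
      apply Function.Embedding.nonempty_of_card_le
      rw [Fintype.card_fin, Fintype.card_coe, hc]; norm_num
    refine ⟨⟨Fin.cons q (fun i => (y i : Cfsg.GolayPt)), ?_⟩, ?_, rfl⟩
    · rw [Fin.cons_injective_iff]
      refine ⟨?_, Subtype.val_injective.comp y.injective⟩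
      rintro ⟨i, hi⟩
      exact (Finset.mem_erase.mp (y i).2).1 hi
    · intro i
      refine Fin.cases hq (fun j => (Finset.mem_erase.mp (y j).2).2) i
  obtain ⟨x, hx, hx0⟩ := hex _ h0
  obtain ⟨y, hy, hy0⟩ := hex _ hp'
  obtain ⟨h, hh, -⟩ := Cfsg.Agent.S0384.result sqD sqD_mem_dodecads x y hx hy
  refine ⟨g * (h : Cfsg.M24), ?_, ?_⟩
  · rw [mul_smul, show (h : Cfsg.M24) • sqD = sqD from h.2, hg]
  · have h2 := hh 0
    rw [hx0, hy0] at h2
    change (g : Equiv.Perm Cfsg.GolayPt) (((h : Cfsg.M24) : Equiv.Perm Cfsg.GolayPt) (some 0)) = p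
    rw [h2, papply_inv]

open Cfsg.Agent.SporadicA.M11Comp in
/-- The stabiliser of a dodecad and a point on it is 3-transitive on the complementary dodecad. -/
theorem result (d : Finset Cfsg.GolayPt) (hd : d ∈ Cfsg.dodecads) (p : Cfsg.GolayPt) (hp : p ∈ d) (x y : Fin 3 ↪ Cfsg.GolayPt) (hx : ∀ i, x i ∉ d) (hy : ∀ i, y i ∉ d) : ∃ g ∈ MulAction.stabilizer Cfsg.M24 d ⊓ MulAction.stabilizer Cfsg.M24 p, ∀ i, (g : Equiv.Perm Cfsg.GolayPt) (x i) = y i := by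
  classical
  obtain ⟨g, hg, hgp⟩ := exists_flag d hd p hp
  have hmem : ∀ z : Cfsg.GolayPt, z ∉ d → (g : Equiv.Perm Cfsg.GolayPt)⁻¹ z ∉ sqD := by
    intro z hz hz'
    apply hz
    have h1 : g • ((g : Equiv.Perm Cfsg.GolayPt)⁻¹ z) ∈ g • sqD := Finset.smul_mem_smul_finset hz'
    rw [hg] at h1
    change (g : Equiv.Perm Cfsg.GolayPt) ((g : Equiv.Perm Cfsg.GolayPt)⁻¹ z) ∈ d at h1
    rwa [papply_inv] at h1
  obtain ⟨k, hk, hkk⟩ := three_transitive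
    (x.trans ((g : Equiv.Perm Cfsg.GolayPt)⁻¹).toEmbedding)
    (y.trans ((g : Equiv.Perm Cfsg.GolayPt)⁻¹).toEmbedding)
    (fun i => hmem _ (hx i)) (fun i => hmem _ (hy i))
  have hkd : (⟨k, hk.1⟩ : Cfsg.M24) • sqD = sqD := by
    have h : (⟨k, hk.1⟩ : Cfsg.M24) ∈ MulAction.stabilizer Cfsg.M24 sqD := by
      rw [MulAction.mem_stabilizer_finset']
      exact fun x hx => hk.2.1 x hx
    exact h
  refine ⟨g * ⟨k, hk.1⟩ * g⁻¹, ⟨?_, ?_⟩, ?_⟩
  · change (g * ⟨k, hk.1⟩ * g⁻¹) • d = d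
    rw [mul_smul, mul_smul, ← hg, inv_smul_smul, hkd]
  · change (g : Equiv.Perm Cfsg.GolayPt) (k ((g : Equiv.Perm Cfsg.GolayPt)⁻¹ p)) = p
    rw [← hgp, pinv_apply, hk.2.2]
  · intro i
    change (g : Equiv.Perm Cfsg.GolayPt) (k ((g : Equiv.Perm Cfsg.GolayPt)⁻¹ (x i))) = y i
    have h1 : k ((g : Equiv.Perm Cfsg.GolayPt)⁻¹ (x i)) = (g : Equiv.Perm Cfsg.GolayPt)⁻¹ (y i) :=
      hkk i
    rw [h1, papply_inv]

end Cfsg.Agent.S0389
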