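import Cfsg.Statements.S0392
-- import your own Cfsg.Agent.* helpers here

set_option autoImplicit false
open Cfsg

namespace Cfsg.Agent.S0392

/-- The spanning words of the code are pairwise orthogonal. -/
theorem gen_orth (t s : ZMod 23) :
    (∑ i : GolayPt, qrWord t i * qrWord s i) = 0 := by
  revert t s
  decide +kernel

theorem gen_orth_one (t : ZMod 23) : (∑ i : GolayPt, qrWord t i) = 0 := by
  revert t
  decide +kernel

theorem gen_card (t : ZMod 23) : (support₂ (qrWord t)).card % 4 = 0 := by
  revert t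
  decide +kernel

theorem orth_gen {v w : GolayPt → ZMod 2} (hv : v ∈ Set.range qrWord ∪ {1})
    (hw : w ∈ Set.range qrWord ∪ {1}) : (∑ i : GolayPt, v i * w i) = 0 := by
  rcases hv with ⟨t, rfl⟩ | hv
  · rcases hw with ⟨s, rfl⟩ | hw
    · exact gen_orth t s
    · rw [Set.mem_singleton_iff] at hw
      subst hw
      simpa using gen_orth_one t
  · rw [Set.mem_singleton_iff] at hv
    subst hv
    rcases hw with ⟨s, rfl⟩ | hw
    · simpa using gen_orth_one s
    · rw [Set.mem_singleton_iff] at hw
      subst hw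
      decide

/-- The words orthogonal to a given word form a submodule. -/
def perp (w : GolayPt → ZMod 2) : Submodule (ZMod 2) (GolayPt → ZMod 2) where
  carrier := {v | (∑ i : GolayPt, v i * w i) = 0}
  zero_mem' := by simp
  add_mem' := by
    intro x y hx hy
    simp only [Set.mem_ofPred_eq] at hx hy ⊢
    simp only [Pi.add_apply, add_mul, Finset.sum_add_distrib, hx, hy, add_zero]
  smul_mem' := by
    intro a x hx
    simp only [Set.mem_ofPred_eq] at hx ⊢
    simp only [Pi.smul_apply, smul_eq_mul, mul_assoc, ← Finset.mul_sum, hx, mul_zero]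

/-- The code is self-orthogonal. -/
theorem orth {v w : GolayPt → ZMod 2} (hv : v ∈ golayCode) (hw : w ∈ golayCode) :
    (∑ i : GolayPt, v i * w i) = 0 := by
  have key : ∀ w' ∈ Set.range qrWord ∪ {1}, golayCode ≤ perp w' := by
    intro w' hw'
    refine Submodule.span_le.2 fun x hx => ?_
    exact orth_gen hx hw'
  have key2 : golayCode ≤ perp v := by
    refine Submodule.span_le.2 fun x hx => ?_
    have h := key x hx hv
    change (∑ i : GolayPt, v i * x i) = 0 at h
    change (∑ i : GolayPt, x i * v i) = 0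
    rw [← h]
    exact Finset.sum_congr rfl fun i _ => mul_comm _ _
  have h := key2 hw
  change (∑ i : GolayPt, w i * v i) = 0 at h
  rw [← h]
  exact Finset.sum_congr rfl fun i _ => mul_comm _ _

theorem sum_eq_card (v : GolayPt → ZMod 2) : (∑ i : GolayPt, v i) = ((support₂ v).card : ZMod 2) := by
  have h : ∀ i, v i = if v i ≠ 0 then 1 else 0 := by
    intro i
    have : ∀ a : ZMod 2, a = if a ≠ 0 then 1 else 0 := by decide
    exact this _
  rw [Finset.sum_congr rfl (fun i _ => h i), Finset.sum_boole]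
  rfl

/-- Supports of codewords meet evenly. -/
theorem inter_even {v w : GolayPt → ZMod 2} (hv : v ∈ golayCode) (hw : w ∈ golayCode) :
    (support₂ v ∩ support₂ w).card % 2 = 0 := by
  have h := orth hv hw
  have h1 := sum_eq_card (fun i => v i * w i)
  rw [h] at h1
  have h2 : support₂ (fun i => v i * w i) = support₂ v ∩ support₂ w := by
    ext i
    simp only [support₂, Finset.mem_filter, Finset.mem_univ, true_and, Finset.mem_inter]
    exact mul_ne_zero_iff
  rw [h2] at h1
  have h3 := (ZMod.natCast_eq_zero_iff _ 2).1 h1.symm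
  omega

theorem support_add (v w : GolayPt → ZMod 2) :
    (support₂ (v + w)).card + 2 * (support₂ v ∩ support₂ w).card =
      (support₂ v).card + (support₂ w).card := by
  have e : support₂ (v + w) = symmDiff (support₂ v) (support₂ w) := by
    ext i
    simp only [support₂, Finset.mem_filter, Finset.mem_univ, true_and, Finset.mem_symmDiff,
      Pi.add_apply]
    have : ∀ a b : ZMod 2, a + b ≠ 0 ↔ (a ≠ 0 ∧ ¬ b ≠ 0 ∨ b ≠ 0 ∧ ¬ a ≠ 0) := by decide
    exact this _ _
  rw [e]
  have h1 : (symmDiff (support₂ v) (support₂ w)).card =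
      (support₂ v \ support₂ w).card + (support₂ w \ support₂ v).card := by
    rw [symmDiff_def, Finset.sup_eq_union, Finset.card_union_of_disjoint]
    exact disjoint_sdiff_sdiff
  have h2 := Finset.card_sdiff_add_card_inter (support₂ v) (support₂ w)
  have h3 := Finset.card_sdiff_add_card_inter (support₂ w) (support₂ v)
  rw [Finset.inter_comm (support₂ w)] at h3
  omega

/-- The code is doubly even. -/
theorem doubly_even {v : GolayPt → ZMod 2} (hv : v ∈ golayCode) :
    (support₂ v).card % 4 = 0 := by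
  refine Submodule.span_induction (p := fun v _ => (support₂ v).card % 4 = 0) ?_ ?_ ?_ ?_ hv
  · intro x hx
    rcases hx with ⟨t, rfl⟩ | hx
    · exact gen_card t
    · rw [Set.mem_singleton_iff] at hx
      subst hx
      decide
  · simp [support₂]
  · intro x y hx hy h1 h2
    have h3 := support_add x y
    have h4 := inter_even hx hy
    omega
  · intro a x _ hx
    have : ∀ a : ZMod 2, a = 0 ∨ a = 1 := by decide
    rcases this a with rfl | rfl
    · simp [support₂]
    · simpa using hx

/-- Structure of a lattice generator: `x = m + 2 a`, the set of positions where `a` is odd is the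
support of a codeword, and the sum of the `a i` is `2 m` modulo `4`. -/
theorem leechSet_form {x : GolayPt → ℤ} (hx : x ∈ leechSet) :
    ∃ (m : ℤ) (a : GolayPt → ℤ) (v : GolayPt → ZMod 2), v ∈ golayCode ∧
      (∀ i, x i = m + 2 * a i) ∧ (∀ i, i ∈ support₂ v ↔ a i % 2 = 1) ∧
      ∃ s : ℤ, (∑ i, a i) = 2 * m + 4 * s := by
  obtain ⟨m, h1, h2, h3⟩ := hx
  choose a ha using fun i => (Int.modEq_iff_dvd.1 (h1 i).symm)
  obtain ⟨v, hv, hvs⟩ := h3 (m + 2)
  refine ⟨m, a, v, hv, fun i => by linarith [ha i], fun i => ?_, ?_⟩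
  · rw [hvs]
    simp only [Finset.mem_filter, Finset.mem_univ, true_and, Int.modEq_iff_dvd]
    have := ha i
    constructor
    · rintro ⟨c, hc⟩
      omega
    · intro h
      exact ⟨(1 - a i) / 2, by omega⟩
  · have h4 : (∑ i, x i) = 24 * m + 2 * ∑ i, a i := by
      have : ∀ i, x i = m + 2 * a i := fun i => by linarith [ha i]
      simp only [this, Finset.sum_add_distrib, Finset.sum_const, Finset.card_univ, ← Finset.mul_sum]
      simp [Fintype.card_option, ZMod.card]
    rw [h4] at h2
    obtain ⟨c, hc⟩ := Int.modEq_iff_dvd.1 h2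
    exact ⟨-c - 3 * m, by omega⟩

/-- sum of `a i * b i` modulo 2. -/
theorem sum_mul_even {a b : GolayPt → ℤ} {v w : GolayPt → ZMod 2} (hv : v ∈ golayCode)
    (hw : w ∈ golayCode) (ha : ∀ i, i ∈ support₂ v ↔ a i % 2 = 1)
    (hb : ∀ i, i ∈ support₂ w ↔ b i % 2 = 1) : (2 : ℤ) ∣ ∑ i, a i * b i := by
  have h1 : ∀ (u : GolayPt → ZMod 2) (c : GolayPt → ℤ) (i : GolayPt),
      (i ∈ support₂ u ↔ c i % 2 = 1) → ((c i : ℤ) : ZMod 2) = u i := by
    intro u c i hi
    simp only [support₂, Finset.mem_filter, Finset.mem_univ, true_and] at hi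
    rcases Int.emod_two_eq_zero_or_one (c i) with h | h
    · have h' : ((c i : ℤ) : ZMod 2) = 0 := (ZMod.intCast_zmod_eq_zero_iff_dvd _ 2).2 (by omega)
      rw [h']
      by_contra hne
      have := hi.1 (fun h0 => hne h0.symm)
      omega
    · have h' : ((c i : ℤ) : ZMod 2) = 1 := by
        have : ((c i - 1 : ℤ) : ZMod 2) = 0 := (ZMod.intCast_zmod_eq_zero_iff_dvd _ 2).2 (by omega)
        push_cast at this
        exact sub_eq_zero.1 this
      rw [h']
      have h2 := hi.2 h
      have : ∀ z : ZMod 2, z ≠ 0 → 1 = z := by decide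
      exact this _ h2
  have h2 : ((∑ i, a i * b i : ℤ) : ZMod 2) = 0 := by
    push_cast
    rw [← orth hv hw]
    exact Finset.sum_congr rfl fun i _ => by rw [h1 v a i (ha i), h1 w b i (hb i)]
  exact_mod_cast (ZMod.intCast_zmod_eq_zero_iff_dvd _ 2).1 h2

/-- sum of `a i ^ 2` modulo 4. -/
theorem sum_sq {a : GolayPt → ℤ} {v : GolayPt → ZMod 2} (hv : v ∈ golayCode)
    (ha : ∀ i, i ∈ support₂ v ↔ a i % 2 = 1) : (4 : ℤ) ∣ ∑ i, a i ^ 2 := by
  have h1 : ∀ i, ∃ c, a i ^ 2 = (if i ∈ support₂ v then 1 else 0) + 4 * c := by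
    intro i
    by_cases h : a i % 2 = 1
    · obtain ⟨k, hk⟩ : ∃ k, a i = 2 * k + 1 := ⟨a i / 2, by omega⟩
      refine ⟨k * k + k, ?_⟩
      rw [if_pos ((ha i).2 h), hk]
      ring
    · obtain ⟨k, hk⟩ : ∃ k, a i = 2 * k := ⟨a i / 2, by omega⟩
      refine ⟨k * k, ?_⟩
      rw [if_neg (fun h' => h ((ha i).1 h')), hk]
      ring
  choose c hc using h1
  rw [Finset.sum_congr rfl fun i _ => hc i, Finset.sum_add_distrib, ← Finset.mul_sum,
    Finset.sum_boole]
  have h2 : (Finset.univ.filter fun i => i ∈ support₂ v) = support₂ v := by ext; simp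
  rw [h2]
  have := doubly_even hv
  omega

theorem dot_leechSet {x y : GolayPt → ℤ} (hx : x ∈ leechSet) (hy : y ∈ leechSet) :
    (8 : ℤ) ∣ dotInt x y := by
  obtain ⟨m, a, v, hv, hxa, hva, s, hs⟩ := leechSet_form hx
  obtain ⟨n, b, w, hw, hyb, hwb, t, ht⟩ := leechSet_form hy
  obtain ⟨c, hc⟩ := sum_mul_even hv hw hva hwb
  have : dotInt x y = 24 * m * n + 2 * m * (∑ i, b i) + 2 * n * (∑ i, a i) +
      4 * ∑ i, a i * b i := by
    have e : ∀ i, x i * y i = m * n + 2 * m * b i + 2 * n * a i + 4 * (a i * b i) := by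
      intro i
      rw [hxa, hyb]
      ring
    unfold dotInt
    simp only [e, Finset.sum_add_distrib, Finset.sum_const, Finset.card_univ, ← Finset.mul_sum]
    simp only [Fintype.card_option, ZMod.card, nsmul_eq_mul]
    push_cast
    ring
  rw [this, hs, ht, hc]
  exact ⟨4 * m * n + m * t + n * s + c, by ring⟩

theorem sqNorm_leechSet {x : GolayPt → ℤ} (hx : x ∈ leechSet) : (16 : ℤ) ∣ sqNorm x := by
  obtain ⟨m, a, v, hv, hxa, hva, s, hs⟩ := leechSet_form hx
  obtain ⟨c, hc⟩ := sum_sq hv hva
  have : sqNorm x = 24 * m * m + 4 * m * (∑ i, a i) + 4 * ∑ i, a i ^ 2 := by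
    have e : ∀ i, x i ^ 2 = m * m + 4 * m * a i + 4 * (a i ^ 2) := by
      intro i
      rw [hxa]
      ring
    unfold sqNorm
    simp only [e, Finset.sum_add_distrib, Finset.sum_const, Finset.card_univ, ← Finset.mul_sum]
    simp only [Fintype.card_option, ZMod.card, nsmul_eq_mul]
    push_cast
    ring
  rw [this, hs, hc]
  exact ⟨2 * m * m + m * s + c, by ring⟩

/-- Inner products of lattice vectors are divisible by 8. -/
theorem dot_lattice {x y : GolayPt → ℤ} (hx : x ∈ leechLattice) (hy : y ∈ leechLattice) :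
    (8 : ℤ) ∣ dotInt x y := by
  have key : ∀ y ∈ leechSet, ∀ x ∈ leechLattice, (8 : ℤ) ∣ dotInt x y := by
    intro y hy x hx
    refine AddSubgroup.closure_induction (p := fun x _ => (8 : ℤ) ∣ dotInt x y) ?_ ?_ ?_ ?_ hx
    · intro x hx
      exact dot_leechSet hx hy
    · simp [dotInt]
    · intro x x' _ _ h1 h2
      have : dotInt (x + x') y = dotInt x y + dotInt x' y := by
        simp only [dotInt, Pi.add_apply, add_mul, Finset.sum_add_distrib]
      rw [this]
      exact dvd_add h1 h2
    · intro x _ h1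
      have : dotInt (-x) y = - dotInt x y := by
        simp only [dotInt, Pi.neg_apply, neg_mul, Finset.sum_neg_distrib]
      rw [this]
      exact (dvd_neg).2 h1
  refine AddSubgroup.closure_induction (p := fun y _ => (8 : ℤ) ∣ dotInt x y) ?_ ?_ ?_ ?_ hy
  · intro y hy
    exact key y hy x hx
  · simp [dotInt]
  · intro y y' _ _ h1 h2
    have : dotInt x (y + y') = dotInt x y + dotInt x y' := by
      simp only [dotInt, Pi.add_apply, mul_add, Finset.sum_add_distrib]
    rw [this]
    exact dvd_add h1 h2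
  · intro y _ h1
    have : dotInt x (-y) = - dotInt x y := by
      simp only [dotInt, Pi.neg_apply, mul_neg, Finset.sum_neg_distrib]
    rw [this]
    exact (dvd_neg).2 h1

/-- Sum of squares of every lattice vector is divisible by 16 (even lattice at scale 1/8). -/
theorem result (x : Cfsg.GolayPt → ℤ) (hx : x ∈ Cfsg.leechLattice) : (16 : ℤ) ∣ Cfsg.sqNorm x := by
  refine AddSubgroup.closure_induction (p := fun x _ => (16 : ℤ) ∣ sqNorm x) ?_ ?_ ?_ ?_ hx
  · intro x hx
    exact sqNorm_leechSet hx
  · simp [sqNorm]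
  · intro x y hx hy h1 h2
    have : sqNorm (x + y) = sqNorm x + sqNorm y + 2 * dotInt x y := by
      have e : ∀ i, (x i + y i) ^ 2 = x i ^ 2 + y i ^ 2 + 2 * (x i * y i) := fun i => by ring
      simp only [sqNorm, dotInt, Pi.add_apply, e, Finset.sum_add_distrib, ← Finset.mul_sum]
    obtain ⟨c, hc⟩ := dot_lattice hx hy
    rw [this, hc]
    exact dvd_add (dvd_add h1 h2) ⟨c, by ring⟩
  · intro x _ h1
    have : sqNorm (-x) = sqNorm x := by
      simp only [sqNorm, Pi.neg_apply, neg_sq]
    rw [this]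
    exact h1

end Cfsg.Agent.S0392
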