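import Cfsg.Statements.S0406
import Cfsg.Agent.S0375
import Cfsg.Agent.SporadicA.LeechCoordIso
import Cfsg.Agent.SporadicA.LeechFrame

set_option autoImplicit false
open Matrix
open Cfsg

namespace Cfsg.Agent.S0406

open Cfsg.Agent.SporadicA.LeechFrame Cfsg.Agent.SporadicA.LeechCoord

/-- The coordinates with respect to a frame. -/
def phi (B : Matrix (Fin 24) (Fin 24) ℤ) (t : Fin 24 → (Fin 24 → ℤ)) :
    (Fin 24 → ℤ) →+ (Fin 24 → ℤ) where
  toFun x := fun i => bf B x (t i)
  map_zero' := by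
    funext i
    exact bf_zero_left _
  map_add' x y := by
    funext i
    exact bf_add_left _ _ _

theorem phi_apply (B : Matrix (Fin 24) (Fin 24) ℤ) (t : Fin 24 → (Fin 24 → ℤ)) (x : Fin 24 → ℤ)
    (i : Fin 24) : phi B t x i = bf B x (t i) := rfl

theorem coord_range {B : Matrix (Fin 24) (Fin 24) ℤ} (h : Good B) (t : Fin 24 → (Fin 24 → ℤ))
    (t8 : ∀ i, bf B (t i) (t i) = 8) (t0 : ∀ i j, i ≠ j → bf B (t i) (t j) = 0)
    (t2 : ∀ i j k, (2 : ℤ) ∣ t i k - t j k) : Coord (phi B t).range := by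
  have key : ∀ i j, ∃ z : Fin 24 → ℤ, t i = t j + (2 : ℤ) • z := by
    intro i j
    choose z hz using t2 i j
    refine ⟨z, ?_⟩
    funext k
    have := hz k
    simp only [Pi.add_apply, Pi.smul_apply, smul_eq_mul]
    linarith
  have tij : ∀ i j, bf B (t i) (t j) = (Pi.single i 8 : Fin 24 → ℤ) j := by
    intro i j
    by_cases hij : i = j
    · subst hij
      rw [t8, Pi.single_eq_same]
    · rw [t0 i j hij, Pi.single_eq_of_ne (Ne.symm hij)]
  have hsub : ∀ i j, (Pi.single i 4 - Pi.single j 4 : Fin 24 → ℤ) ∈ (phi B t).range := by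
    intro i j
    obtain ⟨z, hz⟩ := key i j
    refine ⟨z, ?_⟩
    funext k
    rw [phi_apply]
    have h1 : bf B (t i) (t k) = bf B (t j) (t k) + 2 * bf B z (t k) := by
      rw [hz, bf_add_left, bf_smul_left]
    rw [tij, tij] at h1
    simp only [Pi.sub_apply, Pi.single_apply] at h1 ⊢
    split_ifs at h1 ⊢ <;> omega
  have h8 : ∀ j, (Pi.single j 8 : Fin 24 → ℤ) ∈ (phi B t).range := by
    intro j
    refine ⟨t j, ?_⟩
    funext k
    rw [phi_apply, tij]
  refine ⟨?_, ?_, hsub, ?_, ?_, ?_⟩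
  · rintro _ ⟨x, rfl⟩ i j
    rw [phi_apply, phi_apply]
    obtain ⟨z, hz⟩ := key i j
    rw [hz, bf_add_right, bf_smul_right]
    exact ⟨bf B x z, by ring⟩
  · intro i j _
    have := (phi B t).range.add_mem (hsub i j) (h8 j)
    convert this using 1
    funext k
    simp only [Pi.add_apply, Pi.sub_apply, Pi.single_apply]
    split_ifs <;> norm_num
  · rintro _ ⟨x, rfl⟩ _ ⟨y, rfl⟩
    simp only [phi_apply]
    rw [parseval h t t8 t0]
    exact Dvd.intro _ rfl
  · rintro _ ⟨x, rfl⟩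
    have h1 : ∑ i, (phi B t x i) ^ 2 = 8 * bf B x x := by
      rw [← parseval h t t8 t0]
      apply Finset.sum_congr rfl
      intro i _
      rw [phi_apply]
      ring
    rw [h1]
    have := h.even x
    omega
  · rintro _ ⟨x, rfl⟩ hx
    have h1 : ∑ i, (phi B t x i) ^ 2 = 8 * bf B x x := by
      rw [← parseval h t t8 t0]
      apply Finset.sum_congr rfl
      intro i _
      rw [phi_apply]
      ring
    rw [h1]
    have hx0 : x ≠ 0 := by
      rintro rfl
      exact hx (map_zero _)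
    have := four_le h hx0
    omega

theorem phi_norm {B : Matrix (Fin 24) (Fin 24) ℤ} (h : Good B) (t : Fin 24 → (Fin 24 → ℤ))
    (t8 : ∀ i, bf B (t i) (t i) = 8) (t0 : ∀ i j, i ≠ j → bf B (t i) (t j) = 0)
    (x : Fin 24 → ℤ) : ∑ i, (phi B t x i) ^ 2 = 8 * bf B x x := by
  rw [← parseval h t t8 t0]
  apply Finset.sum_congr rfl
  intro i _
  rw [phi_apply]
  ring

theorem phi_injective {B : Matrix (Fin 24) (Fin 24) ℤ} (h : Good B) (t : Fin 24 → (Fin 24 → ℤ))
    (t8 : ∀ i, bf B (t i) (t i) = 8) (t0 : ∀ i j, i ≠ j → bf B (t i) (t j) = 0) :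
    Function.Injective (phi B t) := by
  rw [injective_iff_map_eq_zero]
  intro x hx
  by_contra hx0
  have h1 := phi_norm h t t8 t0 x
  rw [hx] at h1
  have h2 := h.pos x hx0
  simp at h1
  omega

/-- A rank-24 even lattice with no roots and the stated numbers of vectors of norms 4, 6, 8 is isomorphic to the Leech lattice. -/
theorem result (B : Matrix (Fin 24) (Fin 24) ℤ) (hsymm : B.IsSymm) (hpos : ∀ x : Fin 24 → ℤ, x ≠ 0 → 0 < x ⬝ᵥ (B *ᵥ x)) (heven : ∀ x : Fin 24 → ℤ, (2 : ℤ) ∣ x ⬝ᵥ (B *ᵥ x)) (h2 : ∀ x : Fin 24 → ℤ, x ⬝ᵥ (B *ᵥ x) ≠ 2) (h4 : {x : Fin 24 → ℤ | x ⬝ᵥ (B *ᵥ x) = 4}.ncard = 196560) (h6 : {x : Fin 24 → ℤ | x ⬝ᵥ (B *ᵥ x) = 6}.ncard = 16773120) (h8 : {x : Fin 24 → ℤ | x ⬝ᵥ (B *ᵥ x) = 8}.ncard = 398034000) : ∃ f : (Fin 24 → ℤ) ≃+ Cfsg.leechLattice, ∀ x : Fin 24 → ℤ, Cfsg.sqNorm ((f x : Cfsg.leechLattice) : Cfsg.GolayPt → ℤ) = 8 * (x ⬝ᵥ (B *ᵥ x)) := by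
  have h : Good B := ⟨hsymm, hpos, heven, h2⟩
  obtain ⟨t, t8, t0, t2⟩ := exists_frame h h4 h6 h8
  have hc := coord_range h t t8 t0 t2
  have hinj := phi_injective h t t8 t0
  have hM : {y : Fin 24 → ℤ | y ∈ (phi B t).range ∧ ∑ i, y i ^ 2 = 32}.ncard = 196560 := by
    have himg : {y : Fin 24 → ℤ | y ∈ (phi B t).range ∧ ∑ i, y i ^ 2 = 32} =
        phi B t '' {x : Fin 24 → ℤ | bf B x x = 4} := by
      ext y
      constructor
      · rintro ⟨⟨x, rfl⟩, hy⟩
        refine ⟨x, ?_, rfl⟩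
        rw [phi_norm h t t8 t0] at hy
        have : bf B x x = 4 := by omega
        exact this
      · rintro ⟨x, hx, rfl⟩
        refine ⟨⟨x, rfl⟩, ?_⟩
        rw [phi_norm h t t8 t0]
        have : bf B x x = 4 := hx
        omega
    rw [himg, Set.ncard_image_of_injective _ hinj]
    exact h4
  obtain ⟨e, u, hu, hv⟩ := Cfsg.Agent.SporadicA.LeechCoordIso.exists_iso hc hM
    (fun C hdim horth h4 hno4 => Cfsg.Agent.S0375.result C hdim horth h4 hno4)
  have huu : ∀ i, u i * u i = 1 := fun i => by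
    rcases hu i with h | h <;> rw [h] <;> norm_num
  let F : (Fin 24 → ℤ) →+ (GolayPt → ℤ) :=
    { toFun := fun x p => u (e.symm p) * phi B t x (e.symm p)
      map_zero' := by
        funext p
        rw [map_zero]
        simp
      map_add' := fun x y => by
        funext p
        rw [map_add]
        simp only [Pi.add_apply]
        ring }
  have hF : ∀ x p, F x p = u (e.symm p) * phi B t x (e.symm p) := fun x p => rfl
  have hFm : ∀ x, F x ∈ leechLattice := by
    intro x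
    rw [hv]
    refine ⟨x, ?_⟩
    funext i
    rw [hF, e.symm_apply_apply, ← mul_assoc, huu, one_mul]
  have hFinj : Function.Injective F := by
    intro x y hxy
    apply hinj
    funext i
    have h1 := congrFun hxy (e i)
    rw [hF, hF, e.symm_apply_apply] at h1
    have h2 : u i * (u i * phi B t x i) = u i * (u i * phi B t y i) := by rw [h1]
    rwa [← mul_assoc, ← mul_assoc, huu, one_mul, one_mul] at h2
  let G : (Fin 24 → ℤ) →+ leechLattice := F.codRestrict leechLattice hFm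
  have hG : ∀ x, ((G x : leechLattice) : GolayPt → ℤ) = F x := fun x => rfl
  have hbij : Function.Bijective G := by
    constructor
    · intro x y hxy
      apply hFinj
      rw [← hG, ← hG, hxy]
    · rintro ⟨v, hvm⟩
      obtain ⟨x, hx⟩ := (hv v).1 hvm
      refine ⟨x, ?_⟩
      apply Subtype.ext
      rw [hG]
      funext p
      rw [hF, hx]
      simp only
      rw [e.apply_symm_apply, ← mul_assoc, huu, one_mul]
  refine ⟨AddEquiv.ofBijective G hbij, fun x => ?_⟩
  have h1 : sqNorm (F x) = ∑ i, (phi B t x i) ^ 2 := by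
    unfold sqNorm
    rw [← Equiv.sum_comp e.symm (fun i => (phi B t x i) ^ 2)]
    apply Finset.sum_congr rfl
    intro p _
    rw [hF, mul_pow, sq (u _), huu, one_mul]
  have h2 : ((AddEquiv.ofBijective G hbij x : leechLattice) : GolayPt → ℤ) = F x := rfl
  rw [h2, h1, phi_norm h t t8 t0]
  rfl

end Cfsg.Agent.S0406
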