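import Cfsg.Statements.S0411
import Cfsg.Agent.SporadicA.Steiner11
import Cfsg.Agent.SporadicA.SteinerSolveIso

set_option autoImplicit false
open Cfsg

namespace Cfsg.Agent.S0411

open Cfsg.Agent.SporadicA.SteinerMask Cfsg.Agent.SporadicA.SteinerSolveIso
  Cfsg.Agent.SporadicA.Steiner11

/-- every system can be labelled so that its blocks are those of the list `Std11` -/
theorem exists_standard_label {α : Type*} [Fintype α] [DecidableEq α] (hα : Fintype.card α = 11)
    {B : Set (Finset α)} (hB : Cfsg.IsSteinerSystem 4 5 B) :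
    ∃ e : Fin 11 ≃ α, ∀ s : Finset (Fin 11), s.map e.toEmbedding ∈ B ↔ mask s ∈ Std11 :=
  exists_standard hα (by norm_num) hB (by norm_num) (by decide) Sg11_ok Std11_lt Ts11_ok solve11
    Std11_cover

/-- Uniqueness of the Steiner system S(4, 5, 11) up to isomorphism. -/
theorem result {α β : Type*} [Fintype α] [DecidableEq α] [Fintype β] [DecidableEq β] (hα : Fintype.card α = 11) (hβ : Fintype.card β = 11) {B : Set (Finset α)} {B' : Set (Finset β)} (hB : Cfsg.IsSteinerSystem 4 5 B) (hB' : Cfsg.IsSteinerSystem 4 5 B') : Cfsg.SetSystemIso B B' := by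
  obtain ⟨e, he⟩ := exists_standard_label hα hB
  obtain ⟨e', he'⟩ := exists_standard_label hβ hB'
  exact setSystemIso_of_label e e' (fun s => by rw [he, he'])

end Cfsg.Agent.S0411
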