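import Cfsg.Statements.S0422
import Cfsg.Agent.M24Order.Three
import Cfsg.Agent.SporadicA.M24.Y
import Cfsg.Agent.SporadicA.M24.SixKill

set_option autoImplicit false
open Cfsg

namespace Cfsg.Agent.S0422

open Cfsg.Agent Cfsg.Agent.Characters.Core Cfsg.Agent.M24Order
open Cfsg.Agent.SporadicA.M24.Seven (B5 B7six)

/-- There is no principal 7-block with six non-trivial characters. -/
theorem six_false {G : Type*} [Group G] [Finite G] [IsSimpleGroup G]
    (H : SporadicA.M24.Setup.Hyp G) {R : Sylow 5 G} {K : Subgroup G} {M : Ideal AlgInt}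
    {B : Finset (IrrCharacter G)} {ε : IrrCharacter G → ℤ} {a b c d : IrrCharacter G}
    (h5 : B5 R K M B ε a b c d) {S : Sylow 7 G} {K' : Subgroup G} {M' : Ideal AlgInt}
    {B' : Finset (IrrCharacter G)} {ε' : IrrCharacter G → ℤ} {l : List (IrrCharacter G)}
    (h7 : B7six S K' M' B' ε' l b) : False := by
  have hK' := SporadicA.M24.SixD1.card_K H h7
  exact SporadicA.M24.SixKill.not_22 H h5 h7 hK' (SporadicA.M24.Y.mem_22 H h5 h7 hK')

/-- Simple groups of order 244823040 are all isomorphic to the concrete largest Mathieu group. -/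
theorem result {G : Type*} [Group G] [Finite G] (hG : Cfsg.IsM24 G) : Nonempty (G ≃* Cfsg.M24) := by
  have := hG.1
  obtain ⟨H⟩ := Final.exists_hyp hG.2
  have : Fact (Nat.Prime 5) := ⟨by norm_num⟩
  have : Fact (Nat.Prime 7) := ⟨by norm_num⟩
  obtain ⟨R⟩ : Nonempty (Sylow 5 G) := inferInstance
  obtain ⟨S⟩ : Nonempty (Sylow 7 G) := inferInstance
  obtain ⟨K, M, B, ε, a, b, c, d, h5, ⟨K', M', D, a', h7⟩ | ⟨K', M', B', ε', l', h7⟩⟩ :=
    SporadicA.M24.Convert.exists_blocks H R S
  · exact Three.mulEquiv H h5 h7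
  · exact (six_false (SporadicA.M24.Convert.conv H) h5 h7).elim

end Cfsg.Agent.S0422
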