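import Cfsg.Statements.S0429
-- import your own Cfsg.Agent.* helpers here
import Cfsg.Agent.SporadicA.Srg77Model

set_option autoImplicit false
open Cfsg

namespace Cfsg.Agent.S0429

open Cfsg.Agent.SporadicA.Srg77 in
theorem toS77 {V : Type*} [Fintype V] [DecidableEq V] {G : SimpleGraph V} [DecidableRel G.Adj]
    (hG : G.IsSRGWith 77 16 0 4) : S77 (fun v => G.neighborFinset v) where
  card := hG.card
  symm := by
    intro x y h
    simp only [SimpleGraph.mem_neighborFinset] at h ⊢
    exact h.symm
  irr := by
    intro x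
    simp
  deg := by
    intro x
    exact hG.regular.degree_eq x
  tri := by
    intro x y w h1 h2 h3
    simp only [SimpleGraph.mem_neighborFinset] at h1 h2 h3
    have h := hG.of_adj y x h1
    rw [Fintype.card_eq_zero_iff] at h
    exact h.elim ⟨w, by
      rw [SimpleGraph.mem_commonNeighbors]
      exact ⟨h3, h2⟩⟩
  mu := by
    intro x y hne h1
    simp only [SimpleGraph.mem_neighborFinset] at h1
    have h := hG.of_not_adj hne (fun h => h1 h.symm)
    rw [← h, ← Set.toFinset_card]
    congr 1
    ext w
    simp [SimpleGraph.mem_commonNeighbors]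

/-- Uniqueness of the strongly regular graph with parameters (77, 16, 0, 4). -/
theorem result {V W : Type*} [Fintype V] [Fintype W] {G : SimpleGraph V} {H : SimpleGraph W} [DecidableRel G.Adj] [DecidableRel H.Adj] (hG : G.IsSRGWith 77 16 0 4) (hH : H.IsSRGWith 77 16 0 4) : Nonempty (G ≃g H) := by
  classical
  obtain ⟨e, he⟩ := Cfsg.Agent.SporadicA.Srg77Model.exists_labelling (toS77 hG)
  obtain ⟨f, hf⟩ := Cfsg.Agent.SporadicA.Srg77Model.exists_labelling (toS77 hH)
  simp only [SimpleGraph.mem_neighborFinset] at he hf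
  refine ⟨⟨e.symm.trans f, ?_⟩⟩
  intro a b
  have h1 := he (e.symm a) (e.symm b)
  have h2 := hf (e.symm a) (e.symm b)
  rw [Equiv.apply_symm_apply, Equiv.apply_symm_apply] at h1
  exact h2.trans h1.symm

end Cfsg.Agent.S0429
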