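import Cfsg.Statements.S0431
import Cfsg.Agent.S0414
import Cfsg.Agent.S0428
import Cfsg.Agent.S0430
import Cfsg.Agent.S1586
import Cfsg.Agent.SporadicStructure.PBGAutEquiv
import Cfsg.Agent.SporadicA.HSGraphModel
import Cfsg.Agent.SporadicA.RankThree100
import Cfsg.Agent.SporadicA.SteinerThreeSix

set_option autoImplicit false
open Cfsg

namespace Cfsg.Agent.S0431

open Cfsg.Agent.SporadicStructure.SRGSteiner Cfsg.Agent.SporadicStructure.PBGAut
  Cfsg.Agent.SporadicStructure.PBGAutEquiv Cfsg.Agent.SporadicA.HSGraphModel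
  Cfsg.Agent.SporadicA.RankThree100 MulAction

/-- The sign of an automorphism of a finite graph as a permutation of the vertices. -/
noncomputable def sgn {V : Type*} [Fintype V] [DecidableEq V] (Γ : SimpleGraph V) :
    (Γ ≃g Γ) →* ℤˣ :=
  Equiv.Perm.sign.comp (MulAction.toPermHom (Γ ≃g Γ) V)

theorem sgn_apply {V : Type*} [Fintype V] [DecidableEq V] (Γ : SimpleGraph V) (f : Γ ≃g Γ) :
    sgn Γ f = Equiv.Perm.sign f.toEquiv := by
  show Equiv.Perm.sign (MulAction.toPermHom (Γ ≃g Γ) V f) = _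
  congr 1

/-- There is an odd automorphism fixing the extra vertex. -/
theorem exists_odd {α : Type*} [Fintype α] [DecidableEq α] (hα : Fintype.card α = 22)
    {B : Set (Finset α)} (hB : Cfsg.IsSteinerSystem 3 6 B) [Fintype (Option (α ⊕ B))]
    [DecidableEq (Option (α ⊕ B))] :
    ∃ f : Cfsg.pointBlockGraph B ≃g Cfsg.pointBlockGraph B, f none = none ∧
      sgn (Cfsg.pointBlockGraph B) f = -1 := by
  classical
  have hsrg := Cfsg.Agent.S0428.result hα hB
  have hsrg' : (Cfsg.pointBlockGraph B).IsSRGWith 100 22 0 6 := by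
    convert hsrg
  obtain ⟨e⟩ := Cfsg.Agent.S0430.result isSRG hsrg'
  obtain ⟨f, hf0, hf⟩ := exists_odd_aut
  obtain ⟨φ, hφ⟩ := Cfsg.Agent.S1586.exists_iso_to_none hα hB (e 0)
  let g : Cfsg.pointBlockGraph B ≃g Cfsg.pointBlockGraph B := (e.symm.trans f).trans e
  refine ⟨φ * g * φ⁻¹, ?_, ?_⟩
  · have h1 : φ⁻¹ none = e 0 := by
      rw [← hφ]
      exact φ.symm_apply_apply (e 0)
    show φ (g (φ⁻¹ none)) = none
    rw [h1]
    show φ (e (f (e.symm (e 0)))) = none
    rw [e.symm_apply_apply, hf0, hφ]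
  · rw [map_mul, map_mul, map_inv, mul_comm, ← mul_assoc, inv_mul_cancel, one_mul, sgn_apply]
    rw [← hf]
    exact Equiv.Perm.sign_symm_trans_trans f.toEquiv e.toEquiv

/-- The automorphism group of an `S(3, 6, 22)` is transitive on blocks. -/
theorem exists_map_block {α : Type*} [Fintype α] [DecidableEq α]
    {B : Set (Finset α)} (hB : Cfsg.IsSteinerSystem 3 6 B)
    (h3 : MulAction.IsMultiplyPretransitive (Cfsg.setSystemAut B) α 3) (b c : B) :
    ∃ σ : Cfsg.setSystemAut B, (b : Finset α).image (σ : Equiv.Perm α) = c := by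
  have hb6 : (b : Finset α).card = 6 := hB.1 _ b.2
  have hc6 : (c : Finset α).card = 6 := hB.1 _ c.2
  obtain ⟨t, htb, ht3⟩ := Finset.exists_subset_card_eq (s := (b : Finset α)) (n := 3) (by omega)
  obtain ⟨u, huc, hu3⟩ := Finset.exists_subset_card_eq (s := (c : Finset α)) (n := 3) (by omega)
  have hσ : ∃ σ : Cfsg.setSystemAut B, t.image (σ : Equiv.Perm α) = u := by
    rw [isMultiplyPretransitive_iff] at h3
    obtain ⟨x, y⟩ : (Fin 3 ≃ t) × (Fin 3 ≃ u) :=
      ⟨(Fintype.equivFinOfCardEq (by simpa using ht3)).symm,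
        (Fintype.equivFinOfCardEq (by simpa using hu3)).symm⟩
    obtain ⟨g, hg⟩ := h3 (x := ⟨fun i => (x i : α), Subtype.val_injective.comp x.injective⟩)
      (y := ⟨fun i => (y i : α), Subtype.val_injective.comp y.injective⟩)
    refine ⟨g, Finset.eq_of_subset_of_card_le ?_ ?_⟩
    · intro z hz
      rw [Finset.mem_image] at hz
      obtain ⟨w, hw, rfl⟩ := hz
      obtain ⟨i, hi⟩ := x.surjective ⟨w, hw⟩
      have h := DFunLike.congr_fun hg i
      have h' : (g : Equiv.Perm α) (x i : α) = (y i : α) := h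
      rw [hi] at h'
      rw [h']
      exact (y i).2
    · rw [Finset.card_image_of_injective _ (g : Equiv.Perm α).injective, ht3, hu3]
  obtain ⟨σ, hσ⟩ := hσ
  refine ⟨σ, ?_⟩
  have hmem : (b : Finset α).image (σ : Equiv.Perm α) ∈ B := by
    have h1 := image_eq_of_mem_setSystemAut σ.2
    have h2 : (b : Finset α).image (σ : Equiv.Perm α) ∈
      (fun b : Finset α => b.image (σ : Equiv.Perm α)) '' B := ⟨b, b.2, rfl⟩
    rwa [h1] at h2
  obtain ⟨d, hd, hdu⟩ := hB.2 u hu3
  rw [hdu _ ⟨hmem, by rw [← hσ]; exact Finset.image_subset_image htb⟩, hdu _ ⟨c.2, huc⟩]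

/-- Aut of the point-block graph of an S(3, 6, 22) contains a simple subgroup of order 44352000. -/
theorem result {α : Type*} [Fintype α] (hα : Fintype.card α = 22) {B : Set (Finset α)} (hB : Cfsg.IsSteinerSystem 3 6 B) : ∃ H : Subgroup (Cfsg.pointBlockGraph B ≃g Cfsg.pointBlockGraph B), Cfsg.IsHS H := by
  classical
  have hcardA := Cfsg.Agent.S1586.result hα hB
  obtain ⟨hcardS, h3, K, hKidx, hKs, hKc⟩ := Cfsg.Agent.S0414.result hα hB
  have hfinA : Finite (Cfsg.pointBlockGraph B ≃g Cfsg.pointBlockGraph B) :=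
    Nat.finite_of_card_ne_zero (by omega)
  obtain ⟨f, hf0, hf⟩ := exists_odd hα hB
  set s := sgn (Cfsg.pointBlockGraph B) with hsdef
  have hHidx : s.ker.index = 2 := by
    rw [Subgroup.index_ker, MonoidHom.range_eq_top_of_surjective]
    · rw [Nat.card_congr Subgroup.topEquiv.toEquiv]
      simp
    · intro u
      rcases Int.units_eq_one_or u with h | h
      · exact ⟨1, by rw [h, map_one]⟩
      · exact ⟨f, by rw [h, hf]⟩
  refine ⟨s.ker, ?_, ?_⟩
  swap
  · have h := Subgroup.card_mul_index s.ker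
    rw [hHidx, hcardA] at h
    omega
  -- the kernel on the automorphism group of the Steiner system
  let ψ := (stabilizerNoneEquiv (B := B))
  let s' : Cfsg.setSystemAut B →* ℤˣ :=
    (s.comp (stabilizer (Cfsg.pointBlockGraph B ≃g Cfsg.pointBlockGraph B)
      (none : Option (α ⊕ B))).subtype).comp ψ.toMonoidHom
  have hs'idx : s'.ker.index = 2 := by
    rw [Subgroup.index_ker, MonoidHom.range_eq_top_of_surjective]
    · rw [Nat.card_congr Subgroup.topEquiv.toEquiv]
      simp
    · intro u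
      rcases Int.units_eq_one_or u with h | h
      · exact ⟨1, by rw [h, map_one]⟩
      · refine ⟨ψ.symm ⟨f, hf0⟩, ?_⟩
        show s ((ψ (ψ.symm ⟨f, hf0⟩) : stabilizer (Cfsg.pointBlockGraph B ≃g
          Cfsg.pointBlockGraph B) (none : Option (α ⊕ B))) :
            Cfsg.pointBlockGraph B ≃g Cfsg.pointBlockGraph B) = u
        rw [MulEquiv.apply_symm_apply, h, hf]
  have hK : K = s'.ker := eq_of_index_two_of_isSimpleGroup K s'.ker hKidx hs'idx hKs
    (by omega)
  have hKn : K.Normal := Subgroup.normal_of_index_eq_two hKidx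
  -- the elements of `K` give even automorphisms
  have hKeven : ∀ k ∈ K, s (ψ k : Cfsg.pointBlockGraph B ≃g Cfsg.pointBlockGraph B) = 1 := by
    intro k hk
    rw [hK] at hk
    exact hk
  -- transitivity of `K` on the points
  have hKtr : ∀ a a' : α, ∃ k ∈ K, (k : Equiv.Perm α) a = a' := by
    have h2 : IsMultiplyPretransitive (Cfsg.setSystemAut B) α 2 := by
      have : 3 ≤ Nat.card α := by rw [Nat.card_eq_fintype_card, hα]; norm_num
      exact isMultiplyPretransitive_of_le (n := 3) (by norm_num) (by simpa using this)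
    have hprim : IsPreprimitive (Cfsg.setSystemAut B) α := isPreprimitive_of_is_two_pretransitive h2
    have hfix : fixedPoints K α ≠ .univ := by
      intro h
      obtain ⟨x, y, hxy⟩ := hKs.exists_pair_ne
      apply hxy
      have h1 : ∀ k : K, k = 1 := by
        intro k
        apply Subtype.ext
        apply Subtype.ext
        apply Equiv.ext
        intro a
        have ha : a ∈ fixedPoints K α := h ▸ Set.mem_univ a
        exact ha k
      rw [h1 x, h1 y]
    have htr : IsPretransitive K α := IsQuasiPreprimitive.isPretransitive_of_normal hfix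
    intro a a'
    obtain ⟨k, hk⟩ := exists_smul_eq K a a'
    exact ⟨k, k.2, hk⟩
  have hsrg := Cfsg.Agent.S0428.result hα hB
  have hV : Nat.card (Option (α ⊕ B)) = 100 := by
    rw [Nat.card_eq_fintype_card, hsrg.card]
  have hB77 : Nat.card B = 77 := by
    have h1 := hsrg.card
    rw [Fintype.card_option, Fintype.card_sum, hα] at h1
    rw [Nat.card_eq_fintype_card]
    omega
  -- transitivity on the vertices
  have htoNone : ∀ x : Option (α ⊕ B), ∃ h : s.ker, h • x = none := by
    intro x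
    obtain ⟨φ, hφ⟩ := Cfsg.Agent.S1586.exists_iso_to_none hα hB x
    rcases Int.units_eq_one_or (s φ) with h | h
    · exact ⟨⟨φ, h⟩, hφ⟩
    · refine ⟨⟨f * φ, ?_⟩, ?_⟩
      · rw [MonoidHom.mem_ker, map_mul, hf, h]
        decide
      · show f (φ x) = none
        rw [hφ, hf0]
  have htrans : IsPretransitive s.ker (Option (α ⊕ B)) := by
    refine ⟨fun x y => ?_⟩
    obtain ⟨h, hh⟩ := htoNone x
    obtain ⟨h', hh'⟩ := htoNone y
    refine ⟨h'⁻¹ * h, ?_⟩
    rw [mul_smul, hh, inv_smul_eq_iff, hh']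
  -- the stabiliser of the extra vertex
  let θ : K →* stabilizer s.ker (none : Option (α ⊕ B)) :=
    { toFun := fun k => ⟨⟨(ψ k : Cfsg.pointBlockGraph B ≃g Cfsg.pointBlockGraph B),
        hKeven k k.2⟩, (ψ k).2⟩
      map_one' := by
        apply Subtype.ext
        apply Subtype.ext
        show ((ψ (1 : Cfsg.setSystemAut B) : stabilizer _ _) :
          Cfsg.pointBlockGraph B ≃g Cfsg.pointBlockGraph B) = 1
        rw [map_one]
        rfl
      map_mul' := by
        intro k l
        apply Subtype.ext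
        apply Subtype.ext
        show ((ψ ((k : Cfsg.setSystemAut B) * (l : Cfsg.setSystemAut B)) : stabilizer _ _) :
          Cfsg.pointBlockGraph B ≃g Cfsg.pointBlockGraph B) = _
        rw [map_mul]
        rfl }
  have hθ : Function.Surjective θ := by
    rintro ⟨⟨g, hg⟩, hgn⟩
    have hgn' : g ∈ stabilizer (Cfsg.pointBlockGraph B ≃g Cfsg.pointBlockGraph B)
      (none : Option (α ⊕ B)) := hgn
    have h1 : ψ (ψ.symm ⟨g, hgn'⟩) = ⟨g, hgn'⟩ := ψ.apply_symm_apply _
    have hmem : ψ.symm ⟨g, hgn'⟩ ∈ K := by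
      rw [hK]
      show s ((ψ (ψ.symm ⟨g, hgn'⟩) : stabilizer _ _) :
        Cfsg.pointBlockGraph B ≃g Cfsg.pointBlockGraph B) = 1
      rw [h1]
      exact hg
    refine ⟨⟨ψ.symm ⟨g, hgn'⟩, hmem⟩, ?_⟩
    apply Subtype.ext
    apply Subtype.ext
    show ((ψ (ψ.symm ⟨g, hgn'⟩) : stabilizer _ _) :
        Cfsg.pointBlockGraph B ≃g Cfsg.pointBlockGraph B) = g
    rw [h1]
  have hθi : Function.Injective θ := by
    intro k l hkl
    have h1 : (ψ k : Cfsg.pointBlockGraph B ≃g Cfsg.pointBlockGraph B) = ψ l :=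
      congrArg (fun z : stabilizer s.ker (none : Option (α ⊕ B)) =>
        ((z : s.ker) : Cfsg.pointBlockGraph B ≃g Cfsg.pointBlockGraph B)) hkl
    exact Subtype.ext (ψ.injective (Subtype.ext h1))
  have hsimple : IsSimpleGroup (stabilizer s.ker (none : Option (α ⊕ B))) := by
    have e : K ≃* stabilizer s.ker (none : Option (α ⊕ B)) :=
      MulEquiv.ofBijective θ ⟨hθi, hθ⟩
    exact e.symm.isSimpleGroup
  -- the two other suborbits
  have hX : (Set.range fun a : α => (some (Sum.inl a) : Option (α ⊕ B))).ncard = 22 := by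
    rw [← Nat.card_coe_set_eq, Nat.card_range_of_injective, Nat.card_eq_fintype_card, hα]
    intro a a' h
    exact Sum.inl_injective (Option.some_injective _ h)
  have hY : (Set.range fun b : B => (some (Sum.inr b) : Option (α ⊕ B))).ncard = 77 := by
    rw [← Nat.card_coe_set_eq, Nat.card_range_of_injective, hB77]
    intro a a' h
    exact Sum.inr_injective (Option.some_injective _ h)
  refine isSimpleGroup_of_rank_three (G := s.ker) hV none _ _ ?_ ?_ hX hY ?_ ?_ ?_ hsimple
  · rintro ⟨a, ha⟩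
    simp at ha
  · rintro ⟨a, ha⟩
    simp at ha
  · rintro (_ | a | b)
    · exact Or.inl rfl
    · exact Or.inr (Or.inl ⟨a, rfl⟩)
    · exact Or.inr (Or.inr ⟨b, rfl⟩)
  · rintro _ ⟨a, rfl⟩ _ ⟨a', rfl⟩
    obtain ⟨k, hk, hka⟩ := hKtr a a'
    refine ⟨⟨(ψ k : Cfsg.pointBlockGraph B ≃g Cfsg.pointBlockGraph B), hKeven k hk⟩,
      (ψ k).2, ?_⟩
    show (ψ k : Cfsg.pointBlockGraph B ≃g Cfsg.pointBlockGraph B) (some (Sum.inl a)) = _
    rw [stabilizerNoneEquiv_inl, hka]
  · rintro _ ⟨b, rfl⟩ _ ⟨c, rfl⟩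
    let G1 := stabilizer (Cfsg.pointBlockGraph B ≃g Cfsg.pointBlockGraph B)
      (none : Option (α ⊕ B))
    let K1 : Subgroup G1 := (s.comp G1.subtype).ker
    have hK1 : K1.index = 2 := by
      rw [Subgroup.index_ker, MonoidHom.range_eq_top_of_surjective]
      · rw [Nat.card_congr Subgroup.topEquiv.toEquiv]
        simp
      · intro u
        rcases Int.units_eq_one_or u with h | h
        · exact ⟨1, by rw [h, map_one]⟩
        · exact ⟨⟨f, hf0⟩, by rw [h]; exact hf⟩
    have horb : orbit G1 (some (Sum.inr b) : Option (α ⊕ B)) =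
        Set.range fun b : B => (some (Sum.inr b) : Option (α ⊕ B)) := by
      ext z
      constructor
      · rintro ⟨⟨g, hg⟩, rfl⟩
        obtain ⟨σ, -, h2⟩ := exists_perm_of_fix_none g hg
        obtain ⟨c, hc, -⟩ := h2 b
        exact ⟨c, hc.symm⟩
      · rintro ⟨c, rfl⟩
        obtain ⟨σ, hσ⟩ := exists_map_block hB h3 b c
        refine ⟨ψ σ, ?_⟩
        show (ψ σ : Cfsg.pointBlockGraph B ≃g Cfsg.pointBlockGraph B) (some (Sum.inr b)) = _
        rw [stabilizerNoneEquiv_inr]
        congr 2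
        apply Subtype.ext
        rw [blockEquiv_coe, hσ]
    obtain ⟨k, hk, hkb⟩ := exists_smul_eq_of_odd_orbit K1 hK1 (some (Sum.inr b) : Option (α ⊕ B))
      (by rw [horb, hY]; decide) (some (Sum.inr c)) (by rw [horb]; exact ⟨c, rfl⟩)
    exact ⟨⟨(k : Cfsg.pointBlockGraph B ≃g Cfsg.pointBlockGraph B), hk⟩, k.2, hkb⟩

end Cfsg.Agent.S0431
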