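import Cfsg.Statements.S0439

set_option autoImplicit false
open Cfsg

namespace Cfsg.Agent.S0439

/-- In the symmetric group of degree n ≥ 2, the set of transpositions is a conjugacy class of 3-transpositions which generates the group. -/
theorem result (n : ℕ) (hn : 2 ≤ n) : Cfsg.IsThreeTranspositionClass {σ : Equiv.Perm (Fin n) | σ.IsSwap} := by
  classical
  refine ⟨⟨?_, ?_⟩, ?_, Equiv.Perm.closure_isSwap⟩
  · intro d hd
    exact Equiv.Perm.IsSwap.orderOf hd
  · rintro d ⟨a, b, hab, rfl⟩ e ⟨c, f, hcf, rfl⟩
    by_cases hac : a = c
    · subst hac
      by_cases hbf : b = f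
      · subst hbf
        left
        simp
      · right
        have h := (Equiv.Perm.isThreeCycle_swap_mul_swap_same hab hcf hbf).orderOf
        rw [← h]
        exact pow_orderOf_eq_one _
    · by_cases haf : a = f
      · subst haf
        by_cases hbc : b = c
        · subst hbc
          left
          rw [Equiv.swap_comm b a]
          simp
        · right
          rw [Equiv.swap_comm c a]
          have h := (Equiv.Perm.isThreeCycle_swap_mul_swap_same hab (Ne.symm hcf) hbc).orderOf
          rw [← h]
          exact pow_orderOf_eq_one _
      · by_cases hbc : b = c
        · subst hbc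
          right
          rw [Equiv.swap_comm a b]
          have h := (Equiv.Perm.isThreeCycle_swap_mul_swap_same (Ne.symm hab) hcf haf).orderOf
          rw [← h]
          exact pow_orderOf_eq_one _
        · by_cases hbf : b = f
          · subst hbf
            right
            rw [Equiv.swap_comm a b, Equiv.swap_comm c b]
            have h := (Equiv.Perm.isThreeCycle_swap_mul_swap_same (Ne.symm hab) (Ne.symm hcf)
              hac).orderOf
            rw [← h]
            exact pow_orderOf_eq_one _
          · left
            have hdis : Equiv.Perm.Disjoint (Equiv.swap a b) (Equiv.swap c f) := by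
              intro x
              by_cases hxa : x = a
              · right
                subst hxa
                exact Equiv.swap_apply_of_ne_of_ne hac haf
              · by_cases hxb : x = b
                · right
                  subst hxb
                  exact Equiv.swap_apply_of_ne_of_ne hbc hbf
                · left
                  exact Equiv.swap_apply_of_ne_of_ne hxa hxb
            rw [hdis.commute.mul_pow, pow_two, pow_two, Equiv.swap_mul_self, Equiv.swap_mul_self,
              mul_one]
  · have h01 : (⟨0, by omega⟩ : Fin n) ≠ ⟨1, by omega⟩ := by
      intro h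
      exact absurd (congrArg Fin.val h) (by norm_num)
    refine ⟨Equiv.swap ⟨0, by omega⟩ ⟨1, by omega⟩, ⟨_, _, h01, rfl⟩, ?_⟩
    ext σ
    constructor
    · rintro ⟨x, y, hxy, rfl⟩
      exact (Equiv.Perm.isConj_swap h01 hxy : IsConj _ _)
    · intro h
      obtain ⟨c, hc⟩ := isConj_iff.mp (h : IsConj _ _)
      refine ⟨c ⟨0, by omega⟩, c ⟨1, by omega⟩, fun h => h01 (c.injective h), ?_⟩
      rw [Equiv.swap_apply_apply, hc]

end Cfsg.Agent.S0439
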