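import Cfsg.Statements.S0444
-- import your own Cfsg.Agent.* helpers here
import Cfsg.Agent.SporadicB.DihedralLift

set_option autoImplicit false
open Cfsg

namespace Cfsg.Agent.S0444

/-- Two members of a set of 3-transpositions which do not commute generate a subgroup isomorphic to the symmetric group on three letters. -/
theorem result {G : Type*} [Group G] {E : Set G} (hE : Cfsg.IsThreeTranspositionSet E) {d e : G} (hd : d ∈ E) (he : e ∈ E) (h : ¬ Commute d e) : Nonempty (Subgroup.closure ({d, e} : Set G) ≃* Equiv.Perm (Fin 3)) := by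
  have hd2 := hE.1 d hd
  have he2 := hE.1 e he
  have hdd : d * d = 1 := by rw [← pow_two, ← hd2]; exact pow_orderOf_eq_one _
  have hee : e * e = 1 := by rw [← pow_two, ← he2]; exact pow_orderOf_eq_one _
  have hne1 : d * e ≠ 1 := by
    intro h1
    apply h
    have : d = e⁻¹ := mul_eq_one_iff_eq_inv.mp h1
    rw [this]
    exact (Commute.refl e).inv_left
  have h3 : (d * e) ^ 3 = 1 := by
    rcases hE.2 d hd e he with h2 | h3
    · exfalso
      apply h
      show d * e = e * d
      rw [pow_two] at h2
      have h4 : d * e = (d * e)⁻¹ := eq_inv_of_mul_eq_one_left h2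
      rw [mul_inv_rev, inv_eq_of_mul_eq_one_left hdd, inv_eq_of_mul_eq_one_left hee] at h4
      exact h4
    · exact h3
  obtain ⟨f⟩ := SporadicB.DihedralLift.closure_pair_equiv_dihedral' hd2 he2
    (orderOf_eq_prime h3 hne1)
  obtain ⟨g⟩ := SporadicB.DihedralLift.dihedral_three_equiv_perm
  exact ⟨f.trans g⟩

end Cfsg.Agent.S0444
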