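import Cfsg.Statements.S0447
import Cfsg.Agent.SporadicB.DoubleCoverUnique
import Cfsg.Agent.SporadicB.DoubleCoverEight
import Cfsg.Agent.SporadicB.SpinCover

set_option autoImplicit false
open Cfsg

namespace Cfsg.Agent.S0447

/-- Involutions in double covers of alternating groups: for n ≤ 7, a finite non-split double cover of the alternating group of degree n has exactly one element of order 2 (the central one); for degree 8 there is a non-split double cover with two distinct involutions. -/
theorem result : (∀ (n : ℕ) (H : Type) (_ : Group H) (_ : Finite H), n ≤ 7 → Cfsg.IsNonsplitDoubleCover H (alternatingGroup (Fin n)) → ∀ x y : H, orderOf x = 2 → orderOf y = 2 → x = y) ∧ ∃ (H : Type) (_ : Group H) (_ : Finite H), Cfsg.IsNonsplitDoubleCover H (alternatingGroup (Fin 8)) ∧ ∃ x y : H, x ≠ y ∧ orderOf x = 2 ∧ orderOf y = 2 := by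
  refine ⟨?_, ?_⟩
  · intro n H hG hF hn hH x y hx hy
    exact Cfsg.Agent.SporadicB.DoubleCoverUnique.unique_involution hn hH x y hx hy
  · obtain ⟨Γ, hG, hF, z, f, hz, hz2, hzc, hf, hker⟩ :=
      Cfsg.Agent.SporadicB.SpinCover.exists_double_cover 8 (by norm_num)
    exact ⟨Γ, hG, hF, Cfsg.Agent.SporadicB.DoubleCoverEight.degree_eight z hz hz2 hzc f hf hker⟩

end Cfsg.Agent.S0447
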