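import Cfsg.Statements.S0455
import Cfsg.Agent.J3Type.CardOneClass
import Cfsg.Agent.J3Type.TwoCentral
import Cfsg.Agent.J3Type.FusionLemma
import Cfsg.Agent.J2Type.Order

set_option autoImplicit false
open Cfsg

namespace Cfsg.Agent.S0455

/-- Janko's second and third groups: let G be finite simple with a 2-central involution t whose centraliser C contains a normal extraspecial subgroup E of order 32 with C/E isomorphic to the alternating group of degree 5. Then G has order 604800 or 50232960. -/
theorem result {G : Type*} [Group G] [Finite G] [IsSimpleGroup G] (t : G) (ht : Cfsg.IsTwoCentralInvolution t) (E : Subgroup (Subgroup.centralizer ({t} : Set G))) [E.Normal] (hE : Nat.card E = 32) (hX : Cfsg.IsExtraspecial 2 E) (e : (Subgroup.centralizer ({t} : Set G)) ⧸ E ≃* alternatingGroup (Fin 5)) : Cfsg.IsJ2 G ∨ Cfsg.IsJ3 G := by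
  have h60 : Nat.card ((Subgroup.centralizer ({t} : Set G)) ⧸ E) = 60 := by
    rw [Nat.card_congr e.toEquiv, Nat.card_eq_fintype_card]
    rfl
  have h1920 : 32 < Nat.card (Subgroup.centralizer ({t} : Set G)) := by
    have := Subgroup.card_eq_card_quotient_mul_card_subgroup E
    rw [h60, hE] at this
    omega
  obtain ⟨g, hg, hgc⟩ := Cfsg.Agent.J3Type.TwoCentral.exists_comm_conj t ht E hE h1920
  have ht2 : orderOf t = 2 := ht.1
  by_cases hcl : ∃ x y : G, orderOf x = 2 ∧ orderOf y = 2 ∧ ¬ IsConj x y
  · left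
    have h2c := Cfsg.Agent.J3Type.Reduce.centralizer_le t ht2 E hE hX e g hg hgc
    have hnwc := Cfsg.Agent.J3Type.FusionLemma.hnwc_of_conj t ht2 E hX hE h2c h60 g hg hgc
    obtain ⟨u, hu⟩ := Cfsg.Agent.J2Type.Fusion.fus_core t ht2 E hX hE h2c h60 hnwc hcl
    exact ⟨inferInstance, Cfsg.Agent.J2Type.Order.card_of_fus hu⟩
  · right
    push Not at hcl
    exact ⟨inferInstance, Cfsg.Agent.J3Type.CardOneClass.card_of_one_class
      (fun x y hx hy => hcl x y hx hy) t ht2 E hE hX e g hg hgc⟩

end Cfsg.Agent.S0455
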