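import Cfsg.Statements.S0458
import Cfsg.Agent.S1625
import Cfsg.Agent.SporadicB.J3Sub
import Cfsg.Agent.Lib.CosetPerm

set_option autoImplicit false
open Cfsg

namespace Cfsg.Agent.S0458

open Cfsg.Agent.Lib.FieldFour Cfsg.Spor Cfsg.Agent.SporadicB

/-- If the centre of `G` has order 3 and `x * u` and `u * x` agree modulo the centre for an involution `u`,
then `x` and `u` commute. -/
theorem comm_of_mk_comm {G : Type*} [Group G] (hZ : Nat.card (Subgroup.center G) = 3)
    {x u : G} (hu : u * u = 1)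
    (h : (QuotientGroup.mk' (Subgroup.center G)) x * (QuotientGroup.mk' (Subgroup.center G)) u =
      (QuotientGroup.mk' (Subgroup.center G)) u * (QuotientGroup.mk' (Subgroup.center G)) x) :
    x * u = u * x := by
  have hui : u⁻¹ = u := inv_eq_of_mul_eq_one_left hu
  set y := x * u * x⁻¹ * u with hy
  have hyZ : y ∈ Subgroup.center G := by
    have h1 : (QuotientGroup.mk' (Subgroup.center G)) y = 1 := by
      rw [hy, map_mul, map_mul, map_mul, map_inv, h, mul_inv_cancel_right, ← map_mul, hu, map_one]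
    rwa [QuotientGroup.mk'_apply, QuotientGroup.eq_one_iff] at h1
  have hy3 : y ^ 3 = 1 := by
    have h1 : (⟨y, hyZ⟩ : Subgroup.center G) ^ 3 = 1 := by
      rw [← hZ]; exact pow_card_eq_one'
    have h2 := congrArg Subtype.val h1
    simpa using h2
  have hinv : y⁻¹ = u * y * u := by
    rw [hy]
    simp only [mul_inv_rev, inv_inv, hui]
    simp only [mul_assoc, hu, mul_one]
  have hcomm : u * y * u = y := by
    have := (Subgroup.mem_center_iff.1 hyZ) u
    rw [this, mul_assoc, hu, mul_one]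
  have hyy : y * y = 1 := by
    have h1 : y⁻¹ = y := hinv.trans hcomm
    calc y * y = y⁻¹ * y := by rw [h1]
      _ = 1 := inv_mul_cancel y
  have hy1 : y = 1 := by
    calc y = y ^ 3 * (y * y)⁻¹ := by group
      _ = 1 := by rw [hy3, hyy, inv_one, one_mul]
  calc x * u = (x * u * x⁻¹ * u) * (u⁻¹ * x) := by group
    _ = y * (u⁻¹ * x) := by rw [hy]
    _ = u * x := by rw [hy1, one_mul, hui]

theorem eq_one_of_mk_eq_one {G : Type*} [Group G] (hZ : Nat.card (Subgroup.center G) = 3)
    {g : G} (hg : g ^ 17 = 1) (h : (QuotientGroup.mk' (Subgroup.center G)) g = 1) : g = 1 := by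
  have hyZ : g ∈ Subgroup.center G := by
    rwa [QuotientGroup.mk'_apply, QuotientGroup.eq_one_iff] at h
  have hy3 : g ^ 3 = 1 := by
    have h1 : (⟨g, hyZ⟩ : Subgroup.center G) ^ 3 = 1 := by
      rw [← hZ]; exact pow_card_eq_one'
    have h2 := congrArg Subtype.val h1
    simpa using h2
  calc g = (g ^ 3) ^ 6 * (g ^ 17)⁻¹ := by group
    _ = 1 := by rw [hy3, hg, one_pow, inv_one, mul_one]

/-- `J₃` has a subgroup of order 8160. -/
theorem exists_subgroup (hZ : Nat.card (Subgroup.center (threeJ3 F4 F4.w)) = 3) :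
    ∃ K : Subgroup (J3 F4 F4.w), Nat.card K = 8160 := by
  let uG : threeJ3 F4 F4.w := ⟨J3Sub.u, J3Sub.u_mem⟩
  let tG : threeJ3 F4 F4.w := ⟨J3Sub.t, J3Sub.t_mem⟩
  let fG : threeJ3 F4 F4.w := ⟨J3Sub.f, J3Sub.f_mem⟩
  let nG : threeJ3 F4 F4.w := ⟨J3Sub.n, J3Sub.n_mem⟩
  have relG : L216Two.Rel uG tG fG nG :=
    L216Two.Rel.of_map (Subgroup.subtype _) (Subgroup.subtype_injective _) J3Sub.rel
  let π : threeJ3 F4 F4.w →* J3 F4 F4.w := QuotientGroup.mk' _
  have relJ : L216Two.Rel (π uG) (π tG) (π fG) (π nG) := relG.map π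
  refine ⟨Subgroup.closure {π uG, π tG, π fG, π nG}, ?_⟩
  refine relJ.card_eq ?_ ?_ ?_ (π nG * π uG * π tG) ?_ ?_ ?_
  · intro h
    rw [← map_pow] at h
    have h1 := comm_of_mk_comm hZ relG.uu h
    exact J3Sub.ne3 (congrArg Subtype.val h1)
  · intro h
    rw [← map_pow] at h
    have h1 := comm_of_mk_comm hZ relG.uu h
    exact J3Sub.ne5 (congrArg Subtype.val h1)
  · intro h
    rw [← map_inv, ← map_mul, ← map_mul] at h
    have hinv : (tG * uG * tG⁻¹) * (tG * uG * tG⁻¹) = 1 := by
      calc (tG * uG * tG⁻¹) * (tG * uG * tG⁻¹) = tG * (uG * uG) * tG⁻¹ := by group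
        _ = 1 := by rw [relG.uu, mul_one, mul_inv_cancel]
    have h1 := comm_of_mk_comm hZ hinv h
    exact J3Sub.nef (congrArg Subtype.val h1)
  · have hu : π uG ∈ Subgroup.closure {π uG, π tG, π fG, π nG} :=
      Subgroup.subset_closure (by simp)
    have ht : π tG ∈ Subgroup.closure {π uG, π tG, π fG, π nG} :=
      Subgroup.subset_closure (by simp)
    have hn : π nG ∈ Subgroup.closure {π uG, π tG, π fG, π nG} :=
      Subgroup.subset_closure (by simp)
    exact Subgroup.mul_mem _ (Subgroup.mul_mem _ hn hu) ht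
  · have h17 : (nG * uG * tG) ^ 17 = 1 := Subtype.ext J3Sub.g17
    rw [← map_mul, ← map_mul, ← map_pow, h17, map_one]
  · intro h
    rw [← map_mul, ← map_mul] at h
    have h17 : (nG * uG * tG) ^ 17 = 1 := Subtype.ext J3Sub.g17
    have h1 := eq_one_of_mk_eq_one hZ h17 h
    exact J3Sub.g_ne (congrArg Subtype.val h1)

/-- Janko's third group exists as a transitive permutation group of degree 6156 with point stabiliser of order 8160: a simple group of order 50232960. -/
theorem result : ∃ H : Subgroup (Equiv.Perm (Fin 6156)), Cfsg.IsJ3 H ∧ MulAction.IsPretransitive H (Fin 6156) ∧ Nat.card (MulAction.stabilizer H (0 : Fin 6156)) = 8160 := by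
  obtain ⟨hZ, -, hcard, hsimple⟩ := S1625.result F4 rfl F4.w (by decide)
  obtain ⟨K, hK⟩ := exists_subgroup hZ
  have hidx : K.index = 6156 := by
    have h := K.card_mul_index
    rw [hK, hcard] at h
    omega
  have hne : K ≠ ⊤ := by
    rintro rfl
    rw [Subgroup.index_top] at hidx
    omega
  obtain ⟨H, ⟨e⟩, htr, ⟨e'⟩⟩ := Cfsg.Agent.Lib.CosetPerm.exists_perm_of_subgroup' K hne 6156 hidx
  refine ⟨H, ⟨?_, ?_⟩, htr, ?_⟩
  · exact (MulEquiv.isSimpleGroup_congr e).1 hsimple
  · rw [← Nat.card_congr e.toEquiv, hcard]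
  · rw [← Nat.card_congr e'.toEquiv, hK]

end Cfsg.Agent.S0458
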