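import Cfsg.Statements.S1683
import Cfsg.Agent.SporadicB.HePerm.Final
import Cfsg.Agent.SporadicB.HeUpper


set_option autoImplicit false
open Cfsg

namespace Cfsg.Agent.S1683


open Cfsg.Agent.SporadicB.HePerm in
/-- the set of the seven words -/
def gset : Set (FreeGroup Cfsg.Spor.He.Gen) := {Cfsg.Spor.He.a, Cfsg.Spor.He.c, Cfsg.Spor.He.d, Cfsg.Spor.He.e, Cfsg.Spor.He.f, (Cfsg.Spor.He.a * Cfsg.Spor.He.b) ^ 2, (Cfsg.Spor.He.b * Cfsg.Spor.He.c * Cfsg.Spor.He.d * Cfsg.Spor.He.e) ^ 7}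

/-- the subgroup of the presented group -/
def K : Subgroup Cfsg.Spor.He := (Subgroup.closure gset).map
  (PresentedGroup.mk (Cfsg.Spor.coxRelators Cfsg.Spor.He.edges ∪ {r | r ∈ Cfsg.Spor.He.extra}))

section

open Cfsg.Spor Cfsg.Spor.He Cfsg.Agent.SporadicB.HePerm

theorem map_K : K.map phi = Subgroup.closure {q | ∃ w ∈ wordsK, q = (w.map pm).prod} := by
  have h1 : K.map phi = Subgroup.closure ((fun w => phi (PresentedGroup.mk _ w)) '' gset) := by
    unfold K
    rw [Subgroup.map_map, MonoidHom.map_closure]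
    rfl
  rw [h1]
  have e : ∀ x : Gen, phi (PresentedGroup.mk (coxRelators edges ∪ {r | r ∈ extra}) (FreeGroup.of x)) = pm x := phi_of
  congr 1
  ext q
  constructor
  · rintro ⟨w, hw, rfl⟩
    rcases hw with rfl | rfl | rfl | rfl | rfl | rfl | rfl
    · exact ⟨[.a], by simp [wordsK], by simpa using e .a⟩
    · exact ⟨[.c], by simp [wordsK], by simpa using e .c⟩
    · exact ⟨[.d], by simp [wordsK], by simpa using e .d⟩
    · exact ⟨[.e], by simp [wordsK], by simpa using e .e⟩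
    · exact ⟨[.f], by simp [wordsK], by simpa using e .f⟩
    · refine ⟨[.a, .b, .a, .b], by simp [wordsK], ?_⟩
      simp only [map_pow, map_mul, e, List.map_cons, List.map_nil, List.prod_cons, List.prod_nil]
      rw [pow_two]; group
    · refine ⟨wh, by simp [wordsK], ?_⟩
      rw [show wh = powWord [.b, .c, .d, .e] 7 from rfl, powWord_prod]
      simp only [map_pow, map_mul, e, List.map_cons, List.map_nil, List.prod_cons, List.prod_nil]
      group
  · rintro ⟨w, hw, rfl⟩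
    simp only [wordsK, List.mem_cons, List.not_mem_nil, or_false] at hw
    rcases hw with rfl | rfl | rfl | rfl | rfl | rfl | rfl
    · exact ⟨He.a, by simp [gset], by simpa using e .a⟩
    · exact ⟨He.c, by simp [gset], by simpa using e .c⟩
    · exact ⟨He.d, by simp [gset], by simpa using e .d⟩
    · exact ⟨He.e, by simp [gset], by simpa using e .e⟩
    · exact ⟨He.f, by simp [gset], by simpa using e .f⟩
    · refine ⟨(He.a * He.b) ^ 2, by simp [gset], ?_⟩
      simp only [map_pow, map_mul, e, List.map_cons, List.map_nil, List.prod_cons, List.prod_nil]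
      rw [pow_two]; group
    · refine ⟨(He.b * He.c * He.d * He.e) ^ 7, by simp [gset], ?_⟩
      rw [show wh = powWord [.b, .c, .d, .e] 7 from rfl, powWord_prod]
      simp only [map_pow, map_mul, e, List.map_cons, List.map_nil, List.prod_cons, List.prod_nil]
      group

theorem word_mem {w : List Gen} (hw : w ∈ wordsK) : (w.map pm).prod ∈ K.map phi := by
  rw [map_K]; exact Subgroup.subset_closure ⟨w, hw, rfl⟩

theorem fix_zero {p : Equiv.Perm (Fin 2058)} (hp : p ∈ K.map phi) : p 0 = 0 := by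
  rw [map_K] at hp
  induction hp using Subgroup.closure_induction with
  | mem q hq => obtain ⟨w, hw, rfl⟩ := hq; exact fix_word hw
  | one => rfl
  | mul p q _ _ hp hq => rw [Equiv.Perm.mul_apply, hq, hp]
  | inv p _ hp =>
    have : p⁻¹ (p 0) = p⁻¹ 0 := by rw [hp]
    rw [← this]; simp

theorem word_memL {w : List Gen} (hw : w ∈ wordsL) : (w.map pm).prod ∈ K.map phi := by
  apply word_mem
  simp only [wordsL, wordsK, List.mem_cons, List.not_mem_nil, or_false] at hw ⊢
  tauto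

theorem word_memM {w : List Gen} (hw : w ∈ wordsM) : (w.map pm).prod ∈ K.map phi := by
  simp only [wordsM, List.mem_cons, List.not_mem_nil, or_false] at hw
  rcases hw with rfl | rfl
  · exact word_mem (by simp [wordsK])
  · have h1 := word_mem (w := [.d]) (by simp [wordsK])
    have h2 := word_mem (w := [.e]) (by simp [wordsK])
    have h3 := word_mem (w := [.a, .b, .a, .b]) (by simp [wordsK])
    have := mul_mem (mul_mem (mul_mem h1 h2) h1) h3
    simpa [mul_assoc] using this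

theorem card_map_K_ge : 1958400 ≤ Nat.card (K.map phi) := by
  set H1 := K.map phi with hH1
  set H2 := H1 ⊓ fixer 1 with hH2
  set H3 := H2 ⊓ fixer 32 with hH3
  have hL := fixL
  have hM := fixM
  rw [List.all_eq_true] at hL hM
  have e1 : Fin.ofNat 2058 (look Data.kOrd 1) = (1 : Fin 2058) := by rw [ordK1]; rfl
  have e2 : Fin.ofNat 2058 (look Data.lOrd 0) = (32 : Fin 2058) := by rw [ordL0]; rfl
  have e3 : Fin.ofNat 2058 (look Data.mOrd 0) = (8 : Fin 2058) := by rw [ordM0]; rfl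
  have s1 : 1360 * Nat.card H2 ≤ Nat.card H1 := by
    refine le_trans (Nat.mul_le_mul_right _ (card_pts treeK1).ge) ?_
    apply chain_step H1 H2 (1 : Fin 2058) _ _ inf_le_left
    · intro k hk; exact mem_fixer.mp hk.2
    · intro y hy
      have := reach_pts treeK1 H1 (fun w hw => word_mem hw) y hy
      rwa [e1] at this
  have s2 : 360 * Nat.card H3 ≤ Nat.card H2 := by
    refine le_trans (Nat.mul_le_mul_right _ (card_pts treeL).ge) ?_
    apply chain_step H2 H3 (32 : Fin 2058) _ _ inf_le_left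
    · intro k hk; exact mem_fixer.mp hk.2
    · intro y hy
      have := reach_pts treeL H2 (fun w hw => by
        have h := hL w hw
        rw [Bool.and_eq_true] at h
        exact ⟨word_memL hw, mem_fixer.mpr (fix_of_act (by norm_num) (Nat.eq_of_beq_eq_true h.2))⟩) y hy
      rwa [e2] at this
  have s3 : 4 * Nat.card (⊥ : Subgroup (Equiv.Perm (Fin 2058))) ≤ Nat.card H3 := by
    refine le_trans (Nat.mul_le_mul_right _ (card_pts treeM).ge) ?_
    apply chain_step H3 ⊥ (8 : Fin 2058) _ _ bot_le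
    · intro k hk
      rw [Subgroup.mem_bot] at hk
      rw [hk]; rfl
    · intro y hy
      have := reach_pts treeM H3 (fun w hw => by
        have h := hM w hw
        rw [Bool.and_eq_true, Bool.and_eq_true] at h
        exact ⟨⟨word_memM hw, mem_fixer.mpr (fix_of_act (by norm_num) (Nat.eq_of_beq_eq_true h.2.1))⟩,
          mem_fixer.mpr (fix_of_act (by norm_num) (Nat.eq_of_beq_eq_true h.2.2))⟩) y hy
      rwa [e3] at this
  have hb : Nat.card (⊥ : Subgroup (Equiv.Perm (Fin 2058))) = 1 := Subgroup.card_bot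
  rw [hb] at s3
  omega

/-- the stabiliser of the point 0 -/
noncomputable def St : Subgroup He := (fixer 0).comap phi

theorem exists_map_zero (i : Fin 2058) : ∃ g : He, phi g 0 = i := by
  have := pretransitive
  obtain ⟨p, hp⟩ := MulAction.exists_smul_eq phi.range (0 : Fin 2058) i
  obtain ⟨g, hg⟩ := p.2
  exact ⟨g, by rw [hg]; exact hp⟩

/-- the map from cosets of the stabiliser to points -/
theorem index_St : St.index = 2058 := by
  have hb : Function.Bijective (fun q : He ⧸ St => Quotient.liftOn' q (fun g => phi g 0) (by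
      intro g h hgh
      rw [QuotientGroup.leftRel_apply] at hgh
      have : phi (g⁻¹ * h) 0 = 0 := hgh
      rw [map_mul, map_inv, Equiv.Perm.mul_apply] at this
      have h2 := congrArg (phi g) this
      simpa using h2.symm)) := by
    constructor
    · intro q q'
      induction q using QuotientGroup.induction_on with
      | _ g =>
      induction q' using QuotientGroup.induction_on with
      | _ h =>
      intro e
      have e' : phi g 0 = phi h 0 := e
      rw [QuotientGroup.eq]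
      show phi (g⁻¹ * h) 0 = 0
      rw [map_mul, map_inv, Equiv.Perm.mul_apply, ← e']
      simp
    · intro i
      obtain ⟨g, hg⟩ := exists_map_zero i
      exact ⟨QuotientGroup.mk g, hg⟩
  have := Nat.card_congr (Equiv.ofBijective _ hb)
  rw [Nat.card_eq_fintype_card (α := Fin 2058), Fintype.card_fin] at this
  exact this

theorem K_le_St : K ≤ St := by
  intro k hk
  exact fix_zero ⟨k, hk, rfl⟩

theorem index_K : K.index = 2058 := by
  obtain ⟨hfin, hle⟩ := Cfsg.Agent.SporadicB.HeUpper.card_he_le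
  obtain ⟨hinj, hc, -⟩ := injective_of_card_le hle
  have h1 : Nat.card (K.map phi) ≤ Nat.card K :=
    Nat.card_le_card_of_surjective (fun k : K => (⟨phi k, k, k.2, rfl⟩ : K.map phi))
      (by rintro ⟨_, k, hk, rfl⟩; exact ⟨⟨k, hk⟩, rfl⟩)
  have h2 := card_map_K_ge
  have h3 := Subgroup.card_mul_index K
  rw [hc] at h3
  have h4 : K.index = K.relIndex St * 2058 := by
    rw [← index_St]
    exact (Subgroup.relIndex_mul_index K_le_St).symm
  have h5 : K.index ≠ 0 := Subgroup.index_ne_zero_of_finite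
  have h6 : K.relIndex St ≠ 0 := by rintro h; rw [h] at h4; omega
  have h7 : 2058 ≤ K.index := by
    rw [h4]; exact Nat.le_mul_of_pos_left _ (Nat.pos_of_ne_zero h6)
  nlinarith

theorem K_eq_St : K = St := by
  obtain ⟨hfin, -⟩ := Cfsg.Agent.SporadicB.HeUpper.card_he_le
  have h4 : K.index = K.relIndex St * 2058 := by
    rw [← index_St]
    exact (Subgroup.relIndex_mul_index K_le_St).symm
  rw [index_K] at h4
  have : K.relIndex St = 1 := by omega
  exact le_antisymm K_le_St (Subgroup.relIndex_eq_one.mp this)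

/-- the point belonging to a coset -/
noncomputable def pt (q : He ⧸ K) : Fin 2058 := Quotient.liftOn' q (fun g => phi g 0) (by
      intro g h hgh
      rw [QuotientGroup.leftRel_apply] at hgh
      have : phi (g⁻¹ * h) 0 = 0 := K_le_St hgh
      rw [map_mul, map_inv, Equiv.Perm.mul_apply] at this
      have h2 := congrArg (phi g) this
      simpa using h2.symm)

theorem pt_mk (g : He) : pt (QuotientGroup.mk g) = phi g 0 := rfl

theorem pt_injective : Function.Injective pt := by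
  intro q q'
  induction q using QuotientGroup.induction_on with
  | _ g =>
  induction q' using QuotientGroup.induction_on with
  | _ h =>
  intro e
  have e' : phi g 0 = phi h 0 := e
  rw [QuotientGroup.eq, K_eq_St]
  show phi (g⁻¹ * h) 0 = 0
  rw [map_mul, map_inv, Equiv.Perm.mul_apply, ← e']
  simp

theorem pt_smul (k : K) (q : He ⧸ K) : pt (k • q) = phi (k : He) (pt q) := by
  induction q using QuotientGroup.induction_on with
  | _ g =>
  show pt (QuotientGroup.mk ((k : He) * g)) = _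
  rw [pt_mk, pt_mk, map_mul, Equiv.Perm.mul_apply]

theorem image_orbit (j : ℕ) (hj : j < 5) (q : He ⧸ K) (hq : pt q = root j) :
    pt '' (MulAction.orbit K q) = (sub j : Set (Fin 2058)) := by
  ext i
  constructor
  · rintro ⟨_, ⟨k, rfl⟩, rfl⟩
    show pt (k • q) ∈ (sub j : Set (Fin 2058))
    rw [pt_smul, hq, Finset.mem_coe, mem_sub j hj]
    have h1 : phi (k : He) ∈ K.map phi := ⟨k, k.2, rfl⟩
    rw [map_K] at h1
    rw [lab_closure h1]
    rw [← mem_sub j hj]
    have hr := rootCheck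
    have hm : ∀ (base n : ℕ) (h : treeCheck wordsK Data.kOrd Data.kPar Data.kGen Data.kPos base n = true)
        (r : Fin 2058), 0 < n → look Data.kOrd base = r → r ∈ pts h := by
      intro base n h r hn hr
      unfold pts
      rw [Finset.mem_image]
      refine ⟨⟨0, hn⟩, Finset.mem_univ _, ?_⟩
      apply Fin.ext
      exact hr
    simp only [Bool.and_eq_true] at hr
    obtain ⟨h0, h1, h2, h3, h4⟩ := hr
    interval_cases j
    · exact hm _ _ treeK0 _ (by norm_num) (Nat.eq_of_beq_eq_true h0)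
    · exact hm _ _ treeK1 _ (by norm_num) (Nat.eq_of_beq_eq_true h1)
    · exact hm _ _ treeK2 _ (by norm_num) (Nat.eq_of_beq_eq_true h2)
    · exact hm _ _ treeK3 _ (by norm_num) (Nat.eq_of_beq_eq_true h3)
    · exact hm _ _ treeK4 _ (by norm_num) (Nat.eq_of_beq_eq_true h4)
  · intro hi
    obtain ⟨p, ⟨k, hk, rfl⟩, hp⟩ := reach_sub j hj (K.map phi) (fun w hw => word_mem hw) i hi
    refine ⟨(⟨k, hk⟩ : K) • q, ⟨⟨k, hk⟩, rfl⟩, ?_⟩
    rw [pt_smul, hq]
    exact hp

theorem ncard_orbit (j : ℕ) (hj : j < 5) (q : He ⧸ K) (hq : pt q = root j) :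
    (MulAction.orbit K q).ncard = siz j := by
  rw [← Set.ncard_image_of_injective _ pt_injective, image_orbit j hj q hq, Set.ncard_coe_finset, card_sub]

theorem main : K.index = 2058 ∧ ∃ q₁ q₂ q₃ q₄ : He ⧸ K, MulAction.orbit K q₁ ≠ MulAction.orbit K q₂ ∧
    (MulAction.orbit K q₁).ncard = 136 ∧ (MulAction.orbit K q₂).ncard = 136 ∧
    (MulAction.orbit K q₃).ncard = 425 ∧ (MulAction.orbit K q₄).ncard = 1360 := by
  refine ⟨index_K, ?_⟩
  have hex : ∀ j, ∃ q : He ⧸ K, pt q = root j := by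
    intro j
    obtain ⟨g, hg⟩ := exists_map_zero (root j)
    exact ⟨QuotientGroup.mk g, hg⟩
  obtain ⟨q3, h3⟩ := hex 3
  obtain ⟨q4, h4⟩ := hex 4
  obtain ⟨q2, h2⟩ := hex 2
  obtain ⟨q1, h1⟩ := hex 1
  refine ⟨q3, q4, q2, q1, ?_, ncard_orbit 3 (by norm_num) q3 h3, ncard_orbit 4 (by norm_num) q4 h4,
    ncard_orbit 2 (by norm_num) q2 h2, ncard_orbit 1 (by norm_num) q1 h1⟩
  intro e
  have e1 := congrArg (fun s => pt '' s) e
  change pt '' MulAction.orbit K q3 = pt '' MulAction.orbit K q4 at e1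
  rw [image_orbit 3 (by norm_num) q3 h3, image_orbit 4 (by norm_num) q4 h4] at e1
  have h5 : root 3 ∈ (sub 3 : Set (Fin 2058)) := by
    rw [← image_orbit 3 (by norm_num) q3 h3]
    exact ⟨q3, MulAction.mem_orbit_self q3, h3⟩
  have h6 : root 3 ∈ (sub 4 : Set (Fin 2058)) := e1 ▸ h5
  rw [Finset.mem_coe, mem_sub 3 (by norm_num)] at h5
  rw [Finset.mem_coe, mem_sub 4 (by norm_num), h5] at h6
  omega

end

/-- In the presented Held group, let H be the subgroup generated by the images of a, c, d, e, f, (ab)^2 and (bcde)^7. Then H has index 2058, there are four distinct H-orbits on the cosets of H other than H itself, of sizes 136, 136, 425 and 1360. -/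
theorem result : (((Subgroup.closure ({Cfsg.Spor.He.a, Cfsg.Spor.He.c, Cfsg.Spor.He.d, Cfsg.Spor.He.e, Cfsg.Spor.He.f, (Cfsg.Spor.He.a * Cfsg.Spor.He.b) ^ 2, (Cfsg.Spor.He.b * Cfsg.Spor.He.c * Cfsg.Spor.He.d * Cfsg.Spor.He.e) ^ 7} : Set (FreeGroup Cfsg.Spor.He.Gen))).map (PresentedGroup.mk (Cfsg.Spor.coxRelators Cfsg.Spor.He.edges ∪ {r | r ∈ Cfsg.Spor.He.extra})))).index = 2058 ∧ ∃ q₁ q₂ q₃ q₄ : Cfsg.Spor.He ⧸ (((Subgroup.closure ({Cfsg.Spor.He.a, Cfsg.Spor.He.c, Cfsg.Spor.He.d, Cfsg.Spor.He.e, Cfsg.Spor.He.f, (Cfsg.Spor.He.a * Cfsg.Spor.He.b) ^ 2, (Cfsg.Spor.He.b * Cfsg.Spor.He.c * Cfsg.Spor.He.d * Cfsg.Spor.He.e) ^ 7} : Set (FreeGroup Cfsg.Spor.He.Gen))).map (PresentedGroup.mk (Cfsg.Spor.coxRelators Cfsg.Spor.He.edges ∪ {r | r ∈ Cfsg.Spor.He.extra})))), MulAction.orbit (((Subgroup.closure ({Cfsg.Spor.He.a, Cfsg.Spor.He.c, Cfsg.Spor.He.d, Cfsg.Spor.He.e, Cfsg.Spor.He.f, (Cfsg.Spor.He.a * Cfsg.Spor.He.b) ^ 2, (Cfsg.Spor.He.b * Cfsg.Spor.He.c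 * Cfsg.Spor.He.d * Cfsg.Spor.He.e) ^ 7} : Set (FreeGroup Cfsg.Spor.He.Gen))).map (PresentedGroup.mk (Cfsg.Spor.coxRelators Cfsg.Spor.He.edges ∪ {r | r ∈ Cfsg.Spor.He.extra})))) q₁ ≠ MulAction.orbit (((Subgroup.closure ({Cfsg.Spor.He.a, Cfsg.Spor.He.c, Cfsg.Spor.He.d, Cfsg.Spor.He.e, Cfsg.Spor.He.f, (Cfsg.Spor.He.a * Cfsg.Spor.He.b) ^ 2, (Cfsg.Spor.He.b * Cfsg.Spor.He.c * Cfsg.Spor.He.d * Cfsg.Spor.He.e) ^ 7} : Set (FreeGroup Cfsg.Spor.He.Gen))).map (PresentedGroup.mk (Cfsg.Spor.coxRelators Cfsg.Spor.He.edges ∪ {r | r ∈ Cfsg.Spor.He.extra})))) q₂ ∧ (MulAction.orbit (((Subgroup.closure ({Cfsg.Spor.He.a, Cfsg.Spor.He.c, Cfsg.Spor.He.d, Cfsg.Spor.He.e, Cfsg.Spor.He.f, (Cfsg.Spor.He.a * Cfsg.Spor.He.b) ^ 2, (Cfsg.Spor.He.b * Cfsg.Spor.He.c * Cfsg.Spor.He.d * Cfsg.Spor.He.e) ^ 7} : Set (FreeGroup Cfsg.Spor.He.Gen))).map (PresentedGroup.mk (Cfsg.Spor.coxRelators Cfsg.Spor.He.edges ∪ {r | r ∈ Cfsg.Spor.He.extra})))) q₁).ncard = 136 ∧ (MulAction.orbit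 (((Subgroup.closure ({Cfsg.Spor.He.a, Cfsg.Spor.He.c, Cfsg.Spor.He.d, Cfsg.Spor.He.e, Cfsg.Spor.He.f, (Cfsg.Spor.He.a * Cfsg.Spor.He.b) ^ 2, (Cfsg.Spor.He.b * Cfsg.Spor.He.c * Cfsg.Spor.He.d * Cfsg.Spor.He.e) ^ 7} : Set (FreeGroup Cfsg.Spor.He.Gen))).map (PresentedGroup.mk (Cfsg.Spor.coxRelators Cfsg.Spor.He.edges ∪ {r | r ∈ Cfsg.Spor.He.extra})))) q₂).ncard = 136 ∧ (MulAction.orbit (((Subgroup.closure ({Cfsg.Spor.He.a, Cfsg.Spor.He.c, Cfsg.Spor.He.d, Cfsg.Spor.He.e, Cfsg.Spor.He.f, (Cfsg.Spor.He.a * Cfsg.Spor.He.b) ^ 2, (Cfsg.Spor.He.b * Cfsg.Spor.He.c * Cfsg.Spor.He.d * Cfsg.Spor.He.e) ^ 7} : Set (FreeGroup Cfsg.Spor.He.Gen))).map (PresentedGroup.mk (Cfsg.Spor.coxRelators Cfsg.Spor.He.edges ∪ {r | r ∈ Cfsg.Spor.He.extra})))) q₃).ncard = 425 ∧ (MulAction.orbit (((Subgroup.closure ({Cfsg.Spor.He.a, Cfsg.Spor.He.c, Cfsg.Spor.He.d, Cfsg.Spor.He.e, Cfsg.Spor.He.f, (Cfsg.Spor.He.a * Cfsg.Spor.He.b) ^ 2, (Cfsg.Spor.He.b * Cfsg.Spor.He.c * Cfsg.Spor.He.d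 * Cfsg.Spor.He.e) ^ 7} : Set (FreeGroup Cfsg.Spor.He.Gen))).map (PresentedGroup.mk (Cfsg.Spor.coxRelators Cfsg.Spor.He.edges ∪ {r | r ∈ Cfsg.Spor.He.extra})))) q₄).ncard = 1360 := main

end Cfsg.Agent.S1683
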