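import Cfsg.Statements.S1682
import Cfsg.Agent.S1683
import Cfsg.Agent.S1695
import Cfsg.Agent.SporRec.HeldSp4

set_option autoImplicit false
open Cfsg

namespace Cfsg.Agent.S1682

open Cfsg.Spor Cfsg.Agent.Lib.FieldFour Cfsg.Agent.SporRec.HeldPerm Cfsg.Agent.SporRec.HeldSp4Core
  Cfsg.Agent.SporRec.HeldSp4

/-- The subgroup of the statement. -/
abbrev HH : Subgroup He := ((Subgroup.closure ({Cfsg.Spor.He.a, Cfsg.Spor.He.c, Cfsg.Spor.He.d, Cfsg.Spor.He.e, Cfsg.Spor.He.f, (Cfsg.Spor.He.a * Cfsg.Spor.He.b) ^ 2, (Cfsg.Spor.He.b * Cfsg.Spor.He.c * Cfsg.Spor.He.d * Cfsg.Spor.He.e) ^ 7} : Set (FreeGroup Cfsg.Spor.He.Gen))).map (PresentedGroup.mk (Cfsg.Spor.coxRelators Cfsg.Spor.He.edges ∪ {r | r ∈ Cfsg.Spor.He.extra})))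

theorem card_HH : Nat.card HH = 1958400 := by
  have h1 : HH.index = 2058 := Cfsg.Agent.S1683.result.1
  have h2 : Nat.card He = 4030387200 := Cfsg.Agent.S1695.result.2
  have h3 := Subgroup.card_mul_index HH
  rw [h1, h2] at h3
  exact Nat.eq_of_mul_eq_mul_right (by norm_num : 0 < 2058) (h3.trans (by norm_num))

/-- Elements of the subgroup. -/
def mkH (w : FreeGroup He.Gen) (h : w ∈ Subgroup.closure ({Cfsg.Spor.He.a, Cfsg.Spor.He.c, Cfsg.Spor.He.d, Cfsg.Spor.He.e, Cfsg.Spor.He.f, (Cfsg.Spor.He.a * Cfsg.Spor.He.b) ^ 2, (Cfsg.Spor.He.b * Cfsg.Spor.He.c * Cfsg.Spor.He.d * Cfsg.Spor.He.e) ^ 7} : Set (FreeGroup Cfsg.Spor.He.Gen))) : HH :=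
  ⟨PresentedGroup.mk _ w, Subgroup.mem_map_of_mem _ h⟩

theorem φ_word (w : List He.Gen) :
    φ (PresentedGroup.mk (coxRelators He.edges ∪ {r | r ∈ He.extra}) ((w.map FreeGroup.of).prod)) =
      (w.map gen).prod := by
  induction w with
  | nil => simp
  | cons x w ih =>
    rw [List.map_cons, List.prod_cons, map_mul, map_mul, ih, φ_of, List.map_cons, List.prod_cons]


/-- In the presented Held group, the subgroup H generated by the images of a, c, d, e, f, (ab)^2 and (bcde)^7 has a normal subgroup of index 2 isomorphic to the 4-dimensional symplectic group over a field with four elements. -/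
theorem result : ∃ (N : Subgroup (((Subgroup.closure ({Cfsg.Spor.He.a, Cfsg.Spor.He.c, Cfsg.Spor.He.d, Cfsg.Spor.He.e, Cfsg.Spor.He.f, (Cfsg.Spor.He.a * Cfsg.Spor.He.b) ^ 2, (Cfsg.Spor.He.b * Cfsg.Spor.He.c * Cfsg.Spor.He.d * Cfsg.Spor.He.e) ^ 7} : Set (FreeGroup Cfsg.Spor.He.Gen))).map (PresentedGroup.mk (Cfsg.Spor.coxRelators Cfsg.Spor.He.edges ∪ {r | r ∈ Cfsg.Spor.He.extra}))))) (K : Type) (_ : Field K) (_ : Fintype K), N.Normal ∧ N.index = 2 ∧ Fintype.card K = 4 ∧ Nonempty (N ≃* Matrix.symplecticGroup (Fin 2) K) := by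

  have key : ∃ N : Subgroup HH, N.Normal ∧ N.index = 2 ∧
      Nonempty (N ≃* Matrix.symplecticGroup (Fin 2) F4) := by
    have ha : He.a ∈ Subgroup.closure ({Cfsg.Spor.He.a, Cfsg.Spor.He.c, Cfsg.Spor.He.d, Cfsg.Spor.He.e, Cfsg.Spor.He.f, (Cfsg.Spor.He.a * Cfsg.Spor.He.b) ^ 2, (Cfsg.Spor.He.b * Cfsg.Spor.He.c * Cfsg.Spor.He.d * Cfsg.Spor.He.e) ^ 7} : Set (FreeGroup Cfsg.Spor.He.Gen)) :=
      Subgroup.subset_closure (by simp)
    have hc : He.c ∈ Subgroup.closure ({Cfsg.Spor.He.a, Cfsg.Spor.He.c, Cfsg.Spor.He.d, Cfsg.Spor.He.e, Cfsg.Spor.He.f, (Cfsg.Spor.He.a * Cfsg.Spor.He.b) ^ 2, (Cfsg.Spor.He.b * Cfsg.Spor.He.c * Cfsg.Spor.He.d * Cfsg.Spor.He.e) ^ 7} : Set (FreeGroup Cfsg.Spor.He.Gen)) :=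
      Subgroup.subset_closure (by simp)
    have hd : He.d ∈ Subgroup.closure ({Cfsg.Spor.He.a, Cfsg.Spor.He.c, Cfsg.Spor.He.d, Cfsg.Spor.He.e, Cfsg.Spor.He.f, (Cfsg.Spor.He.a * Cfsg.Spor.He.b) ^ 2, (Cfsg.Spor.He.b * Cfsg.Spor.He.c * Cfsg.Spor.He.d * Cfsg.Spor.He.e) ^ 7} : Set (FreeGroup Cfsg.Spor.He.Gen)) :=
      Subgroup.subset_closure (by simp)
    have hf : He.f ∈ Subgroup.closure ({Cfsg.Spor.He.a, Cfsg.Spor.He.c, Cfsg.Spor.He.d, Cfsg.Spor.He.e, Cfsg.Spor.He.f, (Cfsg.Spor.He.a * Cfsg.Spor.He.b) ^ 2, (Cfsg.Spor.He.b * Cfsg.Spor.He.c * Cfsg.Spor.He.d * Cfsg.Spor.He.e) ^ 7} : Set (FreeGroup Cfsg.Spor.He.Gen)) :=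
      Subgroup.subset_closure (by simp)
    have hu : (He.a * He.b) ^ 2 ∈ Subgroup.closure ({Cfsg.Spor.He.a, Cfsg.Spor.He.c, Cfsg.Spor.He.d, Cfsg.Spor.He.e, Cfsg.Spor.He.f, (Cfsg.Spor.He.a * Cfsg.Spor.He.b) ^ 2, (Cfsg.Spor.He.b * Cfsg.Spor.He.c * Cfsg.Spor.He.d * Cfsg.Spor.He.e) ^ 7} : Set (FreeGroup Cfsg.Spor.He.Gen)) :=
      Subgroup.subset_closure (by simp)
    have hv : (He.b * He.c * He.d * He.e) ^ 7 ∈ Subgroup.closure ({Cfsg.Spor.He.a, Cfsg.Spor.He.c, Cfsg.Spor.He.d, Cfsg.Spor.He.e, Cfsg.Spor.He.f, (Cfsg.Spor.He.a * Cfsg.Spor.He.b) ^ 2, (Cfsg.Spor.He.b * Cfsg.Spor.He.c * Cfsg.Spor.He.d * Cfsg.Spor.He.e) ^ 7} : Set (FreeGroup Cfsg.Spor.He.Gen)) :=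
      Subgroup.subset_closure (by simp)
    have hp : ∀ (w : FreeGroup He.Gen) (h) (l : List He.Gen),
        FreeGroup.lift gen w = (l.map gen).prod →
        φ ((mkH w h : HH) : He) = (l.map gen).prod := by
      intro w h l hl
      rw [← hl]
      rfl
    refine core φ HH lab hlab card_HH w₀ (mkH He.a ha) ?_
      (Fin.cases (mkH He.c hc) (fun i => Fin.cases (mkH He.d hd)
        (fun i => Fin.cases (mkH He.f hf) (fun _ => mkH _ hv) i) i)) mats ?_ ?_ trans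
      (mkH (He.a * (He.a * He.b) ^ 2) (mul_mem ha hu)) ?_
    · intro p
      rw [mat_a_eq, hp _ _ [.a] (by simp), mulVec_eq_mv]
      exact compat lab_a map_a_ok p
    · intro i
      fin_cases i
      · exact mat_c_mem
      · exact mat_d_mem
      · exact mat_f_mem
      · exact mat_v_mem
    · intro i p
      fin_cases i
      · change Par (lab (φ ((mkH He.c hc : HH) : He) p)) (mat_c.mulVec (lab p))
        rw [hp _ _ [.c] (by simp), mulVec_eq_mv]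
        exact compat lab_c map_c_ok p
      · change Par (lab (φ ((mkH He.d hd : HH) : He) p)) (mat_d.mulVec (lab p))
        rw [hp _ _ [.d] (by simp), mulVec_eq_mv]
        exact compat lab_d map_d_ok p
      · change Par (lab (φ ((mkH He.f hf : HH) : He) p)) (mat_f.mulVec (lab p))
        rw [hp _ _ [.f] (by simp), mulVec_eq_mv]
        exact compat lab_f map_f_ok p
      · change Par (lab (φ ((mkH _ hv : HH) : He) p)) (mat_v.mulVec (lab p))
        rw [hp _ _ [.b, .c, .d, .e, .b, .c, .d, .e, .b, .c, .d, .e, .b, .c, .d, .e, .b, .c, .d, .e, .b, .c, .d, .e, .b, .c, .d, .e] (by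
          simp only [map_mul, FreeGroup.lift_apply_of, List.map_cons, List.map_nil,
            List.prod_cons, List.prod_nil, mul_one, pow_succ, pow_zero, one_mul, mul_assoc]), mulVec_eq_mv]
        exact compat lab_v map_v_ok p
    · intro p
      rw [hp _ _ [.b, .a, .b] (by
          simp only [map_mul, FreeGroup.lift_apply_of, List.map_cons, List.map_nil,
            List.prod_cons, List.prod_nil, mul_one, pow_succ, pow_zero, one_mul, mul_assoc]
          rw [← mul_assoc (gen _) (gen _), gen_sq, one_mul])]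
      exact compat lab_u map_u_ok p
  obtain ⟨N, hN1, hN2, hN3⟩ := key
  exact ⟨N, F4, inferInstance, inferInstance, hN1, hN2, F4.card, hN3⟩

end Cfsg.Agent.S1682
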