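import Cfsg.Statements.S0472
-- import your own Cfsg.Agent.* helpers here
import Cfsg.Agent.S1688
import Cfsg.Agent.S1696
import Cfsg.Agent.S1697
import Cfsg.Agent.Fischer.Fi23Class

set_option autoImplicit false
open Cfsg

namespace Cfsg.Agent.S0472

/-- The Fischer group of order 4089470473293004800 exists as a 3-transposition group: a simple group of that order generated by a conjugacy class of 31671 3-transpositions, the centraliser of each being a non-split double cover of a simple group of order 64561751654400. -/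
theorem result : ∃ (G : Type) (_ : Group G) (_ : Finite G), Cfsg.IsFi23 G ∧ ∃ D : Set G, Cfsg.IsThreeTranspositionClass D ∧ Nat.card D = 31671 ∧ ∀ d ∈ D, ∃ (K : Type) (_ : Group K), Cfsg.IsFi22 K ∧ Cfsg.IsNonsplitDoubleCover (Subgroup.centralizer ({d} : Set G)) K := by
  have h23 := Cfsg.Agent.S1697.result
  have hcard : Nat.card Cfsg.Spor.Fi23 = 4089470473293004800 := h23.2
  have hfin : Finite Cfsg.Spor.Fi23 := Nat.finite_of_card_ne_zero (by rw [hcard]; norm_num)
  obtain ⟨R, hR, hR0⟩ := Cfsg.Agent.Fischer.Fi23Class.exists_rank3 hcard.le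
  refine ⟨Cfsg.Spor.Fi23, inferInstance, hfin, h23, Set.range R.t, R.isThreeTranspositionClass, ?_, ?_⟩
  · rw [R.card_range, ← Subgroup.index_eq_card]
    exact Cfsg.Agent.SporRec.Fi23Index.index_H
  · intro d hd
    refine ⟨Cfsg.Spor.Fi22, inferInstance, Cfsg.Agent.S1696.result, ?_⟩
    apply Cfsg.Agent.Fischer.Centralizer.isNonsplitDoubleCover_all R _ d hd
    have hC : Cfsg.Agent.Fischer.Centralizer.C R = Cfsg.Agent.SporRec.Fi23Index.H := by
      ext g
      rw [Cfsg.Agent.Fischer.Centralizer.mem_C_iff, hR0,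
        Cfsg.Agent.Fischer.SuborbitCover.smul_one_coset,
        Cfsg.Agent.Fischer.SuborbitCover.coset_eq_one_iff]
    have h2 := Cfsg.Agent.S1688.result
    have hset : (Subgroup.closure ({Cfsg.Spor.Fi23.a, Cfsg.Spor.Fi23.b, Cfsg.Spor.Fi23.c, Cfsg.Spor.Fi23.d,
        Cfsg.Spor.Fi23.e, Cfsg.Spor.Fi23.f, Cfsg.Spor.Fi23.g, Cfsg.Spor.Fi23.h, Cfsg.Spor.Fi23.i} :
        Set (FreeGroup Cfsg.Spor.Fi23.Gen))).map
        (PresentedGroup.mk (Cfsg.Spor.coxRelators Cfsg.Spor.Fi23.edges ∪ {r | r ∈ Cfsg.Spor.Fi23.extra})) =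
        Cfsg.Agent.Fischer.Centralizer.C R := by
      rw [hC]
      exact Cfsg.Agent.SporRec.Fi23Index.map_closure
    rw [hset] at h2
    exact h2

end Cfsg.Agent.S0472
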