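import Cfsg.Statements.S0474
import Cfsg.Agent.BabyM.Instance
import Cfsg.Agent.BabyM.HNB
import Cfsg.Agent.BabyM.WordsTh
import Cfsg.Agent.BabyM.Fi23B
import Cfsg.Agent.S1697
import Cfsg.Agent.S1700
import Cfsg.Agent.S1701

set_option autoImplicit false
open Cfsg

namespace Cfsg.Agent.S0474

/-- Some simple group of order 4154781481226426191177580544000000 contains simple subgroups of the orders of the Thompson group, the Harada–Norton group and the Fischer group of order 4089470473293004800. -/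
theorem result : ∃ (G : Type) (_ : Group G) (_ : Finite G), Cfsg.IsB G ∧ (∃ K : Subgroup G, Cfsg.IsTh K) ∧ (∃ K : Subgroup G, Cfsg.IsHN K) ∧ (∃ K : Subgroup G, Cfsg.IsFi23 K) := by
  have hfin : Finite Cfsg.Agent.BabyM.Inst.M.G := Cfsg.Agent.BabyM.Instance.all.finite_G
  obtain ⟨K, hK, -⟩ := Cfsg.Agent.BabyM.WordsTh.exists_th Cfsg.Agent.BabyM.Instance.all
    Cfsg.Agent.BabyM.Instance.ok Cfsg.Agent.S1700.result
  exact ⟨Cfsg.Agent.BabyM.Inst.M.G, inferInstance, hfin, Cfsg.Agent.BabyM.Instance.isB, ⟨K, hK⟩,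
    Cfsg.Agent.BabyM.HNB.main Cfsg.Agent.BabyM.Instance.all Cfsg.Agent.BabyM.Instance.ok
      Cfsg.Agent.S1701.result,
    Cfsg.Agent.BabyM.Fi23B.main Cfsg.Agent.BabyM.Instance.all Cfsg.Agent.BabyM.Instance.ok
      Cfsg.Agent.S1697.result⟩

end Cfsg.Agent.S0474
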