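import Cfsg.Statements.S0481

set_option autoImplicit false
open Cfsg

namespace Cfsg.Agent.S0481

/-- Large extraspecial subgroups: let z be an involution of a finite group G whose centraliser C contains a normal 2-subgroup Q with centre of order 2 and all squares central, such that every element of G centralising Q lies in Q. Then C contains a Sylow 2-subgroup of G, and any involution of G whose centraliser contains a Sylow 2-subgroup of G is conjugate to z. -/
theorem result {G : Type*} [Group G] [Finite G] (z : G) (hz : orderOf z = 2) (Q : Subgroup G) (hQC : Q ≤ Subgroup.centralizer ({z} : Set G)) (hQn : ∀ g ∈ Subgroup.centralizer ({z} : Set G), ∀ q ∈ Q, g * q * g⁻¹ ∈ Q) (hQ2 : IsPGroup 2 Q) (hZ : Nat.card (Subgroup.center Q) = 2) (hsq : ∀ x : Q, x ^ 2 ∈ Subgroup.center Q) (hlarge : Subgroup.centralizer (Q : Set G) ≤ Q) : (∃ P : Sylow 2 G, (P : Subgroup G) ≤ Subgroup.centralizer ({z} : Set G)) ∧ ∀ u : G, orderOf u = 2 → (∃ P : Sylow 2 G, (P : Subgroup G) ≤ Subgroup.centralizer ({u} : Set G)) → IsConj z u := by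
  have h2 : Fact (Nat.Prime 2) := ⟨Nat.prime_two⟩
  -- z is in Q
  have hz1 : z ≠ 1 := by
    intro h
    rw [h, orderOf_one] at hz
    omega
  have hzc : z ∈ Subgroup.centralizer (Q : Set G) := by
    rw [Subgroup.mem_centralizer_iff]
    intro q hq
    have := hQC hq
    rw [Subgroup.mem_centralizer_iff] at this
    exact (this z rfl).symm
  have hzQ : z ∈ Q := hlarge hzc
  -- every element centralizing Q is 1 or z
  have key : ∀ x ∈ Subgroup.centralizer (Q : Set G), x = 1 ∨ x = z := by
    intro x hx
    have hxQ : x ∈ Q := hlarge hx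
    have hcen : ∀ y (hy : y ∈ Q), y ∈ Subgroup.centralizer (Q : Set G) →
        (⟨y, hy⟩ : Q) ∈ Subgroup.center Q := by
      intro y hy hyc
      rw [Subgroup.mem_center_iff]
      intro g
      rw [Subgroup.mem_centralizer_iff] at hyc
      exact Subtype.ext (hyc g g.2)
    have hxZ := hcen x hxQ hx
    have hzZ := hcen z hzQ hzc
    have hcard := (Nat.card_eq_two_iff' (1 : Subgroup.center Q)).1 hZ
    obtain ⟨w, hw, hwu⟩ := hcard
    by_cases hx1 : x = 1
    · exact Or.inl hx1
    · right
      have e1 := hwu ⟨⟨x, hxQ⟩, hxZ⟩ (by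
        intro h
        apply hx1
        have := congrArg (fun t : Subgroup.center Q => ((t : Q) : G)) h
        simpa using this)
      have e2 := hwu ⟨⟨z, hzQ⟩, hzZ⟩ (by
        intro h
        apply hz1
        have := congrArg (fun t : Subgroup.center Q => ((t : Q) : G)) h
        simpa using this)
      have := congrArg (fun t : Subgroup.center Q => ((t : Q) : G)) (e1.trans e2.symm)
      simpa using this
  -- a Sylow 2-subgroup containing Q
  obtain ⟨S, hS⟩ := hQ2.exists_le_sylow
  -- centralizer of S is in {1,z}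
  have hcS : ∀ x : G, (∀ s ∈ S, s * x = x * s) → x = 1 ∨ x = z := by
    intro x hx
    apply key
    rw [Subgroup.mem_centralizer_iff]
    intro q hq
    exact hx q (hS hq)
  have hSz : (S : Subgroup G) ≤ Subgroup.centralizer ({z} : Set G) := by
    have hnt : Nontrivial (S : Subgroup G) := ⟨⟨⟨z, hS hzQ⟩, 1, fun h => hz1 (by
      simpa using congrArg (fun t : (S : Subgroup G) => (t : G)) h)⟩⟩
    have hcn := S.isPGroup'.center_nontrivial
    obtain ⟨⟨c, hc⟩, hc1⟩ := exists_ne (1 : Subgroup.center (S : Subgroup G))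
    have hcc : ∀ s ∈ S, s * (c : G) = (c : G) * s := by
      intro s hs
      have := Subgroup.mem_center_iff.1 hc ⟨s, hs⟩
      exact congrArg Subtype.val this
    have hcz : (c : G) = z := by
      rcases hcS c hcc with h | h
      · exfalso
        apply hc1
        apply Subtype.ext
        apply Subtype.ext
        simpa using h
      · exact h
    intro s hs
    rw [Subgroup.mem_centralizer_iff]
    intro y hy
    rw [Set.mem_singleton_iff] at hy
    rw [hy, ← hcz]
    exact (hcc s hs).symm
  refine ⟨⟨S, hSz⟩, ?_⟩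
  rintro u hu ⟨P, hP⟩
  obtain ⟨g, hg⟩ := MulAction.exists_smul_eq G P S
  have hu1 : u ≠ 1 := by
    intro h
    rw [h, orderOf_one] at hu
    omega
  have hcu : ∀ s ∈ S, s * (g * u * g⁻¹) = (g * u * g⁻¹) * s := by
    intro s hs
    rw [← hg] at hs
    have hs' : s ∈ ((g • P : Sylow 2 G) : Subgroup G) := hs
    rw [Sylow.coe_subgroup_smul] at hs'
    obtain ⟨p, hp, hps⟩ := hs'
    have hpu := hP hp
    rw [Subgroup.mem_centralizer_iff] at hpu
    have h1 : u * p = p * u := hpu u rfl
    have hps' : s = g * p * g⁻¹ := by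
      rw [← hps]; simp [MulAut.conj_apply]
    rw [hps']
    calc g * p * g⁻¹ * (g * u * g⁻¹) = g * (p * u) * g⁻¹ := by group
      _ = g * (u * p) * g⁻¹ := by rw [h1]
      _ = g * u * g⁻¹ * (g * p * g⁻¹) := by group
  rcases hcS _ hcu with h | h
  · exfalso
    apply hu1
    have : u = g⁻¹ * (g * u * g⁻¹) * g := by group
    rw [this, h]; group
  · apply IsConj.symm
    rw [isConj_iff]
    exact ⟨g, h⟩

end Cfsg.Agent.S0481
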