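-- S0489: two-generator solvability theorem
import Cfsg.Statements.S0489
import Cfsg.Agent.Classification.FlavellA
import Cfsg.Agent.Classification.FlavellRed
import Cfsg.Agent.Classification.FlavellB
import Cfsg.Agent.Classification.FlavellU

set_option autoImplicit false
open Cfsg

namespace Cfsg.Agent.S0489

/-- A finite group in which every two elements generate a solvable subgroup is solvable. -/
theorem result {G : Type*} [Group G] [Finite G]
    (h : ∀ a b : G, Group.IsSolvable (Subgroup.closure ({a, b} : Set G))) : Group.IsSolvable G := by
  refine Cfsg.Agent.Classification.FlavellRed.solvable_of_no_minimal ?_ G h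
  intro G _ _ _ hsol hgen hns p _ hp5 hpd
  obtain ⟨hcyc, hcent⟩ := Cfsg.Agent.Classification.FlavellB.cyclic_and_centralizer hsol hgen p hp5 hpd
    (Cfsg.Agent.Classification.FlavellA.lemmaA hsol hgen p)
  obtain ⟨z, hz⟩ := exists_prime_orderOf_dvd_card' p hpd
  exact Cfsg.Agent.Classification.FlavellU.frobenius_contradiction hsol hgen p hns hcyc z hz
    (hcent z hz)

end Cfsg.Agent.S0489
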