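import Cfsg.Statements.S0496
import Cfsg.Agent.Classification.SmallOrders.Sieve
import Cfsg.Agent.Classification.SmallOrders.N420
import Cfsg.Agent.Classification.SmallOrders.N480
import Cfsg.Agent.Classification.SmallOrders.N612
import Cfsg.Agent.Classification.SmallOrders.N720
import Cfsg.Agent.Classification.SmallOrders.N756
import Cfsg.Agent.Classification.SmallOrders.N840
import Cfsg.Agent.Classification.SmallOrders.N1008
import Cfsg.Agent.Classification.SmallOrders.N1040
import Cfsg.Agent.Classification.SmallOrders.N1080

set_option autoImplicit false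
open Cfsg

namespace Cfsg.Agent.S0496

open Cfsg.Agent.Classification.SmallOrders

/-- A non-abelian finite simple group of order at most 1092 has order 60, 168, 360, 504, 660 or 1092. -/
theorem result {G : Type*} [Group G] [Finite G] [IsSimpleGroup G]
    (hG : ¬ IsMulCommutative G) (h : Nat.card G ≤ 1092) :
    Nat.card G = 60 ∨ Nat.card G = 168 ∨ Nat.card G = 360 ∨ Nat.card G = 504 ∨ Nat.card G = 660 ∨
      Nat.card G = 1092 := by
  have h1 := Sieve.card_mem_exceptions hG h
  simp only [Sieve.exceptions, List.mem_cons, List.not_mem_nil, or_false] at h1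
  have e420 := N420.card_ne_420 hG
  have e480 := N480.card_ne_480 hG
  have e612 := N612.card_ne_612 hG
  have e720 := N720.card_ne_720 hG
  have e756 := N756.card_ne_756 hG
  have e840 := N840.card_ne_840 hG
  have e960 := N480.card_ne_960 hG
  have e1008 := N1008.card_ne_1008 hG
  have e1040 := N1040.card_ne_1040 hG
  have e1080 := N1080.card_ne_1080 hG
  omega

end Cfsg.Agent.S0496
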