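import Cfsg.Statements.S0503
import Cfsg.Agent.Classification.NonConnEnd
import Cfsg.Agent.J2Sylow.MainGW
import Cfsg.Agent.S0483

set_option autoImplicit false
open Cfsg

namespace Cfsg.Agent.S0503

/-- A finite simple group containing an elementary abelian subgroup of order 8 whose Sylow 2-subgroups have a
disconnected commuting graph of Klein four-subgroups is simple of order 604800 or 50232960. -/
theorem result {G : Type*} [Group G] [Finite G] [IsSimpleGroup G]
    (h3 : ¬ Cfsg.PRankLE 2 2 G) (S : Sylow 2 G) (hS : ¬ Cfsg.IsFourConnected (S : Subgroup G)) :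
    Cfsg.IsJ2 G ∨ Cfsg.IsJ3 G := by
  exact Cfsg.Agent.Classification.NonConnEnd.result_of
    (fun h => Cfsg.Agent.J2Sylow.MainGW.main
      (fun _X _ _ _ S n hn hS => Cfsg.Agent.S0483.result S n hn hS) h) h3 S hS

end Cfsg.Agent.S0503
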