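import Cfsg.Statements.S0513
import Cfsg.Agent.SylowU5.Final
import Cfsg.Agent.SylowU5.CentY
import Cfsg.Agent.SylowU5.CentE
import Cfsg.Agent.SylowU5.MainFus
import Cfsg.Agent.SylowU5.CaseA
import Cfsg.Agent.SylowU5.Geometry

set_option autoImplicit false
open Cfsg

namespace Cfsg.Agent.S0513

open Cfsg.Agent.SylowU5 Cfsg.Agent.SylowU5.Basic Cfsg.Agent.SylowU5.Fus

/-- A finite simple group whose Sylow 2-subgroups are isomorphic to a Sylow 2-subgroup of the projective special
unitary group of dimension 5 over the field with 4 elements (q = 2) is isomorphic to that unitary group. -/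
theorem result {G : Type*} [Group G] [Finite G] [IsSimpleGroup G]
    {F : Type*} [Field F] [Fintype F] (hF : Fintype.card F = 4) (S : Sylow 2 G) (P : Sylow 2 (Cfsg.PSU 5 F 2))
    (hS : Nonempty ((S : Subgroup G) ≃* (P : Subgroup (Cfsg.PSU 5 F 2)))) :
    Nonempty (G ≃* Cfsg.PSU 5 F 2) := by
  obtain ⟨h, hcy⟩ := CentY.exists_U5T (S : Subgroup G) hF P hS
  have hFus : U5Fus S h := MainFus.u5Fus_of h Final.oddOrder Final.formSolv hcy
    (CentE.isSolvable_centralizer_E h Final.oddOrder)
    (fun u g hu huu huE hg => CaseA.u_fus_of h hu huu huE hg)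
  exact Final.final hFus (Geometry.comm_or_three hFus
    (fun x hx hxt => CharTwoT.hDt hFus Final.zstar Final.oddOrder x hx hxt)
    (fun c hc q hq => CharTwo.hQn hFus Final.zstar Final.oddOrder c hc q hq)) hF

end Cfsg.Agent.S0513
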