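import Mathlib
import Cfsg.Statements.S0521
import Cfsg.Agent.Lib.Cores
import Cfsg.Agent.Lib.HallHigman
import Cfsg.Agent.S0044
import Cfsg.Agent.Classification.Transvection

set_option autoImplicit false
open Cfsg

namespace Cfsg.Agent.S0521

open scoped IsMulCommutative

/-- If `x` is a `p`-element of a group of odd order whose commutators with the normal elementary abelian subgroup `A` lie
in a cyclic group, then `(x⁻¹ x^h)^p` centralizes `A`. -/
theorem step {p : ℕ} [hp : Fact p.Prime] (hp2 : p ≠ 2) {X : Type*} [Group X] [Finite X]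
    (hX : Odd (Nat.card X)) (A : Subgroup X) [hAn : A.Normal]
    (hAc : ∀ a ∈ A, ∀ b ∈ A, a * b = b * a) (hAp : ∀ a ∈ A, a ^ p = 1)
    (C : Subgroup X) (hC : IsCyclic C) (x h : X) (m : ℕ) (hx : x ^ (p ^ m) = 1)
    (hxC : ∀ a ∈ A, x * a * x⁻¹ * a⁻¹ ∈ C) :
    ∀ a ∈ A, (x⁻¹ * (h * x * h⁻¹)) ^ p * a = a * (x⁻¹ * (h * x * h⁻¹)) ^ p := by
  have hcomm : IsMulCommutative A :=
    ⟨⟨fun a b => Subtype.ext (hAc a a.2 b b.2)⟩⟩
  let ρ : X →* AddMonoid.End (Additive A) :=
    { toFun := fun y => (MulAut.conjNormal y : A ≃* A).toMonoidHom.toAdditive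
      map_one' := by
        refine AddMonoidHom.ext fun w => ?_
        apply Additive.toMul.injective
        change (MulAut.conjNormal (1 : X) : A ≃* A) w.toMul = w.toMul
        rw [map_one]
        rfl
      map_mul' := by
        intro y z
        refine AddMonoidHom.ext fun w => ?_
        apply Additive.toMul.injective
        change (MulAut.conjNormal (y * z) : A ≃* A) w.toMul =
          MulAut.conjNormal y (MulAut.conjNormal z w.toMul)
        rw [map_mul]
        rfl }
  have hρ : ∀ (y : X) (a : A), ((ρ y (Additive.ofMul a)).toMul : X) = y * a * y⁻¹ := fun y a => by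
    exact MulAut.conjNormal_apply y a
  have hVp : ∀ v : Additive A, p • v = 0 := by
    intro v
    apply Additive.toMul.injective
    apply Subtype.ext
    exact hAp _ v.toMul.2
  -- a generator of `C ⊓ A`
  have hCA : IsCyclic (C ⊓ A : Subgroup X) := Subgroup.isCyclic_of_le inf_le_left
  obtain ⟨g, hg⟩ := hCA.exists_generator
  have hgA : (g : X) ∈ A := (Subgroup.mem_inf.mp g.2).2
  have hgen : ∀ y ∈ A, y ∈ C → ∃ c : ℤ, (g : X) ^ c = y := by
    intro y hyA hyC
    obtain ⟨c, hc⟩ := Subgroup.mem_zpowers_iff.mp (hg ⟨y, Subgroup.mem_inf.mpr ⟨hyC, hyA⟩⟩)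
    exact ⟨c, by simpa using congrArg Subtype.val hc⟩
  have hmemA : ∀ (y : X) (a : X), a ∈ A → y * a * y⁻¹ * a⁻¹ ∈ A := fun y a ha =>
    A.mul_mem (hAn.conj_mem a ha y) (A.inv_mem ha)
  have key := Cfsg.Agent.Classification.Transvection.quotient_pow hX ρ hp.out hp2 hVp x (h * x * h⁻¹)
    (Additive.ofMul (⟨g, hgA⟩ : A))
    (Additive.ofMul (⟨h * g * h⁻¹, hAn.conj_mem _ hgA h⟩ : A)) m hx
    (by rw [conj_pow, hx]; group)
    (by
      intro w
      obtain ⟨c, hc⟩ := hgen _ (hmemA x w.toMul w.toMul.2) (hxC w.toMul w.toMul.2)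
      refine ⟨c, ?_⟩
      apply Additive.toMul.injective
      apply Subtype.ext
      change (MulAut.conjNormal x w.toMul : X) = (w.toMul : X) * (g : X) ^ c
      rw [hc, MulAut.conjNormal_apply, hAc _ w.toMul.2 _ (hmemA x w.toMul w.toMul.2)]
      group)
    (by
      intro w
      have hw' : h⁻¹ * (w.toMul : X) * h ∈ A := by
        have := hAn.conj_mem w.toMul w.toMul.2 h⁻¹
        rwa [inv_inv] at this
      obtain ⟨c, hc⟩ := hgen _ (hmemA x _ hw') (hxC _ hw')
      refine ⟨c, ?_⟩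
      apply Additive.toMul.injective
      apply Subtype.ext
      change (MulAut.conjNormal (h * x * h⁻¹) w.toMul : X) =
        (w.toMul : X) * (h * (g : X) * h⁻¹) ^ c
      have h1 : (h * (g : X) * h⁻¹) ^ c = h * (g : X) ^ c * h⁻¹ := by
        exact conj_zpow
      have h2 : h * (g : X) ^ c * h⁻¹ ∈ A := by
        rw [← h1]
        exact A.zpow_mem (hAn.conj_mem _ hgA h) c
      rw [h1, hAc _ w.toMul.2 _ h2, hc, MulAut.conjNormal_apply]
      group)
  intro a ha
  have h3 := hρ ((x⁻¹ * (h * x * h⁻¹)) ^ p) ⟨a, ha⟩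
  rw [key] at h3
  have h4 : a = (x⁻¹ * (h * x * h⁻¹)) ^ p * a * ((x⁻¹ * (h * x * h⁻¹)) ^ p)⁻¹ := h3
  exact (eq_mul_inv_iff_mul_eq.mp h4).symm

/-- the elements of order dividing `p` of the centre of `R` -/
def om {X : Type*} [Group X] (p : ℕ) (R : Subgroup X) : Subgroup X where
  carrier := {a | a ∈ R ∧ (∀ r ∈ R, r * a = a * r) ∧ a ^ p = 1}
  one_mem' := ⟨R.one_mem, by simp, by simp⟩
  mul_mem' := by
    rintro a b ⟨ha, ha1, ha2⟩ ⟨hb, hb1, hb2⟩
    refine ⟨R.mul_mem ha hb, ?_, ?_⟩
    · intro r hr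
      rw [← mul_assoc, ha1 r hr, mul_assoc, hb1 r hr, mul_assoc]
    · have : Commute a b := hb1 a ha
      rw [this.mul_pow, ha2, hb2, one_mul]
  inv_mem' := by
    rintro a ⟨ha, ha1, ha2⟩
    refine ⟨R.inv_mem ha, ?_, ?_⟩
    · intro r hr
      have : Commute r a := ha1 r hr
      exact this.inv_right
    · rw [inv_pow, ha2, inv_one]

theorem mem_om {X : Type*} [Group X] {p : ℕ} {R : Subgroup X} {a : X} :
    a ∈ om p R ↔ a ∈ R ∧ (∀ r ∈ R, r * a = a * r) ∧ a ^ p = 1 := Iff.rfl

theorem om_normal {X : Type*} [Group X] {p : ℕ} {R : Subgroup X} (hR : R.Normal) :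
    (om p R).Normal := by
  constructor
  rintro a ⟨ha, ha1, ha2⟩ g
  refine ⟨hR.conj_mem a ha g, ?_, ?_⟩
  · intro r hr
    have h1 := ha1 (g⁻¹ * r * g) (by simpa using hR.conj_mem r hr g⁻¹)
    have h2 : g * ((g⁻¹ * r * g) * a) * g⁻¹ = g * (a * (g⁻¹ * r * g)) * g⁻¹ := by rw [h1]
    simpa [mul_assoc] using h2
  · rw [conj_pow, ha2]; group

theorem om_ne_bot {X : Type*} [Group X] [Finite X] {p : ℕ} [Fact p.Prime] {R : Subgroup X}
    (hR : IsPGroup p R) (hne : R ≠ ⊥) : om p R ≠ ⊥ := by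
  have : Nontrivial R := (Subgroup.nontrivial_iff_ne_bot R).mpr hne
  have hc : Nontrivial (Subgroup.center R) := hR.center_nontrivial
  have hcp : IsPGroup p (Subgroup.center R) := hR.to_subgroup _
  obtain ⟨z, hz⟩ := exists_prime_orderOf_dvd_card' (G := Subgroup.center R) p
    (hcp.nontrivial_iff_card.mp hc |>.elim fun n hn => hn.2 ▸ dvd_pow_self p hn.1.ne')
  intro hbot
  have h1 : ((z : R) : X) ∈ om p R := by
    refine ⟨(z : R).2, ?_, ?_⟩
    · intro r hr
      have := Subgroup.mem_center_iff.mp z.2 ⟨r, hr⟩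
      exact congrArg Subtype.val this
    · have h3 : z ^ p = 1 := by rw [← hz]; exact pow_orderOf_eq_one z
      have h4 := congrArg (fun y : Subgroup.center R => ((y : R) : X)) h3
      simpa using h4
  rw [hbot, Subgroup.mem_bot] at h1
  have h2 : z = 1 := by
    apply Subtype.ext
    apply Subtype.ext
    exact h1
  rw [h2, orderOf_one] at hz
  exact (Fact.out : p.Prime).one_lt.ne hz

theorem conj_pow_of_comm {X : Type*} [Group X] {g a z : X} (h1 : g * a * g⁻¹ = z * a)
    (h2 : g * z = z * g) (j : ℕ) : g ^ j * a * (g ^ j)⁻¹ = z ^ j * a := by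
  induction j with
  | zero => simp
  | succ j ih =>
    have h3 : g ^ (j + 1) * a * (g ^ (j + 1))⁻¹ = g * (g ^ j * a * (g ^ j)⁻¹) * g⁻¹ := by
      rw [pow_succ']
      group
    have h4 : g * z ^ j = z ^ j * g := (Commute.pow_right h2 j)
    rw [h3, ih, ← mul_assoc, h4, mul_assoc, mul_assoc, ← mul_assoc g a g⁻¹, h1, pow_succ]
    group

universe u

theorem exists_pow_centralize {p : ℕ} [hp : Fact p.Prime] (hp2 : p ≠ 2) (n : ℕ) :
    ∀ (X : Type u) [Group X] [Finite X] (_ : Odd (Nat.card X)) (R : Subgroup X) (_ : R.Normal)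
      (_ : IsPGroup p R) (_ : Nat.card R ≤ n) (C : Subgroup X) (_ : IsCyclic C) (x h : X) (m : ℕ)
      (_ : x ^ (p ^ m) = 1) (_ : ∀ a ∈ R, x * a * x⁻¹ * a⁻¹ ∈ C),
      ∃ k : ℕ, ∀ a ∈ R, (x⁻¹ * (h * x * h⁻¹)) ^ (p ^ k) * a =
        a * (x⁻¹ * (h * x * h⁻¹)) ^ (p ^ k) := by
  induction n with
  | zero =>
    intro X _ _ _ R _ _ hn
    exact absurd hn (by have := Nat.card_pos (α := R); omega)
  | succ n ih =>
    intro X _ _ hX R hRn hR hn C hC x h m hx hxC
    by_cases hbot : R = ⊥
    · refine ⟨0, ?_⟩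
      intro a ha
      rw [hbot, Subgroup.mem_bot] at ha
      rw [ha, mul_one, one_mul]
    set A := om p R with hAdef
    have hAn : A.Normal := om_normal hRn
    have hAbot : A ≠ ⊥ := om_ne_bot hR hbot
    have hAR : A ≤ R := fun a ha => ha.1
    set k := x⁻¹ * (h * x * h⁻¹) with hk
    -- the quotient
    have hodd : Odd (Nat.card (X ⧸ A)) := by
      have h1 : Nat.card (X ⧸ A) ∣ Nat.card X := Subgroup.card_quotient_dvd_card A
      exact Odd.of_dvd_nat hX h1
    have hcard : Nat.card (R.map (QuotientGroup.mk' A)) ≤ n := by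
      have h1 : Nat.card (R.map (QuotientGroup.mk' A)) < Nat.card R := by
        have h2 : Nat.card A * Nat.card (R.map (QuotientGroup.mk' A)) = Nat.card R := by
          have h3 := Subgroup.card_mul_index (A.subgroupOf R)
          rw [Nat.card_congr (Subgroup.subgroupOfEquivOfLe hAR).toEquiv] at h3
          rw [← h3]
          congr 1
          have h5 : (QuotientGroup.mk' A).ker = A := QuotientGroup.ker_mk' A
          have h6 := Subgroup.relIndex_ker (f := QuotientGroup.mk' A) R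
          rw [h5] at h6
          exact h6.symm
        have h3 : 1 < Nat.card A := by
          rw [Subgroup.one_lt_card_iff_ne_bot]
          exact hAbot
        have h4 : 0 < Nat.card (R.map (QuotientGroup.mk' A)) := Nat.card_pos
        nlinarith
      omega
    have hxq : (QuotientGroup.mk' A x) ^ (p ^ m) = 1 := by rw [← map_pow, hx, map_one]
    have hCq : IsCyclic (C.map (QuotientGroup.mk' A)) := by
      have := hC
      exact isCyclic_of_surjective _ ((QuotientGroup.mk' A).subgroupMap_surjective C)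
    obtain ⟨e, he⟩ := ih (X ⧸ A) hodd (R.map (QuotientGroup.mk' A))
      (hRn.map _ (QuotientGroup.mk'_surjective A)) (hR.map _) hcard
      (C.map (QuotientGroup.mk' A)) hCq (QuotientGroup.mk' A x) (QuotientGroup.mk' A h) m hxq
      (by
        rintro _ ⟨a, ha, rfl⟩
        rw [← map_inv, ← map_inv, ← map_mul, ← map_mul, ← map_mul]
        exact ⟨_, hxC a ha, rfl⟩)
    have hkq : (QuotientGroup.mk' A x)⁻¹ * (QuotientGroup.mk' A h * QuotientGroup.mk' A x *
        (QuotientGroup.mk' A h)⁻¹) = QuotientGroup.mk' A k := by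
      rw [hk]; simp
    rw [hkq] at he
    have hA := step hp2 hX A (fun a ha b hb => hb.2.1 a ha.1) (fun a ha => ha.2.2) C hC x h m hx
      (fun a ha => hxC a (hAR ha))
    rw [← hk] at hA
    refine ⟨e + 2, ?_⟩
    intro a ha
    set g := k ^ (p ^ (e + 1)) with hg
    -- `g` centralizes `A`
    have hgA : ∀ z ∈ A, g * z = z * g := by
      intro z hz
      have h1 : Commute (k ^ p) z := hA z hz
      have h2 : g = (k ^ p) ^ (p ^ e) := by
        rw [hg, ← pow_mul, pow_succ, mul_comm]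
      rw [h2]
      exact h1.pow_left _
    -- `g a g⁻¹ a⁻¹ ∈ A`
    have hz : g * a * g⁻¹ * a⁻¹ ∈ A := by
      rw [← QuotientGroup.ker_mk' A, MonoidHom.mem_ker]
      have h1 : Commute (QuotientGroup.mk' A k ^ (p ^ e)) (QuotientGroup.mk' A a) :=
        he _ ⟨a, ha, rfl⟩
      have h2 : QuotientGroup.mk' A g = ((QuotientGroup.mk' A k) ^ (p ^ e)) ^ p := by
        rw [hg, map_pow, ← pow_mul, pow_succ]
      have h3 : Commute (QuotientGroup.mk' A g) (QuotientGroup.mk' A a) := by
        rw [h2]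
        exact h1.pow_left _
      rw [map_mul, map_mul, map_mul, map_inv, map_inv, h3.eq]
      group
    have h1 : g * a * g⁻¹ = (g * a * g⁻¹ * a⁻¹) * a := by group
    have h2 := conj_pow_of_comm h1 (hgA _ hz) p
    have h3 : (g * a * g⁻¹ * a⁻¹) ^ p = 1 := hz.2.2
    rw [h3, one_mul] at h2
    have h4 : k ^ (p ^ (e + 2)) = g ^ p := by
      rw [hg, ← pow_mul, pow_succ p (e + 1)]
    rw [h4]
    exact mul_inv_eq_iff_eq_mul.mp h2


/-- In a solvable group of odd order with `O_{p'} = 1`, a Sylow `p`-subgroup with cyclic derived subgroup is `O_p`. -/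
theorem sylow_le_pCore {X : Type u} [Group X] [Finite X] [Group.IsSolvable X]
    (hX : Odd (Nat.card X)) (p : ℕ) [hp : Fact p.Prime] (h1 : Cfsg.pPrimeCore p X = ⊥)
    (S : Sylow p X) (hS : IsCyclic (commutator (S : Subgroup X))) :
    (S : Subgroup X) ≤ Cfsg.pCore p X := by
  by_cases hp2 : p = 2
  · -- `S` is trivial
    subst hp2
    have hcard : Nat.card (S : Subgroup X) = 1 := by
      obtain ⟨n, hn⟩ := IsPGroup.iff_card.mp S.2
      have hdvd : Nat.card (S : Subgroup X) ∣ Nat.card X := Subgroup.card_subgroup_dvd_card _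
      have hodd : Odd (Nat.card (S : Subgroup X)) := Odd.of_dvd_nat hX hdvd
      rcases Nat.eq_zero_or_pos n with h | h
      · rw [hn, h, pow_zero]
      · exfalso
        rw [hn] at hodd
        have : Even (2 ^ n) := (Nat.even_pow.mpr ⟨even_two, h.ne'⟩)
        exact (Nat.not_even_iff_odd.mpr hodd) this
    have : (S : Subgroup X) = ⊥ := Subgroup.card_eq_one.mp hcard
    rw [this]
    exact bot_le
  set P := Cfsg.pCore p X with hP
  have hPn : P.Normal := Cfsg.Agent.Lib.Cores.pCore_normal p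
  have hPp : IsPGroup p P := Cfsg.Agent.Lib.Cores.pCore_isPGroup p
  have hPS : P ≤ (S : Subgroup X) := Cfsg.Agent.Lib.Cores.pCore_le_sylow S
  have hCP : Subgroup.centralizer (P : Set X) ≤ P :=
    Cfsg.Agent.Lib.HallHigman.centralizer_pCore_le_of_solvable p h1
  -- the derived subgroup of `S` as a subgroup of `X`
  set C : Subgroup X := (commutator (S : Subgroup X)).map (S : Subgroup X).subtype with hCdef
  have hC : IsCyclic C :=
    isCyclic_of_surjective _
      ((S : Subgroup X).subtype.subgroupMap_surjective (commutator (S : Subgroup X)))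
  have hcommC : ∀ x ∈ (S : Subgroup X), ∀ a ∈ P, x * a * x⁻¹ * a⁻¹ ∈ C := by
    intro x hx a ha
    refine ⟨(⟨x, hx⟩ : (S : Subgroup X)) * ⟨a, hPS ha⟩ * (⟨x, hx⟩ : (S : Subgroup X))⁻¹ *
      (⟨a, hPS ha⟩ : (S : Subgroup X))⁻¹, ?_, ?_⟩
    · exact Subgroup.commutator_mem_commutator (Subgroup.mem_top _) (Subgroup.mem_top _)
    · simp
  -- the quotient by `P`
  let H := X ⧸ P
  have hHp : Cfsg.pCore p H = ⊥ := Cfsg.Agent.Lib.Cores.pCore_quotient_pCore p
  set Q := Cfsg.pPrimeCore p H with hQ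
  have hQn : Q.Normal := Cfsg.Agent.Lib.Cores.pPrimeCore_normal p
  have hQc : (Nat.card Q).Coprime p := Cfsg.Agent.Lib.Cores.pPrimeCore_coprime p
  have hFQ : Cfsg.fittingSubgroup H ≤ Q := by
    rw [Cfsg.Agent.Lib.Cores.fittingSubgroup_eq_iSup_pCore]
    refine iSup_le ?_
    intro q
    by_cases hq : (q : ℕ) = p
    · rw [hq, hHp]; exact bot_le
    · have hqf : Fact (q : ℕ).Prime := ⟨q.2⟩
      apply Cfsg.Agent.Lib.Cores.le_pPrimeCore (Cfsg.Agent.Lib.Cores.pCore_normal _)
      obtain ⟨n, hn⟩ := IsPGroup.iff_card.mp (Cfsg.Agent.Lib.Cores.pCore_isPGroup (G := H) (q : ℕ))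
      rw [hn]
      exact Nat.Coprime.pow_left n ((Nat.coprime_primes q.2 hp.out).mpr hq)
  have hCQ : Subgroup.centralizer (Q : Set H) ≤ Q := by
    have hsol : Group.IsSolvable H := inferInstance
    exact (Subgroup.centralizer_le (fun x hx => hFQ hx)).trans
      ((Cfsg.Agent.S0044.centralizer_fitting_le H
        (Cfsg.Agent.S0044.fittingSubgroup_normal H)).trans hFQ)
  intro x hx
  obtain ⟨m, hm⟩ : ∃ m, x ^ (p ^ m) = 1 := by
    obtain ⟨m, hm⟩ := S.2 ⟨x, hx⟩
    exact ⟨m, by simpa using congrArg Subtype.val hm⟩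
  -- `x` centralizes `Q`
  have hxQ : (QuotientGroup.mk' P x) ∈ Subgroup.centralizer (Q : Set H) := by
    rw [Subgroup.mem_centralizer_iff]
    intro y hy
    obtain ⟨h, rfl⟩ := QuotientGroup.mk'_surjective P y
    obtain ⟨k, hk⟩ := exists_pow_centralize hp2 (Nat.card P) X hX P hPn hPp le_rfl C hC x h m hm
      (hcommC x hx)
    set g := x⁻¹ * (h * x * h⁻¹) with hg
    have h2 : g ^ (p ^ k) ∈ P := by
      apply hCP
      rw [Subgroup.mem_centralizer_iff]
      intro a ha
      exact (hk a ha).symm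
    have h3 : (QuotientGroup.mk' P g) ^ (p ^ k) = 1 := by
      rw [← map_pow, ← MonoidHom.mem_ker, QuotientGroup.ker_mk']
      exact h2
    have h4 : QuotientGroup.mk' P g ∈ Q := by
      have h5 : QuotientGroup.mk' P g = (QuotientGroup.mk' P x)⁻¹ * QuotientGroup.mk' P h *
          (QuotientGroup.mk' P x) * (QuotientGroup.mk' P h)⁻¹ := by
        rw [hg]; simp [mul_assoc]
      rw [h5]
      apply Q.mul_mem _ (Q.inv_mem hy)
      have h6 := hQn.conj_mem _ hy (QuotientGroup.mk' P x)⁻¹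
      rwa [inv_inv] at h6
    have h5 : QuotientGroup.mk' P g = 1 := by
      have h6 : orderOf (QuotientGroup.mk' P g) ∣ p ^ k := orderOf_dvd_of_pow_eq_one h3
      have h7 : orderOf (QuotientGroup.mk' P g) ∣ Nat.card Q := by
        have := orderOf_dvd_natCard (⟨_, h4⟩ : Q)
        rwa [← Subgroup.orderOf_coe] at this
      have h8 := Nat.Coprime.pow_right k hQc
      have h9 := Nat.dvd_gcd h7 h6
      rw [h8, Nat.dvd_one, orderOf_eq_one_iff] at h9
      exact h9
    have h6 : (QuotientGroup.mk' P x)⁻¹ * (QuotientGroup.mk' P h *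
          (QuotientGroup.mk' P x) * (QuotientGroup.mk' P h)⁻¹) = 1 := by
      rw [← h5, hg]; simp
    rw [inv_mul_eq_one] at h6
    exact (eq_mul_inv_iff_mul_eq.mp h6).symm
  have hxQ2 := hCQ hxQ
  have hx1 : QuotientGroup.mk' P x = 1 := by
    have h6 : orderOf (QuotientGroup.mk' P x) ∣ p ^ m :=
      orderOf_dvd_of_pow_eq_one (by rw [← map_pow, hm, map_one])
    have h7 : orderOf (QuotientGroup.mk' P x) ∣ Nat.card Q := by
      have := orderOf_dvd_natCard (⟨_, hxQ2⟩ : Q)
      rwa [← Subgroup.orderOf_coe] at this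
    have h8 := Nat.Coprime.pow_right m hQc
    have h9 := Nat.dvd_gcd h7 h6
    rw [h8, Nat.dvd_one, orderOf_eq_one_iff] at h9
    exact h9
  rwa [← MonoidHom.mem_ker, QuotientGroup.ker_mk'] at hx1

/-- Let X be a finite solvable group of odd order, p a prime and S a Sylow p-subgroup of X whose commutator subgroup is
cyclic. Then the product of the largest normal subgroup of X of order prime to p with S is a normal subgroup of X. -/
theorem result {X : Type*} [Group X] [Finite X] [Group.IsSolvable X]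
    (hX : Odd (Nat.card X)) (p : ℕ) [Fact p.Prime] (S : Sylow p X) (hS : IsCyclic (commutator (S : Subgroup X))) :
    (Cfsg.pPrimeCore p X ⊔ (S : Subgroup X)).Normal := by
  set O := Cfsg.pPrimeCore p X with hO
  have hOn : O.Normal := Cfsg.Agent.Lib.Cores.pPrimeCore_normal p
  have hodd : Odd (Nat.card (X ⧸ O)) := by
    have h1 : Nat.card (X ⧸ O) ∣ Nat.card X := Subgroup.card_quotient_dvd_card O
    exact Odd.of_dvd_nat hX h1
  have hbot : Cfsg.pPrimeCore p (X ⧸ O) = ⊥ :=
    Cfsg.Agent.Lib.Cores.pPrimeCore_quotient_pPrimeCore p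
  let S' : Sylow p (X ⧸ O) := S.mapSurjective (QuotientGroup.mk'_surjective O)
  have hS'coe : (S' : Subgroup (X ⧸ O)) = (S : Subgroup X).map (QuotientGroup.mk' O) :=
    Sylow.coe_mapSurjective _ _
  have hS' : IsCyclic (commutator (S' : Subgroup (X ⧸ O))) := by
    let f : (S : Subgroup X) →* (S' : Subgroup (X ⧸ O)) :=
      ((QuotientGroup.mk' O).comp (S : Subgroup X).subtype).codRestrict _ (by
        rintro ⟨s, hs⟩
        rw [hS'coe]
        exact ⟨s, hs, rfl⟩)
    have hf : Function.Surjective f := by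
      rintro ⟨y, hy⟩
      have hy' := hy
      rw [hS'coe] at hy'
      obtain ⟨s, hs, hsy⟩ := hy'
      exact ⟨⟨s, hs⟩, Subtype.ext hsy⟩
    have h1 : commutator (S' : Subgroup (X ⧸ O)) = (commutator (S : Subgroup X)).map f := by
      rw [commutator_def, commutator_def, Subgroup.map_commutator,
        Subgroup.map_top_of_surjective f hf]
    rw [h1]
    exact isCyclic_of_surjective _ (f.subgroupMap_surjective _)
  have hle := sylow_le_pCore hodd p hbot S' hS'
  have heq : (S' : Subgroup (X ⧸ O)) = Cfsg.pCore p (X ⧸ O) :=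
    le_antisymm hle (Cfsg.Agent.Lib.Cores.pCore_le_sylow S')
  have hn : ((S : Subgroup X).map (QuotientGroup.mk' O)).Normal := by
    rw [← hS'coe, heq]
    exact Cfsg.Agent.Lib.Cores.pCore_normal p
  have h2 := hn.comap (QuotientGroup.mk' O)
  rwa [Subgroup.comap_map_eq, QuotientGroup.ker_mk', sup_comm] at h2

end Cfsg.Agent.S0521
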