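import Cfsg.Statements.S0522
import Cfsg.Agent.Classification.TransitivityCore
import Cfsg.Agent.Classification.TransitivitySetup
import Cfsg.Agent.Classification.NormalPair
-- import your own Cfsg.Agent.* helpers here

set_option autoImplicit false
open Cfsg

namespace Cfsg.Agent.S0522

open Cfsg.Agent.Classification

/-- Transitivity Theorem (odd-order setting). Let X be a finite group of odd order in which the normalizer of every
nontrivial p-subgroup is solvable, P a Sylow p-subgroup, and B an abelian subgroup of P, normalized by P, with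
C_P(B) = B and containing an elementary abelian subgroup of order p^3. Then for every prime q ≠ p, any two q-subgroups
that are maximal among the q-subgroups normalized by B are conjugate by an element of the centralizer of B. -/
theorem result {X : Type*} [Group X] [Finite X] (hX : Odd (Nat.card X)) (p : ℕ)
    [Fact p.Prime] (hloc : ∀ T : Subgroup X, IsPGroup p T → T ≠ ⊥ → Group.IsSolvable (Subgroup.normalizer (T : Set X)))
    (P : Sylow p X) (B : Subgroup X) (hBP : B ≤ (P : Subgroup X))
    (hBn : ∀ x ∈ (P : Subgroup X), ∀ b ∈ B, x * b * x⁻¹ ∈ B) (hBa : IsMulCommutative B)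
    (hBc : (P : Subgroup X) ⊓ Subgroup.centralizer (B : Set X) = B)
    (hB3 : ∃ E : Subgroup X, E ≤ B ∧ (∀ e ∈ E, e ^ p = 1) ∧ p ^ 3 ≤ Nat.card E)
    (q : ℕ) [Fact q.Prime] (hqp : q ≠ p) (Q₁ Q₂ : Subgroup X)
    (h₁ : IsPGroup q Q₁ ∧ B ≤ Subgroup.normalizer (Q₁ : Set X) ∧
      ∀ R : Subgroup X, IsPGroup q R → B ≤ Subgroup.normalizer (R : Set X) → Q₁ ≤ R → R = Q₁)
    (h₂ : IsPGroup q Q₂ ∧ B ≤ Subgroup.normalizer (Q₂ : Set X) ∧
      ∀ R : Subgroup X, IsPGroup q R → B ≤ Subgroup.normalizer (R : Set X) → Q₂ ≤ R → R = Q₂) :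
    ∃ c ∈ Subgroup.centralizer (B : Set X), Q₂ = Q₁.map (MulAut.conj c).toMonoidHom := by
  have hp : p.Prime := Fact.out
  have hBc' : ∀ x ∈ B, ∀ y ∈ B, x * y = y * x := fun x hx y hy =>
    congrArg Subtype.val (hBa.is_comm.comm (⟨x, hx⟩ : B) ⟨y, hy⟩)
  have hPp : IsPGroup p (P : Subgroup X) := P.isPGroup'
  have hBp : IsPGroup p B := hPp.to_le hBP
  have hPB : (P : Subgroup X) ≤ Subgroup.normalizer (B : Set X) := NormalPair.mem_normalizer_of_forall hBn
  obtain ⟨E, hEB, hE, hE3⟩ := hB3
  -- `W = Ω₁(B)`
  set W : Subgroup X := NormalPair.omega p B hBc' with hWdef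
  have hWB : W ≤ B := fun w hw => hw.1
  have hW : ∀ w ∈ W, w ^ p = 1 := fun w hw => hw.2
  have hEW : E ≤ W := fun e he => ⟨hEB he, hE e he⟩
  have hWc : p ^ 3 ≤ Nat.card W := hE3.trans (Subgroup.card_le_of_le hEW)
  have hPW : (P : Subgroup X) ≤ Subgroup.normalizer (W : Set X) := by
    refine NormalPair.mem_normalizer_of_forall fun g hg w hw => ⟨hBn g hg w hw.1, ?_⟩
    rw [conj_pow, hw.2]; simp
  have hp23 : p ^ 2 ≤ p ^ 3 := Nat.pow_le_pow_right hp.pos (by norm_num)
  obtain ⟨V, hVW, hVc, hPV, hVi⟩ := NormalPair.exists_pair hPp (hWB.trans hBP) hPW hW (hp23.trans hWc)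
  have hVB : V ≤ B := hVW.trans hWB
  have hi : ∀ x ∈ Subgroup.centralizer (B : Set X), IsPGroup p (Subgroup.zpowers x) → x ∈ B :=
    fun x hx hxp => NormalPair.mem_of_mem_centralizer P hPB hBc hx hxp
  -- centralisers of elements of `B` are solvable
  have hsolv : ∀ a ∈ B, a ≠ 1 → Group.IsSolvable (Subgroup.centralizer ({a} : Set X)) := by
    intro a ha ha1
    have h1 := hloc (Subgroup.zpowers a) (hBp.to_le (Subgroup.zpowers_le.2 ha)) (by
      rw [Ne, Subgroup.zpowers_eq_bot]; exact ha1)
    have h2 : Subgroup.centralizer ({a} : Set X) ≤ Subgroup.normalizer (Subgroup.zpowers a : Set X) := by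
      intro c hc
      rw [Subgroup.mem_centralizer_singleton_iff] at hc
      apply Subgroup.centralizer_le_normalizer
      rw [Subgroup.mem_centralizer_iff]
      intro y hy
      obtain ⟨i, rfl⟩ := Subgroup.mem_zpowers_iff.1 hy
      have h3 : Commute c a := hc
      exact (h3.zpow_right i).symm.eq
    exact Group.isSolvable_of_isSolvable_injective (Subgroup.inclusion_injective h2)
  have hBcent : ∀ a ∈ B, B ≤ Subgroup.centralizer ({a} : Set X) := by
    intro a ha b hb
    rw [Subgroup.mem_centralizer_singleton_iff]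
    exact hBc' b hb a ha
  -- the centraliser of `V`
  have hV1 : ∃ v ∈ V, v ≠ 1 := by
    by_contra hcon
    push Not at hcon
    have h1 : V = ⊥ := by
      rw [eq_bot_iff]; exact fun x hx => Subgroup.mem_bot.2 (hcon x hx)
    rw [h1, Subgroup.card_bot] at hVc
    have : 1 < p ^ 2 := Nat.one_lt_pow (by norm_num) hp.one_lt
    omega
  have hcoreV : TransitivitySetup.HasCore p B (Subgroup.centralizer (V : Set X)) := by
    obtain ⟨v, hv, hv1⟩ := hV1
    have hle : Subgroup.centralizer (V : Set X) ≤ Subgroup.centralizer ({v} : Set X) :=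
      Subgroup.centralizer_le (Set.singleton_subset_iff.2 hv)
    have hs : Group.IsSolvable (Subgroup.centralizer (V : Set X)) := by
      have := hsolv v (hVB hv) hv1
      exact Group.isSolvable_of_isSolvable_injective (Subgroup.inclusion_injective hle)
    obtain ⟨S, hS⟩ := NormalPair.exists_sylow_centralizer P hPV
    refine TransitivitySetup.hasCore_of_sylow hs ?_ hBp hBc' hi S ?_
    · intro b hb
      rw [Subgroup.mem_centralizer_iff]
      exact fun y hy => hBc' y (hVB hy) b hb
    · rw [hS]
      exact inf_le_left.trans hPB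
  -- the centralisers of the elements of `V`
  have hcorev : ∀ v ∈ V, v ≠ 1 → TransitivitySetup.HasCore p B (Subgroup.centralizer ({v} : Set X)) := by
    intro v hv hv1
    set C : Subgroup X := Subgroup.centralizer ({v} : Set X) with hC
    have hVC : Subgroup.centralizer (V : Set X) ≤ C := Subgroup.centralizer_le (Set.singleton_subset_iff.2 hv)
    set P₀ : Subgroup X := (P : Subgroup X) ⊓ Subgroup.centralizer (V : Set X) with hP₀
    have hP₀C : P₀ ≤ C := inf_le_right.trans hVC
    have hP₀p : IsPGroup p (P₀.subgroupOf C) := (hPp.to_le inf_le_left).comap_subtype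
    obtain ⟨S, hS⟩ := hP₀p.exists_le_sylow
    have h1 : P₀ ≤ (S : Subgroup C).map C.subtype := by
      have := Subgroup.map_mono (f := C.subtype) hS
      rwa [Subgroup.map_subgroupOf_eq_of_le hP₀C] at this
    have hSp : IsPGroup p ((S : Subgroup C).map C.subtype) := S.isPGroup'.map _
    have h2 : Nat.card ((S : Subgroup C).map C.subtype) ≤ Nat.card P := by
      obtain ⟨S', hS'⟩ := hSp.exists_le_sylow
      exact (Subgroup.card_le_of_le hS').trans (le_of_eq (Nat.card_congr (Sylow.equiv S' P).toEquiv))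
    have h3 : Nat.card P ≤ p * Nat.card P₀ := by
      have h4 : Nat.card P₀ * (Subgroup.centralizer (V : Set X)).relIndex (P : Subgroup X) =
          Nat.card (P : Subgroup X) := by
        rw [← Subgroup.card_mul_index ((Subgroup.centralizer (V : Set X)).subgroupOf (P : Subgroup X))]
        congr 1
        rw [hP₀, inf_comm, ← Subgroup.subgroupOf_map_subtype]
        exact (Subgroup.card_map_of_injective (Subgroup.subtype_injective _))
      calc Nat.card P = Nat.card P₀ * (Subgroup.centralizer (V : Set X)).relIndex (P : Subgroup X) := h4.symm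
        _ ≤ Nat.card P₀ * p := Nat.mul_le_mul_left _ hVi
        _ = p * Nat.card P₀ := mul_comm _ _
    have h5 : P₀.relIndex ((S : Subgroup C).map C.subtype) ≤ p := by
      have h6 : Nat.card P₀ * P₀.relIndex ((S : Subgroup C).map C.subtype) =
          Nat.card ((S : Subgroup C).map C.subtype) := by
        rw [← Subgroup.card_mul_index (P₀.subgroupOf ((S : Subgroup C).map C.subtype))]
        congr 1
        exact (Nat.card_congr (Subgroup.subgroupOfEquivOfLe h1).toEquiv).symm
      have h7 : Nat.card P₀ * P₀.relIndex ((S : Subgroup C).map C.subtype) ≤ Nat.card P₀ * p := by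
        rw [h6, mul_comm]
        exact h2.trans h3
      exact Nat.le_of_mul_le_mul_left h7 Nat.card_pos
    refine TransitivitySetup.hasCore_of_index_le hX (V := V) (hsolv v (hVB hv) hv1) (hBcent v (hVB hv)) hBp
      hBc' hVB S ?_ ?_
    · intro z hz
      refine le_trans (Subgroup.relIndex_le_of_le_left ?_ (InvariantCore.relIndex_ne_zero_of_finite _ _)) h5
      exact inf_le_right.trans (Subgroup.centralizer_le (Set.singleton_subset_iff.2 hz))
    · rw [inf_eq_right.2 hVC]
      exact hcoreV
  -- all elements of `W`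
  have hcore : ∀ a ∈ W, a ≠ 1 → TransitivitySetup.HasCore p B (Subgroup.centralizer ({a} : Set X)) := by
    intro a ha ha1
    exact TransitivitySetup.hasCore_of_forall_centralizer (hsolv a (hWB ha) ha1) (hBcent a (hWB ha)) hBp hBc'
      hWB hVW hW hVc hcorev
  classical
  let K : X → Subgroup X := fun a => if h : a ∈ W ∧ a ≠ 1 then (hcore a h.1 h.2).choose else ⊥
  have hK : ∀ a (ha : a ∈ W) (ha1 : a ≠ 1), K a = (hcore a ha ha1).choose := fun a ha ha1 =>
    dif_pos ⟨ha, ha1⟩
  refine TransitivityCore.transitivity_core p q hqp B W hBp hBa hWB hW hWc K ?_ ?_ ?_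
    (Subgroup.centralizer (B : Set X)) (fun c hc _ => hc) Q₁ Q₂ h₁ h₂
  · intro a ha ha1
    rw [hK a ha ha1]
    exact (hcore a ha ha1).choose_spec.2.1
  · intro a ha ha1
    rw [hK a ha ha1]
    exact (hBcent a (hWB ha)).trans (hcore a ha ha1).choose_spec.2.2.1
  · intro a ha ha1 R hR hBR hRa
    rw [hK a ha ha1]
    refine (hcore a ha ha1).choose_spec.2.2.2 R hRa ?_ hBR
    obtain ⟨n, hn⟩ := hR.exists_card_eq
    rw [hn]
    exact Nat.Coprime.pow_left n ((Nat.coprime_primes Fact.out hp).2 hqp)

end Cfsg.Agent.S0522
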