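import Cfsg.Statements.S0527
import Mathlib.GroupTheory.QuotientGroup.Basic
import Mathlib.GroupTheory.SpecificGroups.Cyclic
-- import your own Cfsg.Agent.* helpers here

set_option autoImplicit false
open Cfsg

namespace Cfsg.Agent.S0527

/-- A subgroup of a normal cyclic subgroup is normal. -/
theorem normal_of_le_isCyclic {G : Type*} [Group G] (C : Subgroup G) [hC : C.Normal]
    [IsCyclic C] (L : Subgroup G) (hL : L ≤ C) : L.Normal := by
  obtain ⟨g, hg⟩ := IsCyclic.exists_generator (α := L.subgroupOf C)
  constructor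
  intro x hx y
  obtain ⟨k, hk⟩ := Subgroup.mem_zpowers_iff.mp (hg ⟨⟨x, hL hx⟩, hx⟩)
  have hk' : ((g : C) : G) ^ k = x := by
    have := congrArg (fun z : L.subgroupOf C => ((z : C) : G)) hk
    simpa using this
  obtain ⟨c, hc⟩ := IsCyclic.exists_generator (α := C)
  obtain ⟨m, hm⟩ := Subgroup.mem_zpowers_iff.mp (hc (g : C))
  obtain ⟨n, hn⟩ := Subgroup.mem_zpowers_iff.mp (hc ⟨y * c * y⁻¹, hC.conj_mem _ c.2 y⟩)
  have hm' : (c : G) ^ m = ((g : C) : G) := by
    simpa using congrArg (fun z : C => (z : G)) hm
  have hn' : (c : G) ^ n = y * c * y⁻¹ := by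
    simpa using congrArg (fun z : C => (z : G)) hn
  have : y * x * y⁻¹ = (((g : C) : G) ^ k) ^ n := by
    rw [← hk', ← hm', ← conj_zpow, ← conj_zpow, ← hn', ← zpow_mul, ← zpow_mul, ← zpow_mul,
      ← zpow_mul]
    congr 1
    ring
  rw [this, hk']
  exact L.zpow_mem hx n

/-- If `C` is normal and `M C = G` then `|G : M| = |C : C ∩ M|`. -/
theorem relIndex_eq_index_of_sup_eq_top {G : Type*} [Group G] [Finite G] (C : Subgroup G)
    [C.Normal] (M : Subgroup G) (h : M ⊔ C = ⊤) : M.relIndex C = M.index := by
  have h1 : Nat.card M * M.index = Nat.card G := M.card_mul_index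
  have h2 : Nat.card C * C.relIndex (M ⊔ C) = Nat.card G := by
    rw [h, Subgroup.relIndex_top_right, C.card_mul_index]
  have h3 : C.relIndex (M ⊔ C) = C.relIndex M := Subgroup.relIndex_sup_right M C
  have h4 : Nat.card (C ⊓ M : Subgroup G) * C.relIndex M = Nat.card M := by
    have := Subgroup.relIndex_mul_relIndex (⊥ : Subgroup G) (C ⊓ M) M bot_le inf_le_right
    rwa [Subgroup.relIndex_bot_left, Subgroup.relIndex_bot_left,
      Subgroup.inf_relIndex_right] at this
  have h5 : Nat.card (C ⊓ M : Subgroup G) * M.relIndex C = Nat.card C := by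
    have := Subgroup.relIndex_mul_relIndex (⊥ : Subgroup G) (C ⊓ M) C bot_le inf_le_left
    rwa [Subgroup.relIndex_bot_left, Subgroup.relIndex_bot_left,
      Subgroup.inf_relIndex_left] at this
  rw [h3] at h2
  have h6 : 0 < Nat.card M := Nat.card_pos
  have h7 : Nat.card M * M.relIndex C = Nat.card M * M.index := by
    rw [h1, ← h2, ← h5, ← h4]
    ring
  exact Nat.eq_of_mul_eq_mul_left h6 h7

/-- A maximal subgroup not containing a given cyclic normal subgroup has prime index. -/
theorem index_prime_of_isCyclic_normal {G : Type*} [Group G] [Finite G] (C : Subgroup G)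
    [C.Normal] [IsCyclic C] (M : Subgroup G) (hM : IsCoatom M) (hCM : ¬ C ≤ M) :
    M.index.Prime := by
  have hsup : ∀ L : Subgroup G, ¬ L ≤ M → M ⊔ L = ⊤ := fun L hL =>
    hM.2 _ (lt_of_le_of_ne le_sup_left fun h => hL (h ▸ le_sup_right))
  let _ : CommGroup C := IsCyclic.commGroup
  rw [← relIndex_eq_index_of_sup_eq_top C M (hsup C hCM)]
  change Nat.Prime (Nat.card (C ⧸ M.subgroupOf C))
  have : Nontrivial (C ⧸ M.subgroupOf C) := by
    rw [QuotientGroup.nontrivial_iff]
    intro h
    exact hCM (Subgroup.subgroupOf_eq_top.mp h)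
  have : IsSimpleGroup (C ⧸ M.subgroupOf C) := by
    refine ⟨fun K _ => ?_⟩
    set L : Subgroup C := K.comap (QuotientGroup.mk' (M.subgroupOf C)) with hL
    have hML : M.subgroupOf C ≤ L := by
      intro x hx
      rw [hL, Subgroup.mem_comap, QuotientGroup.mk'_apply, (QuotientGroup.eq_one_iff x).mpr hx]
      exact K.one_mem
    by_cases hLM : L.map C.subtype ≤ M
    · left
      rw [eq_bot_iff]
      intro q hq
      obtain ⟨x, rfl⟩ := QuotientGroup.mk'_surjective _ q
      have hx : x ∈ L := hq
      have : (x : G) ∈ M := hLM (Subgroup.mem_map_of_mem C.subtype hx)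
      rw [Subgroup.mem_bot, QuotientGroup.mk'_apply, QuotientGroup.eq_one_iff]
      exact this
    · right
      have hn : (L.map C.subtype).Normal := normal_of_le_isCyclic C _ (Subgroup.map_subtype_le L)
      have htop := hsup _ hLM
      rw [eq_top_iff]
      intro q _
      obtain ⟨x, rfl⟩ := QuotientGroup.mk'_surjective _ q
      have hx : (x : G) ∈ M ⊔ L.map C.subtype := by rw [htop]; trivial
      obtain ⟨m, hm, l, hl, hml⟩ := Subgroup.mem_sup_of_normal_right.mp hx
      obtain ⟨l', hl', rfl⟩ := hl
      change x ∈ L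
      have hmC : m = ((x * l'⁻¹ : C) : G) := by
        simp [← hml]
      have : x * l'⁻¹ ∈ L := hML (by
        change ((x * l'⁻¹ : C) : G) ∈ M
        rw [← hmC]; exact hm)
      simpa using L.mul_mem this hl'
  exact CommGroup.is_simple_iff_prime_card.mp this

/-- In a finite supersolvable group the index of any maximal subgroup is a prime number. -/
theorem result {G : Type*} [Group G] [Finite G] (hG : Cfsg.IsSupersolvable G) (M : Subgroup G) (hM : IsCoatom M) : M.index.Prime := by
  obtain ⟨n, H, h0, hl, hn, hs⟩ := hG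
  -- the first term of the chain not contained in `M`
  have hex : ∃ i : Fin n, H i.castSucc ≤ M ∧ ¬ H i.succ ≤ M := by
    by_contra hcon
    push Not at hcon
    have hall : ∀ i : Fin (n + 1), H i ≤ M := by
      intro i
      induction i using Fin.induction with
      | zero => rw [h0]; exact bot_le
      | succ i ih => exact hcon i ih
    exact hM.1 (top_le_iff.mp (hl ▸ hall (Fin.last n)))
  obtain ⟨i, hi, hi'⟩ := hex
  obtain ⟨g, hg⟩ := hs i
  have hN : (H i.castSucc).Normal := hn _
  have hN' : (H i.succ).Normal := hn _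
  set N := H i.castSucc
  let φ := QuotientGroup.mk' N
  have hφ : Function.Surjective φ := QuotientGroup.mk'_surjective N
  have hker : φ.ker = N := QuotientGroup.ker_mk' N
  set C := (H i.succ).map φ with hC
  have hCn : C.Normal := hN'.map φ hφ
  have hCz : C = Subgroup.zpowers (φ g) := by
    rw [hC, hg, Subgroup.map_sup, MonoidHom.map_zpowers, (Subgroup.map_eq_bot_iff N).mpr hker.ge,
      bot_sup_eq]
  have hCc : IsCyclic C := by rw [hCz]; infer_instance
  have hM' : IsCoatom (M.map φ) := by
    constructor
    · intro h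
      apply hM.1
      have := congrArg (Subgroup.comap φ) h
      rwa [Subgroup.comap_map_eq_self (hker.le.trans hi), Subgroup.comap_top] at this
    · intro K hK
      have h1 : M < K.comap φ := by
        refine lt_of_le_of_ne (Subgroup.map_le_iff_le_comap.mp hK.le) fun h => hK.ne ?_
        rw [h, Subgroup.map_comap_eq_self_of_surjective hφ]
      have h2 := hM.2 _ h1
      have := congrArg (Subgroup.map φ) h2
      rwa [Subgroup.map_comap_eq_self_of_surjective hφ, Subgroup.map_top_of_surjective _ hφ] at this
  rw [← Subgroup.index_map_eq (H := M) hφ (hker.le.trans hi)]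
  apply index_prime_of_isCyclic_normal C _ hM'
  intro hCM
  apply hi'
  rw [hC, Subgroup.map_le_iff_le_comap, Subgroup.comap_map_eq_self (hker.le.trans hi)] at hCM
  exact hCM

end Cfsg.Agent.S0527
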