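import Cfsg.Statements.S0528
import Mathlib.GroupTheory.QuotientGroup.Basic
import Mathlib.GroupTheory.SpecificGroups.Cyclic
-- import your own Cfsg.Agent.* helpers here

set_option autoImplicit false
open Cfsg

namespace Cfsg.Agent.S0528

/-- Extension of a normal cyclic subgroup by a supersolvable group (no finiteness needed). -/
theorem of_isCyclic_normal {G : Type*} [Group G] (N : Subgroup G) [N.Normal] [IsCyclic N]
    (h : Cfsg.IsSupersolvable (G ⧸ N)) : Cfsg.IsSupersolvable G := by
  obtain ⟨n, H, h0, hl, hn, hs⟩ := h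
  refine ⟨n + 1, Fin.cons ⊥ (fun i => (H i).comap (QuotientGroup.mk' N)), ?_, ?_, ?_, ?_⟩
  · rfl
  · rw [← Fin.succ_last, Fin.cons_succ, hl, Subgroup.comap_top]
  · intro i
    refine Fin.cases ?_ (fun i => ?_) i
    · rw [Fin.cons_zero]; infer_instance
    · rw [Fin.cons_succ]
      have := hn i
      infer_instance
  · intro i
    refine Fin.cases ?_ (fun i => ?_) i
    · obtain ⟨g, hg⟩ := IsCyclic.exists_generator (α := N)
      refine ⟨(g : G), ?_⟩
      rw [Fin.cons_succ, Fin.castSucc_zero, Fin.cons_zero, bot_sup_eq]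
      have e : H 0 = ⊥ := h0
      rw [e]
      ext x
      rw [Subgroup.mem_comap, Subgroup.mem_bot, QuotientGroup.mk'_apply, QuotientGroup.eq_one_iff,
        Subgroup.mem_zpowers_iff]
      constructor
      · intro hx
        obtain ⟨k, hk⟩ := Subgroup.mem_zpowers_iff.mp (hg ⟨x, hx⟩)
        exact ⟨k, by simpa using congrArg (Subtype.val) hk⟩
      · rintro ⟨k, rfl⟩
        exact N.zpow_mem g.2 k
    · obtain ⟨g, hg⟩ := hs i
      obtain ⟨x, rfl⟩ := QuotientGroup.mk'_surjective N g
      refine ⟨x, ?_⟩
      rw [Fin.cons_succ, ← Fin.succ_castSucc, Fin.cons_succ, hg]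
      rw [← MonoidHom.map_zpowers, ← Subgroup.comap_sup_eq _ _ _ (QuotientGroup.mk'_surjective N),
        Subgroup.comap_map_eq, ← sup_assoc, sup_right_comm,
        sup_eq_left.mpr (Subgroup.ker_le_comap (QuotientGroup.mk' N) (H i.castSucc))]

/-- An extension of a cyclic normal subgroup by a supersolvable group is supersolvable: if N is a cyclic normal subgroup of a finite group G and G modulo N is supersolvable, then G is supersolvable. -/
theorem result {G : Type*} [Group G] [Finite G] (N : Subgroup G) [N.Normal] [IsCyclic N] (h : Cfsg.IsSupersolvable (G ⧸ N)) : Cfsg.IsSupersolvable G :=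
  of_isCyclic_normal N h

end Cfsg.Agent.S0528
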