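import Cfsg.Statements.S0543
-- import your own Cfsg.Agent.* helpers here
import Mathlib
import Cfsg.Agent.S0004

set_option autoImplicit false
open Pointwise
open Cfsg

namespace Cfsg.Agent.S0543

/-- Two subgroups of coprime index in a finite group factor the group. -/
theorem exists_mul_eq_of_coprime_index {G : Type*} [Group G] [Finite G] (A B : Subgroup G)
    (h : A.index.Coprime B.index) (g : G) : ∃ a ∈ A, ∃ b ∈ B, g = a * b := by
  -- both indices divide the relative ones
  have h1 : B.relIndex A * A.index = (A ⊓ B).index := by
    rw [← Subgroup.inf_relIndex_left]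
    exact Subgroup.relIndex_mul_index inf_le_left
  have h2 : A.relIndex B * B.index = (A ⊓ B).index := by
    rw [← Subgroup.inf_relIndex_right]
    exact Subgroup.relIndex_mul_index inf_le_right
  have h3 : B.index ∣ B.relIndex A := by
    have : B.index ∣ B.relIndex A * A.index := by rw [h1, ← h2]; exact dvd_mul_left _ _
    exact h.symm.dvd_of_dvd_mul_right this
  have hpos : 0 < B.relIndex A := by
    refine Nat.pos_of_ne_zero fun h0 => ?_
    have h6 := Subgroup.relIndex_dvd_card B A
    rw [h0, zero_dvd_iff] at h6
    exact Nat.card_pos.ne' h6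
  have h4 : B.index ≤ B.relIndex A := Nat.le_of_dvd hpos h3
  -- the map A / (A ∩ B) → G / B is injective, hence surjective
  let f : A ⧸ (B.subgroupOf A) → G ⧸ B :=
    Quotient.map' (fun a : A => (a : G)) (fun a b hab => by
      rw [QuotientGroup.leftRel_apply] at hab ⊢
      simpa [Subgroup.mem_subgroupOf] using hab)
  have hf : Function.Injective f := by
    intro x y
    induction x using QuotientGroup.induction_on with
    | H x =>
    induction y using QuotientGroup.induction_on with
    | H y =>
    intro hxy
    have hxy' : ((x : G) : G ⧸ B) = ((y : G) : G ⧸ B) := hxy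
    rw [QuotientGroup.eq] at hxy'
    rw [QuotientGroup.eq]
    simpa [Subgroup.mem_subgroupOf] using hxy'
  have hcard : Nat.card (G ⧸ B) ≤ Nat.card (A ⧸ (B.subgroupOf A)) := h4
  have hbij : Function.Bijective f :=
    (Nat.bijective_iff_injective_and_card f).2 ⟨hf, le_antisymm
      (Nat.card_le_card_of_injective f hf) hcard⟩
  obtain ⟨x, hx⟩ := hbij.2 (g : G ⧸ B)
  induction x using QuotientGroup.induction_on with
  | H x =>
  have hx' : ((x : G) : G ⧸ B) = (g : G ⧸ B) := hx
  rw [QuotientGroup.eq] at hx'
  exact ⟨x, x.2, (x : G)⁻¹ * g, hx', by group⟩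

/-- In a finite group, subgroups of coprime indices: index of the intersection is the product. -/
theorem index_inf_of_coprime {G : Type*} [Group G] [Finite G] (A B : Subgroup G)
    (h : A.index.Coprime B.index) : (A ⊓ B).index = A.index * B.index := by
  apply Nat.dvd_antisymm
  · have hle := Subgroup.index_inf_le (H := A) (K := B)
    have hdvd : A.index * B.index ∣ (A ⊓ B).index :=
      h.mul_dvd_of_dvd_of_dvd (Subgroup.index_dvd_of_le inf_le_left)
        (Subgroup.index_dvd_of_le inf_le_right)
    have hpos : 0 < (A ⊓ B).index := Nat.pos_of_ne_zero Subgroup.index_ne_zero_of_finite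
    rw [le_antisymm hle (Nat.le_of_dvd hpos hdvd)]
  · exact h.mul_dvd_of_dvd_of_dvd (Subgroup.index_dvd_of_le inf_le_left)
        (Subgroup.index_dvd_of_le inf_le_right)

/-- Index of a finite intersection of members of a Hall complement system. -/
theorem index_iInf_finset {G : Type*} [Group G] [Finite G] {K : Nat.Primes → Subgroup G}
    (hK : Cfsg.IsComplementSystem K) (s : Finset Nat.Primes) :
    (⨅ p ∈ s, K p).index = ∏ p ∈ s, (p : ℕ) ^ (Nat.card G).factorization p := by
  classical
  induction s using Finset.induction_on with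
  | empty => simp
  | insert q s hq ih =>
    rw [Finset.iInf_insert, Finset.prod_insert hq, index_inf_of_coprime, hK q, ih]
    rw [hK q, ih]
    refine Nat.Coprime.prod_right fun p hp => ?_
    have hne : (q : ℕ) ≠ (p : ℕ) := fun h => hq (by
      have : q = p := Subtype.ext h
      rwa [this])
    exact Nat.Coprime.pow _ _ ((Nat.coprime_primes q.2 p.2).2 hne)

theorem conj_aux {G : Type*} [Group G] [Finite G] [Group.IsSolvable G] {K L : Nat.Primes → Subgroup G}
    (hK : Cfsg.IsComplementSystem K) (hL : Cfsg.IsComplementSystem L) (p : Nat.Primes) :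
    ∃ g : G, MulAut.conj g • K p = L p := by
  have hcK : Nat.card (K p) * (p : ℕ) ^ (Nat.card G).factorization p = Nat.card G := by
    rw [← hK p]; exact Subgroup.card_mul_index _
  have hcL : Nat.card (L p) * (p : ℕ) ^ (Nat.card G).factorization p = Nat.card G := by
    rw [← hL p]; exact Subgroup.card_mul_index _
  have hpos : 0 < (p : ℕ) ^ (Nat.card G).factorization p := pow_pos p.2.pos _
  refine Cfsg.Agent.S0004.result (Nat.card (K p)) ((p : ℕ) ^ (Nat.card G).factorization p)
    hcK.symm ?_ (K p) (L p) rfl ?_
  · apply Nat.Coprime.pow_right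
    rw [Nat.coprime_comm, p.2.coprime_iff_not_dvd]
    intro hdvd
    have h1 : (p : ℕ) ^ ((Nat.card G).factorization p + 1) ∣
        Nat.card (K p) * (p : ℕ) ^ (Nat.card G).factorization p := by
      rw [pow_succ, mul_comm]
      exact Nat.mul_dvd_mul hdvd dvd_rfl
    rw [hcK] at h1
    exact Nat.pow_succ_factorization_not_dvd Nat.card_pos.ne' p.2 h1
  · exact Nat.eq_of_mul_eq_mul_right hpos (hcL.trans hcK.symm)

/-- Conjugation by an element of the subgroup fixes it. -/
theorem conj_smul_of_mem {G : Type*} [Group G] {A : Subgroup G} {a : G} (ha : a ∈ A) :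
    MulAut.conj a • A = A := Subgroup.conj_smul_eq_self_of_mem ha

theorem isComplementSystem_conj {G : Type*} [Group G] {K : Nat.Primes → Subgroup G}
    (hK : Cfsg.IsComplementSystem K) (g : G) :
    Cfsg.IsComplementSystem (fun p => MulAut.conj g • K p) := by
  intro p
  rw [← hK p]
  exact Subgroup.index_map_equiv (K p) (MulAut.conj g)

theorem exists_conj_finset {G : Type*} [Group G] [Finite G] [Group.IsSolvable G]
    {K L : Nat.Primes → Subgroup G}
    (hK : Cfsg.IsComplementSystem K) (hL : Cfsg.IsComplementSystem L) (s : Finset Nat.Primes) :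
    ∃ g : G, ∀ p ∈ s, MulAut.conj g • K p = L p := by
  classical
  induction s using Finset.induction_on with
  | empty => exact ⟨1, by simp⟩
  | insert q s hq ih =>
    obtain ⟨g, hg⟩ := ih
    -- replace `K` by its conjugate
    obtain ⟨h, hh⟩ := conj_aux (isComplementSystem_conj hK g) hL q
    have hcop : (⨅ p ∈ s, L p).index.Coprime (MulAut.conj g • K q).index := by
      rw [index_iInf_finset hL, isComplementSystem_conj hK g q]
      refine Nat.Coprime.prod_left fun p hp => ?_
      have hne : (p : ℕ) ≠ (q : ℕ) := fun h => hq (by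
        have : p = q := Subtype.ext h
        rwa [← this])
      exact Nat.Coprime.pow _ _ ((Nat.coprime_primes p.2 q.2).2 hne)
    obtain ⟨a, ha, b, hb, hab⟩ := exists_mul_eq_of_coprime_index _ _ hcop h
    refine ⟨a * g, fun p hp => ?_⟩
    rcases Finset.mem_insert.1 hp with rfl | hp
    · rw [map_mul, mul_smul]
      rw [hab, map_mul, mul_smul, conj_smul_of_mem hb] at hh
      exact hh
    · rw [map_mul, mul_smul, hg p hp]
      refine conj_smul_of_mem ?_
      have := Subgroup.mem_iInf.1 (Subgroup.mem_iInf.1 ha p) hp
      exact this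

/-- In a finite solvable group any two Hall complement systems are simultaneously conjugate: one element conjugates every member of the first system to the corresponding member of the second. -/
theorem result {G : Type*} [Group G] [Finite G] [Group.IsSolvable G] (K L : Nat.Primes → Subgroup G) (hK : Cfsg.IsComplementSystem K) (hL : Cfsg.IsComplementSystem L) : ∃ g : G, ∀ p : Nat.Primes, MulAut.conj g • K p = L p := by
  classical
  obtain ⟨g, hg⟩ := exists_conj_finset hK hL
    ((Nat.card G).primeFactors.subtype Nat.Prime)
  refine ⟨g, fun p => ?_⟩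
  by_cases hp : (p : ℕ) ∈ (Nat.card G).primeFactors
  · exact hg p (Finset.mem_subtype.2 hp)
  · have h0 : (Nat.card G).factorization p = 0 := by
      rwa [← Finsupp.notMem_support_iff, Nat.support_factorization]
    have h1 : K p = ⊤ := by
      rw [← Subgroup.index_eq_one, hK p, h0, pow_zero]
    have h2 : L p = ⊤ := by
      rw [← Subgroup.index_eq_one, hL p, h0, pow_zero]
    rw [h1, h2]
    exact Subgroup.conj_smul_eq_self_of_mem (Subgroup.mem_top g)

end Cfsg.Agent.S0543
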