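import Cfsg.Statements.S0553
import Mathlib
import Cfsg.Agent.S0043

set_option autoImplicit false
open Cfsg

namespace Cfsg.Agent.S0553

/-- A nontrivial finite group has a minimal nontrivial normal subgroup. -/
theorem exists_min_normal {G : Type*} [Group G] [Finite G] [Nontrivial G] :
    ∃ N : Subgroup G, N.Normal ∧ N ≠ ⊥ ∧
      ∀ M : Subgroup G, M.Normal → M ≤ N → M = ⊥ ∨ M = N := by
  have hne : ({N : Subgroup G | N.Normal ∧ N ≠ ⊥}).Nonempty :=
    ⟨⊤, inferInstance, top_ne_bot⟩
  obtain ⟨N, hN⟩ := (Set.toFinite {N : Subgroup G | N.Normal ∧ N ≠ ⊥}).exists_minimal hne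
  refine ⟨N, hN.1.1, hN.1.2, fun M hM hMN => ?_⟩
  by_cases hb : M = ⊥
  · exact Or.inl hb
  · exact Or.inr (le_antisymm hMN (hN.2 ⟨hM, hb⟩ hMN))

theorem main : ∀ (n : ℕ) {G : Type*} [Group G] [Finite G] [Group.IsSolvable G] [Nontrivial G],
    Nat.card G = n → (∀ M : Subgroup G, IsCoatom M → (Nat.card M).Coprime M.index) →
    ∃ p : ℕ, p.Prime ∧ p ∣ Nat.card G ∧ ∀ P : Sylow p G, (P : Subgroup G).Normal := by
  intro n
  induction n using Nat.strong_induction_on with
  | _ n ih =>
    intro G _ _ _ _ hn h
    obtain ⟨N, hNn, hNb, hmin⟩ := exists_min_normal (G := G)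
    obtain ⟨hNc, p, hp, hNp⟩ := S0043.result N hNb hmin
    have hfact : Fact p.Prime := ⟨hp⟩
    have hpG : IsPGroup p N := by
      intro x
      refine ⟨1, ?_⟩
      ext
      rw [pow_one]
      exact_mod_cast hNp x x.2
    have hN1 : 1 < Nat.card N := by
      rw [Finite.one_lt_card_iff_nontrivial]
      exact (Subgroup.nontrivial_iff_ne_bot N).mpr hNb
    by_cases hF : N ≤ frattini G
    · -- the minimal normal subgroup is contained in the Frattini subgroup
      have hs : Function.Surjective (QuotientGroup.mk' N) := QuotientGroup.mk'_surjective N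
      have hcard : Nat.card G = Nat.card (G ⧸ N) * Nat.card N :=
        Subgroup.card_eq_card_quotient_mul_card_subgroup N
      have hlt : Nat.card (G ⧸ N) < n := by
        rw [← hn, hcard]
        exact lt_mul_of_one_lt_right Nat.card_pos hN1
      have hntr : Nontrivial (G ⧸ N) := by
        rw [QuotientGroup.nontrivial_iff]
        intro htop
        rw [htop, top_le_iff] at hF
        have : (⊥ : Subgroup G) = ⊤ := frattini_nongenerating (by rw [hF, bot_sup_eq])
        exact bot_ne_top this
      obtain ⟨q, hq, hqd, hqn⟩ := ih _ hlt (G := G ⧸ N) rfl (by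
        intro M hM
        have hM' := Subgroup.isCoatom_comap_of_surjective hs hM
        have hc := h _ hM'
        rw [Subgroup.index_comap_of_surjective _ hs] at hc
        refine hc.coprime_dvd_left ?_
        have := Subgroup.card_map_dvd (H := M.comap (QuotientGroup.mk' N)) (QuotientGroup.mk' N)
        rwa [Subgroup.map_comap_eq_self_of_surjective hs] at this)
      refine ⟨q, hq, hqd.trans (Dvd.intro _ hcard.symm), fun P => ?_⟩
      have hfq : Fact q.Prime := ⟨hq⟩
      have h1 := hqn (P.mapSurjective hs)
      rw [Sylow.coe_mapSurjective] at h1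
      have h2 : ((P : Subgroup G) ⊔ N).Normal := by
        have := h1.comap (QuotientGroup.mk' N)
        rwa [Subgroup.comap_map_eq, QuotientGroup.ker_mk'] at this
      have h3 : Subgroup.normalizer (P : Set G) ⊔ ((P : Subgroup G) ⊔ N) = ⊤ :=
        Sylow.normalizer_sup_eq_top' P le_sup_left
      have h4 : Subgroup.normalizer (P : Set G) ⊔ frattini G = ⊤ := by
        rw [eq_top_iff, ← h3]
        exact sup_le le_sup_left (sup_le (Subgroup.le_normalizer.trans le_sup_left)
          (hF.trans le_sup_right))
      exact Subgroup.normalizer_eq_top_iff.mp (frattini_nongenerating h4)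
    · -- there is a maximal subgroup complementing `N`
      have : ∃ M : Subgroup G, IsCoatom M ∧ ¬ N ≤ M := by
        by_contra hcon
        push Not at hcon
        exact hF (by
          rw [frattini, Order.radical]
          exact le_iInf₂ hcon)
      obtain ⟨M, hM, hNM⟩ := this
      have hsup : N ⊔ M = ⊤ := by
        rw [sup_comm]
        exact hM.2 _ (lt_of_le_of_ne le_sup_left (fun e => hNM (e ▸ le_sup_right)))
      have hnorm : (N ⊓ M).Normal := by
        rw [← Subgroup.normalizer_eq_top_iff, eq_top_iff, ← hsup]
        refine sup_le ?_ ?_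
        · -- `N` is abelian
          intro x hx
          rw [Subgroup.mem_normalizer_iff]
          intro y
          have hcomm : ∀ y ∈ N, x * y * x⁻¹ = y := by
            intro y hy
            have := isMulCommutative_iff.mp hNc ⟨x, hx⟩ ⟨y, hy⟩
            have := congrArg Subtype.val this
            simp only [Subgroup.coe_mul] at this
            rw [this, mul_inv_cancel_right]
          constructor
          · intro hy
            rw [hcomm y hy.1]; exact hy
          · intro hy
            have hyN : y ∈ N := by
              have := hNn.conj_mem _ hy.1 x⁻¹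
              simpa [mul_assoc] using this
            rw [hcomm y hyN] at hy
            exact hy
        · intro x hx
          rw [Subgroup.mem_normalizer_iff]
          intro y
          constructor
          · rintro ⟨h1, h2⟩
            exact ⟨hNn.conj_mem _ h1 x, M.mul_mem (M.mul_mem hx h2) (M.inv_mem hx)⟩
          · rintro ⟨h1, h2⟩
            have e1 := hNn.conj_mem _ h1 x⁻¹
            have e2 := M.mul_mem (M.mul_mem (M.inv_mem hx) h2) hx
            constructor
            · simpa [mul_assoc] using e1
            · simpa [mul_assoc] using e2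
      have hinf : N ⊓ M = ⊥ := by
        rcases hmin _ hnorm inf_le_left with h' | h'
        · exact h'
        · exact absurd (inf_eq_left.mp h') hNM
      have hcompl : N.IsComplement' M := by
        refine Subgroup.isComplement'_of_disjoint_and_mul_eq_univ (disjoint_iff.mpr hinf) ?_
        rw [← Subgroup.normal_mul, hsup, Subgroup.coe_top]
      have hidx : M.index = Nat.card N := hcompl.index_eq_card
      have hcop := h M hM
      rw [hidx] at hcop
      obtain ⟨k, hk⟩ := (IsPGroup.iff_card).mp hpG
      have hk0 : k ≠ 0 := by
        rintro rfl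
        rw [pow_zero] at hk
        omega
      have hpN : p ∣ Nat.card N := hk ▸ dvd_pow_self p hk0
      have hpM : ¬ p ∣ Nat.card M := by
        intro hd
        have := Nat.dvd_gcd hd hpN
        rw [hcop] at this
        exact hp.one_lt.ne' (Nat.dvd_one.mp this)
      refine ⟨p, hp, hpN.trans (Subgroup.card_subgroup_dvd_card N), fun P => ?_⟩
      have hNP : N ≤ (P : Subgroup G) := hpG.le_sylow_of_normal P
      have hPM : (P : Subgroup G) ⊓ M = ⊥ := by
        have h1 : Nat.card ((P : Subgroup G) ⊓ M : Subgroup G) ∣ Nat.card M :=
          Subgroup.card_dvd_of_le inf_le_right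
        have h2 : IsPGroup p ((P : Subgroup G) ⊓ M : Subgroup G) := P.isPGroup'.to_le inf_le_left
        obtain ⟨l, hl⟩ := (IsPGroup.iff_card).mp h2
        have hl0 : l = 0 := by
          by_contra hl0
          exact hpM ((dvd_pow_self p hl0).trans (hl ▸ h1))
        rw [hl0, pow_zero] at hl
        exact Subgroup.card_eq_one.mp hl
      have hPN : (P : Subgroup G) = N := by
        refine le_antisymm (fun x hx => ?_) hNP
        have hxt : x ∈ N ⊔ M := by rw [hsup]; trivial
        rw [← SetLike.mem_coe, Subgroup.normal_mul] at hxt
        obtain ⟨a, ha, b, hb, rfl⟩ := Set.mem_mul.mp hxt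
        have hbP : b ∈ (P : Subgroup G) ⊓ M :=
          ⟨(Subgroup.mul_mem_cancel_left _ (hNP ha)).mp hx, hb⟩
        rw [hPM, Subgroup.mem_bot] at hbP
        rw [hbP, mul_one]
        exact ha
      rw [hPN]
      exact hNn

/-- Let G be a nontrivial finite solvable group in which every maximal subgroup has order coprime to its index. Then for some prime p dividing the order of G the Sylow p-subgroups of G are normal. -/
theorem result {G : Type*} [Group G] [Finite G] [Group.IsSolvable G] [Nontrivial G] (h : ∀ M : Subgroup G, IsCoatom M → (Nat.card M).Coprime M.index) : ∃ p : ℕ, p.Prime ∧ p ∣ Nat.card G ∧ ∀ P : Sylow p G, (P : Subgroup G).Normal := by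
  exact main (Nat.card G) rfl h

end Cfsg.Agent.S0553
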