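import Cfsg.Statements.S0556
-- import your own Cfsg.Agent.* helpers here
import Cfsg.Agent.Lib.AbelianFrobenius
import Mathlib.GroupTheory.PGroup
import Mathlib.GroupTheory.Solvable
import Mathlib.GroupTheory.SpecificGroups.Cyclic

set_option autoImplicit false
open Cfsg

namespace Cfsg.Agent.S0556

open Subgroup

/-- If `G = K A` with `K` normal and `A` abelian then `G' ≤ K`. -/
theorem commutator_le_of_sup_eq_top {G : Type*} [Group G] (K A : Subgroup G) [K.Normal]
    [IsMulCommutative A] (h : K ⊔ A = ⊤) : _root_.commutator G ≤ K := by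
  rw [← Normal.quotient_commutative_iff_commutator_le]
  have hsurj : ∀ q : G ⧸ K, ∃ a : A, ((a : G) : G ⧸ K) = q := by
    intro q
    obtain ⟨g, rfl⟩ := QuotientGroup.mk_surjective q
    have hg : g ∈ K ⊔ A := h ▸ mem_top g
    obtain ⟨k, hk, a, ha, rfl⟩ := mem_sup_of_normal_left.mp hg
    refine ⟨⟨a, ha⟩, ?_⟩
    apply QuotientGroup.eq.mpr
    have h1 : a⁻¹ * k * a⁻¹⁻¹ ∈ K := Normal.conj_mem inferInstance k hk a⁻¹
    simpa [mul_assoc] using h1
  refine ⟨⟨fun x y => ?_⟩⟩
  obtain ⟨a, rfl⟩ := hsurj x
  obtain ⟨b, rfl⟩ := hsurj y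
  rw [← QuotientGroup.mk_mul, ← QuotientGroup.mk_mul]
  have h2 : (a : G) * b = b * a := by
    have := IsMulCommutative.is_comm.comm a b
    exact congrArg Subtype.val this
  rw [h2]

/-- A nontrivial normal subgroup inside a complement `K` of a maximal subgroup is `K`. -/
theorem eq_of_le_of_disjoint {G : Type*} [Group G] (A : Subgroup G) (hA : IsCoatom A)
    (K : Subgroup G) (hK : K ⊓ A = ⊥) (N : Subgroup G) [N.Normal] (hN : N ≠ ⊥) (hNK : N ≤ K) :
    N = K := by
  have h1 : ¬ N ≤ A := fun h => hN (le_bot_iff.mp (hK ▸ le_inf hNK h))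
  have h2 : N ⊔ A = ⊤ := by
    rcases hA.le_iff.mp (le_sup_right : A ≤ N ⊔ A) with h | h
    · exact h
    · exact absurd (h ▸ le_sup_left) h1
  apply le_antisymm hNK
  intro k hk
  have hk' : k ∈ N ⊔ A := h2 ▸ mem_top k
  obtain ⟨n, hn, a, ha, rfl⟩ := mem_sup_of_normal_left.mp hk'
  have h3 : a ∈ K ⊓ A := ⟨by simpa using K.mul_mem (K.inv_mem (hNK hn)) hk, ha⟩
  rw [hK, mem_bot] at h3
  rw [h3, mul_one]
  exact hn

/-- The kernel of a Frobenius group with abelian maximal complement is abelian. -/
theorem kernel_commutative {G : Type*} [Group G] [Finite G] (A : Subgroup G) (hA : IsCoatom A)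
    [IsMulCommutative A] (hmal : ∀ g : G, g ∉ A → ∀ x ∈ A, g⁻¹ * x * g ∈ A → x = 1)
    (hA1 : A ≠ ⊥) (K : Subgroup G) [K.Normal] (hK : IsComplement' K A) :
    ⁅K, K⁆ = ⊥ := by
  have hKA : K ⊓ A = ⊥ := disjoint_iff.mp hK.disjoint
  by_cases hKbot : K = ⊥
  · rw [hKbot, commutator_bot_left]
  obtain ⟨b, hbA, hb1⟩ : ∃ b : G, b ∈ A ∧ b ≠ 1 := by
    by_contra h
    push Not at h
    exact hA1 (eq_bot_iff.mpr fun x hx => mem_bot.mpr (h x hx))
  have hfix : ∀ k ∈ K, b * k = k * b → k = 1 := by
    intro k hk hbk
    by_cases hkA : k ∈ A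
    · have : k ∈ K ⊓ A := ⟨hk, hkA⟩
      rwa [hKA, mem_bot] at this
    · exfalso
      apply hb1
      apply hmal k hkA b hbA
      rw [mul_assoc, hbk, inv_mul_cancel_left]
      exact hbA
  -- a prime divisor of `|K|`
  have hcard : Nat.card K ≠ 1 := fun h => hKbot (card_eq_one.mp h)
  obtain ⟨p, hp, hpK⟩ := Nat.exists_prime_and_dvd hcard
  have : Fact p.Prime := ⟨hp⟩
  obtain ⟨P, hP⟩ := Lib.AbelianFrobenius.exists_sylow_le_normalizer K A (p := p) b
    (fun a ha => by
      have := IsMulCommutative.is_comm.comm (⟨a, ha⟩ : A) ⟨b, hbA⟩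
      exact congrArg Subtype.val this) hfix
  set Q : Subgroup G := (P : Subgroup K).map K.subtype with hQ
  have hQK : Q ≤ K := by
    rw [hQ]
    exact map_subtype_le _
  have hQbot : Q ≠ ⊥ := by
    rw [hQ, Ne, map_eq_bot_iff_of_injective _ K.subtype_injective]
    exact P.ne_bot_of_dvd_card hpK
  have hQn : normalizer (Q : Set G) = ⊤ := by
    rcases hA.le_iff.mp hP with h | h
    · exact h
    · exfalso
      apply hQbot
      rw [eq_bot_iff, ← hKA]
      refine le_inf hQK ?_
      rw [← h]
      exact le_normalizer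
  have hQnormal : Q.Normal := normalizer_eq_top_iff.mp hQn
  have hQK' : Q = K := eq_of_le_of_disjoint A hA K hKA Q hQbot hQK
  have hKp : IsPGroup p K := by
    rw [← hQK', hQ]
    exact P.isPGroup'.map _
  -- the centre of `K`
  have hKnt : Nontrivial K := (nontrivial_iff_ne_bot K).mpr hKbot
  have hZnt : Nontrivial (center K) := hKp.center_nontrivial
  have hZbot : (center K).map K.subtype ≠ ⊥ := by
    rw [Ne, map_eq_bot_iff_of_injective _ K.subtype_injective]
    exact (nontrivial_iff_ne_bot _).mp hZnt
  have hZK : (center K).map K.subtype = K :=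
    eq_of_le_of_disjoint A hA K hKA _ hZbot (map_subtype_le _)
  rw [eq_bot_iff, commutator_le]
  intro x hx y hy
  rw [mem_bot, commutatorElement_eq_one_iff_mul_comm]
  rw [← hZK] at hx
  obtain ⟨x', hx', rfl⟩ := hx
  have := mem_center_iff.mp hx' ⟨y, hy⟩
  exact (congrArg Subtype.val this).symm

/-- If a finite group has a maximal subgroup that is abelian, then the third term of its derived series is trivial (so the group is solvable of derived length at most three). -/
theorem result {G : Type*} [Group G] [Finite G] (A : Subgroup G) (hA : IsCoatom A) [IsMulCommutative A] : derivedSeries G 3 = ⊥ := by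
  have hcomm : ∀ x ∈ A, ∀ y ∈ A, x * y = y * x := by
    intro x hx y hy
    exact congrArg Subtype.val (IsMulCommutative.is_comm.comm (⟨x, hx⟩ : A) ⟨y, hy⟩)
  have hAA : ⁅A, A⁆ = ⊥ := by
    rw [eq_bot_iff, commutator_le]
    intro x hx y hy
    rw [mem_bot, commutatorElement_eq_one_iff_mul_comm]
    exact hcomm x hx y hy
  by_cases hAn : A.Normal
  · -- the normal case: `G / A` is cyclic
    obtain ⟨x, hx⟩ : ∃ x, x ∉ A := by
      by_contra h
      push Not at h
      exact hA.1 (eq_top_iff.mpr fun x _ => h x)
    have h2 : A ⊔ zpowers x = ⊤ := by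
      rcases hA.le_iff.mp (le_sup_left : A ≤ A ⊔ zpowers x) with h | h
      · exact h
      · exact absurd ((h ▸ le_sup_right : zpowers x ≤ A) (mem_zpowers x)) hx
    have h3 : _root_.commutator G ≤ A := commutator_le_of_sup_eq_top A (zpowers x) h2
    have h4 : derivedSeries G 2 = ⊥ := by
      rw [derivedSeries_succ, derivedSeries_one, eq_bot_iff, ← hAA]
      exact commutator_mono h3 h3
    rw [derivedSeries_succ, h4, commutator_bot_left]
  · -- the non-normal case
    have hAnorm : normalizer (A : Set G) = A := by
      rcases hA.le_iff.mp (le_normalizer : A ≤ normalizer (A : Set G)) with h | h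
      · exact absurd (normalizer_eq_top_iff.mp h) hAn
      · exact h
    have hZA : center G ≤ A := by
      rw [← hAnorm]
      exact center_le_normalizer _
    have hcent : ∀ g : G, g ∉ A → ∀ x ∈ A, g⁻¹ * x * g ∈ A → x ∈ center G := by
      intro g hg x hx hxg
      have h1 : A ≤ centralizer {x} := by
        intro a ha
        rw [mem_centralizer_singleton_iff]
        exact hcomm a ha x hx
      rcases hA.le_iff.mp h1 with h | h
      · rw [mem_center_iff]
        intro y
        have : y ∈ centralizer {x} := h ▸ mem_top y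
        exact mem_centralizer_singleton_iff.mp this
      · exfalso
        apply hg
        rw [← hAnorm]
        -- `g` normalizes `A`
        have h2 : ∀ a ∈ A, g * a * g⁻¹ ∈ A := by
          intro a ha
          rw [← h, mem_centralizer_singleton_iff]
          have h3 := hcomm a ha _ hxg
          calc g * a * g⁻¹ * x = g * (a * (g⁻¹ * x * g)) * g⁻¹ := by group
            _ = g * ((g⁻¹ * x * g) * a) * g⁻¹ := by rw [h3]
            _ = x * (g * a * g⁻¹) := by group
        have h5 : A.map (MulAut.conj g).toMonoidHom ≤ A := by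
          rintro _ ⟨a, ha, rfl⟩
          exact h2 a ha
        have h6 : A.map (MulAut.conj g).toMonoidHom = A := by
          apply eq_of_le_of_card_ge h5
          rw [card_map_of_injective (MulAut.conj g).injective]
        rw [mem_normalizer_iff]
        intro a
        constructor
        · exact h2 a
        · intro ha
          rw [← h6] at ha
          obtain ⟨a', ha', h7⟩ := ha
          have h8 : g * a' * g⁻¹ = g * a * g⁻¹ := h7
          have h9 : a' = a := by
            have := mul_left_cancel (mul_right_cancel h8)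
            exact this
          rw [← h9]
          exact ha'
    -- pass to the quotient by the centre
    let π : G →* G ⧸ center G := QuotientGroup.mk' (center G)
    have hπ : Function.Surjective π := QuotientGroup.mk'_surjective _
    have hker : π.ker = center G := QuotientGroup.ker_mk' _
    let B : Subgroup (G ⧸ center G) := A.map π
    have hBA : B.comap π = A := by
      rw [comap_map_eq, hker, sup_eq_left.mpr hZA]
    have hB : IsCoatom B := by
      constructor
      · intro h
        apply hA.1
        rw [← hBA, h, comap_top]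
      · intro C hC
        have h1 : A < C.comap π := by
          rw [← hBA]
          exact (comap_lt_comap_of_surjective hπ).mpr hC
        have h2 := hA.2 _ h1
        rw [← map_comap_eq_self_of_surjective hπ C, h2, map_top_of_surjective π hπ]
    have hBcomm : IsMulCommutative B := by
      refine ⟨⟨?_⟩⟩
      rintro ⟨_, x, hx, rfl⟩ ⟨_, y, hy, rfl⟩
      apply Subtype.ext
      change π x * π y = π y * π x
      rw [← map_mul, ← map_mul, hcomm x hx y hy]
    have hBmem : ∀ g, π g ∈ B ↔ g ∈ A := by
      intro g
      rw [← mem_comap, hBA]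
    have hmal : ∀ g : G ⧸ center G, g ∉ B → ∀ x ∈ B, g⁻¹ * x * g ∈ B → x = 1 := by
      intro g hg x hx hxg
      obtain ⟨g, rfl⟩ := hπ g
      obtain ⟨x, hx, rfl⟩ := hx
      rw [← map_inv, ← map_mul, ← map_mul, hBmem] at hxg
      rw [hBmem] at hg
      have := hcent g hg x hx hxg
      rw [← hker] at this
      exact this
    have hB1 : B ≠ ⊥ := by
      intro h
      apply hAn
      have : A = center G := by
        rw [← hBA, h]
        change π.ker = _
        exact hker
      rw [this]
      infer_instance
    obtain ⟨K, hKn, hK⟩ := Lib.AbelianFrobenius.exists_normal_isComplement' B hmal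
    have hKK := kernel_commutative B hB hmal hB1 K hK
    have h1 : _root_.commutator (G ⧸ center G) ≤ K :=
      commutator_le_of_sup_eq_top K B hK.sup_eq_top
    have h2 : derivedSeries (G ⧸ center G) 2 = ⊥ := by
      rw [derivedSeries_succ, derivedSeries_one, eq_bot_iff, ← hKK]
      exact commutator_mono h1 h1
    have h3 : derivedSeries G 2 ≤ center G := by
      rw [← hker, ← Subgroup.map_eq_bot_iff, map_derivedSeries_eq hπ, h2]
    rw [derivedSeries_succ, eq_bot_iff, commutator_le]
    intro x hx y _
    rw [mem_bot, commutatorElement_eq_one_iff_mul_comm]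
    exact (mem_center_iff.mp (h3 hx) y).symm

end Cfsg.Agent.S0556
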