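import Cfsg.Statements.S0560
import Cfsg.Agent.Lib.ProductSet

set_option autoImplicit false
open Pointwise
open Cfsg

namespace Cfsg.Agent.S0560

/-- Let the finite group G be the product HK of two subgroups and p a prime. Then there are Sylow p-subgroups P of H and Q of K and a Sylow p-subgroup R of G whose underlying set is the product set of P and Q. -/
theorem result {G : Type*} [Group G] [Finite G] (H K : Subgroup G) (hHK : ∀ g : G, ∃ h ∈ H, ∃ k ∈ K, g = h * k) (p : ℕ) [Fact p.Prime] : ∃ (P : Sylow p H) (Q : Sylow p K) (R : Sylow p G), ((R : Subgroup G) : Set G) = (((P : Subgroup H).map H.subtype : Subgroup G) : Set G) * (((Q : Subgroup K).map K.subtype : Subgroup G) : Set G) := by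
  classical
  obtain ⟨P0⟩ : Nonempty (Sylow p H) := inferInstance
  obtain ⟨Q0⟩ : Nonempty (Sylow p K) := inferInstance
  have hP0 : IsPGroup p ((P0 : Subgroup H).map H.subtype) := P0.2.map _
  have hQ0 : IsPGroup p ((Q0 : Subgroup K).map K.subtype) := Q0.2.map _
  obtain ⟨R1, hR1⟩ := hP0.exists_le_sylow
  obtain ⟨R2, hR2⟩ := hQ0.exists_le_sylow
  obtain ⟨g, hg⟩ := MulAction.exists_smul_eq G R1 R2
  obtain ⟨k, hk, h, hh, e⟩ := Cfsg.Agent.Lib.ProductSet.factorization_symm hHK g
  let P : Sylow p H := (⟨h, hh⟩ : H) • P0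
  let Q : Sylow p K := (⟨k, hk⟩ : K)⁻¹ • Q0
  let R : Sylow p G := h • R1
  have hR : k⁻¹ • R2 = R := by
    rw [← hg, e, mul_smul, inv_smul_smul]
  have hPR : (P : Subgroup H).map H.subtype ≤ (R : Subgroup G) := by
    rintro _ ⟨x, hx, rfl⟩
    have hx' : x ∈ (MulAut.conj (⟨h, hh⟩ : H) • (P0 : Subgroup H)) := hx
    rw [Subgroup.mem_pointwise_smul_iff_inv_smul_mem] at hx'
    show H.subtype x ∈ (MulAut.conj h • (R1 : Subgroup G))
    rw [Subgroup.mem_pointwise_smul_iff_inv_smul_mem]
    apply hR1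
    exact ⟨_, hx', by simp [MulAut.smul_def, ← map_inv]⟩
  have hQR : (Q : Subgroup K).map K.subtype ≤ (R : Subgroup G) := by
    rw [← hR]
    rintro _ ⟨x, hx, rfl⟩
    have hx' : x ∈ (MulAut.conj (⟨k, hk⟩ : K)⁻¹ • (Q0 : Subgroup K)) := hx
    rw [Subgroup.mem_pointwise_smul_iff_inv_smul_mem] at hx'
    show K.subtype x ∈ (MulAut.conj k⁻¹ • (R2 : Subgroup G))
    rw [Subgroup.mem_pointwise_smul_iff_inv_smul_mem]
    apply hR2
    exact ⟨_, hx', by simp [MulAut.smul_def, ← map_inv]⟩
  refine ⟨P, Q, R, Cfsg.Agent.Lib.ProductSet.coe_eq_mul_of_card_le hPR hQR ?_⟩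
  have hcP : Nat.card ((P : Subgroup H).map H.subtype) = p ^ (Nat.card H).factorization p := by
    rw [Subgroup.card_map_of_injective H.subtype_injective]
    exact P.card_eq_multiplicity
  have hcQ : Nat.card ((Q : Subgroup K).map K.subtype) = p ^ (Nat.card K).factorization p := by
    rw [Subgroup.card_map_of_injective K.subtype_injective]
    exact Q.card_eq_multiplicity
  have hcR : Nat.card (R : Subgroup G) = p ^ (Nat.card G).factorization p := R.card_eq_multiplicity
  have hI : IsPGroup p ((P : Subgroup H).map H.subtype ⊓ (Q : Subgroup K).map K.subtype :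
      Subgroup G) := (P.2.map _).to_le inf_le_left
  obtain ⟨n, hn⟩ := IsPGroup.iff_card.1 hI
  have hle : ((P : Subgroup H).map H.subtype ⊓ (Q : Subgroup K).map K.subtype : Subgroup G)
      ≤ H ⊓ K := inf_le_inf (Subgroup.map_subtype_le _) (Subgroup.map_subtype_le _)
  have hdvd : p ^ n ∣ Nat.card (H ⊓ K : Subgroup G) := hn ▸ Subgroup.card_dvd_of_le hle
  have hpp : p.Prime := Fact.out
  have hn' : n ≤ (Nat.card (H ⊓ K : Subgroup G)).factorization p :=
    (hpp.pow_dvd_iff_le_factorization Nat.card_pos.ne').1 hdvd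
  have hcard := Cfsg.Agent.Lib.ProductSet.card_mul_card_inf_of_factorization hHK
  have hfac : (Nat.card G).factorization p + (Nat.card (H ⊓ K : Subgroup G)).factorization p
      = (Nat.card H).factorization p + (Nat.card K).factorization p := by
    rw [← Finsupp.add_apply, ← Finsupp.add_apply,
      ← Nat.factorization_mul Nat.card_pos.ne' Nat.card_pos.ne',
      ← Nat.factorization_mul Nat.card_pos.ne' Nat.card_pos.ne', hcard]
  rw [hcP, hcQ, hcR, hn, ← pow_add, ← pow_add, ← hfac]
  exact Nat.pow_le_pow_right hpp.pos (by omega)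

end Cfsg.Agent.S0560
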