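import Cfsg.Statements.S0568
import Cfsg.Agent.SolvableStructure.EccentricFactor
import Cfsg.Agent.S0043
-- import your own Cfsg.Agent.* helpers here

set_option autoImplicit false
open Cfsg

namespace Cfsg.Agent.S0568

/-- Let D be the system normalizer of a Hall complement system of a finite solvable group G, and let A < B be normal subgroups with no normal subgroup of G strictly between them (a chief factor). If G centralizes B modulo A then B ≤ A ⊔ D (D covers the factor); otherwise B ∩ D ≤ A (D avoids it). -/
theorem result {G : Type*} [Group G] [Finite G] [Group.IsSolvable G] (K : Nat.Primes → Subgroup G) (hK : Cfsg.IsComplementSystem K) (A B : Subgroup G) [A.Normal] [B.Normal] (hAB : A < B) (hchief : ∀ N : Subgroup G, N.Normal → A ≤ N → N ≤ B → N = A ∨ N = B) : (⁅B, (⊤ : Subgroup G)⁆ ≤ A → B ≤ A ⊔ Cfsg.systemNormalizer K) ∧ (¬ ⁅B, (⊤ : Subgroup G)⁆ ≤ A → B ⊓ Cfsg.systemNormalizer K ≤ A) := by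
  classical
  set D := Cfsg.systemNormalizer K with hD
  have hDmap := SolvableStructure.ComplementSystem.systemNormalizer_map hK A
  -- `B/A` is central iff `[B, G] ≤ A`
  have hcen : B.map (QuotientGroup.mk' A) ≤ Subgroup.center (G ⧸ A) ↔ ⁅B, (⊤ : Subgroup G)⁆ ≤ A := by
    rw [← Subgroup.commutator_top_right_eq_bot_iff_le_center,
      ← Subgroup.map_top_of_surjective _ (QuotientGroup.mk'_surjective A),
      ← Subgroup.map_commutator, Subgroup.map_eq_bot_iff, QuotientGroup.ker_mk']
  constructor
  · intro h
    have h1 : B.map (QuotientGroup.mk' A) ≤ D.map (QuotientGroup.mk' A) := by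
      rw [← hDmap]
      refine (hcen.2 h).trans ?_
      refine le_iInf fun p => ?_
      exact Subgroup.center_le_normalizer _
    rw [Subgroup.map_le_map_iff, QuotientGroup.ker_mk', sup_comm] at h1
    exact h1
  · intro h
    have hnc : ¬ B.map (QuotientGroup.mk' A) ≤ Subgroup.center (G ⧸ A) := fun hc => h (hcen.1 hc)
    have hVn : (B.map (QuotientGroup.mk' A)).Normal :=
      Subgroup.Normal.map inferInstance _ (QuotientGroup.mk'_surjective A)
    have hmin : ∀ M : Subgroup (G ⧸ A), M.Normal → M ≤ B.map (QuotientGroup.mk' A) →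
        M = ⊥ ∨ M = B.map (QuotientGroup.mk' A) := by
      intro M hM hMB
      have h1 : A ≤ M.comap (QuotientGroup.mk' A) := by
        intro a ha
        rw [Subgroup.mem_comap]
        have : QuotientGroup.mk' A a = 1 := (QuotientGroup.eq_one_iff a).2 ha
        rw [this]
        exact one_mem _
      have h2 : M.comap (QuotientGroup.mk' A) ≤ B := by
        have h3 := Subgroup.comap_mono (f := QuotientGroup.mk' A) hMB
        rwa [Subgroup.comap_map_eq, QuotientGroup.ker_mk', sup_eq_left.2 hAB.le] at h3
      have h3 : (M.comap (QuotientGroup.mk' A)).map (QuotientGroup.mk' A) = M :=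
        Subgroup.map_comap_eq_self_of_surjective (QuotientGroup.mk'_surjective A) M
      rcases hchief _ (hM.comap _) h1 h2 with h4 | h4
      · left
        rw [← h3, h4, Subgroup.map_eq_bot_iff, QuotientGroup.ker_mk']
      · right
        rw [← h3, h4]
    have hVne : B.map (QuotientGroup.mk' A) ≠ ⊥ := by
      rw [Ne, Subgroup.map_eq_bot_iff, QuotientGroup.ker_mk']
      exact hAB.not_ge
    obtain ⟨-, p, hp, hpow⟩ := Cfsg.Agent.S0043.result (B.map (QuotientGroup.mk' A)) hVne hmin
    have hVp : IsPGroup p (B.map (QuotientGroup.mk' A)) := by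
      intro v
      refine ⟨1, ?_⟩
      rw [pow_one]
      exact Subtype.ext (hpow v v.2)
    set P : Nat.Primes := ⟨p, hp⟩ with hP
    -- `(K P) ∩ B ≤ A`
    have hKP : (Nat.card (K P)).Coprime p :=
      SolvableStructure.ComplementSystem.coprime_card_of_index hp (hK P)
    have hSidx : ((K P).map (QuotientGroup.mk' A)).index =
        p ^ (Nat.card (G ⧸ A)).factorization p :=
      SolvableStructure.ComplementSystem.isComplementSystem_map hK A P
    have hScop : (Nat.card ((K P).map (QuotientGroup.mk' A))).Coprime p :=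
      SolvableStructure.ComplementSystem.coprime_card_of_index hp hSidx
    intro x hx
    obtain ⟨hxB, hxD⟩ := Subgroup.mem_inf.1 hx
    have hxn : QuotientGroup.mk' A x ∈
        Subgroup.normalizer (((K P).map (QuotientGroup.mk' A) : Subgroup (G ⧸ A)) : Set (G ⧸ A)) :=
      Subgroup.le_normalizer_map _ ⟨x, (Subgroup.mem_iInf.1 hxD) P, rfl⟩
    have hxV : QuotientGroup.mk' A x ∈ B.map (QuotientGroup.mk' A) := ⟨x, hxB, rfl⟩
    have hfin : QuotientGroup.mk' A x = 1 := by
      refine SolvableStructure.EccentricFactor.eq_one_of_commute _ hmin hnc hp hVp _ hSidx _ hxV ?_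
      intro s hs
      -- the commutator lies in the intersection
      have h1 : s * QuotientGroup.mk' A x * s⁻¹ * (QuotientGroup.mk' A x)⁻¹ ∈
          B.map (QuotientGroup.mk' A) :=
        mul_mem (hVn.conj_mem _ hxV s) (inv_mem hxV)
      have h2 : s * QuotientGroup.mk' A x * s⁻¹ * (QuotientGroup.mk' A x)⁻¹ ∈
          (K P).map (QuotientGroup.mk' A) := by
        have h3 := (Subgroup.mem_normalizer_iff.1 hxn s⁻¹).1 (inv_mem hs)
        have h4 := mul_mem hs h3
        rwa [← mul_assoc, ← mul_assoc] at h4
      have h5 : s * QuotientGroup.mk' A x * s⁻¹ * (QuotientGroup.mk' A x)⁻¹ = 1 := by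
        set y := s * QuotientGroup.mk' A x * s⁻¹ * (QuotientGroup.mk' A x)⁻¹ with hy
        have h6 : orderOf y ∣ p := orderOf_dvd_of_pow_eq_one (hpow y h1)
        have h7 : orderOf y ∣ Nat.card ((K P).map (QuotientGroup.mk' A)) :=
          Subgroup.orderOf_dvd_natCard _ h2
        exact orderOf_eq_one_iff.1 (Nat.eq_one_of_dvd_coprimes hScop h7 h6)
      rw [mul_inv_eq_one, mul_inv_eq_iff_eq_mul] at h5
      exact h5
    exact (QuotientGroup.eq_one_iff x).1 hfin

end Cfsg.Agent.S0568
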