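import Cfsg.Statements.S0571
import Mathlib

set_option autoImplicit false
set_option linter.style.haveILetI false
open Cfsg

namespace Cfsg.Agent.S0571

/-- Subgroups of equal order inside a finite cyclic subgroup coincide. -/
theorem eq_of_card_eq_of_le_cyclic {G : Type*} [Group G] [Finite G] (A D E : Subgroup G)
    [hA : IsCyclic A] (hD : D ≤ A) (hE : E ≤ A) (h : Nat.card D = Nat.card E) : D = E := by
  classical
  haveI : Fintype A := Fintype.ofFinite A
  have hpos : 0 < Nat.card D := Nat.card_pos
  have key : ∀ F : Subgroup G, F ≤ A → Nat.card F = Nat.card D →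
      (F.subgroupOf A : Set A) = {x : A | x ^ Nat.card D = 1} := by
    intro F hF hFc
    have hsub : (F.subgroupOf A : Set A) ⊆ {x : A | x ^ Nat.card D = 1} := by
      intro x hx
      have hx' : (x : G) ∈ F := Subgroup.mem_subgroupOf.mp hx
      have h1 : (⟨(x : G), hx'⟩ : F) ^ Nat.card F = 1 := pow_card_eq_one'
      have h2 : (x : G) ^ Nat.card F = 1 := congrArg (Subtype.val) h1
      show x ^ Nat.card D = 1
      apply Subtype.ext
      rw [← hFc]
      simpa using h2
    apply Set.eq_of_subset_of_ncard_le hsub _ (Set.toFinite _)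
    have h3 : ({x : A | x ^ Nat.card D = 1} : Set A).ncard ≤ Nat.card D := by
      have := IsCyclic.card_pow_eq_one_le (α := A) hpos
      rw [← Set.ncard_coe_finset] at this
      simpa using this
    have h4 : (F.subgroupOf A : Set A).ncard = Nat.card F := by
      rw [← Nat.card_coe_set_eq]
      exact Nat.card_congr (Subgroup.subgroupOfEquivOfLe hF).toEquiv
    rw [h4, hFc]
    exact h3
  have h1 := key D hD rfl
  have h2 := key E hE h.symm
  have h3 : D.subgroupOf A = E.subgroupOf A := SetLike.coe_injective (h1.trans h2.symm)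
  have h4 := congrArg (Subgroup.map A.subtype) h3
  rwa [Subgroup.map_subgroupOf_eq_of_le hD, Subgroup.map_subgroupOf_eq_of_le hE] at h4

/-- Main step: a nontrivial product of two cyclic groups has a nontrivial normal subgroup
contained in the bigger factor. -/
theorem exists_normal_aux {G : Type*} [Group G] [Finite G] [Nontrivial G] (A B : Subgroup G)
    [hA : IsCyclic A] [hB : IsCyclic B] (hAB : ∀ g : G, ∃ a ∈ A, ∃ b ∈ B, g = a * b)
    (hcard : Nat.card B ≤ Nat.card A) :
    ∃ D : Subgroup G, D.Normal ∧ IsCyclic D ∧ D ≠ ⊥ := by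
  classical
  obtain ⟨⟨b, hbB⟩, hb⟩ := hB.exists_generator
  set A' : Subgroup G := A.map (MulAut.conj b).toMonoidHom with hA'
  have hA'c : IsCyclic A' := isCyclic_of_surjective
    ((MulAut.conj b).toMonoidHom.subgroupMap A) ((MulAut.conj b).toMonoidHom.subgroupMap_surjective A)
  have hA'card : Nat.card A' = Nat.card A :=
    Nat.card_congr ((MulAut.conj b).subgroupMap A).symm.toEquiv
  refine ⟨A ⊓ A', ?_, Subgroup.isCyclic_of_le (inf_le_left : A ⊓ A' ≤ A), ?_⟩
  · -- normality
    rw [← Subgroup.normalizer_eq_top_iff, eq_top_iff]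
    have hBle : B ≤ Subgroup.normalizer ((A ⊓ A' : Subgroup G) : Set G) := by
      have hbn : b ∈ Subgroup.normalizer ((A ⊓ A' : Subgroup G) : Set G) := by
        have h1 : (A ⊓ A').map (MulAut.conj b).toMonoidHom ≤ A' :=
          Subgroup.map_mono inf_le_left
        have h2 : Nat.card ((A ⊓ A').map (MulAut.conj b).toMonoidHom) = Nat.card (A ⊓ A' : Subgroup G) :=
          Nat.card_congr ((MulAut.conj b).subgroupMap (A ⊓ A')).symm.toEquiv
        have h3 := eq_of_card_eq_of_le_cyclic A' _ _ h1 (inf_le_right : A ⊓ A' ≤ A') h2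
        rw [Subgroup.mem_normalizer_iff]
        intro x
        constructor
        · intro hx
          have : (MulAut.conj b).toMonoidHom x ∈ (A ⊓ A').map (MulAut.conj b).toMonoidHom :=
            Subgroup.mem_map_of_mem _ hx
          rw [h3] at this
          simpa using this
        · intro hx
          rw [← SetLike.mem_coe, ← h3] at hx
          obtain ⟨y, hy, hyx⟩ := Subgroup.mem_map.mp hx
          have : y = x := by
            have h5 : b * y * b⁻¹ = b * x * b⁻¹ := by simpa using hyx
            exact mul_left_cancel (mul_right_cancel h5)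
          rw [← this]; exact hy
      intro y hy
      obtain ⟨k, hk⟩ := Subgroup.mem_zpowers_iff.mp (hb ⟨y, hy⟩)
      have : y = b ^ k := by
        have := congrArg Subtype.val hk
        simpa using this.symm
      rw [this]
      exact Subgroup.zpow_mem _ hbn k
    have hAle : A ≤ Subgroup.normalizer ((A ⊓ A' : Subgroup G) : Set G) := by
      intro a ha
      letI : CommGroup A := IsCyclic.commGroup
      have hcomm : ∀ x ∈ A, a * x * a⁻¹ = x := by
        intro x hx
        have := mul_comm (⟨a, ha⟩ : A) ⟨x, hx⟩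
        have h2 : a * x = x * a := congrArg Subtype.val this
        rw [h2, mul_inv_cancel_right]
      rw [Subgroup.mem_normalizer_iff]
      intro x
      constructor
      · intro hx
        rw [hcomm x hx.1]; exact hx
      · intro hx
        have hxA : x ∈ A := by
          have h1 : a * x * a⁻¹ ∈ A := hx.1
          have h2 : a⁻¹ * (a * x * a⁻¹) * a ∈ A := A.mul_mem (A.mul_mem (A.inv_mem ha) h1) ha
          simpa [mul_assoc] using h2
        rw [hcomm x hxA] at hx; exact hx
    intro g _
    obtain ⟨a, ha, c, hc, rfl⟩ := hAB g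
    exact Subgroup.mul_mem _ (hAle ha) (hBle hc)
  · intro hbot
    have hdisj : Disjoint A A' := disjoint_iff.mpr hbot
    have hinj := Subgroup.mul_injective_of_disjoint hdisj
    have hsurjAB : Function.Surjective (fun x : A × B => (x.1 * x.2 : G)) := by
      intro g
      obtain ⟨a, ha, c, hc, rfl⟩ := hAB g
      exact ⟨(⟨a, ha⟩, ⟨c, hc⟩), rfl⟩
    have hle : Nat.card G ≤ Nat.card A * Nat.card B := by
      rw [← Nat.card_prod]
      exact Nat.card_le_card_of_surjective _ hsurjAB
    have hsurj : Function.Surjective (fun x : A × A' => (x.1 * x.2 : G)) := by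
      have hge : Nat.card G ≤ Nat.card (A × A') := by
        rw [Nat.card_prod, hA'card]
        exact hle.trans (Nat.mul_le_mul_left _ hcard)
      exact ((Function.Injective.bijective_of_nat_card_le hinj hge).2)
    obtain ⟨⟨⟨x, hx⟩, ⟨y, hy⟩⟩, hxy⟩ := hsurj b⁻¹
    obtain ⟨a, ha, hay⟩ := Subgroup.mem_map.mp hy
    have hay' : b * a * b⁻¹ = y := by simpa using hay
    have hxy' : x * y = b⁻¹ := hxy
    have hbA : b ∈ A := by
      rw [← hay'] at hxy'
      have h1 : x * b * a = 1 := by
        have : x * (b * a * b⁻¹) * b = b⁻¹ * b := by rw [hxy']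
        simpa [mul_assoc] using this
      have h2 : b = x⁻¹ * a⁻¹ := by
        have : x⁻¹ * (x * b * a) * a⁻¹ = x⁻¹ * 1 * a⁻¹ := by rw [h1]
        simpa [mul_assoc] using this
      rw [h2]
      exact A.mul_mem (A.inv_mem hx) (A.inv_mem ha)
    have hAtop : A = ⊤ := by
      rw [eq_top_iff]
      intro g _
      obtain ⟨a', ha', c, hc, rfl⟩ := hAB g
      obtain ⟨k, hk⟩ := Subgroup.mem_zpowers_iff.mp (hb ⟨c, hc⟩)
      have : c = b ^ k := by
        have := congrArg Subtype.val hk
        simpa using this.symm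
      rw [this]
      exact A.mul_mem ha' (A.zpow_mem hbA k)
    have hA'top : A' = ⊤ := by
      apply Subgroup.eq_top_of_card_eq
      rw [hA'card, hAtop, Subgroup.card_top]
    rw [hAtop, hA'top, top_inf_eq] at hbot
    exact top_ne_bot hbot

theorem exists_normal {G : Type*} [Group G] [Finite G] [Nontrivial G] (A B : Subgroup G)
    [hA : IsCyclic A] [hB : IsCyclic B] (hAB : ∀ g : G, ∃ a ∈ A, ∃ b ∈ B, g = a * b) :
    ∃ D : Subgroup G, D.Normal ∧ IsCyclic D ∧ D ≠ ⊥ := by
  rcases le_total (Nat.card B) (Nat.card A) with h | h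
  · exact exists_normal_aux A B hAB h
  · refine exists_normal_aux B A ?_ h
    intro g
    obtain ⟨a, ha, b, hb, hg⟩ := hAB g⁻¹
    refine ⟨b⁻¹, B.inv_mem hb, a⁻¹, A.inv_mem ha, ?_⟩
    rw [← mul_inv_rev, ← hg, inv_inv]

/-- cyclic-by-supersolvable is supersolvable. -/
theorem isSupersolvable_of_quotient {G : Type*} [Group G] (N : Subgroup G) [N.Normal]
    (hN : IsCyclic N) (h : IsSupersolvable (G ⧸ N)) : IsSupersolvable G := by
  obtain ⟨n, H, h0, hl, hn, hs⟩ := h
  obtain ⟨⟨g, hgN⟩, hg⟩ := hN.exists_generator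
  have hNg : N = Subgroup.zpowers g := by
    apply le_antisymm
    · intro x hx
      obtain ⟨k, hk⟩ := Subgroup.mem_zpowers_iff.mp (hg ⟨x, hx⟩)
      rw [Subgroup.mem_zpowers_iff]
      exact ⟨k, by simpa using congrArg Subtype.val hk⟩
    · rwa [Subgroup.zpowers_le]
  refine ⟨n + 1, Fin.cons ⊥ (fun i => (H i).comap (QuotientGroup.mk' N)), ?_, ?_, ?_, ?_⟩
  · simp
  · have : (Fin.last (n + 1)) = (Fin.last n).succ := (Fin.succ_last n).symm
    rw [this, Fin.cons_succ, hl, Subgroup.comap_top]
  · intro i
    refine Fin.cases ?_ ?_ i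
    · rw [Fin.cons_zero]; infer_instance
    · intro j
      rw [Fin.cons_succ]
      haveI := hn j
      infer_instance
  · intro i
    refine Fin.cases ?_ ?_ i
    · refine ⟨g, ?_⟩
      rw [Fin.cons_succ, Fin.castSucc_zero, Fin.cons_zero, h0, bot_sup_eq, MonoidHom.comap_bot,
        QuotientGroup.ker_mk', hNg]
    · intro j
      obtain ⟨x, hx⟩ := hs j
      obtain ⟨y, rfl⟩ := QuotientGroup.mk'_surjective N x
      refine ⟨y, ?_⟩
      rw [Fin.cons_succ, hx, ← Fin.succ_castSucc, Fin.cons_succ]
      have hker : (QuotientGroup.mk' N).ker ≤ (H j.castSucc).comap (QuotientGroup.mk' N) := by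
        intro z hz
        rw [Subgroup.mem_comap, MonoidHom.mem_ker.mp hz]
        exact one_mem _
      have hsurj := QuotientGroup.mk'_surjective N
      have h1 : ((H j.castSucc).comap (QuotientGroup.mk' N) ⊔ Subgroup.zpowers y).map
          (QuotientGroup.mk' N) = H j.castSucc ⊔ Subgroup.zpowers ((QuotientGroup.mk' N) y) := by
        rw [Subgroup.map_sup, Subgroup.map_comap_eq_self_of_surjective hsurj, MonoidHom.map_zpowers]
      rw [← h1, Subgroup.comap_map_eq_self (hker.trans le_sup_left)]

theorem isSupersolvable_of_subsingleton {G : Type*} [Group G] [Subsingleton G] :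
    IsSupersolvable G := by
  refine ⟨0, fun _ => ⊥, rfl, ?_, fun _ => inferInstance, fun i => i.elim0⟩
  exact Subsingleton.elim _ _

theorem main (n : ℕ) : ∀ {G : Type*} [Group G] [Finite G] (_ : Nat.card G = n) (A B : Subgroup G)
    [IsCyclic A] [IsCyclic B] (_ : ∀ g : G, ∃ a ∈ A, ∃ b ∈ B, g = a * b),
    Cfsg.IsSupersolvable G := by
  induction n using Nat.strong_induction_on with
  | _ n ih =>
    intro G _ _ hn A B _ _ hAB
    rcases subsingleton_or_nontrivial G with hs | hnt
    · exact isSupersolvable_of_subsingleton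
    · obtain ⟨D, hDn, hDc, hDb⟩ := exists_normal A B hAB
      apply isSupersolvable_of_quotient D hDc
      have hlt : Nat.card (G ⧸ D) < n := by
        rw [← hn, ← Subgroup.card_mul_index D]
        show D.index < Nat.card D * D.index
        have h1 : 1 < Nat.card D := by
          rw [Subgroup.one_lt_card_iff_ne_bot]; exact hDb
        have h2 : 0 < D.index := Nat.pos_of_ne_zero Subgroup.index_ne_zero_of_finite
        nlinarith
      haveI : IsCyclic (A.map (QuotientGroup.mk' D)) := isCyclic_of_surjective
        ((QuotientGroup.mk' D).subgroupMap A) ((QuotientGroup.mk' D).subgroupMap_surjective A)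
      haveI : IsCyclic (B.map (QuotientGroup.mk' D)) := isCyclic_of_surjective
        ((QuotientGroup.mk' D).subgroupMap B) ((QuotientGroup.mk' D).subgroupMap_surjective B)
      refine ih _ hlt rfl (A.map (QuotientGroup.mk' D)) (B.map (QuotientGroup.mk' D)) ?_
      intro g
      obtain ⟨g, rfl⟩ := QuotientGroup.mk'_surjective D g
      obtain ⟨a, ha, b, hb, rfl⟩ := hAB g
      exact ⟨_, Subgroup.mem_map_of_mem _ ha, _, Subgroup.mem_map_of_mem _ hb, map_mul _ _ _⟩

/-- If a finite group G is the product AB of two cyclic subgroups (every element is a product ab), then G is supersolvable. -/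
theorem result {G : Type*} [Group G] [Finite G] (A B : Subgroup G) [IsCyclic A] [IsCyclic B] (hAB : ∀ g : G, ∃ a ∈ A, ∃ b ∈ B, g = a * b) : Cfsg.IsSupersolvable G :=
  main _ rfl A B hAB

end Cfsg.Agent.S0571
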