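import Cfsg.Statements.S0575
import Mathlib

set_option autoImplicit false
open Cfsg

namespace Cfsg.Agent.S0575

/-- If H is a normal subgroup of a finite group G, then the Frattini subgroup of H, viewed in G, lies in the Frattini subgroup of G. -/
theorem result {G : Type*} [Group G] [Finite G] (H : Subgroup G) [H.Normal] : (frattini ↥H).map H.subtype ≤ frattini G := by
  have hN : ((frattini ↥H).map H.subtype).Normal := inferInstance
  have hcoat : ∀ M : Subgroup G, IsCoatom M → (frattini ↥H).map H.subtype ≤ M := by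
    intro M hM
    by_contra hle
    have htop : M ⊔ (frattini ↥H).map H.subtype = ⊤ := by
      rcases hM.le_iff.mp (le_sup_left : M ≤ M ⊔ (frattini ↥H).map H.subtype) with h | h
      · exact h
      · exact absurd (h ▸ le_sup_right) hle
    -- `M.subgroupOf H ⊔ frattini H = ⊤`
    have hsup : M.subgroupOf H ⊔ frattini ↥H = ⊤ := by
      rw [eq_top_iff]
      rintro ⟨h, hh⟩ -
      have hmem : h ∈ M ⊔ (frattini ↥H).map H.subtype := htop ▸ Subgroup.mem_top h
      obtain ⟨m, hm, n, hn, rfl⟩ := Subgroup.mem_sup_of_normal_right.mp hmem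
      obtain ⟨⟨n', hn'H⟩, hn', rfl⟩ := hn
      have hmH : m ∈ H := by
        have := H.mul_mem hh (H.inv_mem hn'H)
        simpa using this
      have : (⟨m * (H.subtype ⟨n', hn'H⟩), hh⟩ : ↥H) = (⟨m, hmH⟩ : ↥H) * ⟨n', hn'H⟩ := rfl
      rw [this]
      exact Subgroup.mul_mem_sup (Subgroup.mem_subgroupOf.mpr hm) hn'
    have hHM : H ≤ M := Subgroup.subgroupOf_eq_top.mp (frattini_nongenerating hsup)
    apply hle
    rintro _ ⟨x, _, rfl⟩
    exact hHM x.2
  exact le_iInf₂ hcoat

end Cfsg.Agent.S0575
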