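import Cfsg.Statements.S0581
import Cfsg.Agent.SolvableStructure.Schmidt

set_option autoImplicit false
set_option linter.style.haveILetI false
open Pointwise
open Cfsg

namespace Cfsg.Agent.S0581

open Subgroup Cfsg.Agent.SolvableStructure.Schmidt

universe u

theorem isNilpotent_of_injective {G H : Type*} [Group G] [Group H] (f : G →* H)
    (hf : Function.Injective f) (hH : Group.IsNilpotent H) : Group.IsNilpotent G := by
  refine Subgroup.isNilpotent_of_ker_le_center f ?_
  rw [(MonoidHom.ker_eq_bot_iff f).2 hf]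
  exact bot_le

/-- The inductive step when the normal `q`-complement `L` of `K` is already contained in `H`. -/
theorem step {G : Type u} [Group G] [Finite G] (H K : Subgroup G) (hH : Group.IsNilpotent H)
    (hHall : (Nat.card H).Coprime H.index) (q : ℕ) [hq : Fact q.Prime] (hqH : q ∣ Nat.card H)
    (L' : Subgroup K) [L'.Normal] (hL1 : ¬ q ∣ Nat.card L') (hL2 : ∃ n : ℕ, L'.index = q ^ n)
    (hLH : L'.map K.subtype ≤ H) : ∃ x : G, K ≤ MulAut.conj x • H := by
  set L : Subgroup G := L'.map K.subtype with hL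
  obtain ⟨C, hCn, hC1, hC2⟩ := exists_normal_complement_of_isNilpotent hH q
  obtain ⟨P⟩ : Nonempty (Sylow q H) := inferInstance
  have hPn : (P : Subgroup H).Normal := inferInstance
  have hdisj : Disjoint (P : Subgroup H) C := by
    have hcop : Nat.Coprime (Nat.card (P : Subgroup H)) (Nat.card C) := by
      obtain ⟨n, hn⟩ := IsPGroup.iff_card.1 P.isPGroup'
      rw [show Nat.card (P : Subgroup H) = q ^ n from hn]
      exact Nat.Coprime.pow_left n ((Nat.Prime.coprime_iff_not_dvd hq.out).2 hC1)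
    exact Subgroup.disjoint_of_coprime_natCard hcop
  have hcomm : ∀ x ∈ (P : Subgroup H), ∀ y ∈ C, Commute x y := fun x hx y hy =>
    Subgroup.commute_of_normal_of_disjoint _ _ hPn hCn hdisj x y hx hy
  -- H₁
  set H₁ : Subgroup G := (P : Subgroup H).map H.subtype with hH₁
  have hH₁H : H₁ ≤ H := Subgroup.map_subtype_le _
  have hH₁p : IsPGroup q H₁ := P.isPGroup'.map _
  have hqi : ¬ q ∣ H.index := by
    intro hd
    have := Nat.Coprime.eq_one_of_dvd (Nat.Coprime.coprime_dvd_left hqH hHall) hd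
    exact hq.out.one_lt.ne' this
  have hH₁i : ¬ q ∣ H₁.index := by
    rw [hH₁, Subgroup.index_map_subtype]
    intro hd
    rcases (Nat.Prime.dvd_mul hq.out).1 hd with h | h
    · exact P.not_dvd_index h
    · exact hqi h
  let S : Sylow q G := hH₁p.toSylow hH₁i
  have hScoe : (S : Subgroup G) = H₁ := rfl
  -- elements of L and H₁ commute
  have hLC : ∀ y ∈ L, ∃ c ∈ C, (c : G) = y := by
    intro y hy
    have hyH := hLH hy
    obtain ⟨l, hl, rfl⟩ := hy
    refine ⟨⟨_, hyH⟩, ?_, rfl⟩
    rw [mem_normal_complement_iff q C hC1 hC2, Subgroup.orderOf_mk]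
    have := (mem_normal_complement_iff q L' hL1 hL2 l).1 hl
    rwa [← Subgroup.orderOf_coe l] at this
  have hLH₁ : ∀ x ∈ H₁, ∀ y ∈ L, x * y = y * x := by
    rintro x ⟨x', hx', rfl⟩ y hy
    obtain ⟨c, hc, rfl⟩ := hLC y hy
    exact congrArg Subtype.val (hcomm x' hx' c hc).eq
  set N : Subgroup G := normalizer (L : Set G) with hN
  have hH₁N : H₁ ≤ N := by
    intro x hx
    rw [hN, Subgroup.mem_normalizer_iff]
    intro y
    constructor
    · intro hy
      rw [hLH₁ x hx y hy, mul_inv_cancel_right]; exact hy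
    · intro hy
      have h1 := hLH₁ x hx _ hy
      have h2 : x * (x * y * x⁻¹) * x⁻¹ = x * y * x⁻¹ := by rw [h1]; group
      have h3 : x * y * x⁻¹ = y := by
        have := mul_right_cancel h2
        exact mul_left_cancel this
      rwa [h3] at hy
  have hKN : K ≤ N := by
    intro x hx
    rw [hN, Subgroup.mem_normalizer_iff]
    intro y
    constructor
    · rintro ⟨l, hl, rfl⟩
      exact ⟨⟨x, hx⟩ * l * ⟨x, hx⟩⁻¹, (inferInstance : L'.Normal).conj_mem l hl _, rfl⟩
    · rintro ⟨l, hl, hl2⟩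
      refine ⟨⟨x, hx⟩⁻¹ * l * ⟨x, hx⟩, ?_, ?_⟩
      · have := (inferInstance : L'.Normal).conj_mem l hl (⟨x, hx⟩⁻¹ : K)
        simpa using this
      · have hl2' : (l : G) = x * y * x⁻¹ := hl2
        show x⁻¹ * (l : G) * x = y
        rw [hl2']; group
  obtain ⟨Q'⟩ : Nonempty (Sylow q K) := inferInstance
  have hLQ : L' ⊔ (Q' : Subgroup K) = ⊤ := by
    obtain ⟨n, hn⟩ := hL2
    have h1 : (L' ⊔ (Q' : Subgroup K)).index ∣ q ^ n := by
      rw [← hn]; exact Subgroup.index_dvd_of_le le_sup_left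
    have h2 : (L' ⊔ (Q' : Subgroup K)).index ∣ (Q' : Subgroup K).index :=
      Subgroup.index_dvd_of_le le_sup_right
    have h3 : Nat.Coprime (Q' : Subgroup K).index (q ^ n) :=
      Nat.Coprime.pow_right n (((Nat.Prime.coprime_iff_not_dvd hq.out).2 Q'.not_dvd_index).symm)
    exact Subgroup.index_eq_one.1 (Nat.eq_one_of_dvd_coprimes h3 h2 h1)
  set Q : Subgroup G := (Q' : Subgroup K).map K.subtype with hQ
  have hQK : Q ≤ K := Subgroup.map_subtype_le _
  have hQp : IsPGroup q Q := Q'.isPGroup'.map _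
  have hQNp : IsPGroup q (Q.subgroupOf N) :=
    hQp.of_equiv (Subgroup.subgroupOfEquivOfLe (hQK.trans hKN)).symm
  obtain ⟨R, hR⟩ := hQNp.exists_le_sylow
  obtain ⟨n, hn⟩ := MulAction.exists_smul_eq N (S.subtype (N := N) hH₁N) R
  have hQle : Q ≤ MulAut.conj (n : G) • H := by
    intro x hx
    have hxN : x ∈ N := hKN (hQK hx)
    have h1 : (⟨x, hxN⟩ : N) ∈ R := hR (Subgroup.mem_subgroupOf.2 hx)
    rw [← hn] at h1
    have h2 : (⟨x, hxN⟩ : N) ∈ (MulAut.conj n • (S.subtype (N := N) hH₁N : Subgroup N)) := h1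
    rw [Subgroup.mem_pointwise_smul_iff_inv_smul_mem] at h2 ⊢
    have h3 : (((MulAut.conj n)⁻¹ • (⟨x, hxN⟩ : N) : N) : G) ∈ H₁ := h2
    apply hH₁H
    exact h3
  have hLle : L ≤ MulAut.conj (n : G) • H := by
    intro x hx
    rw [Subgroup.mem_pointwise_smul_iff_inv_smul_mem]
    apply hLH
    have h1 := (Subgroup.mem_normalizer_iff.1 (N.inv_mem n.2) x).1 hx
    simpa using h1
  refine ⟨n, ?_⟩
  have hK : K = L ⊔ Q := by
    rw [hL, hQ, ← Subgroup.map_sup, hLQ, ← MonoidHom.range_eq_map, Subgroup.range_subtype]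
  rw [hK]
  exact sup_le hLle hQle

theorem aux {G : Type u} [Group G] [Finite G] (n : ℕ) : ∀ (H K : Subgroup G), Nat.card K = n →
    Group.IsNilpotent H → (Nat.card H).Coprime H.index →
    (∀ p : ℕ, p.Prime → p ∣ Nat.card K → p ∣ Nat.card H) → ∃ x : G, K ≤ MulAut.conj x • H := by
  induction n using Nat.strong_induction_on with
  | _ n ih =>
  intro H K hn hH hHall hK
  by_cases hbot : K = ⊥
  · exact ⟨1, hbot ▸ bot_le⟩
  haveI : Nontrivial K := (Subgroup.nontrivial_iff_ne_bot K).2 hbot
  have hconjnil : ∀ x : G, Group.IsNilpotent (MulAut.conj x • H : Subgroup G) := fun x =>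
    Group.nilpotent_of_mulEquiv (Subgroup.equivSMul (MulAut.conj x) H)
  have hsub : ∀ K' : Subgroup K, K' ≠ ⊤ → ∃ x : G, K'.map K.subtype ≤ MulAut.conj x • H := by
    intro K' hK'
    have h1 : Nat.card (K'.map K.subtype) = Nat.card K' :=
      Subgroup.card_map_of_injective K.subtype_injective
    refine ih (Nat.card (K'.map K.subtype)) ?_ H _ rfl hH hHall ?_
    · rw [h1, ← hn]
      exact lt_of_le_of_ne (Nat.le_of_dvd Nat.card_pos (Subgroup.card_subgroup_dvd_card K'))
        (fun h2 => hK' (Subgroup.card_eq_iff_eq_top K' |>.1 h2))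
    · intro p hp hd
      rw [h1] at hd
      exact hK p hp (hd.trans (Subgroup.card_subgroup_dvd_card K'))
  have hprop : ∀ K' : Subgroup K, K' ≠ ⊤ → Group.IsNilpotent K' := by
    intro K' hK'
    obtain ⟨x, hx⟩ := hsub K' hK'
    have h1 : Group.IsNilpotent (K'.map K.subtype) :=
      isNilpotent_of_injective (Subgroup.inclusion hx) (Subgroup.inclusion_injective hx)
        (hconjnil x)
    exact (Group.isNilpotent_congr (K'.equivMapOfInjective K.subtype K.subtype_injective)).2 h1
  obtain ⟨q, hq, hqK, L', hL'n, hL1, hL2⟩ :=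
    exists_normal_complement_of_forall_proper_isNilpotent hprop
  haveI : Fact q.Prime := ⟨hq⟩
  have hL't : L' ≠ ⊤ := by
    intro h1
    rw [h1, Subgroup.card_top] at hL1
    exact hL1 hqK
  obtain ⟨g, hg⟩ := hsub L' hL't
  have hcard : Nat.card (MulAut.conj g • H : Subgroup G) = Nat.card H :=
    (Nat.card_congr (Subgroup.equivSMul (MulAut.conj g) H).toEquiv).symm
  have hindex : (MulAut.conj g • H : Subgroup G).index = H.index := by
    have h1 := Subgroup.card_mul_index (MulAut.conj g • H : Subgroup G)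
    have h2 := Subgroup.card_mul_index H
    rw [hcard] at h1
    exact Nat.eq_of_mul_eq_mul_left Nat.card_pos (h1.trans h2.symm)
  obtain ⟨x, hx⟩ := step (MulAut.conj g • H) K (hconjnil g) (by rw [hcard, hindex]; exact hHall) q
    (by rw [hcard]; exact hK q hq hqK) L' hL1 hL2 hg
  exact ⟨x * g, by rwa [map_mul, mul_smul]⟩

/-- Let H be a nilpotent subgroup of a finite group G whose order is coprime to its index, and K a subgroup every prime divisor of whose order divides the order of H. Then K lies in some conjugate of H. -/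
theorem result {G : Type*} [Group G] [Finite G] (H K : Subgroup G) (hH : Group.IsNilpotent H) (hHall : (Nat.card H).Coprime H.index) (hK : ∀ p : ℕ, p.Prime → p ∣ Nat.card K → p ∣ Nat.card H) : ∃ x : G, K ≤ MulAut.conj x • H := by
  exact aux _ H K rfl hH hHall hK

end Cfsg.Agent.S0581
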