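-- Statement S0583: the Fitting subgroup centralizes every minimal normal subgroup.
import Cfsg.Statements.S0583
import Mathlib
import Cfsg.Agent.Lib.NormalAbelian

set_option autoImplicit false
open Cfsg

namespace Cfsg.Agent.S0583

/-- A nilpotent normal subgroup centralizes every minimal normal subgroup (no finiteness needed). -/
theorem nilpotent_le_centralizer {G : Type*} [Group G] (M : Subgroup G) [M.Normal] (hM : M ≠ ⊥)
    (hmin : ∀ K : Subgroup G, K.Normal → K ≤ M → K = ⊥ ∨ K = M) (N : Subgroup G) (hN : N.Normal)
    (hnil : Group.IsNilpotent N) : N ≤ Subgroup.centralizer (M : Set G) := by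
  rcases hmin (M ⊓ N) inferInstance inf_le_left with h | h
  · rw [← Subgroup.commutator_eq_bot_iff_le_centralizer, eq_bot_iff, ← h, inf_comm]
    exact Subgroup.commutator_le_inf N M
  · have hMN : M ≤ N := inf_eq_left.mp h
    have hne : M.subgroupOf N ≠ ⊥ := by
      intro hb
      rw [Subgroup.subgroupOf_eq_bot, disjoint_iff, h] at hb
      exact hM hb
    have hc := Cfsg.Agent.Lib.NormalAbelian.normal_inf_center_ne_bot (M.subgroupOf N) hne
    have hZn : ((Subgroup.center N).map N.subtype).Normal :=
      ConjAct.normal_of_characteristic_of_normal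
    have hZ : M ⊓ (Subgroup.center N).map N.subtype = M := by
      rcases hmin (M ⊓ (Subgroup.center N).map N.subtype) inferInstance inf_le_left with h' | h'
      · exfalso
        apply hc
        rw [eq_bot_iff]
        intro x hx
        have hx1 : (x : G) ∈ M := hx.1
        have hx2 : (x : G) ∈ (Subgroup.center N).map N.subtype := ⟨x, hx.2, rfl⟩
        have : (x : G) ∈ M ⊓ (Subgroup.center N).map N.subtype := ⟨hx1, hx2⟩
        rw [h', Subgroup.mem_bot] at this
        rw [Subgroup.mem_bot]
        exact Subtype.ext this
      · exact h'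
    have hMZ : M ≤ (Subgroup.center N).map N.subtype := inf_eq_left.mp hZ
    intro n hn
    rw [Subgroup.mem_centralizer_iff]
    intro m hm
    obtain ⟨z, hz, rfl⟩ := hMZ hm
    have := Subgroup.mem_center_iff.mp hz ⟨n, hn⟩
    have := congrArg (Subtype.val) this
    simpa using this.symm

/-- In a finite group the Fitting subgroup is contained in the centralizer of each minimal normal subgroup. -/
theorem result {G : Type*} [Group G] [Finite G] (M : Subgroup G) [M.Normal] (hM : M ≠ ⊥) (hmin : ∀ K : Subgroup G, K.Normal → K ≤ M → K = ⊥ ∨ K = M) : Cfsg.fittingSubgroup G ≤ Subgroup.centralizer (M : Set G) := by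
  refine sSup_le (s := {N : Subgroup G | N.Normal ∧ Group.IsNilpotent N}) ?_
  rintro N ⟨hN, hnil⟩
  exact nilpotent_le_centralizer M hM hmin N hN hnil

end Cfsg.Agent.S0583
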