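import Cfsg.Statements.S0587
import Mathlib.GroupTheory.Sylow
import Mathlib.GroupTheory.Complement
import Mathlib.Tactic

set_option autoImplicit false
open Cfsg

namespace Cfsg.Agent.S0587

section pCore

variable {G : Type*} [Group G]

theorem pCore_normal' (p : ℕ) : (pCore p G).Normal :=
  Subgroup.sSup_normal _ fun _ hN => hN.1

theorem pCore_isPGroup' (p : ℕ) : IsPGroup p (pCore p G) :=
  Sylow.sSup_of_normal _ (fun _ hN => hN.2) (fun _ hN => hN.1)

end pCore

section

variable {G : Type*} [Group G]

/-- A nontrivial normal subgroup supplements a core-free maximal subgroup. -/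
theorem sup_eq_top_of_corefree (M : Subgroup G) (hM : IsCoatom M) (hcore : M.normalCore = ⊥)
    (N : Subgroup G) [N.Normal] (hN : N ≠ ⊥) : N ⊔ M = ⊤ := by
  refine hM.2 _ (lt_of_le_of_ne le_sup_right fun heq => hN ?_)
  have hle : N ≤ M := by rw [heq]; exact le_sup_left
  have := Subgroup.normal_le_normalCore.2 hle
  rwa [hcore, le_bot_iff] at this

theorem exists_mul_of_corefree (M : Subgroup G) (hM : IsCoatom M) (hcore : M.normalCore = ⊥)
    (N : Subgroup G) [N.Normal] (hN : N ≠ ⊥) (g : G) : ∃ y ∈ N, ∃ z ∈ M, y * z = g := by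
  have : g ∈ N ⊔ M := by rw [sup_eq_top_of_corefree M hM hcore N hN]; trivial
  exact Subgroup.mem_sup_of_normal_left.1 this

/-- If `D` is a subgroup of a core-free maximal subgroup `M`, normalised by `M` and centralised by
a nontrivial normal subgroup, then `D` is trivial. -/
theorem eq_bot_of_corefree (M : Subgroup G) (hM : IsCoatom M) (hcore : M.normalCore = ⊥)
    (N : Subgroup G) [N.Normal] (hN : N ≠ ⊥) (D : Subgroup G) (hD : D ≤ M)
    (hMD : ∀ m ∈ M, ∀ d ∈ D, m * d * m⁻¹ ∈ D) (hND : ∀ n ∈ N, ∀ d ∈ D, n * d = d * n) : D = ⊥ := by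
  have : D.Normal := by
    constructor
    intro d hd g
    obtain ⟨y, hy, z, hz, rfl⟩ := exists_mul_of_corefree M hM hcore N hN g
    have h1 := hMD z hz d hd
    have h2 := hND y hy _ h1
    have h3 : y * z * d * (y * z)⁻¹ = y * (z * d * z⁻¹) * y⁻¹ := by group
    rw [h3, h2, mul_assoc, mul_inv_cancel, mul_one]
    exact h1
  have := Subgroup.normal_le_normalCore.2 hD
  rwa [hcore, le_bot_iff] at this

end

/-- Let G be a finite group whose largest normal p-subgroup L is nontrivial, and M a maximal subgroup of G with trivial normal core. Then L is elementary abelian, M is a complement to L, L is a minimal normal subgroup of G, the centralizer of L is L, and for every prime q such that the largest normal q-subgroup of M is nontrivial, the order of L is congruent to 1 modulo q and q ≠ p. -/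
theorem result {G : Type*} [Group G] [Finite G] (p : ℕ) [Fact p.Prime] (hL : Cfsg.pCore p G ≠ ⊥) (M : Subgroup G) (hM : IsCoatom M) (hcore : M.normalCore = ⊥) : Cfsg.IsElementaryAbelian p (Cfsg.pCore p G) ∧ Subgroup.IsComplement' (Cfsg.pCore p G) M ∧ (∀ K : Subgroup G, K.Normal → K ≤ Cfsg.pCore p G → K = ⊥ ∨ K = Cfsg.pCore p G) ∧ Subgroup.centralizer ((Cfsg.pCore p G : Subgroup G) : Set G) = Cfsg.pCore p G ∧ ∀ (q : ℕ) [Fact q.Prime], Cfsg.pCore q ↥M ≠ ⊥ → Nat.card (Cfsg.pCore p G) % q = 1 % q ∧ q ≠ p := by
  classical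
  set L : Subgroup G := pCore p G with hLdef
  have hLn : L.Normal := pCore_normal' p
  have hLp : IsPGroup p L := pCore_isPGroup' p
  -- the centre of `L`
  set A : Subgroup G := (Subgroup.center L).map L.subtype with hAdef
  have hAL : A ≤ L := Subgroup.map_subtype_le _
  have hAn : A.Normal := inferInstance
  have hAcomm : ∀ a ∈ A, ∀ l ∈ L, a * l = l * a := by
    rintro _ ⟨a, ha, rfl⟩ l hl
    exact (congrArg Subtype.val (Subgroup.mem_center_iff.1 ha ⟨l, hl⟩)).symm
  have hA : A ≠ ⊥ := by
    have : Nontrivial L := (Subgroup.nontrivial_iff_ne_bot L).2 hL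
    have := hLp.center_nontrivial
    rw [hAdef, Ne, Subgroup.map_eq_bot_iff_of_injective _ L.subtype_injective]
    exact (Subgroup.nontrivial_iff_ne_bot _).1 this
  -- the centraliser of `A` meets `M` trivially
  have hCM : Subgroup.centralizer (A : Set G) ⊓ M = ⊥ := by
    apply eq_bot_of_corefree M hM hcore A hA _ inf_le_right
    · rintro m hm d ⟨hd1, hd2⟩
      refine Subgroup.mem_inf.2 ⟨?_, M.mul_mem (M.mul_mem hm hd2) (M.inv_mem hm)⟩
      have hCn : (Subgroup.centralizer (A : Set G)).Normal := inferInstance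
      exact hCn.conj_mem d hd1 m
    · rintro n hn d ⟨hd1, -⟩
      exact Subgroup.mem_centralizer_iff.1 hd1 n hn
  have hCA : Subgroup.centralizer (A : Set G) ≤ A := by
    intro c hc
    obtain ⟨y, hy, z, hz, rfl⟩ := exists_mul_of_corefree M hM hcore A hA c
    have hyC : y ∈ Subgroup.centralizer (A : Set G) := by
      rw [Subgroup.mem_centralizer_iff]
      intro a ha
      exact hAcomm a ha y (hAL hy)
    have hzC : z ∈ Subgroup.centralizer (A : Set G) := (Subgroup.mul_mem_cancel_left _ hyC).1 hc
    have : z ∈ (⊥ : Subgroup G) := by rw [← hCM]; exact ⟨hzC, hz⟩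
    rw [Subgroup.mem_bot] at this
    rwa [this, mul_one]
  have hLA : L = A := by
    apply le_antisymm _ hAL
    refine le_trans ?_ hCA
    intro l hl
    rw [Subgroup.mem_centralizer_iff]
    intro a ha
    exact hAcomm a ha l hl
  have hLcomm : ∀ a ∈ L, ∀ l ∈ L, a * l = l * a := fun a ha l hl => hAcomm a (hLA ▸ ha) l hl
  have hCL : Subgroup.centralizer (L : Set G) = L := by
    apply le_antisymm
    · rw [hLA]; exact hCA
    · intro l hl
      rw [Subgroup.mem_centralizer_iff]
      intro a ha
      exact hLcomm a ha l hl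
  have hLM : L ⊓ M = ⊥ := by
    rw [← hCM, ← hLA, hCL]
  -- minimality
  have hmin : ∀ K : Subgroup G, K.Normal → K ≤ L → K = ⊥ ∨ K = L := by
    intro K hK hKL
    by_cases hK0 : K = ⊥
    · exact Or.inl hK0
    · right
      apply le_antisymm hKL
      intro l hl
      obtain ⟨y, hy, z, hz, rfl⟩ := exists_mul_of_corefree M hM hcore K hK0 l
      have hzL : z ∈ L := (Subgroup.mul_mem_cancel_left _ (hKL hy)).1 hl
      have : z ∈ (⊥ : Subgroup G) := by rw [← hLM]; exact ⟨hzL, hz⟩
      rw [Subgroup.mem_bot] at this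
      rwa [this, mul_one]
  have hp : p ∣ Nat.card L := by
    have : Nontrivial L := (Subgroup.nontrivial_iff_ne_bot L).2 hL
    obtain ⟨n, hn0, hn⟩ := hLp.nontrivial_iff_card.1 this
    rw [hn]
    exact dvd_pow_self p hn0.ne'
  refine ⟨⟨⟨⟨fun a b => Subtype.ext (hLcomm a a.2 b b.2)⟩⟩, ?_⟩, ?_, hmin, hCL, ?_⟩
  · -- exponent `p`
    let K : Subgroup G :=
      { carrier := {x | x ∈ L ∧ x ^ p = 1}
        mul_mem' := by
          rintro a b ⟨ha, ha'⟩ ⟨hb, hb'⟩
          refine ⟨mul_mem ha hb, ?_⟩
          have hc : Commute a b := hLcomm a ha b hb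
          rw [hc.mul_pow, ha', hb', mul_one]
        one_mem' := ⟨one_mem _, one_pow _⟩
        inv_mem' := by
          rintro a ⟨ha, ha'⟩
          exact ⟨inv_mem ha, by rw [inv_pow, ha', inv_one]⟩ }
    have hKn : K.Normal := by
      constructor
      rintro x ⟨hx, hx'⟩ g
      exact ⟨hLn.conj_mem x hx g, by rw [conj_pow, hx', mul_one, mul_inv_cancel]⟩
    obtain ⟨y, hy⟩ := exists_prime_orderOf_dvd_card' (G := L) p hp
    have hyK : (y : G) ∈ K := by
      refine ⟨y.2, ?_⟩
      have : y ^ p = 1 := by rw [← hy]; exact pow_orderOf_eq_one y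
      have := congrArg Subtype.val this
      simpa using this
    have hK0 : K ≠ ⊥ := by
      intro h0
      rw [h0, Subgroup.mem_bot] at hyK
      have : y = 1 := Subtype.ext hyK
      rw [this, orderOf_one] at hy
      exact (Fact.out : p.Prime).one_lt.ne hy
    have hKL := (hmin K hKn (fun x hx => hx.1)).resolve_left hK0
    intro a ha
    rw [← hKL] at ha
    exact ha.2
  · -- complement
    apply Subgroup.isComplement'_of_disjoint_and_mul_eq_univ (disjoint_iff.2 hLM)
    rw [Set.eq_univ_iff_forall]
    intro g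
    obtain ⟨y, hy, z, hz, rfl⟩ := exists_mul_of_corefree M hM hcore L hL g
    exact Set.mul_mem_mul hy hz
  · intro q hq hQ
    have hcong : Nat.card L % q = 1 % q := by
      set Q : Subgroup G := (pCore q M).map M.subtype with hQdef
      have hQM : Q ≤ M := Subgroup.map_subtype_le _
      have hQq : IsPGroup q Q := (pCore_isPGroup' q).map _
      have hQ0 : Q ≠ ⊥ := by
        rw [hQdef, Ne, Subgroup.map_eq_bot_iff_of_injective _ M.subtype_injective]
        exact hQ
      have hMQ : ∀ m ∈ M, ∀ x ∈ Q, m * x * m⁻¹ ∈ Q := by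
        rintro m hm _ ⟨x, hx, rfl⟩
        exact ⟨⟨m, hm⟩ * x * ⟨m, hm⟩⁻¹, (pCore_normal' q).conj_mem x hx _, rfl⟩
      -- the centraliser of `Q` in `L` is a normal subgroup of `G`
      have hCn : (L ⊓ Subgroup.centralizer (Q : Set G)).Normal := by
        constructor
        rintro c ⟨hc1, hc2⟩ g
        refine ⟨hLn.conj_mem c hc1 g, ?_⟩
        obtain ⟨y, hy, z, hz, rfl⟩ := exists_mul_of_corefree M hM hcore L hL g
        have h1 : z * c * z⁻¹ ∈ Subgroup.centralizer (Q : Set G) := by
          rw [Subgroup.mem_centralizer_iff]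
          intro x hx
          have h2 : z⁻¹ * x * z⁻¹⁻¹ ∈ Q := hMQ _ (inv_mem hz) x hx
          rw [inv_inv] at h2
          have h3 := Subgroup.mem_centralizer_iff.1 hc2 _ h2
          calc x * (z * c * z⁻¹) = z * ((z⁻¹ * x * z) * c) * z⁻¹ := by group
            _ = z * (c * (z⁻¹ * x * z)) * z⁻¹ := by rw [h3]
            _ = z * c * z⁻¹ * x := by group
        have h2 : y * z * c * (y * z)⁻¹ = z * c * z⁻¹ := by
          have h3 := hLcomm y hy _ (hLn.conj_mem c hc1 z)
          have h4 : y * z * c * (y * z)⁻¹ = y * (z * c * z⁻¹) * y⁻¹ := by group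
          rw [h4, h3, mul_assoc, mul_inv_cancel, mul_one]
        change y * z * c * (y * z)⁻¹ ∈ _
        rw [h2]
        exact h1
      have hC0 : L ⊓ Subgroup.centralizer (Q : Set G) = ⊥ := by
        refine (hmin _ hCn inf_le_left).resolve_right fun h => hQ0 ?_
        rw [← le_bot_iff, ← hLM]
        refine le_inf ?_ hQM
        rw [← hCL]
        intro x hx
        rw [Subgroup.mem_centralizer_iff]
        intro l hl
        have hl' : l ∈ L ⊓ Subgroup.centralizer (Q : Set G) := by rw [h]; exact hl
        exact (Subgroup.mem_centralizer_iff.1 hl'.2 x hx).symm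
      -- the conjugation action of `Q` on `L`
      let φ : Q →* MulAut L := (MulAut.conjNormal (H := L)).comp Q.subtype
      let _ : MulAction Q L := MulAction.compHom L φ
      have hφ : ∀ (x : Q) (l : L), ((x • l : L) : G) = x * l * (x : G)⁻¹ := by
        intro x l
        change ((MulAut.conjNormal (x : G) l : L) : G) = _
        rw [MulAut.conjNormal_apply]
      have h1 := hQq.card_modEq_card_fixedPoints L
      have h2 : Nat.card (MulAction.fixedPoints Q L) = 1 := by
        rw [Nat.card_eq_one_iff_unique]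
        refine ⟨⟨?_⟩, ⟨⟨1, ?_⟩⟩⟩
        · have key : ∀ l : MulAction.fixedPoints Q L, (l : L) = 1 := by
            rintro ⟨l, hl⟩
            have h3 : (l : G) ∈ L ⊓ Subgroup.centralizer (Q : Set G) := by
              refine Subgroup.mem_inf.2 ⟨l.2, ?_⟩
              rw [Subgroup.mem_centralizer_iff]
              intro x hx
              have h4 := hl ⟨x, hx⟩
              have h5 := congrArg Subtype.val h4
              rw [hφ] at h5
              calc x * (l : G) = (x * l * x⁻¹) * x := by group
                _ = l * x := by rw [h5]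
            rw [hC0, Subgroup.mem_bot] at h3
            exact Subtype.ext h3
          intro a b
          exact Subtype.ext ((key a).trans (key b).symm)
        · intro x
          apply Subtype.ext
          rw [hφ]
          simp
      rw [h2] at h1
      exact h1
    refine ⟨hcong, ?_⟩
    rintro rfl
    have h1 : Nat.card L % q = 0 := Nat.mod_eq_zero_of_dvd hp
    rw [h1, Nat.mod_eq_of_lt (Fact.out : q.Prime).one_lt] at hcong
    exact zero_ne_one hcong

end Cfsg.Agent.S0587
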