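import Cfsg.Statements.S0588
import Mathlib.GroupTheory.Sylow

set_option autoImplicit false
open Cfsg

namespace Cfsg.Agent.S0588

/-- If a subgroup H of a finite group G contains the centralizer of every non-identity element of H, then the order of H is coprime to its index. -/
theorem result {G : Type*} [Group G] [Finite G] (H : Subgroup G) (h : ∀ x ∈ H, x ≠ 1 → Subgroup.centralizer ({x} : Set G) ≤ H) : (Nat.card H).Coprime H.index := by
  rw [Nat.coprime_iff_gcd_eq_one]
  by_contra hne
  obtain ⟨p, hp, hdvd⟩ := Nat.exists_prime_and_dvd hne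
  have : Fact p.Prime := ⟨hp⟩
  have h1 : p ∣ Nat.card H := hdvd.trans (Nat.gcd_dvd_left _ _)
  have h2 : p ∣ H.index := hdvd.trans (Nat.gcd_dvd_right _ _)
  -- a Sylow `p`-subgroup of `H`
  obtain ⟨P⟩ : Nonempty (Sylow p H) := inferInstance
  have hPG : IsPGroup p ((P : Subgroup H).map H.subtype) := P.isPGroup'.map _
  obtain ⟨S, hS⟩ := hPG.exists_le_sylow
  have hPne : (P : Subgroup H) ≠ ⊥ := P.ne_bot_of_dvd_card h1
  obtain ⟨x, hxP, hx1⟩ := (Subgroup.bot_or_exists_ne_one (P : Subgroup H)).resolve_left hPne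
  have hxS : (x : G) ∈ (S : Subgroup G) := hS ⟨x, hxP, rfl⟩
  have hx1' : (x : G) ≠ 1 := fun h0 => hx1 (Subtype.ext h0)
  have hSnt : Nontrivial (S : Subgroup G) := ⟨⟨⟨x, hxS⟩, 1, fun h0 => hx1' (congrArg Subtype.val h0)⟩⟩
  have := S.isPGroup'.center_nontrivial
  obtain ⟨z, hz⟩ := exists_ne (1 : Subgroup.center (S : Subgroup G))
  have hzcomm : ∀ s ∈ (S : Subgroup G), s * ((z : (S : Subgroup G)) : G) = ((z : (S : Subgroup G)) : G) * s := by
    intro s hs
    have := Subgroup.mem_center_iff.1 z.2 ⟨s, hs⟩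
    exact congrArg Subtype.val this
  have hzH : ((z : (S : Subgroup G)) : G) ∈ H := by
    apply h x x.2 hx1'
    rw [Subgroup.mem_centralizer_singleton_iff]
    exact (hzcomm x hxS).symm
  have hSH : (S : Subgroup G) ≤ H := by
    intro s hs
    apply h _ hzH (fun h0 => hz (Subtype.ext (Subtype.ext h0)))
    rw [Subgroup.mem_centralizer_singleton_iff]
    exact hzcomm s hs
  exact S.not_dvd_index (h2.trans (Subgroup.index_dvd_of_le hSH))

end Cfsg.Agent.S0588
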