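import Cfsg.Statements.S0600
import Cfsg.Agent.PLocal.SylowFixed

set_option autoImplicit false
open Cfsg

namespace Cfsg.Agent.S0600

/-- A normal elementary abelian p-subgroup generated by the fixed points of the Sylow p-subgroups admits no nontrivial normal p-subgroup of G modulo its centralizer. -/
theorem result {G : Type*} [Group G] [Finite G] {p : ℕ} [Fact p.Prime] (V : Subgroup G) [V.Normal] (hV : Cfsg.IsElementaryAbelian p V) (hgen : V = ⨆ S : Sylow p G, V ⊓ Subgroup.centralizer ((S : Subgroup G) : Set G)) : Cfsg.pCore p (G ⧸ Subgroup.centralizer (V : Set G)) = ⊥ := by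
  refine sSup_eq_bot.2 ?_
  rintro N ⟨hN, hNp⟩
  rw [Subgroup.eq_bot_iff_forall]
  intro q hq
  obtain ⟨g, rfl⟩ := QuotientGroup.mk_surjective q
  rw [QuotientGroup.eq_one_iff]
  have key := PLocal.SylowFixed.mem_centralizer_of_forall
    (fun S : Sylow p G => V ⊓ Subgroup.centralizer ((S : Subgroup G) : Set G))
    (fun S : Sylow p G => (S : Subgroup G)) (fun S => inf_le_right) (g := g) ?_
  · rw [← hgen] at key
    exact key
  · intro S
    rw [← hgen]
    exact PLocal.SylowFixed.exists_mul_of_mk_mem _ N hNp S hq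

end Cfsg.Agent.S0600
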