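import Cfsg.Statements.S0614
import Mathlib
import Cfsg.Agent.PLocal.CoprimeRPart
import Cfsg.Agent.PLocal.FFPair
import Cfsg.Agent.S0611
import Cfsg.Agent.S0613

set_option autoImplicit false
open Cfsg

namespace Cfsg.Agent.S0614

/-- The commutator of the p'-core with a minimal nontrivially-acting best offender is a 3-group (when p = 2) or a non-abelian 2-group (when p = 3). -/
theorem result {G : Type*} [Group G] [Finite G] {p : ℕ} [Fact p.Prime] (V H : Subgroup G) (hV : Cfsg.IsElementaryAbelian p V) (hHV : H ≤ Subgroup.normalizer (V : Set G)) (hf : H ⊓ Subgroup.centralizer (V : Set G) = ⊥) (hS1 : Subgroup.centralizer (Cfsg.pPrimeCore p ↥H : Set ↥H) ≤ Cfsg.pPrimeCore p ↥H) (hS3 : H = ⨆ A : {A : Subgroup G // A ≤ H ∧ Cfsg.IsBestOffenderOn p V A}, (A : Subgroup G)) (hH1 : H ≠ ⊥) (A : Subgroup G) (hAH : A ≤ H) (hA : Cfsg.IsBestOffenderOn p V A) (hAV : ⁅V, A⁆ ≠ ⊥) (hmin : ∀ B : Subgroup G, B ≤ A → Cfsg.IsBestOffenderOn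 p V B → ⁅V, B⁆ ≠ ⊥ → B = A) : (p = 2 ∧ IsPGroup 3 ↥(⁅((Cfsg.pPrimeCore p ↥H).map H.subtype), A⁆)) ∨ (p = 3 ∧ IsPGroup 2 ↥(⁅((Cfsg.pPrimeCore p ↥H).map H.subtype), A⁆) ∧ ¬ IsMulCommutative ↥(⁅((Cfsg.pPrimeCore p ↥H).map H.subtype), A⁆)) := by
  classical
  have hp : p.Prime := Fact.out
  set Q : Subgroup G := (Cfsg.pPrimeCore p ↥H).map H.subtype with hQ
  have hQH : Q ≤ H := Cfsg.Agent.PLocal.FFPair.core_le p H
  have hQc : (Nat.card Q).Coprime p := Cfsg.Agent.PLocal.FFPair.core_coprime p H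
  have hQp : ¬ p ∣ Nat.card Q := fun h => hp.one_lt.ne' (Nat.eq_one_of_dvd_coprimes hQc h dvd_rfl)
  have hAQ : A ≤ Subgroup.normalizer (Q : Set G) :=
    hAH.trans (Cfsg.Agent.PLocal.FFPair.le_normalizer_core p H)
  have hcardA : Nat.card A = p := (Cfsg.Agent.S0611.result V H hV hHV hf hS1 hS3 hH1 A hAH hA hAV hmin).1
  have hApg : IsPGroup p A := IsPGroup.of_card (n := 1) (by rw [hcardA, pow_one])
  have hAcomm : ∀ a ∈ A, ∀ b ∈ A, a * b = b * a := by
    have hcyc : IsCyclic A := isCyclic_of_prime_card hcardA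
    intro a ha b hb
    have : IsMulCommutative A := inferInstance
    exact congrArg Subtype.val (this.is_comm.comm (⟨a, ha⟩ : A) ⟨b, hb⟩)
  have h613 := fun (x : G) (hx : x ∈ Q) (hxA : x ∉ Subgroup.centralizer (A : Set G)) =>
    Cfsg.Agent.S0613.result V H hV hHV hf hS1 hS3 hH1 A hAH hA hAV hmin x hx hxA
  obtain ⟨x₀, hx₀, hx₀A⟩ : ∃ x ∈ Q, x ∉ Subgroup.centralizer (A : Set G) := by
    by_contra hno
    push Not at hno
    have h1 : A ≤ Subgroup.centralizer (Q : Set G) := by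
      rw [Subgroup.le_centralizer_iff]; exact hno
    have h2 := Cfsg.Agent.PLocal.FFPair.inf_centralizer_core_eq_bot (p := p) hS1 hAH hApg
    rw [inf_eq_left.mpr h1] at h2
    apply hAV
    rw [h2]
    exact Subgroup.commutator_bot_right V
  -- bound on the order of `SL(2,p)` when a `q`-group is not centralized
  have key : ∀ q : ℕ, q.Prime → ∀ S : Subgroup G, S ≤ Q → IsPGroup q S →
      (∀ a ∈ A, ∀ u ∈ S, a * u * a⁻¹ ∈ S) → ¬ S ≤ Subgroup.centralizer (A : Set G) →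
      ∃ n : ℕ, Nat.card (Matrix.SpecialLinearGroup (Fin 2) (ZMod p)) ∣ q ^ n * p := by
    intro q hq S hSQ hS hSA hSC
    obtain ⟨x, hxS, hx⟩ := SetLike.not_le_iff_exists.mp hSC
    obtain ⟨-, -, -, ⟨e⟩⟩ := h613 x (hSQ hxS) hx
    have : Fact q.Prime := ⟨hq⟩
    have hAS : A ≤ Subgroup.normalizer (S : Set G) := by
      intro a ha
      rw [Subgroup.mem_normalizer_iff]
      intro u
      refine ⟨fun hu => hSA a ha u hu, fun hu => ?_⟩
      have := hSA a⁻¹ (inv_mem ha) _ hu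
      simpa [mul_assoc] using this
    obtain ⟨n, hn⟩ := IsPGroup.iff_card.mp hS
    refine ⟨n, ?_⟩
    rw [← Nat.card_congr e.toEquiv, ← hn, ← hcardA]
    refine dvd_trans ?_ (Cfsg.Agent.PLocal.CoprimeRPart.card_sup_dvd hAS)
    refine Subgroup.card_dvd_of_le ((Cfsg.Agent.PLocal.CoprimeRPart.sup_conj_le hxS).trans ?_)
    exact sup_le_sup_right ((Subgroup.le_normalizer_iff_commutator_le_left).mp hAS) A
  obtain ⟨hp23, -, -, ⟨e₀⟩⟩ := h613 x₀ hx₀ hx₀A
  rcases hp23 with rfl | rfl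
  · left
    refine ⟨rfl, ?_⟩
    have : Fact (Nat.Prime 3) := ⟨by norm_num⟩
    refine Cfsg.Agent.PLocal.CoprimeRPart.isPGroup_commutator hApg hQp hAQ ?_
    intro q hq hq3 S hSQ hS hSA
    by_contra hSC
    obtain ⟨n, hn⟩ := key q hq S hSQ hS hSA hSC
    rw [Cfsg.Agent.PLocal.CoprimeRPart.card_sl_two_two] at hn
    have h3 : 3 ∣ q ^ n * 2 := dvd_trans (by norm_num) hn
    rcases (Nat.Prime.dvd_mul (by norm_num)).mp h3 with h | h
    · exact hq3 ((Nat.prime_dvd_prime_iff_eq (by norm_num) hq).mp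
        ((Nat.Prime.dvd_of_dvd_pow (by norm_num) h))).symm
    · omega
  · right
    refine ⟨rfl, ?_, ?_⟩
    · have : Fact (Nat.Prime 2) := ⟨by norm_num⟩
      refine Cfsg.Agent.PLocal.CoprimeRPart.isPGroup_commutator hApg hQp hAQ ?_
      intro q hq hq2 S hSQ hS hSA
      by_contra hSC
      obtain ⟨n, hn⟩ := key q hq S hSQ hS hSA hSC
      rw [Cfsg.Agent.PLocal.CoprimeRPart.card_sl_two_three] at hn
      have h2 : 2 ∣ q ^ n * 3 := dvd_trans (by norm_num) hn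
      rcases (Nat.Prime.dvd_mul (by norm_num)).mp h2 with h | h
      · exact hq2 ((Nat.prime_dvd_prime_iff_eq (by norm_num) hq).mp
          ((Nat.Prime.dvd_of_dvd_pow (by norm_num) h))).symm
      · omega
    · exact Cfsg.Agent.PLocal.CoprimeRPart.not_isMulCommutative e₀
        (Cfsg.Agent.PLocal.CoprimeRPart.sup_conj_le hx₀) hAcomm
        (Subgroup.normalizer_commutator_ge_right Q A)

end Cfsg.Agent.S0614
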