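import Cfsg.Statements.S0618
import Mathlib
import Cfsg.Agent.Lib.PSolvable
import Cfsg.Agent.PLocal.PullbackSection
import Cfsg.Agent.PLocal.FailureStructure
import Cfsg.Agent.PLocal.FFBridge
import Cfsg.Agent.S0601
import Cfsg.Agent.S0608
import Cfsg.Agent.S0617

set_option autoImplicit false
open Cfsg

namespace Cfsg.Agent.S0618

/-- A p-separable group with trivial p'-core in which the Thompson factorization fails has p = 2 or 3, and J(G) induces on the normal closure of Ω₁(Z(S)) a group containing a normal SL(2, p). -/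
theorem result {G : Type*} [Group G] [Finite G] {p : ℕ} [Fact p.Prime] (hsep : Cfsg.IsPSolvable p G) (hO : Cfsg.pPrimeCore p G = ⊥) (hnf : ¬ Cfsg.IsThompsonFactorizable p G) : (p = 2 ∨ p = 3) ∧ ∃ E : Subgroup G, Subgroup.centralizer ((⨆ S : Sylow p G, Cfsg.omegaOne p ((S : Subgroup G) ⊓ Subgroup.centralizer ((S : Subgroup G) : Set G))) : Set G) ≤ E ∧ E ≤ Cfsg.thompsonSubgroup p G ⊔ Subgroup.centralizer ((⨆ S : Sylow p G, Cfsg.omegaOne p ((S : Subgroup G) ⊓ Subgroup.centralizer ((S : Subgroup G) : Set G))) : Set G) ∧ Cfsg.thompsonSubgroup p G ⊔ Subgroup.centralizer ((⨆ S : Sylow p G, Cfsg.omegaOne p ((S : Subgroup G) ⊓ Subgroup.centralizer ((S : Subgroup G) : Set G))) : Set G) ≤ Subgroup.normalizer (E : Set G) ∧ ∃ hn : ((Subgroup.centralizer ((⨆ S : Sylow p G, Cfsg.omegaOne p ((S : Subgroup G) ⊓ Subgroup.centralizer ((S : Subgroup G) : Set G))) : Set G)).subgroupOf E).Normal, Nonempty ((↥E ⧸ (Subgroup.centralizer ((⨆ S : Sylow p G, Cfsg.omegaOne p ((S : Subgroup G) ⊓ Subgroup.centralizer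 ((S : Subgroup G) : Set G))) : Set G)).subgroupOf E) ≃* Matrix.SpecialLinearGroup (Fin 2) (ZMod p)) := by
  classical
  set W : Subgroup G := ⨆ S : Sylow p G, Cfsg.omegaOne p ((S : Subgroup G) ⊓ Subgroup.centralizer ((S : Subgroup G) : Set G))
    with hW
  have hcen : Subgroup.centralizer ((⨆ S : Sylow p G, Cfsg.omegaOne p ((S : Subgroup G) ⊓ Subgroup.centralizer ((S : Subgroup G) : Set G))) : Set G) =
      Subgroup.centralizer (W : Set G) := by
    ext x
    rw [hW, Cfsg.Agent.PLocal.FailureStructure.mem_centralizer_iSup, Subgroup.mem_centralizer_iff]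
    simp only [Set.iSup_eq_iUnion, Set.mem_iUnion, Subgroup.mem_centralizer_iff]
    exact ⟨fun h S y hy => h y ⟨S, hy⟩, fun h y ⟨S, hy⟩ => h S y hy⟩
  have hHH : Subgroup.centralizer (Cfsg.pCore p G : Set G) ≤ Cfsg.pCore p G :=
    Cfsg.Agent.Lib.PSolvable.centralizer_pCore_le_of_pSolvable p hsep hO
  have hWn : W.Normal := (Cfsg.Agent.S0601.result hHH).1
  -- the action of `G` on `W`
  let f : G →* W ⋊[MonoidHom.id (MulAut W)] MulAut W :=
    SemidirectProduct.inr.comp MulAut.conjNormal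
  let j : W →* W ⋊[MonoidHom.id (MulAut W)] MulAut W := SemidirectProduct.inl
  have : Finite (W ⋊[MonoidHom.id (MulAut W)] MulAut W) :=
    Finite.of_equiv _ SemidirectProduct.equivProd.symm
  have hker : f.ker = Subgroup.centralizer (W : Set G) := by
    ext g
    rw [MonoidHom.mem_ker]
    constructor
    · intro hg
      have h1 : (MulAut.conjNormal g : MulAut W) = 1 := SemidirectProduct.inr_injective (by
        rw [map_one]; exact hg)
      rw [Subgroup.mem_centralizer_iff]
      intro w hw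
      have h2 : (MulAut.conjNormal g : MulAut W) ⟨w, hw⟩ = ⟨w, hw⟩ := by rw [h1]; rfl
      have h3 : g * w * g⁻¹ = w := by
        have := congrArg Subtype.val h2
        rwa [MulAut.conjNormal_apply] at this
      calc w * g = g * w * g⁻¹ * g := by rw [h3]
        _ = g * w := by group
    · intro hg
      have h1 : (MulAut.conjNormal g : MulAut W) = 1 := by
        ext w
        rw [MulAut.conjNormal_apply]
        have := (Subgroup.mem_centralizer_iff.mp hg) w w.2
        rw [← this]; simp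
      show SemidirectProduct.inr (MulAut.conjNormal g) = 1
      rw [h1, map_one]
  have hfj : ∀ (k : G) (v w : W), (w : G) = k * v * k⁻¹ → f k * j v * (f k)⁻¹ = j w := by
    intro k v w hvw
    have h1 : (MulAut.conjNormal k : MulAut W) v = w := by
      apply Subtype.ext
      rw [MulAut.conjNormal_apply, hvw]
    have h2 := SemidirectProduct.inl_aut (φ := MonoidHom.id (MulAut W)) (MulAut.conjNormal k) v
    rw [MonoidHom.id_apply, h1] at h2
    show SemidirectProduct.inr (MulAut.conjNormal k) * SemidirectProduct.inl v *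
      (SemidirectProduct.inr (MulAut.conjNormal k))⁻¹ = SemidirectProduct.inl w
    rw [h2, map_inv]
  have hj : Function.Injective j := SemidirectProduct.inl_injective
  obtain ⟨b1, b2, b3, b4, b5⟩ := Cfsg.Agent.PLocal.FFBridge.bridge hsep hO W hW f j ⟨hj, hfj⟩
    (fun k hk => by rw [← MonoidHom.mem_ker, hker]; exact hk)
  have hH1 : (Cfsg.thompsonSubgroup p G).map f ≠ ⊥ := by
    intro h
    apply hnf
    rw [Cfsg.Agent.S0608.result hO]
    rw [Subgroup.map_eq_bot_iff, hker] at h
    exact h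
  obtain ⟨c1, c2, -, c4, -⟩ := Cfsg.Agent.S0617.result j.range ((Cfsg.thompsonSubgroup p G).map f)
    b1 b2 b3 b4 b5 hH1
  refine ⟨c1, ?_⟩
  obtain ⟨E, hE, hEN, ⟨e⟩⟩ : ∃ E : Subgroup (W ⋊[MonoidHom.id (MulAut W)] MulAut W),
      E ≤ (Cfsg.thompsonSubgroup p G).map f ∧
      (Cfsg.thompsonSubgroup p G).map f ≤ Subgroup.normalizer (E : Set (W ⋊[MonoidHom.id (MulAut W)] MulAut W)) ∧
      Nonempty (E ≃* Matrix.SpecialLinearGroup (Fin 2) (ZMod p)) := by
    by_contra hno
    apply hH1
    rw [← c4, iSup_eq_bot]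
    intro E
    exfalso
    apply hno
    refine ⟨E, ?_, (c2 E).1, (c2 E).2.1⟩
    exact (iSup_le_iff.mp c4.le) E
  obtain ⟨d1, d2, d3, hn, ⟨e'⟩⟩ := Cfsg.Agent.PLocal.PullbackSection.pullback f
    (Cfsg.thompsonSubgroup p G) _ hker E hE hEN
  rw [hcen]
  exact ⟨E.comap f, d1, d2, d3, hn, ⟨e'.trans e⟩⟩

end Cfsg.Agent.S0618
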