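import Cfsg.Statements.S0628
import Cfsg.Agent.PLocal.StableComplement
import Cfsg.Agent.PLocal.ComplementReduction

set_option autoImplicit false
open Cfsg

namespace Cfsg.Agent.S0628

/-- The normal p-complement Theorem of Thompson in the form with W(S): for odd p, G has a normal p-complement as soon as the normalizer of the characteristic subgroup W(S) of a Sylow p-subgroup S has one. -/
theorem result {G : Type*} [Group G] [Finite G] {p : ℕ} [Fact p.Prime] (hp : p ≠ 2) (S : Sylow p G) (hN : Cfsg.HasNormalPComplement p ↥(Subgroup.normalizer (((Cfsg.stableNormalClosure p ↥(S : Subgroup G)).map (S : Subgroup G).subtype) : Set G))) : Cfsg.HasNormalPComplement p G := by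
  refine PLocal.ComplementReduction.hasNormalPComplement_of_functor
    (fun G _ P => PLocal.StableComplement.WOf p G P) ?_ ?_ ?_ ?_ G S hN
  · intro G G' _ _ _ _ f P hf hP
    exact PLocal.StableComplement.WOf_map G G' f P hf hP
  · intro G _ _ P _
    exact PLocal.StableComplement.WOf_le p G P
  · intro G _ _ P hP hne
    exact PLocal.StableComplement.WOf_ne_bot G P hP hne
  · intro G _ _ P A hA _ hab _ htop hc _ h
    exact PLocal.StableComplement.hasNormalPComplement_of_min hp G P A hA hab htop hc h

end Cfsg.Agent.S0628
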