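import Cfsg.Statements.S0634
import Mathlib.GroupTheory.SchurZassenhaus
import Cfsg.Agent.Lib.Cores

set_option autoImplicit false
set_option linter.style.haveILetI false
open Cfsg

namespace Cfsg.Agent.S0634

open Subgroup Cfsg.Agent.Lib.Cores

/-- A subgroup `N` with `Z ≤ N`, `Z` central in `N` a normal `p`-group, and index prime to `p`:
the normal `p`-complement. If `O_{p'}(G) = 1` then `N = Z`. -/
theorem le_of_central_coprime {G : Type*} [Group G] [Finite G] {p : ℕ} [Fact p.Prime]
    (h1 : pPrimeCore p G = ⊥) {Z N : Subgroup G} (hZN : Z ≤ N) (hN : N.Normal)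
    (hZ : IsPGroup p Z) (hc : N ≤ centralizer (Z : Set G)) (hi : (Z.relIndex N).Coprime p) :
    N ≤ Z := by
  -- `Z` is normal in `N`
  have hZ' : (Z.subgroupOf N).Normal := by
    refine ⟨fun z hz n => ?_⟩
    rw [mem_subgroupOf] at hz ⊢
    have h := (mem_centralizer_iff.mp (hc n.2)) z hz
    have : ((n * z * n⁻¹ : N) : G) = z := by
      simp only [coe_mul, coe_inv]
      rw [← h]; group
    rw [this]; exact hz
  have hcop : Nat.Coprime (Nat.card (Z.subgroupOf N)) (Z.subgroupOf N).index := by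
    have h2 : Nat.card (Z.subgroupOf N) = Nat.card Z :=
      Nat.card_congr (subgroupOfEquivOfLe hZN).toEquiv
    rw [h2]
    obtain ⟨n, hn⟩ := IsPGroup.iff_card.mp hZ
    rw [hn]
    exact Nat.Coprime.pow_left n hi.symm
  obtain ⟨K, hK⟩ := exists_right_complement'_of_coprime hcop
  -- `K` is the set of `p'`-elements of `N`.
  have hKcard : Nat.card K = (Z.subgroupOf N).index := hK.symm.index_eq_card.symm ▸ rfl
  have hcentral : ∀ z ∈ Z.subgroupOf N, ∀ n : N, z * n = n * z := by
    intro z hz n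
    rw [mem_subgroupOf] at hz
    apply Subtype.ext
    exact (mem_centralizer_iff.mp (hc n.2)) z hz
  have hKn : K.Normal := by
    refine ⟨fun k hk n => ?_⟩
    obtain ⟨⟨z, k'⟩, hzk⟩ := hK.2 n
    simp only at hzk
    have : n * k * n⁻¹ = (k' : N) * k * (k' : N)⁻¹ := by
      rw [← hzk]
      have hz := hcentral z z.2 ((k' : N) * k * (k' : N)⁻¹)
      calc (z : N) * k' * k * ((z : N) * k')⁻¹ = (z : N) * (k' * k * (k' : N)⁻¹) * (z : N)⁻¹ := by group
        _ = _ := by rw [hz]; group
    rw [this]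
    exact K.mul_mem (K.mul_mem k'.2 hk) (K.inv_mem k'.2)
  have hKcop : (Nat.card K).Coprime p := by rw [hKcard]; exact hi
  haveI := hKn
  have hKle : K ≤ pPrimeCore p N := le_pPrimeCore hKn hKcop
  have h3 := map_subtype_pPrimeCore p hN
  rw [h1, inf_bot_eq, Subgroup.map_eq_bot_iff_of_injective _ N.subtype_injective] at h3
  have hKbot : K = ⊥ := le_bot_iff.mp (h3 ▸ hKle)
  subst hKbot
  have := isComplement'_bot_right.mp hK
  rwa [subgroupOf_eq_top] at this

/-- Hall–Higman Lemma 1.2.3 for `Cfsg.IsPSolvable`. -/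
theorem centralizer_pCore_le {G : Type*} [Group G] [Finite G] {p : ℕ} [Fact p.Prime]
    (hsol : Cfsg.IsPSolvable p G) (h1 : pPrimeCore p G = ⊥) :
    centralizer (pCore p G : Set G) ≤ pCore p G := by
  obtain ⟨n, H, h0, hn, hmono, hnorm, hfac⟩ := hsol
  haveI := hnorm
  set P := pCore p G with hP
  set C := centralizer (P : Set G) with hC
  haveI hCn : C.Normal := by rw [hC]; infer_instance
  have hPp : IsPGroup p P := pCore_isPGroup p
  suffices h : ∀ i : Fin (n + 1), H i ⊓ C ≤ P by
    have := h (Fin.last n)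
    rwa [hn, top_inf_eq] at this
  intro i
  induction i using Fin.induction with
  | zero => rw [h0, bot_inf_eq]; exact bot_le
  | succ i ih =>
    -- `Z = C ∩ P`, `N = Z ⊔ (H (i+1) ∩ C)`
    set A := H i.castSucc with hA
    set B := H i.succ with hB
    have hAB : A ≤ B := hmono (Fin.castSucc_lt_succ).le
    set Z := P ⊓ C with hZ
    have hZn : Z.Normal := inferInstance
    have hAC : A ⊓ C ≤ Z := le_inf ih inf_le_right
    set N := Z ⊔ (B ⊓ C) with hN
    have hNn : N.Normal := sup_normal Z (B ⊓ C)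
    have hZp : IsPGroup p Z := hPp.to_le inf_le_left
    have hrel : Z.relIndex N ∣ A.relIndex B := by
      have e1 : Z.relIndex N = Z.relIndex (B ⊓ C) := by
        rw [hN]; exact relIndex_sup_left (B ⊓ C) Z
      have e2 : Z.relIndex (B ⊓ C) ∣ (A ⊓ C).relIndex (B ⊓ C) :=
        relIndex_dvd_of_le_left _ hAC
      have e3 : (A ⊓ C).relIndex (B ⊓ C) = A.relIndex (B ⊓ C) := by
        have : (A ⊓ C) ⊓ (B ⊓ C) = A ⊓ (B ⊓ C) := by
          rw [inf_assoc, inf_left_comm C, inf_idem]
        rw [← inf_relIndex_right, this, inf_relIndex_right]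
      have e4 : A.relIndex (B ⊓ C) ∣ A.relIndex B := by
        rw [← relIndex_subgroupOf (H := A) (inf_le_left : B ⊓ C ≤ B)]
        exact relIndex_dvd_index_of_normal _ _
      rw [e1]
      exact (e2.trans (e3 ▸ dvd_rfl)).trans e4
    have hNC : N ≤ C := sup_le inf_le_right inf_le_right
    rcases hfac i with ⟨m, hm⟩ | hcop
    · -- `p`-factor
      have hNp : IsPGroup p N := by
        obtain ⟨a, ha⟩ := IsPGroup.iff_card.mp hZp
        obtain ⟨b, -, hb⟩ := (Nat.dvd_prime_pow (Fact.out : p.Prime)).mp (hm ▸ hrel)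
        refine IsPGroup.of_card (n := a + b) ?_
        rw [← relIndex_bot_left, ← relIndex_mul_relIndex ⊥ Z N bot_le le_sup_left,
          relIndex_bot_left, ha, hb, pow_add]
      exact le_sup_right.trans (le_pCore hNn hNp)
    · have := le_of_central_coprime h1 (Z := Z) (N := N) le_sup_left hNn hZp
        (hNC.trans (centralizer_le (SetLike.coe_subset_coe.mpr inf_le_left)))
        (hcop.coprime_dvd_left hrel)
      exact le_sup_right.trans (this.trans inf_le_left)

/-- A quotient of a `p`-soluble group is `p`-soluble. -/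
theorem isPSolvable_quotient {G : Type*} [Group G] [Finite G] {p : ℕ} [Fact p.Prime]
    (hsol : Cfsg.IsPSolvable p G) (N : Subgroup G) [N.Normal] : Cfsg.IsPSolvable p (G ⧸ N) := by
  obtain ⟨n, H, h0, hn, hmono, hnorm, hfac⟩ := hsol
  have hdvd : ∀ A B : Subgroup G, A.Normal → A ≤ B →
      (A.map (QuotientGroup.mk' N)).relIndex (B.map (QuotientGroup.mk' N)) ∣ A.relIndex B := by
    intro A B hA hAB
    have hs : N ≤ A ⊔ N := le_sup_right
    rw [relIndex_map_map, QuotientGroup.ker_mk']
    have e : A ⊔ N = N ⊔ A := sup_comm _ _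
    have hle : A ⊔ N ≤ B ⊔ N := sup_le_sup_right hAB N
    -- `(A ⊔ N).relIndex (B ⊔ N) = (A ⊔ N).relIndex B`
    have h1 : (A ⊔ N).relIndex (B ⊔ N) = (A ⊔ N).relIndex B := by
      have : B ⊔ N = B ⊔ (A ⊔ N) := by rw [← sup_assoc, sup_eq_left.mpr hAB]
      rw [this]; exact relIndex_sup_right B (A ⊔ N)
    rw [h1]
    exact relIndex_dvd_of_le_left B le_sup_left
  refine ⟨n, fun i => (H i).map (QuotientGroup.mk' N), ?_, ?_, ?_, ?_, ?_⟩
  · simp only [h0, Subgroup.map_bot]
  · simp only [hn]
    exact Subgroup.map_top_of_surjective _ (QuotientGroup.mk'_surjective N)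
  · exact fun i j hij => Subgroup.map_mono (hmono hij)
  · exact fun i => (hnorm i).map _ (QuotientGroup.mk'_surjective N)
  · intro i
    have hd := hdvd _ _ (hnorm i.castSucc) (hmono (Fin.castSucc_lt_succ (i := i)).le)
    rcases hfac i with ⟨m, hm⟩ | hcop
    · left
      obtain ⟨b, -, hb⟩ := (Nat.dvd_prime_pow (Fact.out : p.Prime)).mp (hm ▸ hd)
      exact ⟨b, hb⟩
    · right
      exact hcop.coprime_dvd_left hd

/-- `O_{p'}(G / U) = 1` when `U` is the preimage of `O_{p'}(G / N)`. -/
theorem pPrimeCore_quotient_comap {G : Type*} [Group G] [Finite G] {p : ℕ} [Fact p.Prime]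
    (N U : Subgroup G) [N.Normal] [U.Normal]
    (hU : U = (pPrimeCore p (G ⧸ N)).comap (QuotientGroup.mk' N)) :
    pPrimeCore p (G ⧸ U) = ⊥ := by
  set K := (pPrimeCore p (G ⧸ U)).comap (QuotientGroup.mk' U) with hK
  have hKn : K.Normal := inferInstance
  have hNU : N ≤ U := by
    rw [hU]
    exact (QuotientGroup.ker_mk' N).ge.trans (MonoidHom.ker_le_comap _ _)
  have hUK : U ≤ K := by
    rw [hK]
    exact (QuotientGroup.ker_mk' U).ge.trans (MonoidHom.ker_le_comap _ _)
  have hmapK : K.map (QuotientGroup.mk' U) = pPrimeCore p (G ⧸ U) :=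
    map_comap_eq_self_of_surjective (QuotientGroup.mk'_surjective U) _
  have hmapU : U.map (QuotientGroup.mk' N) = pPrimeCore p (G ⧸ N) := by
    rw [hU]
    exact map_comap_eq_self_of_surjective (QuotientGroup.mk'_surjective N) _
  have c1 : U.relIndex K = Nat.card (pPrimeCore p (G ⧸ U)) := by
    have := relIndex_ker (K := K) (QuotientGroup.mk' U)
    rwa [QuotientGroup.ker_mk', hmapK] at this
  have c2 : N.relIndex U = Nat.card (pPrimeCore p (G ⧸ N)) := by
    have := relIndex_ker (K := U) (QuotientGroup.mk' N)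
    rwa [QuotientGroup.ker_mk', hmapU] at this
  have c3 : N.relIndex K = Nat.card (K.map (QuotientGroup.mk' N)) := by
    have := relIndex_ker (K := K) (QuotientGroup.mk' N)
    rwa [QuotientGroup.ker_mk'] at this
  have hc : (Nat.card (K.map (QuotientGroup.mk' N))).Coprime p := by
    rw [← c3, ← relIndex_mul_relIndex N U K hNU hUK, c2, c1]
    exact Nat.Coprime.mul_left (pPrimeCore_coprime p) (pPrimeCore_coprime p)
  have hle : K.map (QuotientGroup.mk' N) ≤ pPrimeCore p (G ⧸ N) :=
    le_pPrimeCore (hKn.map _ (QuotientGroup.mk'_surjective N)) hc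
  have hKU : K ≤ U := by
    rw [hU]
    exact map_le_iff_le_comap.mp hle
  rw [← hmapK, Subgroup.map_eq_bot_iff, QuotientGroup.ker_mk']
  exact hKU

/-- In a p-soluble group each p-factor of the upper p-series contains its own centralizer in the corresponding quotient. -/
theorem result {G : Type*} [Group G] [Finite G] {p : ℕ} [Fact p.Prime] (hsol : Cfsg.IsPSolvable p G) (k : ℕ) : Subgroup.centralizer ((((Cfsg.upperPSeries p G (2 * k + 2)).1.map (QuotientGroup.mk' (Cfsg.upperPSeries p G (2 * k + 1)).1)) : Subgroup (G ⧸ (Cfsg.upperPSeries p G (2 * k + 1)).1)) : Set (G ⧸ (Cfsg.upperPSeries p G (2 * k + 1)).1)) ≤ (Cfsg.upperPSeries p G (2 * k + 2)).1.map (QuotientGroup.mk' (Cfsg.upperPSeries p G (2 * k + 1)).1) := by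
  have h2 : (Cfsg.upperPSeries p G (2 * k + 2)).1 =
      (pCore p (G ⧸ (Cfsg.upperPSeries p G (2 * k + 1)).1)).comap (QuotientGroup.mk' _) := by
    have hodd : ¬ Even (2 * k + 1) := by
      rw [Nat.not_even_iff_odd]; exact ⟨k, rfl⟩
    exact congrArg Subtype.val (if_neg hodd)
  have h1 : (Cfsg.upperPSeries p G (2 * k + 1)).1 =
      (pPrimeCore p (G ⧸ (Cfsg.upperPSeries p G (2 * k)).1)).comap (QuotientGroup.mk' _) := by
    have heven : Even (2 * k) := even_two_mul k
    exact congrArg Subtype.val (if_pos heven)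
  have h3 : (Cfsg.upperPSeries p G (2 * k + 2)).1.map
      (QuotientGroup.mk' (Cfsg.upperPSeries p G (2 * k + 1)).1) =
      pCore p (G ⧸ (Cfsg.upperPSeries p G (2 * k + 1)).1) := by
    rw [h2]
    exact map_comap_eq_self_of_surjective (QuotientGroup.mk'_surjective _) _
  rw [h3]
  exact centralizer_pCore_le (isPSolvable_quotient hsol _) (pPrimeCore_quotient_comap _ _ h1)

end Cfsg.Agent.S0634
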