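import Cfsg.Statements.S0651
import Cfsg.Agent.PLocal.ReplacementProperty

set_option autoImplicit false
open Cfsg

namespace Cfsg.Agent.S0651

/-- For odd p and D normal in the p-group S, the abelian subgroups of D of largest order satisfy the replacement property: a class-2 normal subgroup B of S with a member containing [B, B] but not B normalizes some such member. -/
theorem result {S : Type*} [Group S] [Finite S] {p : ℕ} [Fact p.Prime] (hS : IsPGroup p S) (hp : p ≠ 2) (D : Subgroup S) [D.Normal] : ∀ (B : Subgroup S) [B.Normal], ⁅⁅B, B⁆, B⁆ = ⊥ → (∃ U ∈ (Set.image (fun A : Subgroup ↥D => A.map D.subtype) (Cfsg.maxAbelianSubgroups ↥D)), ⁅B, B⁆ ≤ U ∧ ¬ B ≤ U) → ∃ A ∈ (Set.image (fun A : Subgroup ↥D => A.map D.subtype) (Cfsg.maxAbelianSubgroups ↥D)), ⁅B, B⁆ ≤ A ∧ ¬ B ≤ A ∧ B ≤ Subgroup.normalizer (A : Set S) := by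
  intro B hB _ hex
  refine Cfsg.Agent.PLocal.ReplacementProperty.replacement_property hS hp D _ ?_ ?_ B hex
  · rintro _ ⟨A, hA, rfl⟩
    haveI := hA.1
    exact ⟨Subgroup.map_isMulCommutative A D.subtype, Subgroup.map_subtype_le A⟩
  · rintro _ ⟨A, hA, rfl⟩ A' hA'D hcomm hcard -
    refine ⟨A'.subgroupOf D, ⟨?_, ?_⟩, Subgroup.map_subgroupOf_eq_of_le hA'D⟩
    · haveI := hcomm
      infer_instance
    · intro C hC
      have h1 : Nat.card ↥(A'.subgroupOf D) = Nat.card ↥A := by
        rw [Nat.card_congr (Subgroup.subgroupOfEquivOfLe hA'D).toEquiv, hcard]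
        exact Subgroup.card_map_of_injective D.subtype_injective
      rw [h1]
      exact hA.2 C hC

end Cfsg.Agent.S0651
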