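import Cfsg.Statements.S0652
import Cfsg.Agent.PLocal.ReplacementProperty

set_option autoImplicit false
open Cfsg

namespace Cfsg.Agent.S0652

/-- For odd p and D normal in the p-group S, the elementary abelian subgroups of D of largest order satisfy the replacement property for class-2 normal subgroups of S. -/
theorem result {S : Type*} [Group S] [Finite S] {p : ℕ} [Fact p.Prime] (hS : IsPGroup p S) (hp : p ≠ 2) (D : Subgroup S) [D.Normal] : ∀ (B : Subgroup S) [B.Normal], ⁅⁅B, B⁆, B⁆ = ⊥ → (∃ U ∈ (Set.image (fun A : Subgroup ↥D => A.map D.subtype) (Cfsg.maxElementaryAbelianSubgroups p ↥D)), ⁅B, B⁆ ≤ U ∧ ¬ B ≤ U) → ∃ A ∈ (Set.image (fun A : Subgroup ↥D => A.map D.subtype) (Cfsg.maxElementaryAbelianSubgroups p ↥D)), ⁅B, B⁆ ≤ A ∧ ¬ B ≤ A ∧ B ≤ Subgroup.normalizer (A : Set S) := by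
  intro B hB _ hex
  refine Cfsg.Agent.PLocal.ReplacementProperty.replacement_property hS hp D _ ?_ ?_ B hex
  · rintro _ ⟨A, hA, rfl⟩
    haveI := hA.1.1
    exact ⟨Subgroup.map_isMulCommutative A D.subtype, Subgroup.map_subtype_le A⟩
  · rintro _ ⟨A, hA, rfl⟩ A' hA'D hcomm hcard hexp
    refine ⟨A'.subgroupOf D, ⟨⟨?_, ?_⟩, ?_⟩, Subgroup.map_subgroupOf_eq_of_le hA'D⟩
    · haveI := hcomm
      infer_instance
    · intro x hx
      have h1 : Monoid.exponent ↥(A.map D.subtype) ∣ p := by
        rw [Monoid.exponent_dvd_iff_forall_pow_eq_one]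
        rintro ⟨_, ⟨y, hy, rfl⟩⟩
        apply Subtype.ext
        have h2 := hA.1.2 y hy
        have h3 := congrArg D.subtype h2
        simpa using h3
      have h2 := Monoid.exponent_dvd_iff_forall_pow_eq_one.1 (hexp.trans h1) ⟨(x : S), hx⟩
      apply Subtype.ext
      have h3 := congrArg Subtype.val h2
      simpa using h3
    · intro C hC
      have h1 : Nat.card ↥(A'.subgroupOf D) = Nat.card ↥A := by
        rw [Nat.card_congr (Subgroup.subgroupOfEquivOfLe hA'D).toEquiv, hcard]
        exact Subgroup.card_map_of_injective D.subtype_injective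
      rw [h1]
      exact hA.2 C hC

end Cfsg.Agent.S0652
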