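import Cfsg.Statements.S0659
import Mathlib
import Cfsg.Agent.PLocal.ThompsonJA
import Cfsg.Agent.PLocal.AbelianStable
import Cfsg.Agent.PLocal.ComplementReduction
import Cfsg.Agent.S0653
import Cfsg.Agent.Transfer.PNilpotentBasic

set_option autoImplicit false
open Cfsg

namespace Cfsg.Agent.S0659

/-- `Z(J(P))` is compatible with homomorphisms injective on `P`. -/
theorem map_centerThompsonAOf_of_injOn {G H : Type*} [Group G] [Group H] (f : G →* H)
    (P : Subgroup G) (hf : Set.InjOn f P) :
    (centerThompsonAOf P).map f = centerThompsonAOf (P.map f) := by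
  have h1 : Function.Injective (f.comp P.subtype) := by
    intro x y hxy
    exact Subtype.ext (hf x.2 y.2 hxy)
  have h2 : (⊤ : Subgroup P).map P.subtype = P := by
    rw [← MonoidHom.range_eq_map, Subgroup.range_subtype]
  have h3 := PLocal.ThompsonJA.map_centerThompsonAOf P.subtype P.subtype_injective ⊤
  have h4 := PLocal.ThompsonJA.map_centerThompsonAOf (f.comp P.subtype) h1 ⊤
  rw [← Subgroup.map_map, h3, ← Subgroup.map_map, h2] at h4
  exact h4

/-- Glauberman's normal p-complement Theorem with the abelian-version Thompson subgroup: for odd p, G has a normal p-complement whenever the normalizer of Z(J(P)) does. -/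
theorem result {G : Type*} [Group G] [Finite G] {p : ℕ} [Fact p.Prime] (hp : p ≠ 2) (P : Sylow p G) (hN : Cfsg.HasNormalPComplement p ↥(Subgroup.normalizer (Cfsg.centerThompsonAOf ((P : Subgroup G)) : Set G))) : Cfsg.HasNormalPComplement p G := by
  refine PLocal.ComplementReduction.hasNormalPComplement_of_functor (p := p)
    (fun G _ P => centerThompsonAOf P) ?_ ?_ ?_ ?_ G P hN
  · intro G G' _ _ _ _ f P hf _
    exact map_centerThompsonAOf_of_injOn f P hf
  · intro G _ _ P _
    exact PLocal.ThompsonJA.centerThompsonAOf_le P
  · intro G _ _ P hP hP1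
    exact PLocal.ThompsonJA.centerThompsonAOf_ne_bot P hP hP1
  · intro G _ _ P A hA hlt hab hcop htop hc _ hN
    have hst : ∀ (V : Subgroup G) [V.Normal], IsPGroup p V → Cfsg.IsPStableOn p V := by
      intro V hVn hV
      exact PLocal.AbelianStable.isPStableOn_of_abelian hp P (pCore p G) A
        (Lib.Cores.pCore_isPGroup p) hlt.le hab hcop htop V (Lib.Cores.le_pCore hVn hV)
    haveI hchar := S0653.result hp hc hst P
    have hn : Subgroup.normalizer ((centerThompsonAOf (P : Subgroup G) : Subgroup G) : Set G) = ⊤ :=
      Subgroup.normalizer_eq_top_iff.2 inferInstance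
    rw [hn] at hN
    exact (Transfer.PNilpotentBasic.hnc_top).1 hN

end Cfsg.Agent.S0659
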