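import Cfsg.Statements.S0662
import Cfsg.Agent.PLocal.Uniserial
import Cfsg.Agent.PLocal.CountSubgroups
import Cfsg.Agent.PLocal.CyclicAbelianization

set_option autoImplicit false
open Cfsg

namespace Cfsg.Agent.S0662

open Cfsg.Agent.PLocal

theorem pow_dvd_card_of_iterCommutator_ne_bot {L : Type*} [Group L] {p : ℕ} [Fact p.Prime]
    [Finite L] (K N G : Subgroup L)
    (hK : IsPGroup p K) (hNK : N ≤ K) (hGK : G ≤ K)
    (hGN : G ≤ Subgroup.normalizer (N : Set L)) (n : ℕ)
    (hne : Cfsg.iterCommutator N G (n - 1) ≠ ⊥ ∨ n = 0) : p ^ n ∣ Nat.card N := by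
  have hdvd2 : ∀ k ≤ n, p ^ k ∣ Nat.card (Cfsg.iterCommutator N G (n - k)) := by
    intro k
    induction k with
    | zero => intro _; simp
    | succ k ih =>
      intro hk
      have h5 : n - k = n - (k + 1) + 1 := by omega
      have h4 := Uniserial.card_mul_relIndex
        (Uniserial.iterCommutator_succ_le hGN (n - (k + 1)))
      rw [← h5] at h4
      rw [← h4, pow_succ]
      refine mul_dvd_mul (ih (by omega)) ?_
      have hnb : Cfsg.iterCommutator N G (n - (k + 1)) ≠ ⊥ := by
        intro hbot
        rcases hne with hne | hne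
        · apply hne
          rw [eq_bot_iff, ← hbot]
          exact Uniserial.iterCommutator_antitone hGN (by omega)
        · omega
      have := Uniserial.prime_dvd_relIndex_of_lt
        (hK.to_le ((Uniserial.iterCommutator_le hGN _).trans hNK))
        (Uniserial.iterCommutator_succ_lt K N G hK hNK hGK hGN _ hnb)
      rwa [← h5] at this
  have := hdvd2 n le_rfl
  rwa [Nat.sub_self] at this

/-- In a p-group of maximal class of order at least p³ the normal subgroups of index at least p² are exactly the terms of the lower central series, and there are exactly p + 1 normal subgroups of index p. -/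
theorem result {G : Type*} [Group G] [Finite G] {p : ℕ} [Fact p.Prime] (n : ℕ) (hG : Nat.card G = p ^ n) (hcl : Group.nilpotencyClass G = n - 1) (hn : 3 ≤ n) : (∀ (N : Subgroup G) [N.Normal] (r : ℕ), 2 ≤ r → N.index = p ^ r → N = (⊤ : Subgroup G).lowerCentralSeries (r - 1)) ∧ Nat.card {N : Subgroup G // N.Normal ∧ N.index = p} = p + 1 := by
  have hp : p.Prime := Fact.out
  have hPG : IsPGroup p G := IsPGroup.of_card hG
  have hnil : Group.IsNilpotent G := hPG.isNilpotent
  have hKtop : IsPGroup p (⊤ : Subgroup G) := hPG.to_subgroup ⊤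
  have hne : ∀ i, i < n - 1 → (⊤ : Subgroup G).lowerCentralSeries i ≠ ⊥ := by
    intro i hi h
    rw [Subgroup.lowerCentralSeries_eq_bot_iff_nilpotencyClass_le] at h
    omega
  have hD1 : (⊤ : Subgroup G).lowerCentralSeries 1 = commutator G :=
    Subgroup.top_lowerCentralSeries_one
  have hDne : commutator G ≠ ⊥ := by
    rw [← hD1]; exact hne 1 (by omega)
  have hnc : ∀ N : Subgroup G, ∀ _ : N.Normal, ¬ commutator G ≤ N →
      ¬ IsCyclic (G ⧸ (N ⊔ commutator G)) := fun N _ hN h =>
    hN (CyclicAbelianization.commutator_le_of_isCyclic_quotient hnil N _ rfl h)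
  have htopn : ∀ N : Subgroup G, N.Normal → (⊤ : Subgroup G) ≤ Subgroup.normalizer (N : Set G) := by
    intro N hN
    rw [Subgroup.normalizer_eq_top_iff.mpr hN]
  have hiter : ∀ i, Cfsg.iterCommutator (commutator G) ⊤ i =
      (⊤ : Subgroup G).lowerCentralSeries (i + 1) := by
    intro i
    induction i with
    | zero => exact hD1.symm
    | succ i ih =>
      rw [Uniserial.iterCommutator_succ, ih]
      exact (Subgroup.lowerCentralSeries_succ _ _).symm
  have hDn : (⊤ : Subgroup G) ≤ Subgroup.normalizer (commutator G : Set G) :=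
    htopn _ inferInstance
  have hne' : Cfsg.iterCommutator (commutator G) ⊤ (n - 2 - 1) ≠ ⊥ ∨ n - 2 = 0 := by
    left
    rw [hiter]
    exact hne _ (by omega)
  -- lower bound for the order of the commutator subgroup
  have hDlow : p ^ (n - 2) ∣ Nat.card (commutator G) :=
    pow_dvd_card_of_iterCommutator_ne_bot ⊤ (commutator G) ⊤ hKtop le_top le_top hDn (n - 2) hne'
  -- a noncyclic p-group quotient has order at least p ^ 2
  have hind : ∀ N : Subgroup G, ∀ _ : N.Normal, ¬ IsCyclic (G ⧸ N) → p ^ 2 ∣ N.index := by
    intro N _ hN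
    obtain ⟨k, hk⟩ := hPG.index N
    rw [hk]
    apply pow_dvd_pow
    by_contra hlt
    apply hN
    have hk' : k = 0 ∨ k = 1 := by omega
    have hcard : Nat.card (G ⧸ N) = p ^ k := hk
    rcases hk' with rfl | rfl
    · rw [pow_zero] at hcard
      have := (Nat.card_eq_one_iff_unique.mp hcard).1
      infer_instance
    · rw [pow_one] at hcard
      exact isCyclic_of_prime_card hcard
  have hDcyc : ¬ IsCyclic (G ⧸ commutator G) := fun h =>
    hDne (CyclicAbelianization.commutator_eq_bot_of_isCyclic_quotient hnil h)
  have hDind0 := hind (commutator G) inferInstance hDcyc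
  have hmul := (commutator G).card_mul_index
  have hppow : p ^ n = p ^ (n - 2) * p ^ 2 := by rw [← pow_add]; congr 1; omega
  have hDcard : Nat.card (commutator G) = p ^ (n - 2) ∧ (commutator G).index = p ^ 2 := by
    obtain ⟨a, ha⟩ := hDlow
    obtain ⟨b, hb⟩ := hDind0
    rw [hG, ha, hb, hppow] at hmul
    have h8 : (p ^ (n - 2) * p ^ 2) * (a * b) = (p ^ (n - 2) * p ^ 2) * 1 := by
      calc (p ^ (n - 2) * p ^ 2) * (a * b) = p ^ (n - 2) * a * (p ^ 2 * b) := by ring
        _ = _ := by rw [mul_one, hmul]
    have h9 : a * b = 1 := Nat.eq_of_mul_eq_mul_left (Nat.mul_pos (pow_pos hp.pos _)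
      (pow_pos hp.pos _)) h8
    have h10 : a = 1 := Nat.eq_one_of_mul_eq_one_right h9
    have h11 : b = 1 := Nat.eq_one_of_mul_eq_one_left h9
    rw [ha, hb, h10, h11]
    simp
  constructor
  · intro N hN r hr hNr
    have hND : N ≤ commutator G := by
      by_cases hDN : commutator G ≤ N
      · -- equality of indices
        have h1 : N.index ∣ (commutator G).index := Subgroup.index_dvd_of_le hDN
        rw [hNr, hDcard.2] at h1
        have h2 := (Nat.pow_dvd_pow_iff_le_right hp.one_lt).mp h1
        have h3 : r = 2 := by omega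
        subst h3
        have h4 : Nat.card N = Nat.card (commutator G) := by
          have h5 := N.card_mul_index
          have h6 := (commutator G).card_mul_index
          rw [hNr] at h5
          rw [hDcard.2, ← h5] at h6
          exact (Nat.eq_of_mul_eq_mul_right (pow_pos hp.pos 2) h6).symm
        rw [Subgroup.eq_of_le_of_card_ge hDN h4.le]
      · have h1 := hind (N ⊔ commutator G) inferInstance (hnc N hN hDN)
        have h2 : (N ⊔ commutator G).index ∣ (commutator G).index :=
          Subgroup.index_dvd_of_le le_sup_right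
        rw [hDcard.2] at h2
        have h3 : (N ⊔ commutator G).index = p ^ 2 := Nat.dvd_antisymm h2 h1
        have h4 : Nat.card (N ⊔ commutator G : Subgroup G) = Nat.card (commutator G) := by
          have h5 := (N ⊔ commutator G).card_mul_index
          have h6 := (commutator G).card_mul_index
          rw [h3] at h5
          rw [hDcard.2, ← h5] at h6
          exact (Nat.eq_of_mul_eq_mul_right (pow_pos hp.pos 2) h6).symm
        have h5 := Subgroup.eq_of_le_of_card_ge (le_sup_right : commutator G ≤ N ⊔ commutator G)
          h4.le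
        rw [h5]
        exact le_sup_left
    have hrn : r ≤ n := by
      have h1 : N.index ∣ Nat.card G := N.index_dvd_card
      rw [hNr, hG] at h1
      exact (Nat.pow_dvd_pow_iff_le_right hp.one_lt).mp h1
    have hNcard : Nat.card N = p ^ (n - 2 - (r - 2)) := by
      have h5 := N.card_mul_index
      rw [hNr, hG] at h5
      have h6 : p ^ n = p ^ (n - 2 - (r - 2)) * p ^ r := by rw [← pow_add]; congr 1; omega
      rw [h6] at h5
      exact Nat.eq_of_mul_eq_mul_right (pow_pos hp.pos r) h5
    have := Uniserial.eq_iterCommutator ⊤ (commutator G) ⊤ hKtop le_top le_top hDn (n - 2)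
      hDcard.1 hne' N hND (htopn N hN) (r - 2) (by omega) hNcard
    rw [this, hiter]
    congr 1
    omega
  · rw [← CountSubgroups.card_normal_index_prime_of_le (commutator G) hDcard.2 hDcyc]
    apply Nat.card_congr
    refine Equiv.subtypeEquivRight ?_
    intro N
    constructor
    · rintro ⟨hN, hNi⟩
      refine ⟨?_, hNi⟩
      have hcyc : IsCyclic (G ⧸ N) := isCyclic_of_prime_card (p := p) hNi
      have hcomm : IsMulCommutative (G ⧸ N) := inferInstance
      exact (Subgroup.Normal.quotient_commutative_iff_commutator_le (N := N)).mp hcomm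
    · rintro ⟨hN, hNi⟩
      exact ⟨Subgroup.Normal.of_commutator_le G hN, hNi⟩

end Cfsg.Agent.S0662
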