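import Cfsg.Statements.S0666
import Mathlib
import Cfsg.Agent.S0035

set_option autoImplicit false
open Cfsg

namespace Cfsg.Agent.S0666

open scoped Pointwise

/-- Norm argument: in a commutative group on which the finite group `F` acts, if `N` is a normal
subgroup complemented by `H`, with `H` meeting its conjugates trivially, and both `N` and `H` act
without nontrivial fixed points, then every element is killed by `card N`. -/
theorem pow_card_eq_one {F V : Type*} [Group F] [Fintype F] [CommGroup V] [MulDistribMulAction F V]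
    (N H : Subgroup F) [N.Normal] (hc : Subgroup.IsComplement' N H)
    (hH : ∀ g : F, g ∉ H → H ⊓ (MulAut.conj g • H) = ⊥)
    (hN : ∀ v : V, (∀ n ∈ N, n • v = v) → v = 1)
    (hHf : ∀ v : V, (∀ h ∈ H, h • v = v) → v = 1) (v : V) : v ^ Nat.card N = 1 := by
  classical
  -- total norm
  have hprod : ∀ (K : Subgroup F) (u : V), ∀ k ∈ K, k • (∏ x : K, (x : F) • u) = ∏ x : K, (x : F) • u := by
    intro K u k hk
    rw [Finset.smul_prod']
    have := Fintype.prod_equiv (Equiv.mulLeft (⟨k, hk⟩ : K)) (fun x : K => k • ((x : F) • u))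
      (fun x : K => (x : F) • u) (by intro x; simp [mul_smul])
    exact this
  have hNprod : ∀ u : V, ∏ x : N, (x : F) • u = 1 := fun u => hN _ (hprod N u)
  have hHprod : ∀ u : V, ∏ x : H, (x : F) • u = 1 := fun u => hHf _ (hprod H u)
  have hFprod : ∀ u : V, ∏ x : F, x • u = 1 := by
    intro u
    have h1 : ∀ k : F, k • (∏ x : F, x • u) = ∏ x : F, x • u := by
      intro k
      rw [Finset.smul_prod']
      exact Fintype.prod_equiv (Equiv.mulLeft k) (fun x : F => k • (x • u))
        (fun x : F => x • u) (by intro x; simp [mul_smul])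
    exact hN _ (fun n _ => h1 n)
  -- the double product
  have hdouble : ∏ n : N, ∏ h : H, ((n : F) * h * (n : F)⁻¹) • v = 1 := by
    apply Finset.prod_eq_one
    intro n _
    have : ∀ h : H, ((n : F) * h * (n : F)⁻¹) • v = (n : F) • ((h : F) • ((n : F)⁻¹ • v)) := by
      intro h; simp only [mul_smul]
    simp only [this]
    rw [← Finset.smul_prod', hHprod, smul_one]
  -- split off h = 1
  have hsplit : ∀ n : N, ∏ h : H, ((n : F) * h * (n : F)⁻¹) • v
      = v * ∏ h ∈ (Finset.univ.erase (1 : H)), ((n : F) * h * (n : F)⁻¹) • v := by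
    intro n
    rw [← Finset.mul_prod_erase Finset.univ _ (Finset.mem_univ (1 : H))]
    simp
  simp only [hsplit] at hdouble
  rw [Finset.prod_mul_distrib, Finset.prod_const, Finset.card_univ, ← Nat.card_eq_fintype_card] at hdouble
  -- the rest is the product over the complement of N
  have hrest : ∏ n : N, ∏ h ∈ (Finset.univ.erase (1 : H)), ((n : F) * h * (n : F)⁻¹) • v = 1 := by
    rw [← Finset.prod_product']
    have hinj : Set.InjOn (fun q : N × H => (q.1 : F) * q.2 * (q.1 : F)⁻¹)
        ((Finset.univ : Finset N) ×ˢ (Finset.univ.erase (1 : H)) : Finset (N × H)) := by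
      rintro ⟨n, h⟩ hq ⟨n', h'⟩ hq' heq
      simp only [Finset.coe_product, Finset.coe_univ, Finset.coe_erase, Set.mem_prod, Set.mem_univ,
        true_and, Set.mem_diff, Set.mem_singleton_iff] at hq hq'
      simp only at heq
      -- compare modulo N
      have hh : (h : F) = h' := by
        have h1 : (h : F) * ((h : F)⁻¹ * n * h * (n : F)⁻¹) = n * h * (n : F)⁻¹ := by group
        have h2 : (h' : F) * ((h' : F)⁻¹ * n' * h' * (n' : F)⁻¹) = n' * h' * (n' : F)⁻¹ := by group
        have e1 : ((h : F)⁻¹ * n * h * (n : F)⁻¹) ∈ N := by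
          apply N.mul_mem _ (N.inv_mem n.2)
          have := (inferInstance : N.Normal).conj_mem n n.2 (h : F)⁻¹
          simpa using this
        have e2 : ((h' : F)⁻¹ * n' * h' * (n' : F)⁻¹) ∈ N := by
          apply N.mul_mem _ (N.inv_mem n'.2)
          have := (inferInstance : N.Normal).conj_mem n' n'.2 (h' : F)⁻¹
          simpa using this
        have h3 : (h : F) * ((h : F)⁻¹ * n * h * (n : F)⁻¹) = (h' : F) * ((h' : F)⁻¹ * n' * h' * (n' : F)⁻¹) := by
          rw [h1, h2, heq]
        have h4 : (h' : F)⁻¹ * h ∈ N := by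
          have : (h' : F)⁻¹ * h = ((h' : F)⁻¹ * n' * h' * (n' : F)⁻¹) * ((h : F)⁻¹ * n * h * (n : F)⁻¹)⁻¹ := by
            rw [eq_mul_inv_iff_mul_eq, mul_assoc, h3]; group
          rw [this]
          exact N.mul_mem e2 (N.inv_mem e1)
        have h5 : (h' : F)⁻¹ * h ∈ H := H.mul_mem (H.inv_mem h'.2) h.2
        have h6 : (h' : F)⁻¹ * h = 1 := by
          have := hc.disjoint
          exact Subgroup.disjoint_def.mp this h4 h5
        have := inv_mul_eq_one.mp h6
        exact this.symm
      have hh' : h = h' := Subtype.ext hh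
      subst hh'
      have hn : (n' : F)⁻¹ * n = 1 := by
        by_contra hne
        have hnH : (n' : F)⁻¹ * n ∉ H := by
          intro hmem
          exact hne (Subgroup.disjoint_def.mp hc.disjoint (N.mul_mem (N.inv_mem n'.2) n.2) hmem)
        have hb := hH _ hnH
        have hmem : (h : F) ∈ H ⊓ (MulAut.conj ((n' : F)⁻¹ * n) • H) := by
          refine Subgroup.mem_inf.mpr ⟨h.2, ?_⟩
          rw [Subgroup.mem_pointwise_smul_iff_inv_smul_mem]
          rw [← map_inv, MulAut.smul_def, MulAut.conj_apply]
          have : ((n' : F)⁻¹ * n)⁻¹ * h * (((n' : F)⁻¹ * n)⁻¹)⁻¹ = h := by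
            have h1 : (n : F)⁻¹ * (n' * h * (n' : F)⁻¹) * n = h := by
              rw [← heq]; group
            calc ((n' : F)⁻¹ * n)⁻¹ * h * (((n' : F)⁻¹ * n)⁻¹)⁻¹ 
                = (n : F)⁻¹ * (n' * h * (n' : F)⁻¹) * n := by group
              _ = h := h1
          rw [this]
          exact h.2
        rw [hb, Subgroup.mem_bot] at hmem
        exact hq (Subtype.ext hmem)
      have : (n : F) = n' := (inv_mul_eq_one.mp hn).symm
      exact Prod.ext (Subtype.ext this) rfl
    rw [← Finset.prod_image (f := fun x : F => x • v) (g := fun q : N × H => (q.1 : F) * q.2 * (q.1 : F)⁻¹)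
      (s := (Finset.univ : Finset N) ×ˢ (Finset.univ.erase (1 : H))) hinj]
    have himg : Finset.image (fun q : N × H => (q.1 : F) * q.2 * (q.1 : F)⁻¹)
        ((Finset.univ : Finset N) ×ˢ (Finset.univ.erase (1 : H))) = Finset.univ.filter (fun x : F => x ∉ N) := by
      apply Finset.eq_of_subset_of_card_le
      · intro x hx
        simp only [Finset.mem_image, Finset.mem_product, Finset.mem_univ, Finset.mem_erase, true_and,
          and_true, Prod.exists] at hx
        obtain ⟨n, h, hh, rfl⟩ := hx
        simp only [Finset.mem_filter, Finset.mem_univ, true_and]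
        intro hmem
        have h1 : (h : F) ∈ N := by
          have h2 := N.mul_mem (N.mul_mem (N.inv_mem n.2) hmem) n.2
          have h3 : (n : F)⁻¹ * ((n : F) * h * (n : F)⁻¹) * n = h := by group
          rwa [h3] at h2
        exact hh (Subtype.ext (Subgroup.disjoint_def.mp hc.disjoint h1 h.2))
      · rw [Finset.card_image_of_injOn hinj, Finset.card_product, Finset.card_erase_of_mem (Finset.mem_univ _)]
        have h1 : (Finset.univ.filter (fun x : F => x ∉ N)).card + (Finset.univ.filter (fun x : F => x ∈ N)).card = Fintype.card F := by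
          rw [add_comm, Finset.card_filter_add_card_filter_not, Finset.card_univ]
        have h2 : (Finset.univ.filter (fun x : F => x ∈ N)).card = Fintype.card N := by
          rw [Fintype.card_subtype]
        have h3 : Fintype.card N * Fintype.card H = Fintype.card F := by
          have := hc.card_mul
          simpa only [Nat.card_eq_fintype_card] using this
        rw [h2] at h1
        rw [Finset.card_univ, Finset.card_univ, Nat.mul_sub, mul_one, h3]
        omega
    rw [himg]
    have h1 : (∏ x ∈ Finset.univ.filter (fun x : F => x ∈ N), x • v) *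
        ∏ x ∈ Finset.univ.filter (fun x : F => x ∉ N), x • v = 1 := by
      rw [Finset.prod_filter_mul_prod_filter_not, hFprod]
    have h2 : (∏ x ∈ Finset.univ.filter (fun x : F => x ∈ N), x • v) = 1 := by
      rw [← hNprod v]
      rw [Finset.prod_subtype (Finset.univ.filter (fun x : F => x ∈ N)) (p := fun x => x ∈ N) (by simp)]
    rw [h2, one_mul] at h1
    exact h1
  rw [hrest, mul_one] at hdouble
  exact hdouble

/-- A Frobenius group acting on a nontrivial abelian group of order prime to that of its kernel, with the kernel acting without nontrivial fixed points, has a complement with a nontrivial fixed point. -/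
theorem result {G : Type*} [Group G] [Finite G] (V F : Subgroup G) (hVab : IsMulCommutative V) (hV1 : V ≠ ⊥) (hFV : F ≤ Subgroup.normalizer (V : Set G)) (H : Subgroup ↥F) (hH : Cfsg.IsFrobeniusComplement H) (hcop : (Nat.card V).Coprime (Nat.card (Cfsg.frobeniusKernel H))) (hCK : V ⊓ Subgroup.centralizer (Subtype.val '' Cfsg.frobeniusKernel H : Set G) = ⊥) : V ⊓ Subgroup.centralizer ((H.map F.subtype : Subgroup G) : Set G) ≠ ⊥ := by
  classical
  intro hbot
  obtain ⟨N, hN, hNn, hNc⟩ := Cfsg.Agent.S0035.result H hH
  haveI : Fintype F := Fintype.ofFinite _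
  letI : CommGroup V := { (inferInstance : Group V) with mul_comm := hVab.is_comm.comm }
  -- conjugation action of F on V
  let act : MulDistribMulAction F V :=
    { smul := fun f v => ⟨f * v * (f : G)⁻¹, (Subgroup.mem_normalizer_iff.mp (hFV f.2) v).mp v.2⟩
      one_smul := fun v => Subtype.ext (by
        change ((1 : F) : G) * v * ((1 : F) : G)⁻¹ = v
        simp)
      mul_smul := fun a b v => Subtype.ext (by
        change ((a * b : F) : G) * v * ((a * b : F) : G)⁻¹ = a * (b * v * (b : G)⁻¹) * (a : G)⁻¹
        simp [mul_assoc])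
      smul_mul := fun a v w => Subtype.ext (by
        change (a : G) * (v * w) * (a : G)⁻¹ = (a * v * (a : G)⁻¹) * (a * w * (a : G)⁻¹)
        group)
      smul_one := fun a => Subtype.ext (by
        change (a : G) * 1 * (a : G)⁻¹ = 1
        group) }
  letI := act
  have hsm : ∀ (f : F) (v : V), ((f • v : V) : G) = f * v * (f : G)⁻¹ := fun _ _ => rfl
  have hfix : ∀ (f : F) (v : V), f • v = v ↔ (f : G) * v = v * f := by
    intro f v
    rw [Subtype.ext_iff, hsm, mul_inv_eq_iff_eq_mul]
  have key : ∀ v : V, v ^ Nat.card N = 1 := by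
    apply pow_card_eq_one N H hNc hH.2.2
    · intro v hv
      have : (v : G) ∈ V ⊓ Subgroup.centralizer (Subtype.val '' Cfsg.frobeniusKernel H : Set G) := by
        refine Subgroup.mem_inf.mpr ⟨v.2, ?_⟩
        rw [Subgroup.mem_centralizer_iff]
        rintro _ ⟨x, hx, rfl⟩
        rw [← hN] at hx
        exact (hfix x v).mp (hv x hx)
      rw [hCK, Subgroup.mem_bot] at this
      exact Subtype.ext this
    · intro v hv
      have : (v : G) ∈ V ⊓ Subgroup.centralizer ((H.map F.subtype : Subgroup G) : Set G) := by
        refine Subgroup.mem_inf.mpr ⟨v.2, ?_⟩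
        rw [Subgroup.mem_centralizer_iff]
        rintro _ ⟨x, hx, rfl⟩
        exact (hfix x v).mp (hv x hx)
      rw [hbot, Subgroup.mem_bot] at this
      exact Subtype.ext this
  apply hV1
  rw [Subgroup.eq_bot_iff_forall]
  intro v hv
  have h1 : (⟨v, hv⟩ : V) ^ Nat.card N = 1 := key ⟨v, hv⟩
  have h2 : (⟨v, hv⟩ : V) ^ Nat.card V = 1 := pow_card_eq_one'
  have hcard : Nat.card N = Nat.card (Cfsg.frobeniusKernel H) := by
    rw [← hN]; rfl
  rw [hcard] at h1
  have h3 : orderOf (⟨v, hv⟩ : V) ∣ 1 := by
    rw [← Nat.Coprime.gcd_eq_one hcop]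
    exact Nat.dvd_gcd (orderOf_dvd_of_pow_eq_one h2) (orderOf_dvd_of_pow_eq_one h1)
  have h4 : (⟨v, hv⟩ : V) = 1 := by
    rw [← orderOf_eq_one_iff]
    exact Nat.dvd_one.mp h3
  exact congrArg Subtype.val h4

end Cfsg.Agent.S0666
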