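import Cfsg.Statements.S0671
-- import your own Cfsg.Agent.* helpers here
import Cfsg.Agent.PermutationGroups.PermModulePPower

set_option autoImplicit false
open Cfsg

namespace Cfsg.Agent.S0671

open Cfsg.Agent.PermutationGroups.PermModulePPower

/-- If the heart of the permutation module in characteristic `p` of a transitive action of degree `p ^ f` has no trivial composition factor, the action is doubly transitive. The hypothesis is phrased without composition series: no invariant subspaces `W < W'` between the constants and the sum-zero functions with trivial action on the quotient. -/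
theorem result {G : Type*} [Group G] [Finite G] {K : Type*} [Field K] {p f : ℕ} [Fact p.Prime] [CharP K p] {Ω : Type*} [Fintype Ω] [MulAction G Ω] [MulAction.IsPretransitive G Ω] (hf : 1 ≤ f) (hcard : Fintype.card Ω = p ^ f) (h : ∀ W W' : Subrepresentation (Cfsg.permRep K G Ω), (Cfsg.permConstants K G Ω).toSubmodule ≤ W.toSubmodule → W.toSubmodule < W'.toSubmodule → W'.toSubmodule ≤ (Cfsg.permSumZero K G Ω).toSubmodule → ∃ g : G, ∃ v ∈ W'.toSubmodule, Cfsg.permRep K G Ω g v - v ∉ W.toSubmodule) : MulAction.IsMultiplyPretransitive G Ω 2 := by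
  classical
  rw [MulAction.is_two_pretransitive_iff]
  intro a b c d hab hcd
  -- the orbital of `(a, b)`
  let R : Ω → Ω → Prop := fun x y => ∃ g : G, g • a = x ∧ g • b = y
  have hR : ∀ (g : G) (x y : Ω), R (g • x) (g • y) ↔ R x y := by
    intro g x y
    constructor
    · rintro ⟨k, hk1, hk2⟩
      exact ⟨g⁻¹ * k, by rw [mul_smul, hk1, inv_smul_smul], by rw [mul_smul, hk2, inv_smul_smul]⟩
    · rintro ⟨k, hk1, hk2⟩
      exact ⟨g * k, by rw [mul_smul, hk1], by rw [mul_smul, hk2]⟩
  have hRne : ∀ x, ¬ R x x := by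
    rintro x ⟨g, h1, h2⟩
    exact hab (MulAction.injective g (h1.trans h2.symm))
  -- its adjacency operator
  let A : (Ω → K) →ₗ[K] (Ω → K) :=
    { toFun := fun v x => ∑ y, if R x y then v y else 0
      map_add' := by
        intro v w
        funext x
        simp only [Pi.add_apply]
        rw [← Finset.sum_add_distrib]
        refine Finset.sum_congr rfl (fun y _ => ?_)
        split_ifs <;> simp
      map_smul' := by
        intro r v
        funext x
        simp only [Pi.smul_apply, smul_eq_mul, RingHom.id_apply]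
        rw [Finset.mul_sum]
        refine Finset.sum_congr rfl (fun y _ => ?_)
        split_ifs <;> simp }
  have hA : ∀ v x, A v x = ∑ y, if R x y then v y else 0 := fun _ _ => rfl
  have hAg : ∀ (g : G) v, A (Cfsg.permRep K G Ω g v) = Cfsg.permRep K G Ω g (A v) := by
    intro g v
    funext x
    rw [hA, permRep_apply, hA]
    refine Fintype.sum_equiv (MulAction.toPerm g⁻¹) _ _ (fun y => ?_)
    simp only [MulAction.toPerm_apply, permRep_apply, hR]
  -- the valency
  let k : K := A (fun _ => 1) a
  have hk : ∀ x, A (fun _ => 1) x = k := by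
    intro x
    obtain ⟨g, hg⟩ := MulAction.exists_smul_eq G x a
    have h1 := congrFun (hAg g (fun _ => 1)) a
    rw [permRep_apply] at h1
    have h2 : Cfsg.permRep K G Ω g (fun _ => (1 : K)) = fun _ => 1 := rfl
    rw [h2, ← hg, inv_smul_smul] at h1
    change _ = A (fun _ => 1) a
    rw [← h1, hg]
  let B : (Ω → K) →ₗ[K] (Ω → K) := A - k • LinearMap.id
  have hB : ∀ v x, B v x = A v x - k * v x := fun _ _ => rfl
  have hBg : ∀ (g : G) v, B (Cfsg.permRep K G Ω g v) = Cfsg.permRep K G Ω g (B v) := by
    intro g v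
    funext x
    rw [hB, hAg, permRep_apply, permRep_apply, permRep_apply, hB]
  have hB1 : B (fun _ => 1) = 0 := by
    funext x
    rw [hB, hk, mul_one, sub_self]
    rfl
  have hBs : ∀ x y, x ≠ y → B (Pi.single y 1) x = if R x y then 1 else 0 := by
    intro x y hxy
    rw [hB, hA, Pi.single_eq_of_ne hxy, mul_zero, sub_zero]
    rw [Finset.sum_eq_single y]
    · simp
    · intro z _ hz
      rw [Pi.single_eq_of_ne hz]
      simp
    · simp
  -- invariance of the range, image of the sum-zero functions, kernel
  let V0 : Submodule K (Ω → K) := (Cfsg.permSumZero K G Ω).toSubmodule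
  have hV0 : ∀ v, v ∈ V0 ↔ ∑ x, v x = 0 := fun _ => Iff.rfl
  have hsub : ∀ (g : G) (v : Ω → K), Cfsg.permRep K G Ω g v - v ∈ V0 := by
    intro g v
    rw [hV0]
    simp only [Pi.sub_apply, Finset.sum_sub_distrib, permRep_apply]
    rw [sub_eq_zero]
    exact Fintype.sum_equiv (MulAction.toPerm g⁻¹) _ _ (fun x => rfl)
  let U1 : Subrepresentation (Cfsg.permRep K G Ω) :=
    { toSubmodule := LinearMap.range B
      apply_mem_toSubmodule := by
        rintro g _ ⟨v, rfl⟩
        exact ⟨Cfsg.permRep K G Ω g v, hBg g v⟩ }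
  let U0 : Subrepresentation (Cfsg.permRep K G Ω) :=
    { toSubmodule := V0.map B
      apply_mem_toSubmodule := by
        rintro g _ ⟨v, hv, rfl⟩
        exact ⟨Cfsg.permRep K G Ω g v, (Cfsg.permSumZero K G Ω).apply_mem_toSubmodule g hv,
          hBg g v⟩ }
  have hone : (fun _ => 1 : Ω → K) ≠ 0 := by
    intro h0
    exact one_ne_zero (congrFun h0 a)
  have hU1top : U1.toSubmodule ≠ ⊤ := by
    intro htop
    have hinj : Function.Injective B := LinearMap.injective_iff_surjective.2
      (LinearMap.range_eq_top.1 htop)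
    exact hone (hinj (by rw [hB1, map_zero]))
  have hU1V0 : U1.toSubmodule ≤ V0 := fun v hv =>
    sum_eq_zero_of_invariant hcard U1.toSubmodule (fun g v hv => U1.apply_mem_toSubmodule g hv)
      hU1top v hv
  have hU01 : U0.toSubmodule ≤ U1.toSubmodule := by
    rintro _ ⟨v, _, rfl⟩
    exact ⟨v, rfl⟩
  have hU0bot : U0.toSubmodule = ⊥ := by
    by_contra hne
    have hC : (Cfsg.permConstants K G Ω).toSubmodule ≤ U0.toSubmodule := by
      change Submodule.span K {fun _ => 1} ≤ _
      rw [Submodule.span_le, Set.singleton_subset_iff]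
      exact one_mem_of_invariant hcard U0.toSubmodule
        (fun g v hv => U0.apply_mem_toSubmodule g hv) hne
    have hlt : U0.toSubmodule < U1.toSubmodule := by
      refine lt_of_le_of_ne hU01 (fun heq => ?_)
      -- then `V = V0 + ker B`
      have hker : LinearMap.ker B ≠ ⊤ := by
        intro hker
        apply hne
        rw [LinearMap.ker_eq_top] at hker
        rw [eq_bot_iff]
        rintro _ ⟨v, _, rfl⟩
        rw [hker]
        simp
      have hkerV0 : ∀ v ∈ LinearMap.ker B, ∑ x, v x = 0 :=
        sum_eq_zero_of_invariant (G := G) hcard (LinearMap.ker B) (fun g v hv => by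
          rw [LinearMap.mem_ker] at hv ⊢
          rw [hBg, hv, map_zero]) hker
      have h1 : B (Pi.single a 1) ∈ U0.toSubmodule := by
        rw [heq]
        exact ⟨_, rfl⟩
      obtain ⟨v, hv, hv'⟩ := h1
      have h2 : (Pi.single a 1 - v : Ω → K) ∈ LinearMap.ker B := by
        rw [LinearMap.mem_ker, map_sub, hv', sub_self]
      have h3 := hkerV0 _ h2
      simp only [Pi.sub_apply, Finset.sum_sub_distrib, Finset.sum_pi_single', Finset.mem_univ,
        if_true] at h3
      have h4 : ∑ x, v x = 0 := hv
      rw [h4, sub_zero] at h3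
      simp at h3
    obtain ⟨g, v, ⟨w, rfl⟩, hv⟩ := h U0 U1 hC hlt hU1V0
    apply hv
    rw [← hBg, ← map_sub]
    exact ⟨_, hsub g w, rfl⟩
  have hBV0 : ∀ v ∈ V0, B v = 0 := by
    intro v hv
    have : B v ∈ U0.toSubmodule := ⟨v, hv, rfl⟩
    rw [hU0bot] at this
    exact this
  have hBsame : ∀ y z, B (Pi.single y 1) = B (Pi.single z 1) := by
    intro y z
    rw [← sub_eq_zero, ← map_sub]
    apply hBV0
    rw [hV0]
    simp
  have hRa : ∀ y, a ≠ y → R a y := by
    intro y hy
    have h1 : B (Pi.single y 1) a = 1 := by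
      rw [hBsame y b, hBs a b hab, if_pos ⟨1, one_smul _ _, one_smul _ _⟩]
    rw [hBs a y hy] at h1
    by_contra hn
    rw [if_neg hn] at h1
    exact zero_ne_one h1
  obtain ⟨g, hg⟩ := MulAction.exists_smul_eq G a c
  have h1 : a ≠ g⁻¹ • d := by
    intro h2
    apply hcd
    rw [← hg, h2, smul_inv_smul]
  have h2 := hRa _ h1
  rw [← hR g, hg, smul_inv_smul] at h2
  exact h2

end Cfsg.Agent.S0671
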