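import Cfsg.Statements.S0672
import Mathlib

set_option autoImplicit false
open Cfsg

namespace Cfsg.Agent.S0672

open MulAction

/-- The equivariant map attached to an invariant kernel on points and pairs. -/
noncomputable def kernelMap {G : Type*} [Group G] {K : Type*} [Field K] {Ω : Type*} [Fintype Ω]
    [DecidableEq Ω] [MulAction G Ω] (c : Ω → Set.powersetCard Ω 2 → K)
    (hc : ∀ (g : G) x S, c (g • x) (g • S) = c x S) :
    Representation.IntertwiningMap (Cfsg.permSumZero K G Ω).toRepresentation
      (Cfsg.permRep K G (Set.powersetCard Ω 2)) where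
  toFun f S := ∑ x, c x S * (f : Ω → K) x
  map_add' f g := by
    funext S
    simp only [Submodule.coe_add, Pi.add_apply, mul_add, Finset.sum_add_distrib]
  map_smul' a f := by
    funext S
    simp only [Submodule.coe_smul, Pi.smul_apply, smul_eq_mul, RingHom.id_apply, Finset.mul_sum]
    exact Finset.sum_congr rfl fun x _ => by ring
  isIntertwining' g := by
    apply LinearMap.ext
    intro f
    funext S
    change ∑ x, c x S * (f : Ω → K) (g⁻¹ • x) = ∑ x, c x (g⁻¹ • S) * (f : Ω → K) x
    refine Fintype.sum_equiv (MulAction.toPerm g⁻¹) _ _ (fun x => ?_)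
    simp only [MulAction.toPerm_apply]
    rw [hc]

theorem kernelMap_apply {G : Type*} [Group G] {K : Type*} [Field K] {Ω : Type*} [Fintype Ω]
    [DecidableEq Ω] [MulAction G Ω] (c : Ω → Set.powersetCard Ω 2 → K)
    (hc : ∀ (g : G) x S, c (g • x) (g • S) = c x S) (f : (Cfsg.permSumZero K G Ω).toSubmodule)
    (S : Set.powersetCard Ω 2) : kernelMap c hc f S = ∑ x, c x S * (f : Ω → K) x := rfl

/-- the difference of two delta functions has sum zero -/
def delta {G : Type*} [Group G] {K : Type*} [Field K] {Ω : Type*} [Fintype Ω]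
    [DecidableEq Ω] [MulAction G Ω] (a b : Ω) : (Cfsg.permSumZero K G Ω).toSubmodule :=
  ⟨fun x => (if x = a then 1 else 0) - (if x = b then 1 else 0), by
    change ∑ x, _ = (0 : K)
    simp [Finset.sum_sub_distrib]⟩

theorem kernelMap_delta {G : Type*} [Group G] {K : Type*} [Field K] {Ω : Type*} [Fintype Ω]
    [DecidableEq Ω] [MulAction G Ω] (c : Ω → Set.powersetCard Ω 2 → K)
    (hc : ∀ (g : G) x S, c (g • x) (g • S) = c x S) (a b : Ω)
    (S : Set.powersetCard Ω 2) :
    kernelMap (G := G) c hc (delta (G := G) (K := K) a b) S = c a S - c b S := by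
  rw [kernelMap_apply]
  simp only [delta, mul_sub, Finset.sum_sub_distrib]
  simp

/-- the value on a constant -/
theorem kernelMap_const {G : Type*} [Group G] {K : Type*} [Field K] {Ω : Type*} [Fintype Ω]
    [DecidableEq Ω] [MulAction G Ω] (c : Ω → Set.powersetCard Ω 2 → K)
    (hc : ∀ (g : G) x S, c (g • x) (g • S) = c x S)
    (h0 : ∀ S, ∑ x, c x S = 0) (v : (Cfsg.permSumZero K G Ω).toSubmodule)
    (hv : (v : Ω → K) ∈ (Cfsg.permConstants K G Ω).toSubmodule) :
    kernelMap c hc v = 0 := by
  funext S
  rw [kernelMap_apply]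
  obtain ⟨a, ha⟩ := Submodule.mem_span_singleton.mp hv
  rw [← ha]
  simp only [Pi.smul_apply, smul_eq_mul, mul_one, ← Finset.sum_mul, h0, zero_mul, Pi.zero_apply]

/-- the pair -/
def pair {Ω : Type*} [DecidableEq Ω] (b c : Ω) (h : b ≠ c) : Set.powersetCard Ω 2 :=
  ⟨{b, c}, Finset.card_pair h⟩

theorem smul_mem_iff {G : Type*} [Group G] {Ω : Type*} [DecidableEq Ω] [MulAction G Ω]
    (g : G) (x : Ω) (S : Set.powersetCard Ω 2) :
    g • x ∈ ((g • S : Set.powersetCard Ω 2) : Finset Ω) ↔ x ∈ (S : Finset Ω) := by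
  rw [Set.powersetCard.coe_smul]
  exact Finset.smul_mem_smul_finset_iff g

theorem smul_pair {G : Type*} [Group G] {Ω : Type*} [DecidableEq Ω] [MulAction G Ω]
    (g : G) (b c : Ω) (h : b ≠ c) :
    g • pair b c h = pair (g • b) (g • c) (fun e => h (MulAction.injective g e)) := by
  apply Subtype.ext
  rw [Set.powersetCard.coe_smul]
  simp [pair, Finset.smul_finset_insert]

theorem pair_eq_iff {Ω : Type*} [DecidableEq Ω] {a b c d : Ω} (h : a ≠ b) (h' : c ≠ d) :
    pair a b h = pair c d h' ↔ (a = c ∧ b = d) ∨ (a = d ∧ b = c) := by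
  constructor
  · intro e
    have e' : ({a, b} : Finset Ω) = {c, d} := congrArg Subtype.val e
    have ha : a ∈ ({c, d} : Finset Ω) := by rw [← e']; simp
    have hb : b ∈ ({c, d} : Finset Ω) := by rw [← e']; simp
    simp only [Finset.mem_insert, Finset.mem_singleton] at ha hb
    rcases ha with rfl | rfl <;> rcases hb with rfl | rfl
    · exact absurd rfl h
    · exact Or.inl ⟨rfl, rfl⟩
    · exact Or.inr ⟨rfl, rfl⟩
    · exact absurd rfl h
  · rintro (⟨rfl, rfl⟩ | ⟨rfl, rfl⟩)
    · rfl
    · apply Subtype.ext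
      simp [pair, Finset.pair_comm]

/-- the set-stabiliser of a pair is transitive on the remaining points -/
theorem exists_move {G : Type*} [Group G] {K : Type*} [Field K] {p : ℕ} [Fact p.Prime]
    [CharP K p] {Ω : Type*} [Fintype Ω] [DecidableEq Ω] [MulAction G Ω]
    (h2 : MulAction.IsMultiplyPretransitive G Ω 2) (hp : p ∣ Fintype.card Ω)
    (h : ∀ f : Representation.IntertwiningMap (Cfsg.permSumZero K G Ω).toRepresentation
      (Cfsg.permRep K G (Set.powersetCard Ω 2)),
      (∀ v : (Cfsg.permSumZero K G Ω).toSubmodule,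
        (v : Ω → K) ∈ (Cfsg.permConstants K G Ω).toSubmodule → f v = 0) → f = 0)
    (S : Set.powersetCard Ω 2) (a a' : Ω) (ha : a ∉ (S : Finset Ω)) (ha' : a' ∉ (S : Finset Ω)) :
    ∃ g : G, g • a = a' ∧ g • S = S := by
  classical
  have hS : IsPretransitive G (Set.powersetCard Ω 2) :=
    Set.powersetCard.isPretransitive_of_isMultiplyPretransitive G h2
  by_cases hK : (2 : K) = 0
  · exfalso
    -- the kernel `[x ∈ S]`
    obtain ⟨c, hcd⟩ : ∃ c : Ω → Set.powersetCard Ω 2 → K,
        ∀ x S, c x S = if x ∈ (S : Finset Ω) then (1 : K) else 0 := ⟨_, fun _ _ => rfl⟩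
    have hc : ∀ (g : G) x S, c (g • x) (g • S) = c x S := by
      intro g x S
      simp only [hcd, smul_mem_iff]
    have h1 := h (kernelMap c hc) (fun v hv => by
      refine kernelMap_const c hc ?_ v hv
      intro S
      simp only [hcd]
      rw [Finset.sum_ite_mem, Finset.univ_inter, Finset.sum_const, S.2]
      simpa using hK)
    obtain ⟨b, hb⟩ : ∃ b, b ∈ (S : Finset Ω) := by
      apply Finset.card_pos.mp
      rw [S.2]; norm_num
    have h3 := kernelMap_delta (G := G) c hc b a S
    rw [h1] at h3
    simp [hcd, hb, ha] at h3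
  · by_contra hcon
    have hcon' : ∀ g : G, g • a = a' → g • S ≠ S := fun g hg hgS => hcon ⟨g, hg, hgS⟩
    -- the orbit
    set O : Ω → Set.powersetCard Ω 2 → Prop := fun x T => ∃ g : G, g • a = x ∧ g • S = T with hO
    have hOinv : ∀ (g : G) x T, O (g • x) (g • T) ↔ O x T := by
      intro g x T
      constructor
      · rintro ⟨k, hk1, hk2⟩
        exact ⟨g⁻¹ * k, by rw [mul_smul, hk1, inv_smul_smul], by rw [mul_smul, hk2, inv_smul_smul]⟩
      · rintro ⟨k, hk1, hk2⟩
        exact ⟨g * k, by rw [mul_smul, hk1], by rw [mul_smul, hk2]⟩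
    set k1 : K := ((Finset.univ.filter fun x => O x S).card : K) with hk1
    have hk : ∀ T, ((Finset.univ.filter fun x => O x T).card : K) = k1 := by
      intro T
      obtain ⟨g, rfl⟩ := exists_smul_eq G S T
      rw [hk1]
      congr 1
      symm
      apply Finset.card_bij (fun x _ => g • x)
      · intro x hx
        simp only [Finset.mem_filter, Finset.mem_univ, true_and] at hx ⊢
        exact (hOinv g x S).mpr hx
      · intro x _ y _ e
        exact MulAction.injective g e
      · intro y hy
        simp only [Finset.mem_filter, Finset.mem_univ, true_and] at hy ⊢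
        refine ⟨g⁻¹ • y, ?_, by simp⟩
        rw [← hOinv g]
        simpa using hy
    obtain ⟨c, hcd⟩ : ∃ c : Ω → Set.powersetCard Ω 2 → K,
        ∀ x T, c x T = (if x ∈ (T : Finset Ω) then k1 else 0) - (if O x T then (2 : K) else 0) :=
      ⟨_, fun _ _ => rfl⟩
    have hc : ∀ (g : G) x T, c (g • x) (g • T) = c x T := by
      intro g x T
      simp only [hcd, smul_mem_iff, hOinv]
    have h1 := h (kernelMap c hc) (fun v hv => by
      refine kernelMap_const c hc ?_ v hv
      intro T
      simp only [hcd]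
      rw [Finset.sum_sub_distrib, Finset.sum_ite_mem, Finset.univ_inter, Finset.sum_const, T.2,
        ← Finset.sum_filter, Finset.sum_const]
      simp only [nsmul_eq_mul, hk T]
      push_cast
      ring)
    have h3 := kernelMap_delta (G := G) c hc a a' S
    rw [h1, hcd, hcd] at h3
    have e1 : O a S := ⟨1, by simp, by simp⟩
    have e2 : ¬ O a' S := fun ⟨g, hg1, hg2⟩ => hcon' g hg1 hg2
    simp only [ha, ha', e1, e2, if_true, if_false] at h3
    apply hK
    have h4 : (0 : K) = 0 - 2 - (0 - 0) := h3
    linear_combination h4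

/-- Let a finite group act faithfully and doubly transitively with point stabilisers of even order, and let `K` have characteristic `p` dividing the degree. If the heart of the permutation module admits no non-zero equivariant map to the permutation module on unordered pairs (phrased: every intertwining map from the sum-zero functions vanishing on the constants is zero), the action is triply transitive. -/
theorem result {G : Type*} [Group G] [Finite G] {K : Type*} [Field K] {p : ℕ} [Fact p.Prime] [CharP K p] {Ω : Type*} [Fintype Ω] [DecidableEq Ω] [MulAction G Ω] [FaithfulSMul G Ω] (h2 : MulAction.IsMultiplyPretransitive G Ω 2) (hp : p ∣ Fintype.card Ω) (heven : ∀ a : Ω, Even (Nat.card (MulAction.stabilizer G a))) (h : ∀ f : Representation.IntertwiningMap (Cfsg.permSumZero K G Ω).toRepresentation (Cfsg.permRep K G (Set.powersetCard Ω 2)), (∀ v : (Cfsg.permSumZero K G Ω).toSubmodule, (v : Ω → K) ∈ (Cfsg.permConstants K G Ω).toSubmodule → f v = 0) → f = 0) : MulAction.IsMultiplyPretransitive G Ω 3 := by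
  have hmove := exists_move (K := K) h2 hp h
  have hS : IsPretransitive G (Set.powersetCard Ω 2) :=
    Set.powersetCard.isPretransitive_of_isMultiplyPretransitive G h2
  constructor
  intro x y
  -- distinct points
  have hx : ∀ i j, i ≠ j → x i ≠ x j := fun i j hij e => hij (x.injective e)
  have hy : ∀ i j, i ≠ j → y i ≠ y j := fun i j hij e => hij (y.injective e)
  -- a general transport: point and pair
  have key : ∀ (a b c a' b' c' : Ω) (hbc : b ≠ c) (hab : a ≠ b) (hac : a ≠ c)
      (hbc' : b' ≠ c') (hab' : a' ≠ b') (hac' : a' ≠ c'),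
      ∃ g : G, g • a = a' ∧ g • pair b c hbc = pair b' c' hbc' := by
    intro a b c a' b' c' hbc hab hac hbc' hab' hac'
    obtain ⟨g, hg⟩ := exists_smul_eq G (pair b c hbc) (pair b' c' hbc')
    obtain ⟨k, hk1, hk2⟩ := hmove (pair b' c' hbc') (g • a) a'
      (by
        rw [← hg, smul_mem_iff]
        simp [pair, hab, hac])
      (by simp [pair, hab', hac'])
    exact ⟨k * g, by rw [mul_smul, hk1], by rw [mul_smul, hg, hk2]⟩
  -- every pair off a point is swapped by an element of the stabiliser
  have swap : ∀ (a b c : Ω) (hbc : b ≠ c) (hab : a ≠ b) (hac : a ≠ c),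
      ∃ g : G, g • a = a ∧ g • b = c ∧ g • c = b := by
    intro a b c hbc hab hac
    have : Fact (Nat.Prime 2) := ⟨Nat.prime_two⟩
    obtain ⟨t, ht⟩ := exists_prime_orderOf_dvd_card' (G := MulAction.stabilizer G a) 2
      (heven a).two_dvd
    have ht1 : (t : G) ≠ 1 := by
      intro e
      have : t = 1 := Subtype.ext e
      rw [this, orderOf_one] at ht
      omega
    have ht2 : (t : G) * t = 1 := by
      have := pow_orderOf_eq_one t
      rw [ht, pow_two] at this
      exact congrArg Subtype.val this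
    obtain ⟨u, hu⟩ : ∃ u : Ω, (t : G) • u ≠ u := by
      by_contra hcon
      push Not at hcon
      exact ht1 (FaithfulSMul.eq_of_smul_eq_smul (α := Ω) (fun u => by rw [hcon u, one_smul]))
    have hta : (t : G) • a = a := t.2
    have htt : (t : G) • (t : G) • u = u := by rw [← mul_smul, ht2, one_smul]
    have hau : a ≠ u := by
      rintro rfl
      exact hu hta
    have hatu : a ≠ (t : G) • u := by
      intro e
      apply hau
      have : (t : G) • a = (t : G) • (t : G) • u := congrArg _ e
      rwa [hta, htt] at this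
    obtain ⟨g, hg1, hg2⟩ := key a b c a u ((t : G) • u) hbc hab hac (Ne.symm hu) hau hatu
    rw [smul_pair, pair_eq_iff] at hg2
    refine ⟨g⁻¹ * t * g, ?_, ?_, ?_⟩
    · rw [mul_smul, mul_smul, hg1, hta, inv_smul_eq_iff, hg1]
    · rcases hg2 with ⟨e1, e2⟩ | ⟨e1, e2⟩
      · rw [mul_smul, mul_smul, e1, inv_smul_eq_iff, e2]
      · rw [mul_smul, mul_smul, e1, htt, inv_smul_eq_iff, e2]
    · rcases hg2 with ⟨e1, e2⟩ | ⟨e1, e2⟩
      · rw [mul_smul, mul_smul, e2, htt, inv_smul_eq_iff, e1]
      · rw [mul_smul, mul_smul, e2, inv_smul_eq_iff, e1]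
  obtain ⟨g, hg1, hg2⟩ := key (x 0) (x 1) (x 2) (y 0) (y 1) (y 2)
    (hx _ _ (by decide)) (hx _ _ (by decide)) (hx _ _ (by decide))
    (hy _ _ (by decide)) (hy _ _ (by decide)) (hy _ _ (by decide))
  rw [smul_pair, pair_eq_iff] at hg2
  rcases hg2 with ⟨e1, e2⟩ | ⟨e1, e2⟩
  · refine ⟨g, ?_⟩
    ext i
    fin_cases i
    · exact hg1
    · exact e1
    · exact e2
  · obtain ⟨k, hk0, hk1, hk2⟩ := swap (y 0) (y 1) (y 2)
      (hy _ _ (by decide)) (hy _ _ (by decide)) (hy _ _ (by decide))
    refine ⟨k * g, ?_⟩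
    ext i
    fin_cases i
    · change (k * g) • x 0 = y 0
      rw [mul_smul, hg1, hk0]
    · change (k * g) • x 1 = y 1
      rw [mul_smul, e1, hk2]
    · change (k * g) • x 2 = y 2
      rw [mul_smul, e2, hk1]

end Cfsg.Agent.S0672
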