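import Cfsg.Statements.S0676
import Cfsg.Agent.PermutationGroups.PrimeInvolution
import Cfsg.Agent.S0672
import Cfsg.Agent.S0674
import Cfsg.Agent.S0675

set_option autoImplicit false
open Cfsg

namespace Cfsg.Agent.S0676

open Cfsg.Agent.PermutationGroups.PrimeDegree Cfsg.Agent.PermutationGroups.PrimeInvolution
open scoped Pointwise

/-- A permutation group of degree two is solvable. -/
theorem isSolvable_of_card_two {α : Type*} [Fintype α] (hα : Fintype.card α = 2)
    (G : Subgroup (Equiv.Perm α)) : Group.IsSolvable G := by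
  classical
  have h1 : Nat.card (Equiv.Perm α) = 2 := by
    rw [Nat.card_eq_fintype_card, Fintype.card_perm, hα]
    rfl
  have : Fact (Nat.Prime 2) := ⟨Nat.prime_two⟩
  have h2 : IsCyclic (Equiv.Perm α) := isCyclic_of_prime_card h1
  have h3 : ∀ a b : Equiv.Perm α, a * b = b * a := fun a b => by
    obtain ⟨g, hg⟩ := h2.exists_generator
    obtain ⟨m, rfl⟩ := Subgroup.mem_zpowers_iff.1 (hg a)
    obtain ⟨n, rfl⟩ := Subgroup.mem_zpowers_iff.1 (hg b)
    exact (Commute.refl g).zpow_zpow m n
  exact Group.isSolvable_of_comm fun a b => Subtype.ext (h3 a.1 b.1)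

/-- A function on unordered pairs which is invariant under the translations and changes sign
under `x ↦ -x` vanishes. -/
theorem pair_function_eq_zero {α : Type*} [DecidableEq α] {p : ℕ} [Fact p.Prime]
    (hp2 : p ≠ 2) (G : Subgroup (Equiv.Perm α)) (e : α ≃ ZMod p) (s : Equiv.Perm α) (hsG : s ∈ G)
    (hs : ∀ a, e (s a) = - e a)
    (htr : ∀ t : ZMod p, ∃ τ : Equiv.Perm α, ∃ h : τ ∈ G, ∀ a, e (τ a) = e a + t)
    (F : Set.powersetCard α 2 → ZMod p)
    (hF1 : ∀ τ : Equiv.Perm α, ∀ h : τ ∈ G, ∀ t : ZMod p, (∀ a, e (τ a) = e a + t) →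
      ∀ A, F ((⟨τ, h⟩ : G) • A) = F A)
    (hF2 : ∀ A, F ((⟨s, hsG⟩ : G) • A) = - F A) : F = 0 := by
  classical
  have hp : p.Prime := Fact.out
  have h2 : (2 : ZMod p) ≠ 0 := by
    intro h
    have h3 : ((2 : ℕ) : ZMod p) = 0 := by exact_mod_cast h
    rw [ZMod.natCast_eq_zero_iff] at h3
    exact hp2 ((Nat.prime_dvd_prime_iff_eq hp Nat.prime_two).1 h3)
  funext A
  obtain ⟨B, hB⟩ := A
  obtain ⟨a, b, hab, rfl⟩ := Finset.card_eq_two.1 hB
  obtain ⟨τ, hτG, hτ⟩ := htr (e a + e b)
  have h3 : (⟨τ, hτG⟩ : G) • ((⟨s, hsG⟩ : G) • (⟨{a, b}, hB⟩ : Set.powersetCard α 2)) =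
      ⟨{a, b}, hB⟩ := by
    apply Subtype.ext
    change (⟨τ, hτG⟩ : G) • ((⟨s, hsG⟩ : G) • ({a, b} : Finset α)) = {a, b}
    have h4 : τ (s a) = b := by
      apply e.injective
      rw [hτ, hs]
      ring
    have h5 : τ (s b) = a := by
      apply e.injective
      rw [hτ, hs]
      ring
    rw [Finset.smul_finset_insert, Finset.smul_finset_singleton, Finset.smul_finset_insert,
      Finset.smul_finset_singleton]
    change ({τ (s a), τ (s b)} : Finset α) = {a, b}
    rw [h4, h5, Finset.pair_comm]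
  have h6 := hF1 τ hτG _ hτ ((⟨s, hsG⟩ : G) • (⟨{a, b}, hB⟩ : Set.powersetCard α 2))
  rw [h3, hF2] at h6
  have h7 : 2 * F ⟨{a, b}, hB⟩ = 0 := by linear_combination h6
  exact (mul_eq_zero.1 h7).resolve_left h2

/-- A non-solvable transitive permutation group of prime degree `p` whose Sylow `p`-normaliser has even order is triply transitive. -/
theorem result {α : Type*} [Fintype α] [DecidableEq α] {p : ℕ} [Fact p.Prime] (hα : Fintype.card α = p) (G : Subgroup (Equiv.Perm α)) [MulAction.IsPretransitive G α] (hG : ¬ Group.IsSolvable G) (P : Sylow p G) (heven : Even (Nat.card (Subgroup.normalizer ((P : Subgroup G) : Set G)))) : MulAction.IsMultiplyPretransitive G α 3 := by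
  have hp : p.Prime := Fact.out
  have hp2 : p ≠ 2 := by
    rintro rfl
    exact hG (isSolvable_of_card_two hα G)
  have h2 : (2 : ZMod p) ≠ 0 := by
    intro h
    have h3 : ((2 : ℕ) : ZMod p) = 0 := by exact_mod_cast h
    rw [ZMod.natCast_eq_zero_iff] at h3
    exact hp2 ((Nat.prime_dvd_prime_iff_eq hp Nat.prime_two).1 h3)
  have htwo : MulAction.IsMultiplyPretransitive G α 2 :=
    (Cfsg.Agent.S0675.result (by rw [hα]; exact hp) G).resolve_left hG
  obtain ⟨e, σ, s, hσG, hsG, hσ, hs⟩ := exists_equiv_zmod_neg hp2 hα G P heven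
  have hpα : ((Fintype.card α : ℕ) : ZMod p) = 0 := by rw [hα]; exact ZMod.natCast_self p
  refine Cfsg.Agent.S0672.result (K := ZMod p) (p := p) htwo (by rw [hα]) ?_ ?_
  · intro a
    have h1 := MulAction.index_stabilizer_of_transitive G a
    rw [Nat.card_eq_fintype_card, hα] at h1
    have h3 := Subgroup.card_mul_index (MulAction.stabilizer G a)
    rw [h1] at h3
    have h4 : Even (Nat.card G) :=
      even_iff_two_dvd.2 (heven.two_dvd.trans (Subgroup.card_subgroup_dvd_card _))
    rw [← h3, Nat.even_mul] at h4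
    refine h4.resolve_right fun h5 => hp2 ?_
    exact ((Nat.prime_dvd_prime_iff_eq Nat.prime_two hp).1 h5.two_dvd).symm
  · intro f hf
    -- the constants are sum-zero functions
    have hcs : (Cfsg.permConstants (ZMod p) G α).toSubmodule ≤
        (Cfsg.permSumZero (ZMod p) G α).toSubmodule := by
      intro v hv
      obtain ⟨c, rfl⟩ := Submodule.mem_span_singleton.1 hv
      change ∑ x : α, (c • fun _ : α => (1 : ZMod p)) x = 0
      simp only [Pi.smul_apply, smul_eq_mul, mul_one, Finset.sum_const, Finset.card_univ,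
        nsmul_eq_mul, hpα, zero_mul]
    -- the kernel of `f`
    let W : Subrepresentation (Cfsg.permRep (ZMod p) G α) :=
      { toSubmodule := (LinearMap.ker f.toLinearMap).map
          (Cfsg.permSumZero (ZMod p) G α).toSubmodule.subtype
        apply_mem_toSubmodule := by
          rintro g _ ⟨v, hv, rfl⟩
          refine ⟨(Cfsg.permSumZero (ZMod p) G α).toRepresentation g v, ?_, rfl⟩
          have hv' : f v = 0 := hv
          change f ((Cfsg.permSumZero (ZMod p) G α).toRepresentation g v) = 0
          rw [Representation.IntertwiningMap.isIntertwining, hv', map_zero] }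
    have hW : ∀ v : (Cfsg.permSumZero (ZMod p) G α).toSubmodule,
        (v : α → ZMod p) ∈ W.toSubmodule → f v = 0 := by
      rintro v ⟨w, hw, hwv⟩
      have : w = v := Subtype.ext hwv
      rw [← this]
      exact hw
    have hW1 : (Cfsg.permConstants (ZMod p) G α).toSubmodule ≤ W.toSubmodule := by
      intro v hv
      exact ⟨⟨v, hcs hv⟩, hf ⟨v, hcs hv⟩ hv, rfl⟩
    have hW2 : W.toSubmodule ≤ (Cfsg.permSumZero (ZMod p) G α).toSubmodule := by
      rintro _ ⟨w, -, rfl⟩
      exact w.2
    rcases Cfsg.Agent.S0674.result hα G hG W hW1 hW2 with h | h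
    swap
    · -- the kernel is everything
      apply Representation.IntertwiningMap.ext
      apply LinearMap.ext
      intro v
      exact hW v (by rw [h]; exact v.2)
    exfalso
    -- the function `e`
    have hev : (e : α → ZMod p) ∈ (Cfsg.permSumZero (ZMod p) G α).toSubmodule := by
      change ∑ x, e x = 0
      have h3 : ∑ x, e x = ∑ y : ZMod p, y := Fintype.sum_equiv e _ _ fun x => rfl
      have h4 : ∑ y : ZMod p, y = ∑ y : ZMod p, -y :=
        (Fintype.sum_equiv (Equiv.neg (ZMod p)) _ _ fun x => rfl).symm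
      rw [Finset.sum_neg_distrib] at h4
      have h5 : 2 * ∑ y : ZMod p, y = 0 := by linear_combination h4
      rw [h3]
      exact (mul_eq_zero.1 h5).resolve_left h2
    let ve : (Cfsg.permSumZero (ZMod p) G α).toSubmodule := ⟨e, hev⟩
    have hone : (fun _ : α => (1 : ZMod p)) ∈ (Cfsg.permConstants (ZMod p) G α).toSubmodule :=
      Submodule.mem_span_singleton_self _
    let vo : (Cfsg.permSumZero (ZMod p) G α).toSubmodule := ⟨fun _ => 1, hcs hone⟩
    have hvo : f vo = 0 := hf vo hone
    have htr : ∀ t : ZMod p, ∃ τ : Equiv.Perm α, ∃ h : τ ∈ G, ∀ a, e (τ a) = e a + t := by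
      intro t
      obtain ⟨τ, hτ, h⟩ := exists_translation G e σ hσG hσ t
      exact ⟨τ, hτ, h⟩
    have hfe : f ve = 0 := by
      apply pair_function_eq_zero hp2 G e s hsG hs htr
      · intro τ hτ t ht A
        have h3 : (Cfsg.permSumZero (ZMod p) G α).toRepresentation (⟨τ, hτ⟩ : G) ve =
            ve - t • vo := by
          apply Subtype.ext
          funext a
          change e (τ⁻¹ a) = e a - t * 1
          have h4 := ht (τ⁻¹ a)
          rw [show τ (τ⁻¹ a) = a from τ.apply_symm_apply a] at h4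
          rw [h4]
          ring
        have h4 := Representation.IntertwiningMap.isIntertwining _ _ f (⟨τ, hτ⟩ : G) ve
        rw [h3, map_sub, map_smul, hvo, smul_zero, sub_zero] at h4
        have h5 := congrFun h4 ((⟨τ, hτ⟩ : G) • A)
        rw [h5]
        change f ve ((⟨τ, hτ⟩ : G)⁻¹ • ((⟨τ, hτ⟩ : G) • A)) = f ve A
        rw [inv_smul_smul]
      · intro A
        have h3 : (Cfsg.permSumZero (ZMod p) G α).toRepresentation (⟨s, hsG⟩ : G) ve =
            - ve := by
          apply Subtype.ext
          funext a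
          change e (s⁻¹ a) = - e a
          have h4 := hs (s⁻¹ a)
          rw [show s (s⁻¹ a) = a from s.apply_symm_apply a] at h4
          rw [h4, neg_neg]
        have h4 := Representation.IntertwiningMap.isIntertwining _ _ f (⟨s, hsG⟩ : G) ve
        rw [h3, map_neg] at h4
        have h5 := congrFun h4 ((⟨s, hsG⟩ : G) • A)
        have h6 : Cfsg.permRep (ZMod p) G (Set.powersetCard α 2) (⟨s, hsG⟩ : G) (f ve)
            ((⟨s, hsG⟩ : G) • A) = f ve A := by
          change f ve ((⟨s, hsG⟩ : G)⁻¹ • ((⟨s, hsG⟩ : G) • A)) = f ve A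
          rw [inv_smul_smul]
        have h7 : - f ve ((⟨s, hsG⟩ : G) • A) = f ve A := h5.trans h6
        rw [← h7, neg_neg]
    have hmem : (e : α → ZMod p) ∈ W.toSubmodule := ⟨ve, hfe, rfl⟩
    rw [h] at hmem
    obtain ⟨c, hc⟩ := Submodule.mem_span_singleton.1 hmem
    have h3 := congrFun hc (e.symm 0)
    have h4 := congrFun hc (e.symm 1)
    simp at h3 h4
    rw [h3] at h4
    exact zero_ne_one h4

end Cfsg.Agent.S0676
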