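import Cfsg.Statements.S0677
import Cfsg.Agent.PermutationGroups.PrimeInvolution
import Cfsg.Agent.PermutationGroups.ThreeDesign
import Cfsg.Agent.Solvable.Hall
import Cfsg.Agent.S0676

set_option autoImplicit false
open Cfsg

namespace Cfsg.Agent.S0677

/-- In a transitive permutation group of prime degree `p` whose Sylow `p`-normaliser has even order, the point stabilisers are the only subgroups of index `p`. -/
theorem result {α : Type*} [Fintype α] [DecidableEq α] {p : ℕ} [Fact p.Prime] (hα : Fintype.card α = p) (G : Subgroup (Equiv.Perm α)) [MulAction.IsPretransitive G α] (P : Sylow p G) (heven : Even (Nat.card (Subgroup.normalizer ((P : Subgroup G) : Set G)))) (H : Subgroup G) (hH : H.index = p) : ∃ a : α, H = MulAction.stabilizer G a := by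
  have hp : p.Prime := Fact.out
  obtain ⟨m, hm, hmp⟩ := Cfsg.Agent.PermutationGroups.PrimeInvolution.card_eq_mul hα G
  have hidx : ∀ K : Subgroup G, K.index = p → Nat.card K = m := by
    intro K hK
    have h1 := Subgroup.card_mul_index K
    rw [hK, hm] at h1
    exact Nat.eq_of_mul_eq_mul_right hp.pos h1
  have hst : ∀ a : α, Nat.card (MulAction.stabilizer G a) = m := by
    intro a
    apply hidx
    rw [MulAction.index_stabilizer_of_transitive, Nat.card_eq_fintype_card, hα]
  have hne : Nonempty α := by
    rw [← Fintype.card_pos_iff, hα]; exact hp.pos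
  by_cases hG : Group.IsSolvable G
  · obtain ⟨a⟩ := hne
    obtain ⟨g, hg⟩ := Cfsg.Agent.Solvable.Hall.hall_conj m p hm hmp (MulAction.stabilizer G a) H
      (hst a) (hidx H hH)
    refine ⟨g • a, ?_⟩
    rw [← hg, MulAction.stabilizer_smul_eq_stabilizer_map_conj]
    rfl
  · have h3 := Cfsg.Agent.S0676.result hα G hG P heven
    have hp2 : p ≠ 2 := by
      rintro rfl
      exact hG (Cfsg.Agent.S0676.isSolvable_of_card_two hα G)
    obtain ⟨a, ha⟩ := Cfsg.Agent.PermutationGroups.ThreeDesign.exists_fixed_point h3 H
      (by rw [hH, hα]) (by have := hp.two_le; omega) (by rw [hidx H hH, hα]; exact hmp)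
    refine ⟨a, Subgroup.eq_of_le_of_card_ge (fun h hh => ha h hh) ?_⟩
    rw [hst, hidx H hH]

end Cfsg.Agent.S0677
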