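import Mathlib
import Cfsg.Statements.S0678

set_option autoImplicit false
set_option linter.all false
open Cfsg

namespace Cfsg.Agent.S0678

open MulAction Subgroup

section abstract_part

variable {α : Type*} [Fintype α] [DecidableEq α] {M : Type*} [Group M] [MulAction M α]
  [FaithfulSMul M α]

theorem finite_of_faithful (α : Type*) [Fintype α] (M : Type*) [Group M] [MulAction M α]
    [FaithfulSMul M α] : Finite M :=
  Finite.of_injective (MulAction.toPermHom M α) MulAction.toPerm_injective

theorem card_dvd (hα : Fintype.card α = 7) : Nat.card M ∣ 5040 := by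
  have h := Subgroup.card_dvd_of_injective (MulAction.toPermHom M α) MulAction.toPerm_injective
  rw [Nat.card_eq_fintype_card (α := Equiv.Perm α), Fintype.card_perm, hα] at h
  exact h

theorem seven_dvd (hα : Fintype.card α = 7) [IsPretransitive M α] : 7 ∣ Nat.card M := by
  haveI := finite_of_faithful α M
  have h1 : Nonempty α := Fintype.card_pos_iff.mp (by omega)
  obtain ⟨a⟩ := h1
  have h := MulAction.index_stabilizer_of_transitive M a
  rw [Nat.card_eq_fintype_card, hα] at h
  rw [← h]
  exact Subgroup.index_dvd_card _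

instance fact7 : Fact (Nat.Prime 7) := ⟨by norm_num⟩

theorem sylow_card (hα : Fintype.card α = 7) [IsPretransitive M α] (P : Sylow 7 M) :
    Nat.card P = 7 := by
  haveI := finite_of_faithful α M
  have h1 := card_dvd (M := M) hα
  have h2 := seven_dvd (M := M) hα
  obtain ⟨k, hk⟩ := P.2.exists_card_eq
  have h3 : 7 ∣ Nat.card P := P.dvd_card_of_dvd_card h2
  have h4 : Nat.card P ∣ 5040 := (Subgroup.card_subgroup_dvd_card _).trans h1
  change Nat.card P = 7 ^ k at hk
  rw [hk] at h3 h4 ⊢
  rcases k with _ | _ | k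
  · norm_num at h3
  · norm_num
  · exfalso
    have : 7 ^ 2 ∣ 5040 := (pow_dvd_pow 7 (by omega)).trans h4
    norm_num at this

theorem centralizer_le (hα : Fintype.card α = 7) [IsPretransitive M α] (P : Sylow 7 M) :
    Subgroup.centralizer (P : Set M) ≤ P := by
  haveI := finite_of_faithful α M
  have hP := sylow_card (M := M) hα P
  obtain ⟨⟨g, hgP⟩, hg⟩ := exists_prime_orderOf_dvd_card' (G := P) 7 (by rw [hP])
  have hg' : orderOf g = 7 := by rw [← hg]; exact (Subgroup.orderOf_mk _ _).symm
  set σ : Equiv.Perm α := MulAction.toPermHom M α g with hσ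
  have hσ7 : orderOf σ = 7 := by
    rw [hσ, orderOf_injective _ MulAction.toPerm_injective, hg']
  have hcyc : σ.IsCycle := Equiv.Perm.isCycle_of_prime_order'' (by rw [hα]; norm_num)
    (by rw [hσ7, hα])
  have hsupp : ∀ x, σ x ≠ x := by
    have h1 : σ.support.card = 7 := by rw [← hcyc.orderOf, hσ7]
    have h2 : σ.support = Finset.univ := by
      rw [← Finset.card_eq_iff_eq_univ, h1, hα]
    intro x
    rw [← Equiv.Perm.mem_support, h2]
    exact Finset.mem_univ _
  have h1 : Nonempty α := Fintype.card_pos_iff.mp (by omega)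
  obtain ⟨a⟩ := h1
  intro τ hτ
  have hcomm : Commute g τ := hτ g hgP
  obtain ⟨i, hi⟩ := hcyc.exists_zpow_eq (hsupp a) (hsupp (τ • a))
  have hi' : g ^ i • a = τ • a := by
    rw [hσ, ← map_zpow] at hi
    exact hi
  have : τ = g ^ i := by
    apply (MulAction.toPerm_injective (α := M) (β := α))
    ext x
    obtain ⟨j, hj⟩ := hcyc.exists_zpow_eq (hsupp a) (hsupp x)
    have hj' : g ^ j • a = x := by
      rw [hσ, ← map_zpow] at hj
      exact hj
    simp only [MulAction.toPerm_apply]
    rw [← hj', smul_smul, smul_smul, ← (hcomm.zpow_left j).eq, ← zpow_add, add_comm, zpow_add,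
      mul_smul, mul_smul, hi']
  rw [this]
  exact Subgroup.zpow_mem _ hgP _

theorem isCyclic_sylow (hα : Fintype.card α = 7) [IsPretransitive M α] (P : Sylow 7 M) :
    IsCyclic P := isCyclic_of_prime_card (p := 7) (sylow_card (M := M) hα P)

theorem le_centralizer (hα : Fintype.card α = 7) [IsPretransitive M α] (P : Sylow 7 M) :
    (P : Subgroup M) ≤ Subgroup.centralizer (P : Set M) := by
  haveI := isCyclic_sylow (M := M) hα P
  letI := IsCyclic.commGroup (α := P)
  intro x hx y hy
  exact congrArg Subtype.val (mul_comm (⟨y, hy⟩ : P) ⟨x, hx⟩)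

theorem exists_card_normalizer (hα : Fintype.card α = 7) [IsPretransitive M α] (P : Sylow 7 M) :
    ∃ d, d ∣ 6 ∧ Nat.card (Subgroup.normalizer ((P : Subgroup M) : Set M)) = 7 * d := by
  haveI := finite_of_faithful α M
  haveI := isCyclic_sylow (M := M) hα P
  have key := card_dvd_of_injective _ (QuotientGroup.kerLift_injective
    (P : Subgroup M).normalizerMonoidHom)
  rw [IsCyclic.card_mulAut, sylow_card (M := M) hα P] at key
  have h6 : Nat.totient 7 = 6 := Nat.totient_prime (by norm_num)
  rw [h6] at key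
  refine ⟨_, key, ?_⟩
  rw [Subgroup.card_eq_card_quotient_mul_card_subgroup (P : Subgroup M).normalizerMonoidHom.ker,
    mul_comm]
  congr 1
  rw [normalizerMonoidHom_ker]
  have h1 : Subgroup.centralizer (P : Set M) = P :=
    le_antisymm (centralizer_le (M := M) hα P) (le_centralizer (M := M) hα P)
  have h2 : Nat.card ((Subgroup.centralizer (P : Set M)).subgroupOf
      (Subgroup.normalizer ((P : Subgroup M) : Set M))) =
        Nat.card (Subgroup.centralizer (P : Set M)) := by
    apply Nat.card_congr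
    refine (Subgroup.subgroupOfEquivOfLe ?_).toEquiv
    rw [h1]
    exact Subgroup.le_normalizer
  exact h2.trans (by rw [h1]; exact sylow_card (M := M) hα P)

theorem normalizer_solvable (hα : Fintype.card α = 7) [IsPretransitive M α] (P : Sylow 7 M) :
    Group.IsSolvable (Subgroup.normalizer ((P : Subgroup M) : Set M)) := by
  haveI := finite_of_faithful α M
  haveI := isCyclic_sylow (M := M) hα P
  letI : CommGroup P := IsCyclic.commGroup (α := P)
  haveI : Group.IsSolvable (MulAut P) := by
    refine Group.isSolvable_of_isSolvable_injective (G' := (ZMod (Nat.card P))ˣ) 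
      (f := ((IsCyclic.mulAutMulEquiv P).toMonoidHom)) (IsCyclic.mulAutMulEquiv P).injective
  have h1 : Subgroup.centralizer (P : Set M) = P :=
    le_antisymm (centralizer_le (M := M) hα P) (le_centralizer (M := M) hα P)
  refine Group.isSolvable_of_ker_le_range 
    (Subgroup.inclusion (Subgroup.le_normalizer (H := (P : Subgroup M))))
    (P : Subgroup M).normalizerMonoidHom ?_
  rw [normalizerMonoidHom_ker]
  intro x hx
  have hx' : (x : M) ∈ (P : Subgroup M) := h1.le hx
  exact ⟨⟨x, hx'⟩, rfl⟩

theorem solvable_of_normal (hα : Fintype.card α = 7) [IsPretransitive M α] (P : Sylow 7 M)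
    (hP : (P : Subgroup M).Normal) : Group.IsSolvable M := by
  have h1 := normalizer_solvable hα P
  have h2 : Subgroup.normalizer ((P : Subgroup M) : Set M) = ⊤ := Subgroup.normalizer_eq_top_iff.mpr hP
  rw [h2] at h1
  exact Group.isSolvable_of_surjective (f := (Subgroup.topEquiv (G := M)).toMonoidHom)
    (Subgroup.topEquiv (G := M)).surjective

theorem normal_subgroup_transitive (hα : Fintype.card α = 7) [IsPretransitive M α]
    (N : Subgroup M) [N.Normal] (hN : N ≠ ⊥) : IsPretransitive N α := by
  haveI : IsPreprimitive M α := IsPreprimitive.of_prime_card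
    (by rw [Nat.card_eq_fintype_card, hα]; norm_num)
  apply IsQuasiPreprimitive.isPretransitive_of_normal (G := M)
  intro h
  apply hN
  rw [eq_bot_iff]
  intro x hx
  rw [Subgroup.mem_bot]
  apply FaithfulSMul.eq_of_smul_eq_smul (α := α)
  intro a
  have : a ∈ fixedPoints N α := by rw [h]; trivial
  rw [one_smul]
  exact this ⟨x, hx⟩

/-- Burnside transfer: if the Sylow `7`-subgroup is self-normalizing then it is everything. -/
theorem normal_of_card_normalizer (hα : Fintype.card α = 7) [IsPretransitive M α] (P : Sylow 7 M)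
    (h : Nat.card (Subgroup.normalizer ((P : Subgroup M) : Set M)) = 7) :
    (P : Subgroup M).Normal := by
  haveI := finite_of_faithful α M
  have hP := sylow_card (M := M) hα P
  have h1 : (P : Subgroup M) = Subgroup.normalizer ((P : Subgroup M) : Set M) := by
    apply Subgroup.eq_of_le_of_card_ge Subgroup.le_normalizer
    rw [h]; exact hP.ge
  have h2 : Subgroup.normalizer ((P : Subgroup M) : Set M) ≤ Subgroup.centralizer (P : Set M) := by
    rw [← h1]; exact le_centralizer (M := M) hα P
  have h3 := MonoidHom.ker_transferSylow_isComplement' P h2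
  have h4 := MonoidHom.not_dvd_card_ker_transferSylow P h2
  set K := (MonoidHom.transferSylow P h2).ker with hK
  by_cases hb : K = ⊥
  · rw [hb] at h3
    have h5 : (P : Subgroup M) = ⊤ := Subgroup.isComplement'_bot_left.mp h3
    rw [h5]; infer_instance
  · exfalso
    haveI := normal_subgroup_transitive hα K hb
    exact h4 (seven_dvd (M := K) hα)

end abstract_part

theorem exists_conj_mem {β : Type*} [Group β] [Finite β] (p k : ℕ) [Fact p.Prime] (G : Subgroup β)
    (hk : (Nat.card β).factorization p = k)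
    (hG : p ^ k ∣ Nat.card G) (c : β)
    (hc : IsPGroup p (Subgroup.zpowers c)) : ∃ g : β, g * c * g⁻¹ ∈ G := by
  obtain ⟨K, hK⟩ := Sylow.exists_subgroup_card_pow_prime (G := G) p hG
  have h1 : Nat.card (K.map G.subtype) = p ^ (Nat.card β).factorization p := by
    rw [hk, ← hK]
    exact Subgroup.card_map_of_injective G.subtype_injective
  let Q : Sylow p β := Sylow.ofCard _ h1
  obtain ⟨R, hR⟩ := hc.exists_le_sylow
  obtain ⟨g, hg⟩ := MulAction.exists_smul_eq β R Q
  refine ⟨g, ?_⟩
  have h2 : g * c * g⁻¹ ∈ (g • R : Sylow p β) := by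
    rw [← SetLike.mem_coe, Sylow.coe_smul]
    exact ⟨c, hR (Subgroup.mem_zpowers c), rfl⟩
  rw [hg] at h2
  have h3 : g * c * g⁻¹ ∈ K.map G.subtype := h2
  obtain ⟨y, _, hy⟩ := h3
  rw [← hy]
  exact y.2

theorem fact3 : (5040 : ℕ).factorization 3 = 2 := by
  rw [show (5040 : ℕ) = 3 ^ 2 * 560 by norm_num, Nat.factorization_mul (by norm_num) (by norm_num),
    Nat.Prime.factorization_pow (by norm_num)]
  simp [Nat.factorization_eq_zero_of_not_dvd (show ¬ 3 ∣ 560 by norm_num)]

theorem fact2 : (5040 : ℕ).factorization 2 = 4 := by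
  rw [show (5040 : ℕ) = 2 ^ 4 * 315 by norm_num, Nat.factorization_mul (by norm_num) (by norm_num),
    Nat.Prime.factorization_pow (by norm_num)]
  simp [Nat.factorization_eq_zero_of_not_dvd (show ¬ 2 ∣ 315 by norm_num)]

variable {α : Type*} [Fintype α] [DecidableEq α]

theorem card_perm (hα : Fintype.card α = 7) : Nat.card (Equiv.Perm α) = 5040 := by
  rw [Nat.card_eq_fintype_card, Fintype.card_perm, hα]; rfl

theorem nine_not_dvd (hα : Fintype.card α = 7) (G : Subgroup (Equiv.Perm α))
    [MulAction.IsPretransitive G α] (hA : ¬ alternatingGroup α ≤ G) : ¬ 9 ∣ Nat.card G := by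
  intro h
  apply hA
  haveI : IsPreprimitive G α := IsPreprimitive.of_prime_card
    (by rw [Nat.card_eq_fintype_card, hα]; norm_num)
  obtain ⟨a, b, c, hab, hac, hbc⟩ := Fintype.two_lt_card_iff.mp (show 2 < Fintype.card α by omega)
  have h3 : (Equiv.swap a b * Equiv.swap a c).IsThreeCycle :=
    Equiv.Perm.isThreeCycle_swap_mul_swap_same hab hac hbc
  haveI : Fact (Nat.Prime 3) := ⟨by norm_num⟩
  obtain ⟨g, hg⟩ := exists_conj_mem 3 2 G (by rw [card_perm hα, fact3]) (by exact h) _ 
    (IsPGroup.of_card (n := 1) (by rw [Nat.card_zpowers, h3.orderOf, pow_one]))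
  refine Equiv.Perm.alternatingGroup_le_of_isPreprimitive_of_isThreeCycle_mem inferInstance ?_ hg
  rw [Equiv.Perm.IsThreeCycle, Equiv.Perm.cycleType_conj]
  exact h3

theorem sixteen_not_dvd (hα : Fintype.card α = 7) (G : Subgroup (Equiv.Perm α))
    [MulAction.IsPretransitive G α] (hA : ¬ alternatingGroup α ≤ G) : ¬ 16 ∣ Nat.card G := by
  intro h
  apply hA
  haveI : IsPreprimitive G α := IsPreprimitive.of_prime_card
    (by rw [Nat.card_eq_fintype_card, hα]; norm_num)
  obtain ⟨a, b, c, hab, hac, hbc⟩ := Fintype.two_lt_card_iff.mp (show 2 < Fintype.card α by omega)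
  haveI : Fact (Nat.Prime 2) := ⟨by norm_num⟩
  obtain ⟨g, hg⟩ := exists_conj_mem 2 4 G (by rw [card_perm hα, fact2]) (by exact h)
    (Equiv.swap a b) (IsPGroup.of_card (n := 1) (by
      rw [Nat.card_zpowers, (show (Equiv.swap a b).IsSwap from ⟨a, b, hab, rfl⟩).orderOf, pow_one]))
  have h5 := Equiv.Perm.subgroup_eq_top_of_isPreprimitive_of_isSwap_mem (G := G) inferInstance 
    (g * Equiv.swap a b * g⁻¹) 
    ⟨g a, g b, g.injective.ne hab, (Equiv.swap_apply_apply g a b).symm⟩ hg
  rw [h5]
  exact le_top

theorem arith (m n d : ℕ) (hm : m ∣ 5040) (h9 : ¬ 9 ∣ m) (h16 : ¬ 16 ∣ m) (hn : n % 7 = 1)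
    (hd : d ∣ 6) (hmn : m = n * (7 * d)) (hn1 : n ≠ 1) (hd1 : d ≠ 1) : m = 168 ∨ m = 210 := by
  have hd6 : d ≤ 6 := Nat.le_of_dvd (by norm_num) hd
  have hn720 : n ∣ 720 := by
    have : 7 * n ∣ 7 * 720 := by
      refine Dvd.dvd.trans ?_ hm
      rw [hmn]
      exact ⟨d, by ring⟩
    exact Nat.dvd_of_mul_dvd_mul_left (by norm_num) this
  have hn' : n ∈ Nat.divisors 720 := Nat.mem_divisors.mpr ⟨hn720, by norm_num⟩
  have h1 : ∀ n ∈ Nat.divisors 720, n % 7 = 1 → n = 1 ∨ n = 8 ∨ n = 15 ∨ n = 36 ∨ n = 120 := by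
    decide +kernel
  subst hmn
  rcases h1 n hn' hn with rfl | rfl | rfl | rfl | rfl
  · omega
  all_goals
    interval_cases d
    all_goals first
      | omega
      | (exfalso; revert hm; norm_num; done)
      | (exfalso; revert hd; norm_num; done)
      | (exfalso; revert h9; norm_num; done)
      | (exfalso; revert h16; norm_num; done)
      
/-- order of a nonsolvable transitive group of degree `7` not containing the alternating group -/
theorem card_eq (hα : Fintype.card α = 7) (G : Subgroup (Equiv.Perm α))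
    [MulAction.IsPretransitive G α] (hG : ¬ Group.IsSolvable G) (hA : ¬ alternatingGroup α ≤ G) :
    Nat.card G = 168 := by
  let P : Sylow 7 G := default
  obtain ⟨d, hd, hd'⟩ := exists_card_normalizer hα P
  have h1 := card_sylow_modEq_one 7 G
  have h2 := P.card_eq_index_normalizer
  have h3 : Nat.card G = Nat.card (Sylow 7 G) * (7 * d) := by
    rw [h2, ← hd', mul_comm]
    exact (Subgroup.card_mul_index _).symm
  have hnorm : ¬ (P : Subgroup G).Normal := fun h => hG (solvable_of_normal hα P h)
  have h4 := arith _ _ d (card_dvd (M := G) hα) (nine_not_dvd hα G hA) (sixteen_not_dvd hα G hA)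
    h1 hd h3 (by
      intro h
      rw [h2, Subgroup.index_eq_one] at h
      exact hnorm (Subgroup.normalizer_eq_top_iff.mp h)) (by
      rintro rfl
      exact hnorm (normal_of_card_normalizer hα P (by rw [hd'])))
  rcases h4 with h4 | h4
  · exact h4
  · exfalso
    apply hG
    haveI : IsZGroup G := IsZGroup.of_squarefree (by
      rw [h4]
      decide +kernel)
    infer_instance

/-- A non-solvable transitive permutation group on 7 points that does not contain the alternating group is a simple group of order 168. -/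
theorem result {α : Type*} [Fintype α] [DecidableEq α] (hα : Fintype.card α = 7) (G : Subgroup (Equiv.Perm α)) [MulAction.IsPretransitive G α] (hG : ¬ Group.IsSolvable G) (hA : ¬ alternatingGroup α ≤ G) : Nat.card G = 168 ∧ IsSimpleGroup G := by
  have hcard := card_eq hα G hG hA
  refine ⟨hcard, ?_⟩
  haveI : Nontrivial G := by
    rw [← Finite.one_lt_card_iff_nontrivial, hcard]; norm_num
  refine ⟨fun N hN => ?_⟩
  by_contra hcon
  have hb : N ≠ ⊥ := fun h => hcon (Or.inl h)
  have ht : N ≠ ⊤ := fun h => hcon (Or.inr h)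
  haveI := normal_subgroup_transitive hα N hb
  let P : Sylow 7 N := default
  have hnorm : ¬ (P : Subgroup N).Normal := by
    intro h
    apply hG
    have h1 := Sylow.normalizer_sup_eq_top P
    set P' : Subgroup G := (P : Subgroup N).map N.subtype with hP'
    have h2 : N ≤ Subgroup.normalizer (P' : Set G) := by
      intro x hx
      rw [Subgroup.mem_normalizer_iff]
      intro y
      constructor
      · rintro ⟨z, hz, rfl⟩
        exact ⟨⟨x, hx⟩ * z * ⟨x, hx⟩⁻¹, h.conj_mem z hz ⟨x, hx⟩, rfl⟩
      · rintro ⟨z, hz, hz'⟩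
        have h9 := h.conj_mem z hz (⟨x, hx⟩⁻¹)
        rw [inv_inv] at h9
        refine ⟨⟨x, hx⟩⁻¹ * z * ⟨x, hx⟩, h9, ?_⟩
        rw [map_mul, map_mul, map_inv, hz']
        simp [mul_assoc]
    have h3 : Subgroup.normalizer (P' : Set G) = ⊤ := by
      rw [← h1]
      exact (sup_eq_left.mpr h2).symm
    have h4 : P'.Normal := Subgroup.normalizer_eq_top_iff.mp h3
    have h5 : Nat.card P' = 7 := by
      rw [hP', Subgroup.card_map_of_injective N.subtype_injective]
      exact sylow_card hα P
    obtain ⟨Q, hQ⟩ := (IsPGroup.of_card (p := 7) (n := 1) (G := P')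
      (by rw [h5, pow_one])).exists_le_sylow
    have h6 : P' = (Q : Subgroup G) := by
      apply Subgroup.eq_of_le_of_card_ge hQ
      rw [h5]
      exact (sylow_card hα Q).le
    exact solvable_of_normal hα Q (h6 ▸ h4)
  obtain ⟨d, hd, hd'⟩ := exists_card_normalizer hα P
  have h1 : Nat.card (Sylow 7 N) % 7 = 1 := card_sylow_modEq_one 7 N
  have h2 := P.card_eq_index_normalizer
  have h3 : Nat.card N = Nat.card (Sylow 7 N) * (7 * d) := by
    rw [h2, ← hd', mul_comm]
    exact (Subgroup.card_mul_index _).symm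
  have hn1 : Nat.card (Sylow 7 N) ≠ 1 := by
    intro h
    rw [h2, Subgroup.index_eq_one] at h
    exact hnorm (Subgroup.normalizer_eq_top_iff.mp h)
  have hd1 : d ≠ 1 := by
    rintro rfl
    exact hnorm (normal_of_card_normalizer hα P (by rw [hd']))
  have h4 : Nat.card N ∣ 168 := hcard ▸ Subgroup.card_subgroup_dvd_card N
  have h5 : ∀ m ∈ Nat.divisors 24, m % 7 = 1 → m = 1 ∨ m = 8 := by decide +kernel
  have h6 : Nat.card (Sylow 7 N) * d ∣ 24 := by
    apply Nat.dvd_of_mul_dvd_mul_left (show 0 < 7 by norm_num)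
    refine Dvd.dvd.trans (Dvd.intro 1 ?_) h4
    rw [h3]; ring
  rcases h5 _ (Nat.mem_divisors.mpr ⟨(Dvd.intro _ rfl).trans h6, by norm_num⟩) h1 with h7 | h7
  · exact hn1 h7
  · rw [h7] at h3 h6
    have h8 : d ∣ 3 := Nat.dvd_of_mul_dvd_mul_left (show 0 < 8 by norm_num) h6
    have h9 : d = 3 := ((Nat.dvd_prime (by norm_num)).mp h8).resolve_left hd1
    apply ht
    apply Subgroup.eq_top_of_card_eq
    rw [hcard, h3, h9]

end Cfsg.Agent.S0678
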