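import Cfsg.Statements.S0679
import Cfsg.Agent.PermutationGroups.Deg11Final

set_option autoImplicit false
open Cfsg

namespace Cfsg.Agent.S0679

open Cfsg.Agent.PermutationGroups.Deg11Group Cfsg.Agent.PermutationGroups.Deg11Final
open MulAction

/-- A non-solvable transitive permutation group on 11 points that does not contain the alternating group is either sharply 4-transitive (of order 7920) or isomorphic to the projective special linear group of degree 2 over the field with 11 elements. -/
theorem result {α : Type*} [Fintype α] [DecidableEq α] (hα : Fintype.card α = 11) (G : Subgroup (Equiv.Perm α)) [MulAction.IsPretransitive G α] (hG : ¬ Group.IsSolvable G) (hA : ¬ alternatingGroup α ≤ G) : (MulAction.IsMultiplyPretransitive G α 4 ∧ ∀ x : Fin 4 ↪ α, MulAction.stabilizer G x = ⊥) ∨ Nonempty (G ≃* Matrix.ProjectiveSpecialLinearGroup (Fin 2) (ZMod 11)) := by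
  have hp : Fact (Nat.Prime 11) := ⟨by norm_num⟩
  obtain ⟨e₀, σ, hσ, hσe⟩ :=
    Cfsg.Agent.PermutationGroups.PrimeDegree.exists_equiv_zmod (p := 11) hα G
  let e : α ≃ Fin 11 := e₀
  have he : ∀ a, e (σ a) = e a + 1 := hσe
  let φ : Equiv.Perm α ≃* Equiv.Perm (Fin 11) := e.permCongrHom
  have hφ : ∀ g a, φ g (e a) = e (g a) := by
    intro g a
    change e (g (e.symm (e a))) = _
    rw [e.symm_apply_apply]
  let H : Subgroup (Equiv.Perm (Fin 11)) := G.map φ.toMonoidHom
  have hmem : ∀ g ∈ G, φ g ∈ H := fun g hg => ⟨g, hg, rfl⟩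
  let ψ : G ≃* H := G.equivMapOfInjective φ.toMonoidHom φ.injective
  have ha : aP ∈ H := by
    have : aP = φ σ := by
      apply Equiv.ext
      intro x
      obtain ⟨a, rfl⟩ := e.surjective x
      rw [hφ, he]
      rfl
    rw [this]
    exact hmem σ hσ
  have hHs : ¬ Group.IsSolvable H := by
    intro h
    apply hG
    exact Group.isSolvable_of_isSolvable_injective (f := ψ.toMonoidHom) ψ.injective
  have hHA : ¬ alternatingGroup (Fin 11) ≤ H := by
    intro h
    apply hA
    intro g hg
    have h1 : φ g ∈ alternatingGroup (Fin 11) := by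
      rw [Equiv.Perm.mem_alternatingGroup] at hg ⊢
      rw [← hg]
      exact Equiv.Perm.sign_permCongr e g
    obtain ⟨g', hg', hgg⟩ := h h1
    have : g' = g := φ.injective hgg
    rw [← this]
    exact hg'
  rcases main ha hHs hHA with ⟨h4, hst⟩ | ⟨⟨f⟩⟩
  · left
    constructor
    · rw [isMultiplyPretransitive_iff] at h4 ⊢
      intro x y
      obtain ⟨⟨h, g, hg, rfl⟩, hh⟩ := h4 (x.trans e.toEmbedding) (y.trans e.toEmbedding)
      refine ⟨⟨g, hg⟩, ?_⟩
      ext i
      have h1 := congrArg (fun z : Fin 4 ↪ Fin 11 => z i) hh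
      have h2 : φ g (e (x i)) = e (y i) := h1
      rw [hφ] at h2
      exact e.injective h2
    · intro x
      rw [eq_bot_iff]
      rintro ⟨g, hg⟩ hgx
      rw [Subgroup.mem_bot]
      have h1 : (⟨φ g, hmem g hg⟩ : H) ∈ stabilizer H (x.trans e.toEmbedding) := by
        rw [mem_stabilizer_iff] at hgx ⊢
        ext i
        have h2 : g (x i) = x i := congrArg (fun z : Fin 4 ↪ α => z i) hgx
        have h3 : φ g (e (x i)) = e (x i) := by rw [hφ, h2]
        exact congrArg Fin.val h3
      rw [hst, Subgroup.mem_bot] at h1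
      have h2 : φ g = 1 := congrArg Subtype.val h1
      apply Subtype.ext
      exact (map_eq_one_iff φ φ.injective).1 h2
  · right
    exact ⟨ψ.trans f⟩

end Cfsg.Agent.S0679
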