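import Cfsg.Statements.S0690
import Cfsg.Agent.PermutationGroups.ZassReduction
import Cfsg.Agent.PermutationGroups.ZassKlein
import Cfsg.Agent.PermutationGroups.ZassCore
import Cfsg.Agent.PermutationGroups.ZassEnd

set_option autoImplicit false
open Cfsg

namespace Cfsg.Agent.S0690

/-- The subgroup generated by the elements of order 3, inside and outside. -/
theorem closure_equiv {U : Type*} [Group U] (H : Subgroup U) :
    Nonempty (Subgroup.closure {g : H | orderOf g = 3} ≃*
      Subgroup.closure {g : U | g ∈ H ∧ orderOf g = 3}) := by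
  have h1 : (Subgroup.closure {g : H | orderOf g = 3}).map H.subtype =
      Subgroup.closure {g : U | g ∈ H ∧ orderOf g = 3} := by
    rw [MonoidHom.map_closure]
    congr 1
    ext g
    constructor
    · rintro ⟨x, hx, rfl⟩
      refine ⟨x.2, ?_⟩
      change orderOf (x : U) = 3
      rw [Subgroup.orderOf_coe]
      exact hx
    · rintro ⟨hg, hg3⟩
      refine ⟨⟨g, hg⟩, ?_, rfl⟩
      change orderOf (⟨g, hg⟩ : H) = 3
      rw [Subgroup.orderOf_mk]
      exact hg3
  rw [← h1]
  exact ⟨(Subgroup.closure {g : H | orderOf g = 3}).equivMapOfInjective H.subtype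
    H.subtype_injective⟩

/-- Zassenhaus: a perfect non-trivial group of fixed-point-free automorphisms of a finite group is isomorphic to `SL(2,5)`. -/
theorem result {K : Type*} [Group K] [Finite K] (G : Subgroup (MulAut K)) (hfpf : ∀ φ ∈ G, φ ≠ 1 → ∀ k : K, φ k = k → k = 1) (hperf : commutator G = ⊤) (hne : G ≠ ⊥) : Nonempty (G ≃* Matrix.SpecialLinearGroup (Fin 2) (ZMod 5)) := by
  obtain ⟨p, hp, V, hV1, hV2, hV3, hV4, H, ⟨e⟩, hfin, hnt, hperf', hfree, hunit, hneg, hS, hS2,
    h2, h3⟩ := Cfsg.Agent.PermutationGroups.ZassReduction.package G hfpf hperf hne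
  haveI : Nontrivial (Module.End (ZMod p) V) := by
    refine ⟨⟨0, 1, fun h => ?_⟩⟩
    obtain ⟨v, hv⟩ := exists_ne (0 : V)
    exact hv (LinearMap.congr_fun h v).symm
  have hu2 : IsUnit (2 : Module.End (ZMod p) V) := by
    simpa using hunit 2 Nat.prime_two h2
  have hu3 : IsUnit (3 : Module.End (ZMod p) V) := by
    simpa using hunit 3 Nat.prime_three h3
  have hu5 : (∃ g ∈ H, orderOf g = 5) → IsUnit (5 : Module.End (ZMod p) V) := by
    rintro ⟨g, hg, hg5⟩
    have h5 : 5 ∣ Nat.card H := by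
      have h6 := orderOf_dvd_natCard (⟨g, hg⟩ : H)
      rwa [Subgroup.orderOf_mk, hg5] at h6
    simpa using hunit 5 Nat.prime_five h5
  have hord := fun x hx y hy hx3 hy3 =>
    Cfsg.Agent.PermutationGroups.ZassKlein.order_mul_mem H hfree x y hx hy hx3 hy3
  have hcore := Cfsg.Agent.PermutationGroups.ZassCore.core H hfree hu2 hu3 hu5 hneg hord
  obtain ⟨ec⟩ := closure_equiv H
  have hodd : ∀ q : ℕ, q.Prime → q ≠ 2 → ∀ P : Sylow q H, IsCyclic P := by
    intro q hq hq2 P
    haveI : Fact q.Prime := ⟨hq⟩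
    rcases hS q P with h | ⟨h, -⟩
    · exact h
    · exact absurd h hq2
  obtain ⟨f⟩ := Cfsg.Agent.PermutationGroups.ZassEnd.result (G := H) hperf' hodd hS2 h3 (by
    rcases hcore with hc | ⟨⟨f⟩⟩ | ⟨⟨f⟩⟩
    · left
      intro x y hx hy
      have h6 := hc x x.2 y y.2 (by rw [Subgroup.orderOf_coe, hx]) (by rw [Subgroup.orderOf_coe, hy])
      rcases h6 with h6 | h6
      · exact Or.inl (Subtype.ext h6)
      · exact Or.inr (Subtype.ext h6)
    · exact Or.inr (Or.inl ⟨ec.trans f⟩)
    · exact Or.inr (Or.inr ⟨ec.trans f⟩))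
  exact ⟨e.trans f⟩

end Cfsg.Agent.S0690
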