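import Cfsg.Statements.S0689
import Cfsg.Agent.S0690
import Cfsg.Agent.PermutationGroups.RegularLinear
import Cfsg.Agent.PermutationGroups.RegularCount
import Cfsg.Agent.PermutationGroups.AutSL25
import Mathlib.GroupTheory.SpecificGroups.Cyclic
import Mathlib.GroupTheory.Perm.Cycle.Type
import Mathlib.GroupTheory.NoncommCoprod
import Mathlib.GroupTheory.Solvable

set_option autoImplicit false
open Cfsg

namespace Cfsg.Agent.S0689

/-- the arithmetic -/
theorem arith (q m c i : ℕ) (hm : 2 ≤ m) (hc : c ∣ q - 1) (hi : 60 ∣ i) (hi' : i ≤ 120)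
    (h : c * i + 1 = q ^ m) (h8 : 120 ∣ c * i) (hq1 : q ≠ 1) (hc0 : c ≠ 0) (hi0 : i ≠ 0) :
    m = 2 ∧ ((q = 11) ∨ (q = 19 ∧ 3 ∣ c) ∨ (q = 29 ∧ 7 ∣ c) ∨ (q = 59 ∧ 29 ∣ c) ∨ q = 119) := by
  by_cases hq0 : q = 0
  · subst hq0
    rw [zero_pow (by omega)] at h
    omega
  have hq2 : 2 ≤ q := by omega
  have hcq : c ≤ q - 1 := Nat.le_of_dvd (by omega) hc
  have hle : q ^ m ≤ (q - 1) * 120 + 1 := by
    rw [← h]
    have := Nat.mul_le_mul hcq hi'
    omega
  obtain ⟨k, rfl⟩ : ∃ k, m = k + 2 := ⟨m - 2, by omega⟩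
  have hmod : ∀ r, r ∣ 120 → r ∣ q → r = 1 := by
    intro r hr hrq
    have h1 : r ∣ q ^ (k + 2) := dvd_pow hrq (by omega)
    have h2 : r ∣ c * i := hr.trans h8
    rw [← h] at h1
    exact Nat.dvd_one.1 ((Nat.dvd_add_right h2).1 h1)
  have h2 : ¬ 2 ∣ q := fun h => by have := hmod 2 (by norm_num) h; omega
  have h3 : ¬ 3 ∣ q := fun h => by have := hmod 3 (by norm_num) h; omega
  have h5 : ¬ 5 ∣ q := fun h => by have := hmod 5 (by norm_num) h; omega
  have hq7 : 7 ≤ q := by
    by_contra hcon
    push Not at hcon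
    interval_cases q <;> omega
  have hqq : q ^ (k + 2) = q * (q * q ^ k) := by ring
  have h24 : q * q ^ k < 120 := by
    by_contra hcon
    push Not at hcon
    have : q * 120 ≤ q * (q * q ^ k) := Nat.mul_le_mul_left q hcon
    omega
  have hpos : 1 ≤ q ^ k := Nat.one_le_pow _ _ (by omega)
  have hqle : q ≤ 119 := by nlinarith
  have hk : k ≤ 1 := by
    by_contra hcon
    push Not at hcon
    have h9 : 7 ^ 2 ≤ q ^ k :=
      le_trans (Nat.pow_le_pow_left hq7 2) (Nat.pow_le_pow_right (by omega) (by omega))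
    nlinarith
  have hk' : k = 0 ∨ k = 1 := by omega
  obtain ⟨l, hl⟩ := hc
  have hl0 : l ≠ 0 := by rintro rfl; omega
  have hi2 : i = 60 ∨ i = 120 := by omega
  rcases hk' with rfl | rfl
  · refine ⟨rfl, ?_⟩
    have h6 : i = l * (q + 1) := by
      have h7 : c * i = c * (l * (q + 1)) := by
        obtain ⟨t, rfl⟩ : ∃ t, q = t + 1 := ⟨q - 1, by omega⟩
        simp only [Nat.add_sub_cancel] at hl
        have : (t + 1) ^ (0 + 2) = t * (t + 2) + 1 := by ring
        have h9 : c * (l * (t + 1 + 1)) = (c * l) * (t + 2) := by ring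
        rw [h9, ← hl]
        omega
      exact Nat.eq_of_mul_eq_mul_left (Nat.pos_of_ne_zero hc0) h7
    have h7 : (q + 1) ∣ 120 := by
      have h8 : (q + 1) ∣ i := by rw [h6]; exact dvd_mul_left _ _
      rcases hi2 with h | h
      · rw [h] at h8; exact h8.trans (by norm_num)
      · rw [h] at h8; exact h8
    have h10 : q + 1 ∈ Nat.divisors 120 := Nat.mem_divisors.2 ⟨h7, by norm_num⟩
    have h11 : Nat.divisors 120 = {1, 2, 3, 4, 5, 6, 8, 10, 12, 15, 20, 24, 30, 40, 60, 120} := by
      decide +kernel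
    rw [h11] at h10
    simp only [Finset.mem_insert, Finset.mem_singleton] at h10
    have hq' : q = 7 ∨ q = 9 ∨ q = 11 ∨ q = 14 ∨ q = 19 ∨ q = 23 ∨ q = 29 ∨ q = 39 ∨ q = 59 ∨
      q = 119 := by omega
    rcases hq' with rfl | rfl | rfl | rfl | rfl | rfl | rfl | rfl | rfl | rfl
    · omega
    · omega
    · omega
    · omega
    · have : l = 3 ∨ l = 6 := by omega
      rcases this with rfl | rfl <;> omega
    · omega
    · have : l = 2 ∨ l = 4 := by omega
      rcases this with rfl | rfl <;> omega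
    · omega
    · have : l = 1 ∨ l = 2 := by omega
      rcases this with rfl | rfl <;> omega
    · omega
  · exfalso
    have : q * q < 120 := by
      rw [pow_one] at h24; exact h24
    have hq10 : q ≤ 10 := by nlinarith
    interval_cases q <;> omega

/-- A finite group that is not solvable has a non-trivial perfect normal subgroup. -/
theorem exists_perfect {G : Type*} [Group G] [Finite G] (h : ¬ Group.IsSolvable G) :
    ∃ N : Subgroup G, N.Normal ∧ N ≠ ⊥ ∧ ⁅N, N⁆ = N := by
  obtain ⟨N, ⟨n, rfl⟩, hmin⟩ := Set.Finite.exists_minimal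
    (s := Set.range (fun n : ℕ => derivedSeries G n)) (Set.toFinite _) ⟨_, ⟨0, rfl⟩⟩
  refine ⟨derivedSeries G n, inferInstance, ?_, ?_⟩
  · intro h0
    exact h ⟨⟨n, h0⟩⟩
  · have h1 : derivedSeries G (n + 1) ≤ derivedSeries G n := derivedSeries_antitone G (Nat.le_succ n)
    have h2 := hmin ⟨n + 1, rfl⟩ h1
    rw [← derivedSeries_succ]
    exact le_antisymm h1 h2

section free

variable {p : ℕ} [Fact p.Prime] {V : Type*} [AddCommGroup V] [Module (ZMod p) V]

/-- In a group acting freely on the non-zero vectors two commuting elements of order three generate the same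
subgroup. -/
theorem commute_order_three [Nontrivial V] (H : Subgroup (V ≃ₗ[ZMod p] V))
    (hfree : ∀ h : H, ∀ v : V, v ≠ 0 → (h : V ≃ₗ[ZMod p] V) v = v → h = 1)
    (x y : H) (hxy : x * y = y * x) (hx : x ^ 3 = 1) (hx1 : x ≠ 1) (hy : y ^ 3 = 1) (hy1 : y ≠ 1) :
    x = y ∨ x = y ^ 2 := by
  have ax : ∀ v : V, (x : V ≃ₗ[ZMod p] V) ((x : V ≃ₗ[ZMod p] V) ((x : V ≃ₗ[ZMod p] V) v)) = v := by
    intro v
    have h1 : ((x ^ 3 : H) : V ≃ₗ[ZMod p] V) v = v := by rw [hx]; rfl
    rw [pow_succ, pow_two] at h1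
    exact h1
  have ay : ∀ v : V, (y : V ≃ₗ[ZMod p] V) ((y : V ≃ₗ[ZMod p] V) ((y : V ≃ₗ[ZMod p] V) v)) = v := by
    intro v
    have h1 : ((y ^ 3 : H) : V ≃ₗ[ZMod p] V) v = v := by rw [hy]; rfl
    rw [pow_succ, pow_two] at h1
    exact h1
  have axy : ∀ v : V, (x : V ≃ₗ[ZMod p] V) ((y : V ≃ₗ[ZMod p] V) v) =
      (y : V ≃ₗ[ZMod p] V) ((x : V ≃ₗ[ZMod p] V) v) := by
    intro v
    have h1 : ((x * y : H) : V ≃ₗ[ZMod p] V) v = ((y * x : H) : V ≃ₗ[ZMod p] V) v := by rw [hxy]
    exact h1
  have hy0 : ∀ v : V, (y : V ≃ₗ[ZMod p] V) ((y : V ≃ₗ[ZMod p] V) v) + (y : V ≃ₗ[ZMod p] V) v + v = 0 := by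
    intro v
    by_contra hcon
    apply hy1
    refine hfree y _ hcon ?_
    rw [map_add, map_add, ay]
    abel
  obtain ⟨v, hv⟩ := exists_ne (0 : V)
  set X := (x : V ≃ₗ[ZMod p] V) with hX
  set Y := (y : V ≃ₗ[ZMod p] V) with hY
  by_cases h1 : X v - Y (Y v) = 0
  · right
    have h2 : ((y ^ 2)⁻¹ * x : H) = 1 := by
      refine hfree _ v hv ?_
      have h3 : (((y ^ 2)⁻¹ * x : H) : V ≃ₗ[ZMod p] V) v = (Y * Y).symm (X v) := by
        rw [pow_two]; rfl
      rw [h3, sub_eq_zero.1 h1]
      exact LinearEquiv.symm_apply_apply (Y * Y) v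
    exact (inv_mul_eq_one.1 h2).symm
  by_cases h2 : X (X v - Y (Y v)) - Y (X v - Y (Y v)) = 0
  · left
    have h2' : (y⁻¹ * x : H) = 1 := by
      refine hfree _ _ h1 ?_
      have h3 : ((y⁻¹ * x : H) : V ≃ₗ[ZMod p] V) (X v - Y (Y v)) = Y.symm (X (X v - Y (Y v))) := rfl
      rw [h3, sub_eq_zero.1 h2]
      exact LinearEquiv.symm_apply_apply Y _
    exact (inv_mul_eq_one.1 h2').symm
  · exfalso
    apply hx1
    refine hfree x _ h2 ?_
    change X (X (X v - Y (Y v)) - Y (X v - Y (Y v))) = X (X v - Y (Y v)) - Y (X v - Y (Y v))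
    simp only [map_sub, axy, ax, ay]
    have e1 := hy0 (X (X v))
    have e2 := hy0 (X v)
    have e1' : Y (Y (X (X v))) + Y (X (X v)) = - X (X v) := by
      rw [eq_neg_iff_add_eq_zero]; exact e1
    have e2' : Y (Y (X v)) + Y (X v) = - X v := by
      rw [eq_neg_iff_add_eq_zero]; exact e2
    have goal : v - Y (Y (X (X v))) - (Y (X (X v)) - X v) -
        (X (X v) - Y (Y (X v)) - (Y (X v) - v)) = 0 := by
      have : v - Y (Y (X (X v))) - (Y (X (X v)) - X v) -
        (X (X v) - Y (Y (X v)) - (Y (X v) - v)) =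
        - (Y (Y (X (X v))) + Y (X (X v))) + (Y (Y (X v)) + Y (X v)) + X v - X (X v) := by abel
      rw [this, e1', e2']
      abel
    exact sub_eq_zero.1 goal

end free

/-- a direct product of commuting subgroups of coprime orders -/
theorem prod_of_card {G : Type*} [Group G] [Finite G] (N P : Subgroup G)
    (hc : ∀ n ∈ N, ∀ x ∈ P, n * x = x * n) (hcop : (Nat.card N).Coprime (Nat.card P))
    (hcard : Nat.card N * Nat.card P = Nat.card G) : Nonempty (G ≃* N × P) := by
  let f : N × P →* G := MonoidHom.noncommCoprod N.subtype P.subtype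
    (fun n x => hc n n.2 x x.2)
  have hf : Function.Injective f := by
    rw [injective_iff_map_eq_one]
    rintro ⟨n, x⟩ h
    have h1 : (n : G) * x = 1 := h
    have h2 : (x : G) ∈ N := by
      have : (x : G) = (n : G)⁻¹ := (inv_eq_of_mul_eq_one_right h1).symm
      rw [this]; exact N.inv_mem n.2
    have h3 : (x : G) = 1 := by
      have h4 : (x : G) ∈ N ⊓ P := ⟨h2, x.2⟩
      rw [(Subgroup.disjoint_of_coprime_natCard hcop).eq_bot] at h4
      exact Subgroup.mem_bot.1 h4
    have h5 : (n : G) = 1 := by rw [h3, mul_one] at h1; exact h1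
    exact Prod.ext (Subtype.ext h5) (Subtype.ext h3)
  have hbij : Function.Bijective f := by
    rw [Nat.bijective_iff_injective_and_card]
    exact ⟨hf, by rw [Nat.card_prod, hcard]⟩
  exact ⟨(MulEquiv.ofBijective f hbij).symm⟩

/-- The insoluble sharply doubly transitive groups: a non-solvable linear group over the prime field that is regular on the non-zero vectors of `V` occurs only for `|V| = 11², 29², 59²`, and is `SL(2,5) × C_m` with `m = 1, 7, 29` respectively. -/
theorem result {p : ℕ} [Fact p.Prime] {V : Type*} [AddCommGroup V] [Module (ZMod p) V] [Finite V] (H : Subgroup (V ≃ₗ[ZMod p] V)) (hreg : ∀ v w : V, v ≠ 0 → w ≠ 0 → ∃! h : H, (h : V ≃ₗ[ZMod p] V) v = w) (hsolv : ¬ Group.IsSolvable H) : (Nat.card V = 121 ∧ Nonempty (H ≃* Matrix.SpecialLinearGroup (Fin 2) (ZMod 5))) ∨ (Nat.card V = 841 ∧ Nonempty (H ≃* Matrix.SpecialLinearGroup (Fin 2) (ZMod 5) × Multiplicative (ZMod 7))) ∨ (Nat.card V = 3481 ∧ Nonempty (H ≃* Matrix.SpecialLinearGroup (Fin 2) (ZMod 5) × Multiplicative (ZMod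 29))) := by
  classical
  have hVnt : Nontrivial V := by
    by_contra h
    rw [not_nontrivial_iff_subsingleton] at h
    apply hsolv
    have : Subsingleton H := by
      refine ⟨fun a b => ?_⟩
      apply Subtype.ext
      ext v
      exact Subsingleton.elim _ _
    infer_instance
  have hfG : Finite (V ≃ₗ[ZMod p] V) := PermutationGroups.RegularLinear.finite_gl
  have hfree := PermutationGroups.RegularCount.eq_one_of_reg H hreg
  obtain ⟨N, hNn, hNbot, hNperf⟩ := exists_perfect hsolv
  -- `N` is isomorphic to `SL(2,5)`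
  have hNe : Nonempty (N ≃* Matrix.SpecialLinearGroup (Fin 2) (ZMod 5)) := by
    let φ : N →* MulAut (Multiplicative V) :=
      { toFun := fun n => AddEquiv.toMultiplicative (((n : H) : V ≃ₗ[ZMod p] V).toAddEquiv)
        map_one' := rfl
        map_mul' := fun a b => rfl }
    have hφ : Function.Injective φ := by
      intro a b hab
      apply Subtype.ext
      apply Subtype.ext
      ext v
      exact congrArg Multiplicative.toAdd (DFunLike.congr_fun hab (Multiplicative.ofAdd v))
    let e := MonoidHom.ofInjective hφ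
    have hperfN : commutator N = ⊤ := by
      have h1 : (commutator N).map N.subtype = N := by
        rw [commutator_def, Subgroup.map_commutator, ← MonoidHom.range_eq_map, Subgroup.range_subtype]
        exact hNperf
      apply Subgroup.map_injective N.subtype_injective
      rw [h1, ← MonoidHom.range_eq_map, Subgroup.range_subtype]
    have hperf : commutator φ.range = ⊤ := by
      have h1 : (commutator N).map (e : N →* φ.range) = commutator φ.range := by
        rw [commutator_def, commutator_def, Subgroup.map_commutator]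
        congr 1 <;> exact Subgroup.map_top_of_surjective _ e.surjective
      rw [← h1, hperfN]
      exact Subgroup.map_top_of_surjective _ e.surjective
    obtain ⟨e'⟩ := Cfsg.Agent.S0690.result (K := Multiplicative V) φ.range
      (by
        rintro _ ⟨n, rfl⟩ hn k hk
        by_contra hk1
        apply hn
        have h1 : (n : H) = 1 := by
          refine hfree (n : H) (Multiplicative.toAdd k) ?_ (congrArg Multiplicative.toAdd hk)
          intro h0
          exact hk1 (Multiplicative.toAdd.injective h0)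
        have h2 : n = 1 := Subtype.ext h1
        rw [h2, map_one])
      hperf
      (by
        intro h0
        apply hNbot
        rw [Subgroup.eq_bot_iff_forall]
        intro n hn
        have h1 : φ ⟨n, hn⟩ ∈ φ.range := ⟨_, rfl⟩
        rw [h0, Subgroup.mem_bot] at h1
        have h2 : (⟨n, hn⟩ : N) = 1 := hφ (by rw [h1, map_one])
        exact congrArg Subtype.val h2)
    exact ⟨e.trans e'⟩
  obtain ⟨e⟩ := hNe
  have hNcard : Nat.card N = 120 := by
    rw [Nat.card_congr e.toEquiv]; exact PermutationGroups.AutSL25.natCard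
  have hZcard : Nat.card (Subgroup.center N) = 2 := by
    rw [Nat.card_congr (Subgroup.centerCongr e).toEquiv]
    exact PermutationGroups.AutSL25.card_center
  have hNna : ¬ IsMulCommutative N := by
    intro h
    have h1 : Subgroup.center N = ⊤ := by
      rw [eq_top_iff]
      intro x _
      rw [Subgroup.mem_center_iff]
      intro y
      exact h.is_comm.comm y x
    rw [h1, Subgroup.card_top, hNcard] at hZcard
    omega
  have htr : ∀ v w : V, v ≠ 0 → w ≠ 0 → ∃ h ∈ H, h v = w := by
    intro v w hv hw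
    obtain ⟨h, hh, _⟩ := hreg v w hv hw
    exact ⟨h.1, h.2, hh⟩
  have hirr := fun W hW => PermutationGroups.RegularLinear.irreducible_of_normal_nonabelian
    H htr N hNn hNna W hW
  obtain ⟨d, m, hd, hm, hV, hC, hCcyc⟩ :=
    PermutationGroups.RegularCount.exists_count H hfree N hNna hirr
  have hH := PermutationGroups.RegularCount.card_add_one H hreg
  set C := Subgroup.centralizer (N : Set H) with hCdef
  have hidx120 : C.index ≤ 120 := by
    have h1 := Nat.le_of_dvd Nat.card_pos (PermutationGroups.RegularCount.index_centralizer_dvd N)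
    have h2 : Nat.card (MulAut N) ≤ 120 := by
      rw [Nat.card_congr (MulAut.congr e).toEquiv]
      exact PermutationGroups.AutSL25.card_mulAut_le
    exact h1.trans h2
  have hidx60 : 60 ∣ C.index := by
    have h1 := PermutationGroups.RegularCount.index_center_dvd N
    have h2 := (Subgroup.center N).card_mul_index
    rw [hZcard, hNcard] at h2
    have h3 : (Subgroup.center N).index = 60 := by omega
    rwa [h3] at h1
  have hmul : Nat.card C * C.index = Nat.card H := C.card_mul_index
  have h120 : 120 ∣ Nat.card H := by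
    rw [← hNcard]
    exact Subgroup.card_subgroup_dvd_card N
  have hp2 : 2 ≤ p := (Fact.out : p.Prime).two_le
  obtain ⟨hm2, key⟩ := arith (p ^ d) m _ _ hm hC hidx60 hidx120 (by rw [hmul, hH, hV])
    (by rw [hmul]; exact h120)
    (by
      have : 1 < p ^ d := Nat.one_lt_pow (by omega) (by omega)
      omega)
    Nat.card_pos.ne' Subgroup.index_ne_zero_of_finite
  subst hm2
  -- the general direct product argument
  have hprod : ∀ r : ℕ, r.Prime → r ∣ Nat.card C → Nat.Coprime 120 r → 120 * r = Nat.card H →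
      Nonempty (H ≃* Matrix.SpecialLinearGroup (Fin 2) (ZMod 5) × Multiplicative (ZMod r)) := by
    intro r hr hrC hcop hrH
    have : Fact r.Prime := ⟨hr⟩
    obtain ⟨x, hx⟩ := exists_prime_orderOf_dvd_card' (G := C) r hrC
    set P : Subgroup H := Subgroup.zpowers (x : H) with hP
    have hPcard : Nat.card P = r := by
      rw [hP, Nat.card_zpowers, Subgroup.orderOf_coe, hx]
    obtain ⟨e1⟩ := prod_of_card N P (by
      intro n hn y hy
      rw [hP, Subgroup.mem_zpowers_iff] at hy
      obtain ⟨k, rfl⟩ := hy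
      have h1 : (x : H) ^ k ∈ C := C.zpow_mem x.2 k
      exact Subgroup.mem_centralizer_iff.1 h1 n hn)
      (by rw [hNcard, hPcard]; exact hcop) (by rw [hNcard, hPcard, hrH])
    have e2 : P ≃* Multiplicative (ZMod r) := mulEquivOfPrimeCardEq (p := r) hPcard
      (by rw [Nat.card_congr Multiplicative.toAdd, Nat.card_zmod])
    exact ⟨e1.trans (MulEquiv.prodCongr e e2)⟩
  have hVq : Nat.card V = (p ^ d) * (p ^ d) := by rw [hV]; ring
  rcases key with h | ⟨h, h3⟩ | ⟨h, h7⟩ | ⟨h, h29⟩ | h
  · left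
    rw [h] at hVq
    refine ⟨hVq, ?_⟩
    have hNtop : N = ⊤ := by
      apply Subgroup.eq_top_of_card_eq
      omega
    subst hNtop
    exact ⟨Subgroup.topEquiv.symm.trans e⟩
  · -- `q = 19`
    exfalso
    obtain ⟨x, hx⟩ := exists_prime_orderOf_dvd_card' (G := C) 3 h3
    obtain ⟨y, hy⟩ := exists_prime_orderOf_dvd_card' (G := N) 3 (by rw [hNcard]; norm_num)
    have hcomm : (x : H) * y = y * x := (Subgroup.mem_centralizer_iff.1 x.2 y y.2).symm
    have hx' : orderOf (x : H) = 3 := by rw [Subgroup.orderOf_coe, hx]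
    have hy' : orderOf (y : H) = 3 := by rw [Subgroup.orderOf_coe, hy]
    have hx1 : (x : H) ≠ 1 := by
      intro h0; rw [h0, orderOf_one] at hx'; omega
    have hy1 : (y : H) ≠ 1 := by
      intro h0; rw [h0, orderOf_one] at hy'; omega
    have hxN : (x : H) ∈ N := by
      rcases commute_order_three H hfree x y hcomm (by rw [← hx']; exact pow_orderOf_eq_one _) hx1
        (by rw [← hy']; exact pow_orderOf_eq_one _) hy1 with h0 | h0
      · rw [h0]; exact y.2
      · rw [h0]; exact N.pow_mem y.2 2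
    have hxZ : (⟨x, hxN⟩ : N) ∈ Subgroup.center N := by
      rw [Subgroup.mem_center_iff]
      intro n
      exact Subtype.ext (Subgroup.mem_centralizer_iff.1 x.2 n n.2)
    have h4 : orderOf (⟨⟨x, hxN⟩, hxZ⟩ : Subgroup.center N) ∣ Nat.card (Subgroup.center N) :=
      orderOf_dvd_natCard _
    rw [← Subgroup.orderOf_coe, ← Subgroup.orderOf_coe, hZcard] at h4
    change orderOf (x : H) ∣ 2 at h4
    rw [hx'] at h4
    omega
  · right; left
    rw [h] at hVq
    refine ⟨hVq, hprod 7 (by norm_num) h7 (by norm_num) (by omega)⟩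
  · right; right
    rw [h] at hVq
    refine ⟨hVq, hprod 29 (by norm_num) h29 (by norm_num) (by omega)⟩
  · exfalso
    have h7 : p = 7 := by
      have h1 : 7 ∣ p ^ d := by rw [h]; norm_num
      have h2 := Nat.Prime.dvd_of_dvd_pow (by norm_num : Nat.Prime 7) h1
      exact ((Nat.prime_dvd_prime_iff_eq (by norm_num) (Fact.out : p.Prime)).1 h2).symm
    have h17 : p = 17 := by
      have h1 : 17 ∣ p ^ d := by rw [h]; norm_num
      have h2 := Nat.Prime.dvd_of_dvd_pow (by norm_num : Nat.Prime 17) h1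
      exact ((Nat.prime_dvd_prime_iff_eq (by norm_num) (Fact.out : p.Prime)).1 h2).symm
    omega

end Cfsg.Agent.S0689
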