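import Cfsg.Statements.S0698
import Cfsg.Agent.PermutationGroups.JordanNormal

set_option autoImplicit false
open Cfsg

namespace Cfsg.Agent.S0698

open Cfsg.Agent.PermutationGroups.JordanNormal in
/-- Jordan's Theorem on normal subgroups of multiply transitive groups: if `G` is `k`-transitive (`k > 1`) of degree greater than `k`, a non-trivial normal subgroup is `(k-1)`-transitive, except possibly for `k = 3` when it may be an elementary abelian 2-group. -/
theorem result {α : Type*} [Fintype α] [DecidableEq α] (G : Subgroup (Equiv.Perm α)) {k : ℕ} (hk : 1 < k) (hdeg : k < Fintype.card α) (hG : MulAction.IsMultiplyPretransitive G α k) (N : Subgroup G) [N.Normal] (hN : N ≠ ⊥) : MulAction.IsMultiplyPretransitive N α (k - 1) ∨ (k = 3 ∧ IsMulCommutative N ∧ ∀ n ∈ N, n ^ 2 = 1) := by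
  have hcard : Nat.card α = Fintype.card α := Nat.card_eq_fintype_card
  have hfaith : ∀ n : G, (∀ x : α, n • x = x) → n = 1 := by
    intro n hn
    apply Subtype.ext
    apply Equiv.ext
    intro x
    exact hn x
  obtain ⟨k, rfl⟩ : ∃ l, k = l + 1 := ⟨k - 1, by omega⟩
  simp only [Nat.add_sub_cancel]
  have hGk : MulAction.IsMultiplyPreprimitive G α k :=
    MulAction.isMultiplyPreprimitive_of_isMultiplyPretransitive_succ G α (enat_card_eq (by
      rw [Nat.succ_eq_add_one]; omega))
  have hprim : MulAction.IsPreprimitive G α := primitive_of_multiply (by omega) (by omega) hGk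
  obtain ⟨n, hn1⟩ := Subgroup.ne_bot_iff_exists_ne_one.mp hN
  have hmove : ∃ n ∈ N, ∃ x : α, n • x ≠ x := by
    refine ⟨n, n.2, ?_⟩
    by_contra hcon
    push Not at hcon
    exact hn1 (Subtype.ext (hfaith _ hcon))
  by_cases hsr : ∃ n ∈ N, (∃ x : α, n • x = x) ∧ ∃ y : α, n • y ≠ y
  · left
    exact normal_multiplyTransitive k (by omega) (by omega) hGk N hsr
  · push Not at hsr
    have hsr' : ∀ n ∈ N, ∀ x : α, n • x = x → ∀ z : α, n • z = z :=
      fun n hn x hx => hsr n hn ⟨x, hx⟩
    rcases Nat.lt_or_ge k 2 with h1 | h2
    · left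
      have : k = 1 := by omega
      subst this
      rw [MulAction.is_one_pretransitive_iff]
      exact normal_transitive_of_primitive hprim N hmove
    · right
      rcases Nat.lt_or_ge k 3 with h3 | h3
      · have : k = 2 := by omega
        subst this
        have hsq : ∀ n ∈ N, n ^ 2 = 1 := by
          intro n hn
          apply hfaith
          intro z
          rw [pow_two, mul_smul]
          exact sq_trivial_of_semiregular_normal (by omega) hG N hsr' n hn z
        refine ⟨rfl, ⟨⟨fun x y => ?_⟩⟩, hsq⟩
        apply Subtype.ext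
        have hx := hsq x x.2
        have hy := hsq y y.2
        have hxy := hsq (x * y) (N.mul_mem x.2 y.2)
        rw [pow_two, mul_eq_one_iff_eq_inv] at hx hy hxy
        show (x : G) * y = y * x
        rw [hxy, mul_inv_rev, ← hx, ← hy]
      · exfalso
        exact not_semiregular_normal (by omega)
          (MulAction.isMultiplyPreprimitive_of_le G α hGk h3 (enat_card_eq (by omega))) N hsr' hmove

end Cfsg.Agent.S0698
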