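import Cfsg.Statements.S0699
import Mathlib.GroupTheory.Sylow
import Mathlib.GroupTheory.Perm.Cycle.Type
import Mathlib.Tactic

set_option autoImplicit false
open Cfsg

namespace Cfsg.Agent.S0699

open MulAction

/-- A non-trivial normal subgroup of a 3-transitive group contains, for distinct `a b c`, an
element fixing `a` and mapping `b` to `c`. -/
theorem exists_fix_map {G α : Type*} [Group G] [MulAction G α] [FaithfulSMul G α] [Fintype α]
    [DecidableEq α]
    (hodd : Odd (Fintype.card α)) (h5 : 5 ≤ Fintype.card α)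
    (h3 : ∀ a b c a' b' c' : α, a ≠ b → a ≠ c → b ≠ c → a' ≠ b' → a' ≠ c' → b' ≠ c' →
      ∃ g : G, g • a = a' ∧ g • b = b' ∧ g • c = c')
    (N : Subgroup G) [hNn : N.Normal] (hN : N ≠ ⊥) (a b c : α) (hab : a ≠ b) (hac : a ≠ c)
    (hbc : b ≠ c) : ∃ y ∈ N, y • a = a ∧ y • b = c := by
  -- it is enough to find one such triple
  suffices H : ∃ y ∈ N, ∃ a₀ b₀ : α, y • a₀ = a₀ ∧ y • b₀ ≠ b₀ by
    obtain ⟨y, hy, a₀, b₀, h1, h2⟩ := H
    have hab0 : a₀ ≠ b₀ := by
      rintro rfl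
      exact h2 h1
    have hac0 : a₀ ≠ y • b₀ := by
      intro h
      apply hab0
      rw [← h1] at h
      exact smul_left_cancel y h
    obtain ⟨g, hg1, hg2, hg3⟩ := h3 a₀ b₀ (y • b₀) a b c hab0 hac0 (Ne.symm h2) hab hac hbc
    refine ⟨g * y * g⁻¹, hNn.conj_mem y hy g, ?_, ?_⟩
    · rw [← hg1, mul_smul, inv_smul_smul, mul_smul, h1]
    · rw [← hg2, mul_smul, inv_smul_smul, mul_smul, hg3]
  by_contra hcon
  push Not at hcon
  -- every element of `N` fixing a point is trivial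
  have hreg : ∀ y ∈ N, ∀ a₀ : α, y • a₀ = a₀ → y = 1 := by
    intro y hy a₀ h
    apply FaithfulSMul.eq_of_smul_eq_smul (α := α)
    intro b₀
    rw [one_smul]
    exact hcon y hy a₀ b₀ h
  obtain ⟨x', hx'⟩ := N.ne_bot_iff_exists_ne_one.mp hN
  obtain ⟨x, hx, hx1⟩ : ∃ x : G, x ∈ N ∧ x ≠ 1 := ⟨x', x'.2, fun h => hx' (Subtype.ext h)⟩
  have hxfix : ∀ a₀ : α, x • a₀ ≠ a₀ := fun a₀ h => hx1 (hreg x hx a₀ h)
  by_cases hx2 : x * x = 1
  · -- fixed point free involution: even degree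
    let f : Function.End α := fun p => x • p
    have hf : f ^ 2 ^ 1 = 1 := by
      rw [pow_one, pow_two]
      funext p
      show x • (x • p) = p
      rw [← mul_smul, hx2, one_smul]
    have hmod := Equiv.Perm.card_fixedPoints_modEq (p := 2) (n := 1) hf
    have h0 : Fintype.card f.fixedPoints = 0 := by
      rw [Fintype.card_eq_zero_iff]
      exact ⟨fun q => hxfix q.1 q.2⟩
    have h1 : Fintype.card α ≡ 0 [MOD 2] := by
      rw [h0] at hmod
      exact hmod
    rw [Nat.modEq_zero_iff_dvd] at h1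
    exact (Nat.not_even_iff_odd.mpr hodd) (even_iff_two_dvd.mpr h1)
  · have hxx : ∀ a₀ : α, x • x • a₀ ≠ a₀ := by
      intro a₀ h
      rw [← mul_smul] at h
      exact hx2 (hreg _ (N.mul_mem hx hx) a₀ h)
    obtain ⟨d, hd⟩ : ∃ d : α, d ∉ ({a, x • a, x • x • a} : Finset α) := by
      by_contra hall
      push Not at hall
      have : (Finset.univ : Finset α) ⊆ {a, x • a, x • x • a} := fun z _ => hall z
      have h1 := Finset.card_le_card this
      have h2 : ({a, x • a, x • x • a} : Finset α).card ≤ 3 := Finset.card_le_three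
      rw [Finset.card_univ] at h1
      omega
    simp only [Finset.mem_insert, Finset.mem_singleton, not_or] at hd
    obtain ⟨hd1, hd2, hd3⟩ := hd
    obtain ⟨g, hg1, hg2, hg3⟩ := h3 a (x • a) (x • x • a) a (x • a) d (hxfix a).symm
      (hxx a).symm (fun h => hxfix a (smul_left_cancel x h).symm) (hxfix a).symm (Ne.symm hd1)
      (Ne.symm hd2)
    have hcomm : x⁻¹ * (g * x * g⁻¹) = 1 := by
      apply hreg _ (N.mul_mem (N.inv_mem hx) (hNn.conj_mem x hx g)) a
      have : g⁻¹ • a = a := by rw [inv_smul_eq_iff, hg1]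
      rw [mul_smul, mul_smul, mul_smul, this, hg2, inv_smul_smul]
    have hcomm' : g * x = x * g := by
      rw [inv_mul_eq_one] at hcomm
      rw [eq_mul_inv_iff_mul_eq] at hcomm
      exact hcomm.symm
    apply hd3
    rw [← hg3, ← mul_smul g x, hcomm', mul_smul, hg2]

/-- `N` is 2-transitive. -/
theorem two_trans {G α : Type*} [Group G] [MulAction G α] [FaithfulSMul G α] [Fintype α]
    [DecidableEq α]
    (hodd : Odd (Fintype.card α)) (h5 : 5 ≤ Fintype.card α)
    (h3 : ∀ a b c a' b' c' : α, a ≠ b → a ≠ c → b ≠ c → a' ≠ b' → a' ≠ c' → b' ≠ c' →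
      ∃ g : G, g • a = a' ∧ g • b = b' ∧ g • c = c')
    (N : Subgroup G) [hNn : N.Normal] (hN : N ≠ ⊥) (a b a' b' : α) (hab : a ≠ b)
    (hab' : a' ≠ b') : ∃ y ∈ N, y • a = a' ∧ y • b = b' := by
  have hfix := exists_fix_map hodd h5 h3 N hN
  obtain ⟨u, hu, hu1⟩ : ∃ u ∈ N, u • a = a' := by
    by_cases h : a = a'
    · exact ⟨1, N.one_mem, by rw [one_smul, h]⟩
    · obtain ⟨d, hd⟩ : ∃ d : α, d ∉ ({a, a'} : Finset α) := by
        by_contra hall
        push Not at hall
        have : (Finset.univ : Finset α) ⊆ {a, a'} := fun z _ => hall z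
        have h1 := Finset.card_le_card this
        have h2 : ({a, a'} : Finset α).card ≤ 2 := Finset.card_le_two
        rw [Finset.card_univ] at h1
        omega
      simp only [Finset.mem_insert, Finset.mem_singleton, not_or] at hd
      obtain ⟨u, hu, -, hu2⟩ := hfix d a a' hd.1 hd.2 h
      exact ⟨u, hu, hu2⟩
  obtain ⟨v, hv, hv1, hv2⟩ : ∃ v ∈ N, v • a' = a' ∧ v • (u • b) = b' := by
    by_cases h : u • b = b'
    · exact ⟨1, N.one_mem, one_smul _ _, by rw [one_smul, h]⟩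
    · refine hfix a' (u • b) b' ?_ hab' h
      rw [← hu1]
      exact fun h => hab (smul_left_cancel u h)
  exact ⟨v * u, N.mul_mem hv hu, by rw [mul_smul, hu1, hv1], by rw [mul_smul, hv2]⟩

/-- The elementary form of the theorem, for one pair `a ≠ b`: the pointwise stabiliser in `N` of
`a, b` is transitive on the other points. -/
theorem fix_two_trans {G α : Type*} [Group G] [Finite G] [MulAction G α] [FaithfulSMul G α]
    [Fintype α] [DecidableEq α]
    (hodd : Odd (Fintype.card α)) (h5 : 5 ≤ Fintype.card α)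
    (h3 : ∀ a b c a' b' c' : α, a ≠ b → a ≠ c → b ≠ c → a' ≠ b' → a' ≠ c' → b' ≠ c' →
      ∃ g : G, g • a = a' ∧ g • b = b' ∧ g • c = c')
    (N : Subgroup G) [hNn : N.Normal] (hN : N ≠ ⊥) (a b : α) (hab : a ≠ b) :
    ∃ e : α, e ≠ a ∧ e ≠ b ∧ ∀ d : α, d ≠ a → d ≠ b → ∃ y ∈ N, y • a = a ∧ y • b = b ∧ y • e = d := by
  have h2 := two_trans hodd h5 h3 N hN
  -- the stabiliser of the set `{a, b}`
  let L : Subgroup G :=
    { carrier := {g | (g • a = a ∧ g • b = b) ∨ (g • a = b ∧ g • b = a)}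
      mul_mem' := by
        rintro g h (⟨h1, h2⟩ | ⟨h1, h2⟩) (⟨h3, h4⟩ | ⟨h3, h4⟩)
        · left; simp [mul_smul, h1, h2, h3, h4]
        · right; simp [mul_smul, h1, h2, h3, h4]
        · right; simp [mul_smul, h1, h2, h3, h4]
        · left; simp [mul_smul, h1, h2, h3, h4]
      one_mem' := by left; simp
      inv_mem' := by
        rintro g (⟨h1, h2⟩ | ⟨h1, h2⟩)
        · left; exact ⟨by rw [inv_smul_eq_iff, h1], by rw [inv_smul_eq_iff, h2]⟩
        · right; exact ⟨by rw [inv_smul_eq_iff, h2], by rw [inv_smul_eq_iff, h1]⟩ }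
  have hL : ∀ g : G, g ∈ L ↔ (g • a = a ∧ g • b = b) ∨ (g • a = b ∧ g • b = a) :=
    fun g => Iff.rfl
  let K : Subgroup L := N.subgroupOf L
  have : K.Normal := hNn.subgroupOf L
  let P : Sylow 2 K := default
  -- the pointwise stabiliser of `a, b` in `K` has index 2
  let H : Subgroup K :=
    { carrier := {g | ((g : L) : G) • a = a}
      mul_mem' := by
        intro g h hg hh
        simp only [Set.mem_ofPred_eq] at hg hh ⊢
        rw [Subgroup.coe_mul, Subgroup.coe_mul, mul_smul, hh, hg]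
      one_mem' := by simp
      inv_mem' := by
        intro g hg
        simp only [Set.mem_ofPred_eq] at hg ⊢
        rw [Subgroup.coe_inv, Subgroup.coe_inv, inv_smul_eq_iff, hg] }
  have hH : ∀ g : K, g ∈ H ↔ ((g : L) : G) • a = a := fun g => Iff.rfl
  have hHb : ∀ g : K, g ∈ H → ((g : L) : G) • b = b := by
    intro g hg
    rw [hH] at hg
    rcases (hL _).mp (g : L).2 with h | h
    · exact h.2
    · exact absurd (hg.symm.trans h.1) hab
  have hHn : ∀ g : K, g ∉ H → ((g : L) : G) • a = b ∧ ((g : L) : G) • b = a := by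
    intro g hg
    rw [hH] at hg
    rcases (hL _).mp (g : L).2 with h | h
    · exact absurd h.1 hg
    · exact h
  have hindex : H.index = 2 := by
    obtain ⟨σ, hσN, hσ1, hσ2⟩ := h2 a b b a hab hab.symm
    rw [Subgroup.index_eq_two_iff]
    refine ⟨⟨⟨σ, Or.inr ⟨hσ1, hσ2⟩⟩, hσN⟩, fun g => ?_⟩
    by_cases hg : g ∈ H
    · refine Or.inr ⟨hg, ?_⟩
      intro hgσ
      rw [hH] at hgσ
      have h1 : ((g : L) : G) • σ • a = a := by rw [← mul_smul]; exact hgσ
      rw [hσ1, hHb g hg] at h1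
      exact hab h1.symm
    · refine Or.inl ⟨?_, hg⟩
      rw [hH]
      have h1 : ((g : L) : G) • σ • a = a := by rw [hσ1]; exact (hHn g hg).2
      rw [← mul_smul] at h1
      exact h1
  -- the order of `P` does not divide that of `H`
  have hPH : ¬ (Nat.card P ∣ Nat.card H) := by
    rintro ⟨m, hm⟩
    have h1 := H.card_mul_index
    have h3 := P.card_mul_index
    rw [hindex] at h1
    have h4 : Nat.card P * (P : Subgroup K).index = Nat.card P * (2 * m) := by
      rw [h3, ← h1, hm]; ring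
    have h5 : (P : Subgroup K).index = 2 * m := Nat.eq_of_mul_eq_mul_left Nat.card_pos h4
    exact P.not_dvd_index (h5 ▸ dvd_mul_right 2 m)
  obtain ⟨p₀, hp₀P, hp₀H⟩ : ∃ p₀ : K, p₀ ∈ P ∧ p₀ ∉ H := by
    by_contra hcon
    push Not at hcon
    exact hPH (Subgroup.card_dvd_of_le (show (P : Subgroup K) ≤ H from hcon))
  obtain ⟨hp1, hp2⟩ := hHn p₀ hp₀H
  -- `P` fixes a point
  obtain ⟨e, he⟩ : ∃ e : α, ∀ p : K, p ∈ P → ((p : L) : G) • e = e := by
    have h1 := P.isPGroup'.card_modEq_card_fixedPoints α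
    have hne : Nat.card (fixedPoints P α) ≠ 0 := by
      intro h0
      rw [h0, Nat.modEq_zero_iff_dvd, Nat.card_eq_fintype_card] at h1
      exact (Nat.not_even_iff_odd.mpr hodd) (even_iff_two_dvd.mpr h1)
    obtain ⟨⟨e, he⟩⟩ := (Nat.card_ne_zero.mp hne).1
    exact ⟨e, fun p hp => he ⟨p, hp⟩⟩
  have hea : e ≠ a := by
    rintro rfl
    exact hab ((he p₀ hp₀P).symm.trans hp1)
  have heb : e ≠ b := by
    rintro rfl
    exact hab (hp2.symm.trans (he p₀ hp₀P))
  -- `P` has at most one fixed point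
  have huniq : ∀ e' : α, (∀ p : K, p ∈ P → ((p : L) : G) • e' = e') → e' = e := by
    intro e' he'
    by_contra hne
    obtain ⟨n, hnN, hn1, hn2⟩ := h2 e' e a b hne hab
    apply hPH
    have hn1' : n⁻¹ • a = e' := by rw [inv_smul_eq_iff, hn1]
    have hn2' : n⁻¹ • b = e := by rw [inv_smul_eq_iff, hn2]
    have hfa : ∀ p : K, p ∈ P → (n * ((p : L) : G) * n⁻¹) • a = a := by
      intro p hp
      rw [mul_smul, mul_smul, hn1', he' p hp, hn1]
    have hfb : ∀ p : K, p ∈ P → (n * ((p : L) : G) * n⁻¹) • b = b := by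
      intro p hp
      rw [mul_smul, mul_smul, hn2', he p hp, hn2]
    let φ : (P : Subgroup K) →* H :=
      { toFun := fun p => ⟨⟨⟨n * (((p : K) : L) : G) * n⁻¹, Or.inl ⟨hfa _ p.2, hfb _ p.2⟩⟩,
          hNn.conj_mem _ (p : K).2 n⟩, hfa _ p.2⟩
        map_one' := by
          apply Subtype.ext; apply Subtype.ext; apply Subtype.ext
          simp
        map_mul' := by
          intro p q
          apply Subtype.ext; apply Subtype.ext; apply Subtype.ext
          simp [mul_assoc] }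
    apply Subgroup.card_dvd_of_injective φ
    intro p q hpq
    have h1 : n * (((p : K) : L) : G) * n⁻¹ = n * (((q : K) : L) : G) * n⁻¹ :=
      congrArg (fun t : H => (((t : K) : L) : G)) hpq
    have h3 := mul_left_cancel (mul_right_cancel h1)
    exact Subtype.ext (Subtype.ext (Subtype.ext h3))
  refine ⟨e, hea, heb, ?_⟩
  intro d hda hdb
  obtain ⟨g, hg1, hg2, hg3⟩ := h3 a b e a b d hab hea.symm heb.symm hab hda.symm hdb.symm
  -- Frattini argument
  have hfrat := Sylow.normalizer_sup_eq_top P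
  let g' : L := ⟨g, Or.inl ⟨hg1, hg2⟩⟩
  have hg' : g'⁻¹ ∈ (⊤ : Subgroup L) := Subgroup.mem_top _
  rw [← hfrat, Subgroup.mem_sup_of_normal_right] at hg'
  obtain ⟨m, hm, k, hk, hmk⟩ := hg'
  have hme : ((m : L) : G)⁻¹ • e = e := by
    apply huniq
    intro p hp
    have h1 := (Subgroup.mem_normalizer_iff.mp hm (p : L)).mp (Subgroup.mem_map_of_mem _ hp)
    obtain ⟨q, hq, hq1⟩ := h1
    have hq2 : ((q : L) : G) = (m : G) * ((p : L) : G) * (m : G)⁻¹ := by
      have := congrArg (fun t : L => (t : G)) hq1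
      simpa using this
    have h3 : ((p : L) : G) * (m : G)⁻¹ = (m : G)⁻¹ * ((q : L) : G) := by
      rw [hq2]; group
    rw [← mul_smul, h3, mul_smul, he q hq]
  have hke : ((k : L) : G)⁻¹ • e = d := by
    have h1 : g' = k⁻¹ * m⁻¹ := by
      rw [← mul_inv_rev, hmk, inv_inv]
    have h3 : g = (k : G)⁻¹ * (m : G)⁻¹ := congrArg (fun t : L => (t : G)) h1
    rw [← hg3, h3, mul_smul, hme]
  have hkN : ((k : L) : G)⁻¹ ∈ N := N.inv_mem hk
  rcases (hL _).mp (L.inv_mem k.2) with ⟨h1, h3⟩ | ⟨h1, h3⟩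
  · exact ⟨_, hkN, h1, h3, hke⟩
  · refine ⟨((k : L) : G)⁻¹ * ((p₀ : L) : G), N.mul_mem hkN p₀.2, ?_, ?_, ?_⟩
    · rw [mul_smul, hp1, h3]
    · rw [mul_smul, hp2, h1]
    · rw [mul_smul, he p₀ hp₀P, hke]

/-- The elementary form of Wagner's theorem. -/
theorem three_trans {G α : Type*} [Group G] [Finite G] [MulAction G α] [FaithfulSMul G α]
    [Fintype α] [DecidableEq α]
    (hodd : Odd (Fintype.card α)) (h5 : 5 ≤ Fintype.card α)
    (h3 : ∀ a b c a' b' c' : α, a ≠ b → a ≠ c → b ≠ c → a' ≠ b' → a' ≠ c' → b' ≠ c' →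
      ∃ g : G, g • a = a' ∧ g • b = b' ∧ g • c = c')
    (N : Subgroup G) [hNn : N.Normal] (hN : N ≠ ⊥) (a b c a' b' c' : α) (hab : a ≠ b)
    (hac : a ≠ c) (hbc : b ≠ c) (hab' : a' ≠ b') (hac' : a' ≠ c') (hbc' : b' ≠ c') :
    ∃ g ∈ N, g • a = a' ∧ g • b = b' ∧ g • c = c' := by
  obtain ⟨u, hu, hu1, hu2⟩ := two_trans hodd h5 h3 N hN a b a' b' hab hab'
  obtain ⟨e, he1, he2, he⟩ := fix_two_trans hodd h5 h3 N hN a' b' hab'
  have h1 : u • c ≠ a' := by
    rw [← hu1]
    exact fun h => hac (smul_left_cancel u h).symm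
  have h2 : u • c ≠ b' := by
    rw [← hu2]
    exact fun h => hbc (smul_left_cancel u h).symm
  obtain ⟨v, hv, hv1, hv2, hv3⟩ := he (u • c) h1 h2
  obtain ⟨w, hw, hw1, hw2, hw3⟩ := he c' hac'.symm hbc'.symm
  have hv1' : v⁻¹ • a' = a' := by rw [inv_smul_eq_iff, hv1]
  have hv2' : v⁻¹ • b' = b' := by rw [inv_smul_eq_iff, hv2]
  have hv3' : v⁻¹ • u • c = e := by rw [inv_smul_eq_iff, hv3]
  refine ⟨w * v⁻¹ * u, N.mul_mem (N.mul_mem hw (N.inv_mem hv)) hu, ?_, ?_, ?_⟩
  · rw [mul_smul, mul_smul, hu1, hv1', hw1]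
  · rw [mul_smul, mul_smul, hu2, hv2', hw2]
  · rw [mul_smul, mul_smul, hv3', hw3]

/-- Three distinct points as an embedding. -/
theorem exists_embedding {α : Type*} (a b c : α) (hab : a ≠ b) (hac : a ≠ c) (hbc : b ≠ c) :
    ∃ x : Fin 3 ↪ α, x 0 = a ∧ x 1 = b ∧ x 2 = c := by
  refine ⟨⟨![a, b, c], ?_⟩, rfl, rfl, rfl⟩
  intro i j h
  fin_cases i <;> fin_cases j <;> simp_all

/-- Wagner's Theorem: a non-trivial normal subgroup of a triply transitive permutation group of odd degree at least 5 is triply transitive. -/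
theorem result {α : Type*} [Fintype α] [DecidableEq α] (G : Subgroup (Equiv.Perm α)) (hodd : Odd (Fintype.card α)) (h5 : 5 ≤ Fintype.card α) (hG : MulAction.IsMultiplyPretransitive G α 3) (N : Subgroup G) [N.Normal] (hN : N ≠ ⊥) : MulAction.IsMultiplyPretransitive N α 3 := by
  have h3 : ∀ a b c a' b' c' : α, a ≠ b → a ≠ c → b ≠ c → a' ≠ b' → a' ≠ c' → b' ≠ c' →
      ∃ g : G, g • a = a' ∧ g • b = b' ∧ g • c = c' := by
    intro a b c a' b' c' hab hac hbc hab' hac' hbc'
    obtain ⟨x, hx0, hx1, hx2⟩ := exists_embedding a b c hab hac hbc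
    obtain ⟨y, hy0, hy1, hy2⟩ := exists_embedding a' b' c' hab' hac' hbc'
    obtain ⟨g, hg⟩ := (isMultiplyPretransitive_iff.mp hG) x y
    have hg' : ∀ i, g • x i = y i := fun i => by rw [← hg]; rfl
    exact ⟨g, by rw [← hx0, ← hy0, hg'], by rw [← hx1, ← hy1, hg'], by rw [← hx2, ← hy2, hg']⟩
  rw [isMultiplyPretransitive_iff]
  intro x y
  have hx : ∀ i j, i ≠ j → x i ≠ x j := fun i j hij h => hij (x.injective h)
  have hy : ∀ i j, i ≠ j → y i ≠ y j := fun i j hij h => hij (y.injective h)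
  obtain ⟨g, hgN, hg0, hg1, hg2⟩ := three_trans hodd h5 h3 N hN (x 0) (x 1) (x 2) (y 0) (y 1)
    (y 2) (hx _ _ (by decide)) (hx _ _ (by decide)) (hx _ _ (by decide)) (hy _ _ (by decide))
    (hy _ _ (by decide)) (hy _ _ (by decide))
  refine ⟨⟨g, hgN⟩, ?_⟩
  ext i
  fin_cases i
  · exact hg0
  · exact hg1
  · exact hg2

end Cfsg.Agent.S0699
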