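import Cfsg.Statements.S0718
import Cfsg.Agent.PermutationGroups.PermChar

set_option autoImplicit false
open Cfsg

namespace Cfsg.Agent.S0718

open Representation Module Cfsg.Agent.PermutationGroups.PermChar

/-- an invariant of `linHom` is the same as an intertwining map -/
theorem exists_intertwining {G : Type*} [Group G] {Ω : Type*} [Fintype Ω] [MulAction G Ω]
    (S : (Ω → ℂ) →ₗ[ℂ] (Ω → ℂ))
    (hS : S ∈ ((Cfsg.permRep ℂ G Ω).linHom (Cfsg.permRep ℂ G Ω)).invariants) :
    ∃ S' : (Cfsg.permRep ℂ G Ω).IntertwiningMap (Cfsg.permRep ℂ G Ω), S'.toLinearMap = S := by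
  refine ⟨Representation.invariantsEquivIntertwiningMap _ _ ⟨S, hS⟩, rfl⟩

theorem mem_invariants {G : Type*} [Group G] {Ω : Type*} [Fintype Ω] [MulAction G Ω]
    (S' : (Cfsg.permRep ℂ G Ω).IntertwiningMap (Cfsg.permRep ℂ G Ω)) :
    S'.toLinearMap ∈ ((Cfsg.permRep ℂ G Ω).linHom (Cfsg.permRep ℂ G Ω)).invariants :=
  ((Representation.invariantsEquivIntertwiningMap _ _).symm S').2

/-- Multiplicity-freeness of the permutation character is equivalent to commutativity of the centraliser ring, i.e. of the algebra of `G`-equivariant endomorphisms of the complex permutation module. -/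
theorem result {G : Type*} [Group G] [Fintype G] {Ω : Type*} [Fintype Ω] [MulAction G Ω] : (∀ χ : G → ℂ, Cfsg.IsIrrCharacter G χ → Cfsg.classInner (fun g : G => (Nat.card (MulAction.fixedBy Ω g) : ℂ)) χ = 0 ∨ Cfsg.classInner (fun g : G => (Nat.card (MulAction.fixedBy Ω g) : ℂ)) χ = 1) ↔ ∀ S T : (Ω → ℂ) →ₗ[ℂ] (Ω → ℂ), S ∈ ((Cfsg.permRep ℂ G Ω).linHom (Cfsg.permRep ℂ G Ω)).invariants → T ∈ ((Cfsg.permRep ℂ G Ω).linHom (Cfsg.permRep ℂ G Ω)).invariants → S ∘ₗ T = T ∘ₗ S := by
  constructor
  · intro h S T hS hT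
    obtain ⟨S', rfl⟩ := exists_intertwining S hS
    obtain ⟨T', rfl⟩ := exists_intertwining T hT
    have key := comm_of_mult_free (G := G) (σ := Cfsg.permRep ℂ G Ω) (by
      intro A hA
      have h1 := h _ (isIrr_of_rep A.toRepresentation hA)
      rw [classInner_permChar] at h1
      rcases h1 with h1 | h1
      · have : finrank ℂ (A.toRepresentation.IntertwiningMap (Cfsg.permRep ℂ G Ω)) = 0 := by
          exact_mod_cast h1
        omega
      · have : finrank ℂ (A.toRepresentation.IntertwiningMap (Cfsg.permRep ℂ G Ω)) = 1 := by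
          exact_mod_cast h1
        omega)
    refine LinearMap.ext (fun w => ?_)
    exact key S' T' w
  · rintro h χ ⟨n, ρ, hρ, rfl⟩
    have hcomm : ∀ S T : (Cfsg.permRep ℂ G Ω).IntertwiningMap (Cfsg.permRep ℂ G Ω),
        ∀ w, S (T w) = T (S w) := by
      intro S T w
      have := h S.toLinearMap T.toLinearMap (mem_invariants S) (mem_invariants T)
      exact congrArg (fun f => f w) this
    rw [classInner_permChar]
    by_cases h0 : ∃ φ : ρ.IntertwiningMap (Cfsg.permRep ℂ G Ω), φ ≠ 0
    · obtain ⟨φ, hφ⟩ := h0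
      right
      have : finrank ℂ (ρ.IntertwiningMap (Cfsg.permRep ℂ G Ω)) = 1 :=
        (finrank_eq_one_iff_of_nonzero' φ hφ).mpr
          (fun ψ => finrank_le_one_of_comm hρ hcomm φ ψ hφ)
      rw [this, Nat.cast_one]
    · left
      push Not at h0
      have : Subsingleton (ρ.IntertwiningMap (Cfsg.permRep ℂ G Ω)) :=
        ⟨fun a b => by rw [h0 a, h0 b]⟩
      rw [finrank_zero_of_subsingleton, Nat.cast_zero]

end Cfsg.Agent.S0718
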