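import Cfsg.Statements.S0719
import Cfsg.Agent.PermutationGroups.PermChar
import Cfsg.Agent.PermutationGroups.WielandtType.Main

set_option autoImplicit false
open Cfsg

namespace Cfsg.Agent.S0719

open MulAction Module
open Cfsg.Agent.PermutationGroups.WielandtType.Orbital
open Cfsg.Agent.PermutationGroups.WielandtType.Matrix
open Cfsg.Agent.PermutationGroups.WielandtType
open Cfsg.Agent.PermutationGroups

/-- The main step, with the smaller suborbit first. -/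
theorem main {G : Type*} [Group G] [Fintype G] {Ω : Type*} [Fintype Ω] [MulAction G Ω]
    [IsPreprimitive G Ω] {m : ℕ} (hm : Fintype.card Ω = 2 * m) {a₀ b₁ b₂ : Ω}
    (h : Rank3 G a₀ b₁ b₂) (hlt : val G a₀ b₁ < val G a₀ b₂) (χ₁ χ₂ : G → ℂ)
    (h₁ : Cfsg.IsIrrCharacter G χ₁) (h₂ : Cfsg.IsIrrCharacter G χ₂)
    (hπ : (fun g : G => (Nat.card (MulAction.fixedBy Ω g) : ℂ)) = fun g => 1 + χ₁ g + χ₂ g)
    (hd₁ : χ₁ 1 = (m : ℂ) - 1) (hd₂ : χ₂ 1 = m) :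
    ∃ a : ℕ, 0 < a ∧ m = 2 * a ^ 2 + 2 * a + 1 ∧ val G a₀ b₁ = a * (2 * a + 1) ∧
      val G a₀ b₂ = (a + 1) * (2 * a + 1) := by
  classical
  have hk : val G a₀ b₁ ≠ val G a₀ b₂ := hlt.ne
  have hcard : 1 + val G a₀ b₁ + val G a₀ b₂ = 2 * m := by
    rw [← hm, ← Nat.card_eq_fintype_card]
    exact h.card_eq
  have hkpos : 1 ≤ val G a₀ b₁ := by
    have : Nonempty (orbit (stabilizer G a₀) b₁) := ⟨⟨b₁, mem_orbit_self b₁⟩⟩
    exact Nat.card_pos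
  have hkm : val G a₀ b₁ + 1 ≤ m := by omega
  have hn : (Fintype.card Ω : ℂ) ≠ 0 := by
    rw [hm]; push_cast
    have : (m : ℂ) ≠ 0 := by
      rw [Nat.cast_ne_zero]; omega
    simpa using this
  set k : ℕ := val G a₀ b₁ with hkdef
  set β : ℕ := paths G a₀ b₁ a₀ b₁ with hβ
  set γ : ℕ := paths G a₀ b₁ a₀ b₂ with hγdef
  have hsq := adj_sq h hk
  rw [← hkdef, ← hβ, ← hγdef] at hsq
  have hAJ := adj_mul_ones h
  have hJA := ones_mul_adj h hk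
  rw [← hkdef] at hAJ hJA
  have hγk : γ ≤ k := paths_le h a₀ b₂
  have hβk : β < k := paths_lt h ⟨1, one_smul _ _, one_smul _ _⟩
  -- the discriminant
  obtain ⟨δ, hδ⟩ := IsAlgClosed.exists_eq_mul_self
    ((((β : ℤ) - γ) ^ 2 + 4 * ((k : ℤ) - γ) : ℤ) : ℂ)
  have hδ0 : δ ≠ 0 := by
    rintro rfl
    rw [mul_zero, Int.cast_eq_zero] at hδ
    have a1 : (0 : ℤ) ≤ ((β : ℤ) - γ) ^ 2 := sq_nonneg _
    have a2 : (γ : ℤ) ≤ k := by exact_mod_cast hγk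
    have a3 : (k : ℤ) - γ = 0 := by nlinarith
    have a4 : ((β : ℤ) - γ) ^ 2 = 0 := by nlinarith
    have a5 : (β : ℤ) - γ = 0 := by
      exact pow_eq_zero_iff (n := 2) (by norm_num) |>.1 a4
    have a6 : (β : ℤ) < k := by exact_mod_cast hβk
    omega
  push_cast at hδ
  obtain ⟨θ, hθ⟩ : ∃ θ : ℂ, θ = (((β : ℂ) - γ) + δ) / 2 := ⟨_, rfl⟩
  obtain ⟨θ', hθ'⟩ : ∃ θ' : ℂ, θ' = (((β : ℂ) - γ) - δ) / 2 := ⟨_, rfl⟩
  have hs : θ + θ' = (β : ℂ) - γ := by rw [hθ, hθ']; ring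
  have hp : θ * θ' = (γ : ℂ) - k := by
    rw [hθ, hθ']
    linear_combination (1 / 4 : ℂ) * hδ
  have hne : θ ≠ θ' := by
    intro h'
    apply hδ0
    have : θ - θ' = δ := by rw [hθ, hθ']; ring
    rw [← this, h', sub_self]
  have hAA : adj G a₀ b₁ * adj G a₀ b₁ =
      (θ + θ') • adj G a₀ b₁ - (θ * θ') • (1 : Matrix Ω Ω ℂ) + (γ : ℂ) • ones Ω := by
    rw [hsq, hs, hp, sub_eq_add_neg _ (((γ : ℂ) - k) • (1 : Matrix Ω Ω ℂ)), ← neg_smul, neg_sub]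
  have hγ : (γ : ℂ) * (Fintype.card Ω : ℂ) = ((k : ℂ) - θ) * (k - θ') := by
    have e : (adj G a₀ b₁ * adj G a₀ b₁) * ones Ω =
        ((θ + θ') • adj G a₀ b₁ - (θ * θ') • (1 : Matrix Ω Ω ℂ) + (γ : ℂ) • ones Ω) * ones Ω := by
      rw [hAA]
    rw [mul_assoc, hAJ, mul_smul_comm, hAJ, add_mul, sub_mul, smul_mul_assoc, smul_mul_assoc,
      smul_mul_assoc, hAJ, one_mul, ones_mul_ones] at e
    have e' := congrFun (congrFun e a₀) a₀
    simp only [Matrix.add_apply, Matrix.sub_apply, Matrix.smul_apply, ones_apply, smul_eq_mul,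
      mul_one] at e'
    linear_combination (-1 : ℂ) * e'
  have hγ' : (γ : ℂ) * (2 * m) = ((k : ℂ) - θ) * (k - θ') := by
    rw [← hγ, hm]; push_cast; ring
  have hγ'' : (γ : ℂ) * (2 * m) = ((k : ℂ) - θ') * (k - θ) := by
    rw [hγ']; ring
  -- the two representations
  obtain ⟨σ, hσ, hσpos, hσdim⟩ := Main.exists_rep h hn hne hAA hAJ hJA hγ
  obtain ⟨σ', hσ', hσpos', hσdim'⟩ := Main.exists_rep (θ := θ') (θ' := θ) h hn hne.symm
    (by rw [hAA, add_comm θ' θ, mul_comm θ' θ]) hAJ hJA (by rw [hγ]; ring)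
  obtain ⟨n₁, ρ₁, hρ₁, rfl⟩ := h₁
  obtain ⟨n₂, ρ₂, hρ₂, rfl⟩ := h₂
  rw [Representation.char_one] at hd₁ hd₂
  have hdim₂ : finrank ℂ (Fin n₂ → ℂ) = m := by exact_mod_cast hd₂
  have hdim₁ : finrank ℂ (Fin n₁ → ℂ) + 1 = m := by
    have : ((finrank ℂ (Fin n₁ → ℂ) + 1 : ℕ) : ℂ) = m := by
      push_cast
      rw [hd₁]; ring
    exact_mod_cast this
  have hsum : ∀ g, ρ₁.character g + ρ₂.character g = σ.character g + σ'.character g := by
    intro g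
    rw [hσ, hσ', ← map_add, ← LinearMap.add_comp, ← map_add, idem_add hn hne, map_sub,
      Matrix.toLin'_one, LinearMap.sub_comp, map_sub, LinearMap.id_comp, map_smul,
      LinearMap.smul_comp, map_smul, Main.trace_ones_comp]
    have e : (Nat.card (MulAction.fixedBy Ω g) : ℂ) = 1 + ρ₁.character g + ρ₂.character g :=
      congrFun hπ g
    have e' : LinearMap.trace ℂ (Ω → ℂ) (Cfsg.permRep ℂ G Ω g) =
        (Nat.card (MulAction.fixedBy Ω g) : ℂ) := PermChar.permRep_character g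
    rw [e', e, smul_eq_mul, inv_mul_cancel₀ hn]
    ring
  have hcases := Rep.dims_eq ρ₁ ρ₂ σ σ' hρ₁ hρ₂ (by omega) hsum hσpos hσpos'
  have hk1 : k ≠ 1 := fun h' => Main.block_of_val_one h hk h'
  have hn' : (Fintype.card Ω : ℂ) = 2 * m := by rw [hm]; push_cast; ring
  have hcast₁ : (finrank ℂ (Fin n₁ → ℂ) : ℂ) = m - 1 := hd₁
  have hcast₂ : (finrank ℂ (Fin n₂ → ℂ) : ℂ) = m := hd₂
  rw [hn'] at hσdim hσdim'
  have hsub : θ - θ' ≠ 0 := sub_ne_zero.2 hne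
  have fin : ∃ a : ℕ, 0 < a ∧ m = 2 * a ^ 2 + 2 * a + 1 ∧ k = a * (2 * a + 1) ∧
      2 * m = 1 + k + (a + 1) * (2 * a + 1) := by
    rcases hcases with ⟨c₁, c₂⟩ | ⟨c₁, c₂⟩
    · rw [c₁, hcast₁] at hσdim
      rw [c₂, hcast₂] at hσdim'
      refine Main.wrap (θ := θ) (θ' := θ') hkpos hkm hs hp hγ' ?_ hk1
      -- (m - 1) θ + m θ' = -k
      linear_combination hσdim
    · rw [c₁, hcast₂] at hσdim
      rw [c₂, hcast₁] at hσdim'
      refine Main.wrap (θ := θ') (θ' := θ) hkpos hkm (by rw [add_comm, hs]) (by rw [mul_comm, hp])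
        hγ'' ?_ hk1
      linear_combination hσdim'
  obtain ⟨a, ha, e1, e2, e3⟩ := fin
  exact ⟨a, ha, e1, e2, by omega⟩

/-- Groups of Wielandt type: if a primitive group of degree `2m` has rank 3 and permutation character `1 + χ₁ + χ₂` with irreducible `χ₁, χ₂` of degrees `m - 1` and `m`, then `m = 2a² + 2a + 1` for some positive integer `a` and the two non-trivial subdegrees are `a(2a+1)` and `(a+1)(2a+1)`. -/
theorem result {G : Type*} [Group G] [Fintype G] {Ω : Type*} [Fintype Ω] [MulAction G Ω] (hprim : MulAction.IsPreprimitive G Ω) {m : ℕ} (hm : Fintype.card Ω = 2 * m) (a₀ : Ω) (hrank : Nat.card (MulAction.orbitRel.Quotient (MulAction.stabilizer G a₀) Ω) = 3) (χ₁ χ₂ : G → ℂ) (h₁ : Cfsg.IsIrrCharacter G χ₁) (h₂ : Cfsg.IsIrrCharacter G χ₂) (hπ : (fun g : G => (Nat.card (MulAction.fixedBy Ω g) : ℂ)) = fun g => 1 + χ₁ g + χ₂ g) (hd₁ : χ₁ 1 = (m : ℂ) - 1) (hd₂ : χ₂ 1 = m) : ∃ a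 : ℕ, 0 < a ∧ m = 2 * a ^ 2 + 2 * a + 1 ∧ ∀ b : Ω, b ≠ a₀ → Nat.card (MulAction.orbit (MulAction.stabilizer G a₀) b) = a * (2 * a + 1) ∨ Nat.card (MulAction.orbit (MulAction.stabilizer G a₀) b) = (a + 1) * (2 * a + 1) := by
  classical
  obtain ⟨b₁, b₂, hb₁, hb₂, hdisj, hall⟩ := exists_three a₀ hrank
  have h : Rank3 G a₀ b₁ b₂ :=
    { trans := fun x => exists_smul_eq G a₀ x
      ne₁ := hb₁
      ne₂ := hb₂
      disj := hdisj
      all := hall }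
  have hcard : 1 + val G a₀ b₁ + val G a₀ b₂ = 2 * m := by
    rw [← hm, ← Nat.card_eq_fintype_card]
    exact h.card_eq
  rcases lt_trichotomy (val G a₀ b₁) (val G a₀ b₂) with hlt | heq | hlt
  · obtain ⟨a, ha, e1, e2, e3⟩ := main hm h hlt χ₁ χ₂ h₁ h₂ hπ hd₁ hd₂
    refine ⟨a, ha, e1, fun b hb => ?_⟩
    rcases hall b with h' | h' | h'
    · exact absurd h' hb
    · left; rw [orbit_eq_iff.2 h']; exact e2
    · right; rw [orbit_eq_iff.2 h']; exact e3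
  · omega
  · obtain ⟨a, ha, e1, e2, e3⟩ := main hm h.swap hlt χ₁ χ₂ h₁ h₂ hπ hd₁ hd₂
    refine ⟨a, ha, e1, fun b hb => ?_⟩
    rcases hall b with h' | h' | h'
    · exact absurd h' hb
    · right; rw [orbit_eq_iff.2 h']; exact e3
    · left; rw [orbit_eq_iff.2 h']; exact e2

end Cfsg.Agent.S0719
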