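import Cfsg.Statements.S0720
-- import your own Cfsg.Agent.* helpers here
import Mathlib
import Cfsg.Agent.PermutationGroups.WielandtTwoPReduction
import Cfsg.Agent.PermutationGroups.WielandtTwoPFinal
import Cfsg.Agent.PermutationGroups.Wielandt2p

set_option autoImplicit false
open Cfsg

namespace Cfsg.Agent.S0720

/-- Wielandt's Theorem on primitive groups of degree `2p`: such a group is doubly transitive, or it has rank 3, `p = 2a² + 2a + 1`, and subdegrees `a(2a+1)` and `(a+1)(2a+1)`. -/
theorem result {α : Type*} [Fintype α] [DecidableEq α] {p : ℕ} (hp : p.Prime) (hα : Fintype.card α = 2 * p) (G : Subgroup (Equiv.Perm α)) (hG : MulAction.IsPreprimitive G α) (a₀ : α) : MulAction.IsMultiplyPretransitive G α 2 ∨ (Nat.card (MulAction.orbitRel.Quotient (MulAction.stabilizer G a₀) α) = 3 ∧ ∃ a : ℕ, 0 < a ∧ p = 2 * a ^ 2 + 2 * a + 1 ∧ ∀ b : α, b ≠ a₀ → Nat.card (MulAction.orbit (MulAction.stabilizer G a₀) b) = a * (2 * a + 1) ∨ Nat.card (MulAction.orbit (MulAction.stabilizer G a₀) b) = (a + 1) * (2 * a + 1)) := by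
  classical
  have hpf : Fact p.Prime := ⟨hp⟩
  rcases PermutationGroups.WielandtTwoPReduction.two_transitive_or_exists_labelling hp hα hG with
    h | ⟨g, hg, e, he⟩
  · exact Or.inl h
  let S : PermutationGroups.Wielandt2p.Coord p G α :=
    { e := e
      g₀ := ⟨g, hg⟩
      hg := by
        intro b x
        change g (e.symm (b, x)) = e.symm (b, x + 1)
        apply e.injective
        rw [he, e.apply_symm_apply, e.apply_symm_apply] }
  rcases PermutationGroups.Wielandt2p.main hG S with h2 | ⟨m, hm, hpm, r, hr, h1, h2⟩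
  · left
    rw [MulAction.is_two_pretransitive_iff]
    intro a b c d hab hcd
    exact h2 a b c d hab hcd
  · right
    have h3 := PermutationGroups.WielandtTwoPFinal.rank_three_of_relation (G := G)
      (k := m * (2 * m + 1)) (l := (m + 1) * (2 * m + 1)) (by positivity) (by positivity)
      r ?_ h1 h2 a₀
    · exact ⟨h3.1, m, hm, hpm, h3.2⟩
    · intro a b c d hab hcd
      rw [hr a b c d hab hcd]
      constructor
      · rintro ⟨g', h4, h5⟩
        exact ⟨g', g'.2, h4, h5⟩
      · rintro ⟨g', hg', h4, h5⟩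
        exact ⟨⟨g', hg'⟩, h4, h5⟩

end Cfsg.Agent.S0720
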