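import Cfsg.Statements.S0725
import Mathlib
import Cfsg.Agent.PermutationGroups.OrderBound.Structure
import Cfsg.Agent.PermutationGroups.OrderBound.PrimeTrans
import Cfsg.Agent.PermutationGroups.OrderBound.CycleWeights
import Cfsg.Agent.PermutationGroups.OrderBound.Bochert
import Cfsg.Agent.PermutationGroups.OrderBound.NumSmall
import Cfsg.Agent.PermutationGroups.OrderBound.NumMid
import Cfsg.Agent.PermutationGroups.OrderBound.NumLarge

set_option autoImplicit false
open Cfsg

namespace Cfsg.Agent.S0725

open Cfsg.Agent.PermutationGroups.OrderBound Defs MulAction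

/-- The numerical statement holds for every degree `n ≥ 22`. -/
theorem good_all (n j : ℕ) (hn : 22 ≤ n) (hj : 1 ≤ j) (hjn : j ≤ n)
    (hK : Kcond n j) (hW : Wcond n j) : Good n j := by
  rcases Nat.lt_or_ge n 1024 with h1 | h1
  · exact NumSmall.good_small n j hn h1 hj hjn hK
  rcases Nat.lt_or_ge n (2 ^ 23) with h2 | h2
  · exact NumMid.good_mid n j h1 h2 hj hjn hK
  · exact NumLarge.good_large n j h2 hj hjn hW

/-- The Praeger–Saxl bound: a primitive permutation group of degree `n` not containing the alternating group has order at most `4 ^ n`. -/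
theorem result {α : Type*} [Fintype α] [DecidableEq α] (G : Subgroup (Equiv.Perm α)) (hG : MulAction.IsPreprimitive G α) (hA : ¬ alternatingGroup α ≤ G) : Nat.card G ≤ 4 ^ Fintype.card α := by
  classical
  rcases Nat.lt_or_ge (Fintype.card α) 22 with hsmall | hn
  · exact Bochert.small G hG hA (by omega)
  have hpre : IsPretransitive G α := hG.toIsPretransitive
  -- the exact degree of transitivity
  have hex : ∃ k, ¬ IsMultiplyPretransitive G α (k + 1) := by
    refine ⟨Fintype.card α - 2 - 1, fun h => hA ?_⟩
    have h1 : Fintype.card α - 2 - 1 + 1 = Nat.card α - 2 := by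
      rw [Nat.card_eq_fintype_card]; omega
    rw [h1] at h
    exact _root_.IsMultiplyPretransitive.alternatingGroup_le α G h
  set j := Nat.find hex with hjdef
  have hj' : ¬ IsMultiplyPretransitive G α (j + 1) := Nat.find_spec hex
  have hj1 : 1 ≤ j := by
    by_contra h0
    have h0' : j = 0 := by omega
    rw [h0'] at hj'
    apply hj'
    rw [zero_add, is_one_pretransitive_iff]
    exact hpre
  have hj : IsMultiplyPretransitive G α j := by
    have := Nat.find_min hex (m := j - 1) (by omega)
    rw [not_not] at this
    have h1 : j - 1 + 1 = j := by omega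
    rwa [h1] at this
  have hjn := Structure.le_card_of_not hj'
  have hmono : ∀ k, k ≤ j → IsMultiplyPretransitive G α k := by
    intro k hk
    exact isMultiplyPretransitive_of_le hk (by rw [Nat.card_eq_fintype_card]; omega)
  have hK : Kcond (Fintype.card α) j := by
    intro p q hp hp5 hq h3 hlt
    by_contra hcon
    exact hA (PrimeTrans.prime_trans G hG p q hp hp5 hq h3 hlt (hmono _ (by omega)))
  have hW : Wcond (Fintype.card α) j := by
    intro m hm hmj
    exact CycleWeights.cycle_weights G hA m hm (by omega) (hmono _ hmj)
  have hgood := good_all (Fintype.card α) j hn hj1 (by omega) hK hW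
  have hfin : (Nat.card G : ℝ) ≤ 4 ^ Fintype.card α := by
    rcases Structure.structure_bound (G := G) (X := α) hG j hj1 hj hj' with h | ⟨h2, b, hb, hb2, hb3, hall⟩
    · exact h.trans hgood.1
    · obtain ⟨c, hc, hle⟩ := hgood.2 h2 b hb hb2 hb3
      exact (hall c hc).trans hle
  exact_mod_cast hfin

end Cfsg.Agent.S0725
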