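import Cfsg.Statements.S0732
import Cfsg.Agent.PermutationGroups.PrimePlusOne.Setup
import Cfsg.Agent.PermutationGroups.PrimePlusOne.Main

set_option autoImplicit false
open Cfsg

namespace Cfsg.Agent.S0732

/-- A transitive permutation group on `p + 1` points (`p` prime) of order `(p+1) p d` with `d < p` is isomorphic to `PGL(2,p)` with `d = p - 1`, or to `PSL(2,p)` with `2d = p - 1`, or else `p + 1 = 2^q` for a prime `q`, `d = 1` or `d = q`, and the group is permutation-isomorphic to a group of semi-affine maps `x ↦ a φ(x) + b` of the field with `2^q` elements. -/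
theorem result {α : Type*} [Fintype α] [DecidableEq α] {p d : ℕ} (hp : p.Prime) (hα : Fintype.card α = p + 1) (G : Subgroup (Equiv.Perm α)) [MulAction.IsPretransitive G α] (hG : Nat.card G = (p + 1) * p * d) (hd : d < p) : (d = p - 1 ∧ Nonempty (G ≃* Matrix.ProjGenLinGroup (Fin 2) (ZMod p))) ∨ (2 * d = p - 1 ∧ Nonempty (G ≃* Matrix.ProjectiveSpecialLinearGroup (Fin 2) (ZMod p))) ∨ (∃ q : ℕ, q.Prime ∧ p + 1 = 2 ^ q ∧ (d = 1 ∨ d = q) ∧ ∃ e : α ≃ GaloisField 2 q, ∀ g : G, (e.symm.trans (((g : Equiv.Perm α)).trans e)) ∈ Cfsg.semiaffineGroup (GaloisField 2 q)) := by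
  haveI : Fact p.Prime := ⟨hp⟩
  obtain ⟨e, w, S⟩ := Cfsg.Agent.PermutationGroups.PrimePlusOne.Setup.exists_setting hα G hG hd
  have iso : G ≃* (G.map e.permCongrHom.toMonoidHom) :=
    Subgroup.equivMapOfInjective G _ (e.permCongrHom : Equiv.Perm α ≃* _).injective
  have hG' : Nat.card (G.map e.permCongrHom.toMonoidHom) = (p + 1) * p * d := by
    rw [← hG]
    exact Nat.card_congr iso.symm.toEquiv
  rcases Cfsg.Agent.PermutationGroups.PrimePlusOne.Main.main S hG' with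
    ⟨h1, ⟨f⟩⟩ | ⟨h1, ⟨f⟩⟩ | ⟨q, hq, h1, h2, e', h3⟩
  · exact Or.inl ⟨h1, ⟨iso.trans f⟩⟩
  · exact Or.inr (Or.inl ⟨h1, ⟨iso.trans f⟩⟩)
  · refine Or.inr (Or.inr ⟨q, hq, h1, h2, e.trans e', fun g => ?_⟩)
    exact h3 ⟨e.permCongrHom.toMonoidHom g.1, Subgroup.mem_map_of_mem _ g.2⟩

end Cfsg.Agent.S0732
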