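-- S0736: k-homogeneous groups are (k-1)-homogeneous (helper423)
-- Proof: count pairs (s, K), s in a fixed orbit on (k-1)-sets, K a k-set, s ⊆ K ⊆ X with |X| = k + q - 1,
-- and use Lucas' theorem to see that (k + q - 1).choose k is prime to q.
import Cfsg.Statements.S0736
import Mathlib.Data.Nat.Choose.Lucas
import Mathlib.Combinatorics.Enumerative.DoubleCounting
import Mathlib.Tactic

set_option autoImplicit false
open Cfsg
open scoped Pointwise

namespace Cfsg.Agent.S0736

/-- Lucas: `(k + p^a - 1).choose (p^a - 1) ≡ 1 [MOD p]` when `p^a ∣ k`. -/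
theorem choose_modEq_one (p : ℕ) (hp : p.Prime) (a k : ℕ) (h : p ^ a ∣ k) :
    (k + p ^ a - 1).choose (p ^ a - 1) ≡ 1 [MOD p] := by
  induction a generalizing k with
  | zero => simp only [pow_zero, Nat.sub_self, Nat.choose_zero_right]; rfl
  | succ a ih =>
    obtain ⟨c, rfl⟩ := h
    have : Fact p.Prime := ⟨hp⟩
    have hp1 : 1 ≤ p := hp.one_le
    have hpa : 1 ≤ p ^ a := Nat.one_le_pow _ _ hp1
    have h1 : p ^ (a + 1) * c + p ^ (a + 1) - 1 = (p - 1) + p * (p ^ a * c + p ^ a - 1) := by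
      obtain ⟨u, hu⟩ : ∃ u, p ^ a = u + 1 := ⟨p ^ a - 1, by omega⟩
      obtain ⟨v, hv⟩ : ∃ v, p = v + 1 := ⟨p - 1, by omega⟩
      rw [pow_succ, hu]
      have e1 : (u + 1) * c + (u + 1) - 1 = (u + 1) * c + u := by omega
      rw [e1]
      have e2 : (u + 1) * p * c + (u + 1) * p = (p - 1) + p * ((u + 1) * c + u) + 1 := by
        rw [hv]; simp only [Nat.add_sub_cancel]; ring
      omega
    have h2 : p ^ (a + 1) - 1 = (p - 1) + p * (p ^ a - 1) := by
      obtain ⟨u, hu⟩ : ∃ u, p ^ a = u + 1 := ⟨p ^ a - 1, by omega⟩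
      obtain ⟨v, hv⟩ : ∃ v, p = v + 1 := ⟨p - 1, by omega⟩
      rw [pow_succ, hu]
      have e2 : (u + 1) * p = (p - 1) + p * u + 1 := by
        rw [hv]; simp only [Nat.add_sub_cancel]; ring
      simp only [Nat.add_sub_cancel]
      omega
    have hlt : p - 1 < p := by omega
    rw [h1, h2]
    refine (Choose.choose_modEq_choose_mod_mul_choose_div_nat).trans ?_
    rw [Nat.add_mul_mod_self_left, Nat.add_mul_mod_self_left, Nat.mod_eq_of_lt hlt,
      Nat.add_mul_div_left _ _ hp.pos, Nat.add_mul_div_left _ _ hp.pos, Nat.div_eq_of_lt hlt,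
      Nat.choose_self, one_mul, zero_add, zero_add]
    exact ih (p ^ a * c) (Dvd.intro _ rfl)

/-- `(k + p^a - 1).choose k` is prime to `p^a` when `p^a ∣ k`. -/
theorem coprime_choose (p : ℕ) (hp : p.Prime) (a k : ℕ) (h : p ^ a ∣ k) :
    Nat.Coprime (p ^ a) ((k + p ^ a - 1).choose k) := by
  have hpa : 1 ≤ p ^ a := Nat.one_le_pow _ _ hp.one_le
  have hsym : (k + p ^ a - 1).choose k = (k + p ^ a - 1).choose (p ^ a - 1) :=
    Nat.choose_symm_of_eq_add (by omega)
  rw [hsym]
  apply Nat.Coprime.pow_left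
  rw [Nat.Prime.coprime_iff_not_dvd hp]
  intro hdvd
  have h1 := choose_modEq_one p hp a k h
  have h2 : (k + p ^ a - 1).choose (p ^ a - 1) ≡ 0 [MOD p] := (Nat.modEq_zero_iff_dvd).mpr hdvd
  have h3 : 1 ≡ 0 [MOD p] := h1.symm.trans h2
  rw [Nat.modEq_zero_iff_dvd] at h3
  exact hp.one_lt.ne' (Nat.dvd_one.mp h3)

/-- The number of `k`-subsets of `X` containing a given `(k-1)`-subset `s` is `|X| - (k-1)`. -/
theorem card_supersets {α : Type*} [DecidableEq α] (X s : Finset α) (hs : s ⊆ X) (k : ℕ)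
    (hk : 1 ≤ k) (hcard : s.card = k - 1) :
    ((X.powersetCard k).filter (fun K => s ⊆ K)).card = X.card - (k - 1) := by
  have h1 : (X.powersetCard k).filter (fun K => s ⊆ K) = (X \ s).image (fun a => insert a s) := by
    ext K
    simp only [Finset.mem_filter, Finset.mem_powersetCard, Finset.mem_image, Finset.mem_sdiff]
    constructor
    · rintro ⟨⟨hKX, hKc⟩, hsK⟩
      have h2 : (K \ s).card = 1 := by
        rw [Finset.card_sdiff_of_subset hsK, hKc, hcard]; omega
      obtain ⟨a, ha⟩ := Finset.card_eq_one.mp h2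
      have haK : a ∈ K \ s := by rw [ha]; exact Finset.mem_singleton_self a
      rw [Finset.mem_sdiff] at haK
      refine ⟨a, ⟨hKX haK.1, haK.2⟩, ?_⟩
      have : K = (K \ s) ∪ s := (Finset.sdiff_union_of_subset hsK).symm
      rw [this, ha]
      rfl
    · rintro ⟨a, ⟨haX, has⟩, rfl⟩
      refine ⟨⟨Finset.insert_subset haX hs, ?_⟩, Finset.subset_insert _ _⟩
      rw [Finset.card_insert_of_notMem has, hcard]; omega
  rw [h1, Finset.card_image_of_injOn, Finset.card_sdiff_of_subset hs, hcard]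
  intro a ha b hb hab
  simp only [Finset.coe_sdiff, Set.mem_sdiff, Finset.mem_coe] at ha hb
  have : a ∈ insert b s := by
    have h := Finset.mem_insert_self a s
    simp only at hab
    rwa [hab] at h
  rw [Finset.mem_insert] at this
  exact this.resolve_right ha.2

/-- Combinatorial core: if a colouring `P` of the `(k-1)`-subsets is such that every `k`-subset
contains exactly `m` subsets of colour `P`, then `k ∣ m` when `α` is large enough. -/
theorem dvd_of_const {α : Type*} [Fintype α] [DecidableEq α] (k : ℕ) (hk : 1 ≤ k)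
    (hq : ∀ q : ℕ, IsPrimePow q → q ∣ k → k + q - 1 ≤ Fintype.card α)
    (P : Finset α → Prop) [DecidablePred P] (m : ℕ)
    (hm : ∀ K : Finset α, K.card = k → ((K.powersetCard (k - 1)).filter P).card = m) : k ∣ m := by
  rw [Nat.dvd_iff_prime_pow_dvd_dvd]
  intro p a hp hpak
  rcases Nat.eq_zero_or_pos a with rfl | ha
  · simp
  have hpa : 1 ≤ p ^ a := Nat.one_le_pow _ _ hp.one_le
  have hle := hq (p ^ a) ((isPrimePow_nat_iff _).mpr ⟨p, a, hp, ha, rfl⟩) hpak
  obtain ⟨X, -, hX⟩ := Finset.exists_subset_card_eq (s := (Finset.univ : Finset α)) (n := k + p ^ a - 1)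
    (by rw [Finset.card_univ]; exact hle)
  have hcount := Finset.card_mul_eq_card_mul (fun (K : Finset α) (s : Finset α) => s ⊆ K)
    (s := X.powersetCard k) (t := (X.powersetCard (k - 1)).filter P) (m := m) (n := p ^ a) ?_ ?_
  · rw [Finset.card_powersetCard, hX] at hcount
    have hdvd : p ^ a ∣ (k + p ^ a - 1).choose k * m := by
      rw [hcount]; exact Dvd.intro_left _ rfl
    exact (coprime_choose p hp a k hpak).dvd_of_dvd_mul_left hdvd
  · intro K hK
    rw [Finset.mem_powersetCard] at hK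
    rw [← hm K hK.2]
    congr 1
    ext s
    simp only [Finset.bipartiteAbove, Finset.mem_filter, Finset.mem_powersetCard]
    constructor
    · rintro ⟨⟨⟨_, h2⟩, h3⟩, h4⟩
      exact ⟨⟨h4, h2⟩, h3⟩
    · rintro ⟨⟨h4, h2⟩, h3⟩
      exact ⟨⟨⟨h4.trans hK.1, h2⟩, h3⟩, h4⟩
  · intro s hs
    rw [Finset.mem_filter, Finset.mem_powersetCard] at hs
    have := card_supersets X s hs.1.1 k hk hs.1.2
    rw [hX] at this
    rw [Finset.bipartiteBelow, this]
    omega

/-- A `k`-homogeneous permutation group of degree `n`, `k ≥ 2`, with `k + q - 1 ≤ n` for every prime power `q` dividing `k`, is `(k-1)`-homogeneous. -/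
theorem result {α : Type*} [Fintype α] [DecidableEq α] (G : Subgroup (Equiv.Perm α)) {k : ℕ} (hk : 2 ≤ k) (hG : MulAction.IsPretransitive G (Set.powersetCard α k)) (hq : ∀ q : ℕ, IsPrimePow q → q ∣ k → k + q - 1 ≤ Fintype.card α) : MulAction.IsPretransitive G (Set.powersetCard α (k - 1)) := by
  classical
  -- `k ≤ |α|`
  have hkn : k ≤ Fintype.card α := by
    have h1 := hq k.minFac ((isPrimePow_nat_iff _).mpr ⟨k.minFac, 1, Nat.minFac_prime (by omega),
      Nat.one_pos, pow_one _⟩) (Nat.minFac_dvd k)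
    have h2 := (Nat.minFac_prime (n := k) (by omega)).one_lt
    omega
  constructor
  intro s₀ t₀
  set P : Finset α → Prop := fun s => ∃ g : G, g • (s₀ : Finset α) = s with hP
  -- a `k`-subset containing `s₀`
  obtain ⟨K₀, hsK₀, hK₀⟩ := Finset.exists_superset_card_eq (s := (s₀ : Finset α)) (n := k)
    (by rw [s₀.2]; omega) hkn
  set m := ((K₀.powersetCard (k - 1)).filter P).card with hmdef
  have hmconst : ∀ K : Finset α, K.card = k → ((K.powersetCard (k - 1)).filter P).card = m := by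
    intro K hK
    obtain ⟨g, hg⟩ := hG.exists_smul_eq ⟨K₀, hK₀⟩ ⟨K, hK⟩
    have hg' : g • K₀ = K := congrArg Subtype.val hg
    rw [hmdef]
    symm
    apply Finset.card_bij (fun s _ => g • s)
    · intro s hs
      rw [Finset.mem_filter, Finset.mem_powersetCard] at hs ⊢
      obtain ⟨⟨h1, h2⟩, h, h3⟩ := hs
      refine ⟨⟨?_, ?_⟩, g * h, ?_⟩
      · rw [← hg']; exact Finset.smul_finset_subset_smul_finset_iff.mpr h1
      · rw [Finset.card_smul_finset, h2]
      · rw [mul_smul, h3]
    · intro s _ t _ hst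
      exact smul_left_cancel g hst
    · intro t ht
      rw [Finset.mem_filter, Finset.mem_powersetCard] at ht
      obtain ⟨⟨h1, h2⟩, h, h3⟩ := ht
      refine ⟨g⁻¹ • t, ?_, smul_inv_smul g t⟩
      rw [Finset.mem_filter, Finset.mem_powersetCard]
      refine ⟨⟨?_, ?_⟩, g⁻¹ * h, ?_⟩
      · rw [← Finset.smul_finset_subset_smul_finset_iff (a := g), smul_inv_smul, hg']
        exact h1
      · rw [Finset.card_smul_finset, h2]
      · rw [mul_smul, h3]
  have hdvd : k ∣ m := dvd_of_const k (by omega) hq P m hmconst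
  have hmpos : 0 < m := by
    rw [hmdef, Finset.card_pos]
    exact ⟨s₀, by
      rw [Finset.mem_filter, Finset.mem_powersetCard]
      exact ⟨⟨hsK₀, s₀.2⟩, 1, one_smul _ _⟩⟩
  have hkm : k ≤ m := Nat.le_of_dvd hmpos hdvd
  -- a `k`-subset containing `t₀`
  obtain ⟨K₁, htK₁, hK₁⟩ := Finset.exists_superset_card_eq (s := (t₀ : Finset α)) (n := k)
    (by rw [t₀.2]; omega) hkn
  have hfull : (K₁.powersetCard (k - 1)).filter P = K₁.powersetCard (k - 1) := by
    apply Finset.eq_of_subset_of_card_le (Finset.filter_subset _ _)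
    rw [hmconst K₁ hK₁, Finset.card_powersetCard, hK₁]
    have : k.choose (k - 1) = k := by
      rw [Nat.choose_symm_of_eq_add (show k = (k - 1) + 1 by omega), Nat.choose_one_right]
    omega
  have ht₀ : (t₀ : Finset α) ∈ (K₁.powersetCard (k - 1)).filter P := by
    rw [hfull, Finset.mem_powersetCard]
    exact ⟨htK₁, t₀.2⟩
  rw [Finset.mem_filter] at ht₀
  obtain ⟨g, hg⟩ := ht₀.2
  exact ⟨g, Subtype.ext hg⟩

end Cfsg.Agent.S0736
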