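import Cfsg.Statements.S0744
import Cfsg.Agent.PermutationGroups.MultTrans
import Cfsg.Agent.PermutationGroups.OrbitCount

set_option autoImplicit false
open Cfsg

namespace Cfsg.Agent.S0744

open MulAction Equiv Cfsg.Agent.PermutationGroups.MultTrans Cfsg.Agent.PermutationGroups.OrbitCount

/-- If for some `k > 1` the pointwise stabilisers of all `(k-1)`-subsets have the same order `> 1` and those of all `k`-subsets have the same order, then the group is `(k-1)`-transitive. -/
theorem result {α : Type*} [Fintype α] [DecidableEq α] (G : Subgroup (Equiv.Perm α)) {k : ℕ} (hk : 1 < k) (hkn : k ≤ Fintype.card α) (l m : ℕ) (hl : 1 < l) (hkm1 : ∀ s : Finset α, s.card = k - 1 → Nat.card (fixingSubgroup G (s : Set α)) = l) (hkm : ∀ s : Finset α, s.card = k → Nat.card (fixingSubgroup G (s : Set α)) = m) : MulAction.IsMultiplyPretransitive G α (k - 1) := by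
  obtain ⟨j, rfl⟩ : ∃ j, k = j + 2 := ⟨k - 2, by omega⟩
  show MulAction.IsMultiplyPretransitive G α (j + 1)
  replace hkm1 : ∀ s : Finset α, s.card = j + 1 →
    Nat.card (fixingSubgroup G (s : Set α)) = l := hkm1
  refine isMultiplyPretransitive_succ_of_forall_card G j hkn ?_
  intro R hR a b ha hb
  -- the pointwise stabiliser of `R`
  by_contra hcon
  push Not at hcon
  have hdisj : b ∉ orbit (fixingSubgroup G (R : Set α)) a := by
    rintro ⟨g, hg⟩
    refine hcon g.1.1 g.1.2 (fun r hr => ?_) hg
    exact (mem_fixingSubgroup_iff G).1 g.2 r hr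
  -- stabilisers of points outside of `R` have order `l`
  have hst : ∀ c, c ∉ R → Nat.card (stabilizer (fixingSubgroup G (R : Set α)) c) = l := by
    intro c hc
    rw [card_stabilizer_fixingSubgroup, ← Finset.coe_insert]
    exact hkm1 _ (by rw [Finset.card_insert_of_notMem hc, hR])
  have horb : ∀ c, c ∉ R →
      (orbit (fixingSubgroup G (R : Set α)) c).ncard * l =
        Nat.card (fixingSubgroup G (R : Set α)) := by
    intro c hc
    rw [← hst c hc]
    exact ncard_orbit_mul_card_stabilizer c
  have hinv : ∀ (c : α), c ∉ R → ∀ x ∈ orbit (fixingSubgroup G (R : Set α)) c, x ∉ R := by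
    rintro c hc x ⟨g, rfl⟩ hmem
    have h1 := (mem_fixingSubgroup_iff G).1 g.2 _ hmem
    have h2 : g.1.1 (g.1.1 c) = g.1.1 c := h1
    have h3 := g.1.1.injective h2
    apply hc
    rw [← h3]
    exact hmem
  set H1 := fixingSubgroup G (insert a (R : Set α)) with hH1
  have hH1card : Nat.card H1 = l := by
    rw [hH1, ← Finset.coe_insert]
    exact hkm1 _ (by rw [Finset.card_insert_of_notMem ha, hR])
  have hfin : Finite G := inferInstance
  -- orbits of `H1`
  have hst1 : ∀ c, c ∉ insert a R → Nat.card (stabilizer H1 c) = m := by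
    intro c hc
    rw [hH1, card_stabilizer_fixingSubgroup, ← Finset.coe_insert, ← Finset.coe_insert]
    exact hkm _ (by rw [Finset.card_insert_of_notMem hc, Finset.card_insert_of_notMem ha, hR])
  have hbins : b ∉ insert a R := by
    simp only [Finset.mem_insert, not_or]
    refine ⟨?_, hb⟩
    rintro rfl
    exact hdisj (mem_orbit_self _)
  have hmpos : 0 < m := by
    rw [← hst1 b hbins]
    exact Nat.card_pos
  have horb1 : ∀ c, c ∉ insert a R → (orbit H1 c).ncard * m = l := by
    intro c hc
    rw [← hst1 c hc, ← hH1card]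
    exact ncard_orbit_mul_card_stabilizer c
  set q := (orbit H1 b).ncard with hq
  have hqm : q * m = l := horb1 b hbins
  have horbq : ∀ c, c ∉ insert a R → (orbit H1 c).ncard = q := by
    intro c hc
    have := horb1 c hc
    rw [← hqm] at this
    exact Nat.eq_of_mul_eq_mul_right hmpos this
  have hle : H1 ≤ fixingSubgroup G (R : Set α) :=
    fixingSubgroup_antitone G α (Set.subset_insert _ _)
  have hsub : ∀ (h : H1) (x c : α), x ∈ orbit (fixingSubgroup G (R : Set α)) c →
      h • x ∈ orbit (fixingSubgroup G (R : Set α)) c := by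
    rintro h x c ⟨g, rfl⟩
    exact ⟨⟨h.1, hle h.2⟩ * g, mul_smul _ _ _⟩
  -- `q` divides the length of the orbit of `b`
  have hd1 : q ∣ (orbit (fixingSubgroup G (R : Set α)) b).ncard := by
    rw [Set.ncard_eq_toFinset_card _ (Set.toFinite _)]
    apply dvd_card_of_orbit_ncard (K := H1)
    · intro h x hx
      rw [Set.Finite.mem_toFinset] at hx ⊢
      exact hsub h x b hx
    · intro x hx
      rw [Set.Finite.mem_toFinset] at hx
      apply horbq
      simp only [Finset.mem_insert, not_or]
      refine ⟨?_, hinv b hb x hx⟩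
      rintro rfl
      apply hdisj
      rw [← orbit_eq_iff] at hx ⊢
      exact hx.symm
  -- `q` divides the length of the orbit of `a` minus one
  have hd2 : q ∣ (orbit (fixingSubgroup G (R : Set α)) a).ncard - 1 := by
    rw [← Set.ncard_sdiff_singleton_of_mem (mem_orbit_self a),
      Set.ncard_eq_toFinset_card _ (Set.toFinite _)]
    apply dvd_card_of_orbit_ncard (K := H1)
    · intro h x hx
      rw [Set.Finite.mem_toFinset] at hx ⊢
      refine ⟨hsub h x a hx.1, ?_⟩
      intro hxa
      apply hx.2
      have h1 : h • x = a := hxa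
      have h2 : h • a = a := (mem_fixingSubgroup_iff G).1 h.2 a (Set.mem_insert _ _)
      show x = a
      have h3 : h • x = h • a := by rw [h1, h2]
      exact smul_left_cancel h h3
    · intro x hx
      rw [Set.Finite.mem_toFinset] at hx
      apply horbq
      simp only [Finset.mem_insert, not_or]
      exact ⟨hx.2, hinv a ha x hx.1⟩
  have hpos : 0 < (orbit (fixingSubgroup G (R : Set α)) a).ncard :=
    (Set.ncard_pos (Set.toFinite _)).2 ⟨a, mem_orbit_self a⟩
  have heq : (orbit (fixingSubgroup G (R : Set α)) b).ncard =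
      (orbit (fixingSubgroup G (R : Set α)) a).ncard := by
    have h1 := horb a ha
    rw [← horb b hb] at h1
    exact (Nat.eq_of_mul_eq_mul_right (by omega) h1).symm
  rw [heq] at hd1
  have hq1 : q ∣ 1 := by
    have := (Nat.dvd_sub hd1 hd2)
    rwa [Nat.sub_sub_self hpos] at this
  rw [Nat.dvd_one] at hq1
  -- then `H1` is trivial
  have htriv : ∀ h : H1, h = 1 := by
    intro h
    apply Subtype.ext
    apply Subtype.ext
    ext x
    show h.1.1 x = x
    by_cases hx : x ∈ insert a R
    · have := (mem_fixingSubgroup_iff G).1 h.2 x (by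
        rw [← Finset.coe_insert]; exact hx)
      exact this
    · have h1 : (orbit H1 x).ncard = 1 := by rw [horbq x hx, hq1]
      obtain ⟨y, hy⟩ := Set.ncard_eq_one.1 h1
      have hx1 : x ∈ orbit H1 x := mem_orbit_self x
      have hx2 : h • x ∈ orbit H1 x := mem_orbit x h
      rw [hy] at hx1 hx2
      have h3 : h • x = x := by
        rw [Set.mem_singleton_iff] at hx1 hx2
        rw [hx2, ← hx1]
      exact h3
  have : Nat.card H1 = 1 := by
    rw [Nat.card_eq_one_iff_unique]
    exact ⟨⟨fun x y => by rw [htriv x, htriv y]⟩, ⟨1⟩⟩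
  omega

end Cfsg.Agent.S0744
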