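import Cfsg.Statements.S0745
import Cfsg.Agent.S0744
import Cfsg.Agent.PermutationGroups.LWOrders

set_option autoImplicit false
open Cfsg

namespace Cfsg.Agent.S0745

open MulAction Equiv Cfsg.Agent.PermutationGroups.LWBasic Cfsg.Agent.PermutationGroups.LWCore
open Cfsg.Agent.PermutationGroups.MultTrans
open Cfsg.Agent.PermutationGroups.LWEven Cfsg.Agent.PermutationGroups.LWOdd
open Cfsg.Agent.PermutationGroups.LWOrders

section aux

variable {α : Type*} [Fintype α] [DecidableEq α]

/-- pointwise stabilisers of sets of the same size have the same order in a homogeneous group -/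
theorem card_fixing_eq (G : Subgroup (Perm α)) {m : ℕ}
    (hh : IsPretransitive G (Set.powersetCard α m)) (S T : Finset α) (hS : S.card = m)
    (hT : T.card = m) :
    Nat.card (fixingSubgroup G (S : Set α)) = Nat.card (fixingSubgroup G (T : Set α)) := by
  obtain ⟨g, hgG, hg⟩ := exists_map_of_homogeneous G hh S T hS hT
  have hgi : ∀ x, g⁻¹ x ∈ S ↔ x ∈ T := by
    intro x
    rw [← hg (g⁻¹ x)]
    have : g (g⁻¹ x) = x := Equiv.apply_symm_apply g x
    rw [this]
  let c : G := ⟨g, hgG⟩
  refine Nat.card_congr ⟨fun k => ⟨c * k.1 * c⁻¹, ?_⟩, fun k => ⟨c⁻¹ * k.1 * c, ?_⟩,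
    fun k => ?_, fun k => ?_⟩
  · rw [mem_fixingSubgroup_iff]
    intro v hv
    have h1 : k.1.1 (g⁻¹ v) = g⁻¹ v :=
      (mem_fixingSubgroup_iff G).1 k.2 _ ((hgi v).2 hv)
    show g (k.1.1 (g⁻¹ v)) = v
    rw [h1]
    exact Equiv.apply_symm_apply g v
  · rw [mem_fixingSubgroup_iff]
    intro v hv
    have h1 : k.1.1 (g v) = g v :=
      (mem_fixingSubgroup_iff G).1 k.2 _ ((hg v).2 hv)
    show g⁻¹ (k.1.1 (g v)) = v
    rw [h1]
    exact Equiv.symm_apply_apply g v
  · apply Subtype.ext
    show c⁻¹ * (c * k.1 * c⁻¹) * c = k.1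
    group
  · apply Subtype.ext
    show c * (c⁻¹ * k.1 * c) * c⁻¹ = k.1
    group

/-- The set-up of the Livingstone--Wagner argument. -/
theorem lw_of (G : Subgroup (Perm α)) {t : ℕ} (hn : t + 3 ≤ Fintype.card α)
    (ht : IsMultiplyPretransitive G α t) (hnt : ¬ IsMultiplyPretransitive G α (t + 1))
    (hh1 : IsPretransitive G (Set.powersetCard α (t + 1)))
    (hh2 : IsPretransitive G (Set.powersetCard α (t + 2))) : LW G t := by
  obtain ⟨S0, _, hS0⟩ := Finset.exists_subset_card_eq (s := (Finset.univ : Finset α)) (n := t + 1)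
    (by rw [Finset.card_univ]; omega)
  obtain ⟨T0, _, hT0⟩ := Finset.exists_subset_card_eq (s := (Finset.univ : Finset α)) (n := t + 2)
    (by rw [Finset.card_univ]; omega)
  have hone : ∀ S : Finset α, S.card = t + 1 → Nat.card (fixingSubgroup G (S : Set α)) = 1 := by
    intro S hS
    by_contra hne
    have hpos : 0 < Nat.card (fixingSubgroup G (S : Set α)) := Nat.card_pos
    apply hnt
    exact Cfsg.Agent.S0744.result G (k := t + 2) (by omega) (by omega)
      (Nat.card (fixingSubgroup G (S : Set α))) (Nat.card (fixingSubgroup G (T0 : Set α)))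
      (by omega) (fun s hs => card_fixing_eq G hh1 s S hs hS)
      (fun s hs => card_fixing_eq G hh2 s T0 hs hT0)
  refine ⟨hn, ?_, ?_, ?_⟩
  · intro s hs π
    exact exists_agree_perm G ht (by rw [Nat.card_eq_fintype_card]; omega) s hs π
  · intro g hg k hk s hs hagree
    obtain ⟨S, hSs, hS⟩ := Finset.exists_subset_card_eq hs
    have h1 := hone S hS
    have hmem : (⟨g, hg⟩ : G)⁻¹ * ⟨k, hk⟩ ∈ fixingSubgroup G (S : Set α) := by
      rw [mem_fixingSubgroup_iff]
      intro v hv
      show g⁻¹ (k v) = v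
      rw [← hagree v (hSs hv)]
      exact Equiv.symm_apply_apply g v
    rw [Subgroup.card_eq_one] at h1
    rw [h1, Subgroup.mem_bot, inv_mul_eq_one] at hmem
    exact congrArg Subtype.val hmem
  · intro S hS hsw
    exact hnt (isMultiplyPretransitive_of_swaps G hh1 S hS hsw)

theorem arith3 (n a d : ℕ) (h6 : 6 ≤ n) (ha2 : a ∣ 24) (ha3 : a ≠ 24) (ha4 : a ≤ 24)
    (ha0 : a ≠ 0) (e1 : (n - 3) * a = 24 * d) (h3 : n - 4 ∣ 5 * a) (h4 : n - 4 ≤ 5 * a)
    (hodd : d % 2 = 1) (hfour : n % 2 = 1 → 4 ∣ a)
    (hcount : n % 2 = 0 → (n - 2) * d ≤ 2 * (d + (n - 3))) :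
    (n = 6 ∧ d = 1) ∨ (n = 9 ∧ (d = 1 ∨ d = 3)) := by
  have h5 : n ≤ 124 := by omega
  interval_cases a <;> try omega
  all_goals
    interval_cases n <;> omega

end aux

/-- Let `G` have degree `n` and `3 ≤ k ≤ n`; suppose `G` is `(k-2)`-transitive but not `(k-1)`-transitive, and is `(k-1)`-homogeneous and `k`-homogeneous. Then `k = n` and `G` is the alternating group, or `n = 5, k = 4, |G| = 20`, or `n = 6, k = 5, |G| = 120`, or `n = 9, k = 5, |G| ∈ {504, 1512}`. -/
theorem result {α : Type*} [Fintype α] [DecidableEq α] (G : Subgroup (Equiv.Perm α)) {k : ℕ} (hk : 3 ≤ k) (hkn : k ≤ Fintype.card α) (ht : MulAction.IsMultiplyPretransitive G α (k - 2)) (hnt : ¬ MulAction.IsMultiplyPretransitive G α (k - 1)) (hh1 : MulAction.IsPretransitive G (Set.powersetCard α (k - 1))) (hh : MulAction.IsPretransitive G (Set.powersetCard α k)) : (k = Fintype.card α ∧ G = alternatingGroup α) ∨ (Fintype.card α = 5 ∧ k = 4 ∧ Nat.card G = 20) ∨ (Fintype.card α = 6 ∧ k = 5 ∧ Nat.card G = 120) ∨ (Fintype.card α = 9 ∧ k = 5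 ∧ (Nat.card G = 504 ∨ Nat.card G = 1512)) := by
  obtain ⟨t, rfl⟩ : ∃ t, k = t + 2 := ⟨k - 2, by omega⟩
  replace ht : IsMultiplyPretransitive G α t := ht
  replace hnt : ¬ IsMultiplyPretransitive G α (t + 1) := hnt
  replace hh1 : IsPretransitive G (Set.powersetCard α (t + 1)) := hh1
  rcases Nat.lt_or_ge (t + 2) (Fintype.card α) with hlt | hge
  swap
  · -- the case `k = n`
    left
    have hkn' : t + 2 = Fintype.card α := le_antisymm hkn hge
    refine ⟨hkn', ?_⟩
    have hle : alternatingGroup α ≤ G := by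
      apply IsMultiplyPretransitive.alternatingGroup_le
      rw [Nat.card_eq_fintype_card, ← hkn']
      exact ht
    apply le_antisymm _ hle
    intro g hg
    rw [Equiv.Perm.mem_alternatingGroup]
    by_contra hsign
    have hsign' : Perm.sign g = -1 := by
      rcases Int.units_eq_one_or (Perm.sign g) with h1 | h1
      · exact absurd h1 hsign
      · exact h1
    have htop : G = ⊤ := by
      rw [eq_top_iff]
      intro π _
      rcases Int.units_eq_one_or (Perm.sign π) with h1 | h1
      · exact hle (by rw [Equiv.Perm.mem_alternatingGroup]; exact h1)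
      · have h2 : π * g ∈ G := hle (by
          rw [Equiv.Perm.mem_alternatingGroup, map_mul, h1, hsign']; rfl)
        have h3 := G.mul_mem h2 (G.inv_mem hg)
        rwa [mul_inv_cancel_right] at h3
    apply hnt
    subst htop
    refine ⟨fun x y => ?_⟩
    obtain ⟨π, hπ⟩ := (Equiv.Perm.isMultiplyPretransitive α (t + 1)).exists_smul_eq x y
    exact ⟨⟨π, Subgroup.mem_top _⟩, hπ⟩
  · right
    have h : LW G t := lw_of G (by omega) ht hnt hh1 hh
    have hn := h.card
    obtain ⟨R, hR⟩ := h.exists_finset t (by omega)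
    obtain ⟨S, hS⟩ := h.exists_finset (t + 1) (by omega)
    obtain ⟨T, hT⟩ := h.exists_finset (t + 2) (by omega)
    have hodd := card_fixing_odd h (by omega) R hR
    have hrel := relations h ht hh1 hh R hR
    have hcardG := card_mul_factorial ht R hR
    have hadvd := card_stab_dvd h le_rfl ⟨S, hS⟩
    have hane := card_stab_ne h ⟨S, hS⟩
    obtain ⟨e1, e2⟩ := hrel ⟨S, hS⟩ ⟨T, hT⟩
    have hSall : ∀ S' : Set.powersetCard α (t + 1),
        Nat.card (stabilizer G S') = Nat.card (stabilizer G (⟨S, hS⟩ : Set.powersetCard α (t + 1))) := by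
      intro S'
      have e1' := (hrel S' ⟨T, hT⟩).1
      rw [← e1] at e1'
      exact Nat.eq_of_mul_eq_mul_left (by omega) e1'
    have hRall : ∀ R' : Finset α, R'.card = t →
        Nat.card (fixingSubgroup G (R' : Set α)) = Nat.card (fixingSubgroup G (R : Set α)) := by
      intro R' hR'
      have e1' := (relations h ht hh1 hh R' hR' ⟨S, hS⟩ ⟨T, hT⟩).1
      rw [e1] at e1'
      exact (Nat.eq_of_mul_eq_mul_left (Nat.factorial_pos _) e1').symm
    set d := Nat.card (fixingSubgroup G (R : Set α)) with hd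
    set a := Nat.card (stabilizer G (⟨S, hS⟩ : Set.powersetCard α (t + 1))) with ha
    set b := Nat.card (stabilizer G (⟨T, hT⟩ : Set.powersetCard α (t + 2))) with hb
    set n := Fintype.card α with hndef
    have hbdvd : n - (t + 1) ∣ (t + 2) * a := ⟨b, e2.symm⟩
    have hdodd : d % 2 = 1 := Nat.odd_iff.1 hodd
    rcases Nat.lt_or_ge t 4 with ht4 | ht4
    swap
    · exfalso
      by_cases hpar : Fintype.card α % 2 = t % 2
      · exact even_absurd h hpar ht4
      · exact odd_absurd h hpar ht4
    have ht1 : 1 ≤ t := by omega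
    clear_value d a b n
    interval_cases t
    · -- t = 1
      exfalso
      have ha2 : a ∣ 2 := hadvd
      have ha3 : a ≠ 2 := hane
      have ha4 : a ≤ 2 := Nat.le_of_dvd (by omega) ha2
      have ha1 : a = 1 := by
        interval_cases a
        · omega
        · rfl
        · omega
      subst ha1
      have e1' : (n - 1) * 1 = 2 * d := e1
      have h3 : n - 2 ∣ 3 := hbdvd
      have h4 : n - 2 ≤ 3 := Nat.le_of_dvd (by omega) h3
      have h5 : n = 4 ∨ n = 5 := by omega
      rcases h5 with rfl | rfl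
      · omega
      · omega
    · -- t = 2
      have ha2 : a ∣ 6 := hadvd
      have ha3 : a ≠ 6 := hane
      have ha4 : a ≤ 6 := Nat.le_of_dvd (by omega) ha2
      have e1' : (n - 2) * a = 6 * d := e1
      have h3 : n - 3 ∣ 4 * a := hbdvd
      have hthree : 3 ∣ d → 3 ∣ a := by
        intro h3d
        rw [hd] at h3d
        obtain ⟨S', hS'⟩ := three_dvd h R hR h3d
        rwa [hSall S'] at hS'
      have ha0 : a ≠ 0 := by rintro rfl; omega
      have h4 : n - 3 ≤ 4 * a := Nat.le_of_dvd (by omega) h3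
      have h5 : n ≤ 27 := by omega
      have h6 : 5 ≤ n := by omega
      left
      have key : n = 5 ∧ d = 1 := by
        interval_cases a <;> try omega
        all_goals
          interval_cases n <;> omega
      obtain ⟨h7, h8⟩ := key
      refine ⟨h7, rfl, ?_⟩
      rw [h7, h8] at hcardG
      have : (5 - 2).factorial = 6 := rfl
      have h9 : (5 : ℕ).factorial = 120 := rfl
      rw [this, h9] at hcardG
      omega
    · -- t = 3
      have ha2 : a ∣ 24 := hadvd
      have ha3 : a ≠ 24 := hane
      have ha4 : a ≤ 24 := Nat.le_of_dvd (by omega) ha2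
      have e1' : (n - 3) * a = 24 * d := e1
      have h3 : n - 4 ∣ 5 * a := hbdvd
      have ha0 : a ≠ 0 := by rintro rfl; omega
      have h4 : n - 4 ≤ 5 * a := Nat.le_of_dvd (by omega) h3
      have h6 : 6 ≤ n := by omega
      right
      have hfour : n % 2 = 1 → 4 ∣ a := by
        intro hn2
        rw [ha]
        apply four_dvd h
        rw [← hndef, hn2]
      have hcount : n % 2 = 0 → (n - 2) * d ≤ 2 * (d + (n - 3)) := by
        intro hn2
        rw [hndef]
        apply odd_count h
        · rw [← hndef, hn2]; decide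
        · exact hRall
      rcases arith3 n a d h6 ha2 ha3 ha4 ha0 e1' h3 h4 hdodd hfour hcount with
        ⟨h7, h8⟩ | ⟨h7, h8⟩
      · left
        refine ⟨h7, rfl, ?_⟩
        rw [h7, h8] at hcardG
        have h9 : (6 - 3).factorial = 6 := rfl
        have h10 : (6 : ℕ).factorial = 720 := rfl
        rw [h9, h10] at hcardG
        omega
      · right
        refine ⟨h7, rfl, ?_⟩
        rw [h7] at hcardG
        have h9 : (9 - 3).factorial = 720 := rfl
        have h10 : (9 : ℕ).factorial = 362880 := rfl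
        rw [h9, h10] at hcardG
        rcases h8 with h8 | h8 <;> rw [h8] at hcardG <;> omega

end Cfsg.Agent.S0745
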