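-- S0746: Livingstone–Wagner, `k`-homogeneous with `2k ≤ n` implies `(k-1)`-transitive.
-- Induction on `k` from S0736 (homogeneity goes down) and S0745 (the exceptions all have `2k > n`).
import Cfsg.Statements.S0746
import Cfsg.Agent.S0736
import Cfsg.Agent.S0745

set_option autoImplicit false
open Cfsg

namespace Cfsg.Agent.S0746

/-- `1`-homogeneous groups are `1`-transitive. -/
theorem one_transitive {G α : Type*} [Group G] [MulAction G α] [DecidableEq α]
    (h : MulAction.IsPretransitive G (Set.powersetCard α 1)) :
    MulAction.IsMultiplyPretransitive G α 1 := by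
  rw [MulAction.is_one_pretransitive_iff]
  exact (MulAction.isPretransitive_congr Function.surjective_id
    (Set.powersetCard.mulActionHom_singleton_bijective (G := G) (α := α))).2 h

theorem aux {α : Type*} [Fintype α] [DecidableEq α] (G : Subgroup (Equiv.Perm α)) (k : ℕ) :
    2 * (k + 2) ≤ Fintype.card α → MulAction.IsPretransitive G (Set.powersetCard α (k + 2)) →
      MulAction.IsMultiplyPretransitive G α (k + 1) := by
  induction k with
  | zero =>
    intro hkn hh
    refine one_transitive ?_
    refine S0736.result G (k := 2) le_rfl hh ?_
    intro q _ hq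
    have := Nat.le_of_dvd (by norm_num) hq
    omega
  | succ k ih =>
    intro hkn hh
    have hh1 : MulAction.IsPretransitive G (Set.powersetCard α (k + 2)) := by
      refine S0736.result G (k := k + 3) (by omega) hh ?_
      intro q _ hq
      have := Nat.le_of_dvd (by omega) hq
      omega
    have ht := ih (by omega) hh1
    by_contra hnt
    rcases S0745.result G (k := k + 3) (by omega) (by omega) ht hnt hh1 hh with
      h | h | h | h
    · omega
    · omega
    · omega
    · omega

/-- The Livingstone–Wagner Theorem, first form: a `k`-homogeneous group of degree `n` with `4 ≤ 2k ≤ n` is `(k-1)`-transitive. -/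
theorem result {α : Type*} [Fintype α] [DecidableEq α] (G : Subgroup (Equiv.Perm α)) {k : ℕ} (hk : 2 ≤ k) (hkn : 2 * k ≤ Fintype.card α) (hh : MulAction.IsPretransitive G (Set.powersetCard α k)) : MulAction.IsMultiplyPretransitive G α (k - 1) := by
  obtain ⟨k, rfl⟩ : ∃ m, k = m + 2 := ⟨k - 2, by omega⟩
  exact aux G k hkn hh

end Cfsg.Agent.S0746
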