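import Cfsg.Statements.S0749
-- import your own Cfsg.Agent.* helpers here
import Cfsg.Agent.ClassicalGeometry.WittStep

set_option autoImplicit false
open Cfsg

namespace Cfsg.Agent.S0749

open Module in
theorem aux {F V : Type*} [Field F] [AddCommGroup V] [Module F V]
    [FiniteDimensional F V] (B : LinearMap.BilinForm F V) (hB : B.Nondegenerate) (hA : B.IsAlt)
    (n : ℕ) : ∀ (f : V →ₗ.[F] V), (∀ x x' : f.domain, B (f x) (f x') = B (x : V) (x' : V)) →
      Function.Injective f → finrank F V = finrank F f.domain + n →
      ∃ g : V →ₗ[F] V, (∀ u v, B (g u) (g v) = B u v) ∧ ∀ x : f.domain, g x = f x := by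
  induction n with
  | zero =>
    intro f hf hinj hn
    have htop : f.domain = ⊤ := Submodule.eq_top_of_finrank_eq (by omega)
    have hmem : ∀ v : V, v ∈ f.domain := fun v => by rw [htop]; trivial
    let g : V →ₗ[F] V := f.toFun ∘ₗ (LinearMap.codRestrict f.domain LinearMap.id hmem)
    refine ⟨g, ?_, ?_⟩
    · intro u v
      exact hf ⟨u, hmem u⟩ ⟨v, hmem v⟩
    · intro x
      rfl
  | succ n ih =>
    intro f hf hinj hn
    have hne : f.domain ≠ ⊤ := by
      intro h
      rw [h, finrank_top] at hn
      omega
    obtain ⟨v, hv⟩ : ∃ v, v ∉ f.domain := by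
      by_contra h
      push Not at h
      exact hne (Submodule.eq_top_iff'.mpr h)
    -- find the image of v
    have hflip : Function.Surjective (B.flip : V →ₗ[F] (V →ₗ[F] F)) :=
      (LinearMap.BilinForm.toDual B.flip hB.flip).surjective
    have hsurj : ∀ (k : f.domain →ₗ[F] V), Function.Injective k →
        Function.Surjective ((LinearMap.lcomp F F k) ∘ₗ (B.flip : V →ₗ[F] (V →ₗ[F] F))) := by
      intro k hk
      rw [LinearMap.coe_comp]
      exact (LinearMap.dualMap_surjective_of_injective hk).comp hflip
    obtain ⟨w, hw, hwB⟩ := Cfsg.Agent.ClassicalGeometry.WittStep.exists_not_mem_range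
      f.domain.subtype f.toFun f.domain.injective_subtype hinj
      ((LinearMap.lcomp F F f.domain.subtype) ∘ₗ (B.flip : V →ₗ[F] (V →ₗ[F] F)))
      ((LinearMap.lcomp F F f.toFun) ∘ₗ (B.flip : V →ₗ[F] (V →ₗ[F] F)))
      (hsurj _ f.domain.injective_subtype) (hsurj _ hinj)
      (fun x => LinearMap.ext fun y => hf y x) v (by rwa [Submodule.range_subtype])
    have hwB' : ∀ x : f.domain, B (f x) w = B (x : V) v := fun x =>
      LinearMap.congr_fun hwB x
    have hwB'' : ∀ x : f.domain, B w (f x) = B v (x : V) := fun x => by
      rw [← hA.neg_eq, hwB', hA.neg_eq]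
    -- the extended map
    have key : ∀ z : (f.supSpanSingleton v w hv).domain, ∃ (x : f.domain) (c : F),
        (z : V) = x + c • v ∧ f.supSpanSingleton v w hv z = f x + c • w := by
      rintro ⟨z, hz⟩
      rw [LinearPMap.domain_supSpanSingleton] at hz
      obtain ⟨x, hx, y, hy, rfl⟩ := Submodule.mem_sup.mp hz
      obtain ⟨c, rfl⟩ := Submodule.mem_span_singleton.mp hy
      exact ⟨⟨x, hx⟩, c, rfl, LinearPMap.supSpanSingleton_apply_mk f v w hv x hx c⟩
    obtain ⟨g, hg, hgf⟩ := ih (f.supSpanSingleton v w hv) (by
        intro z z'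
        obtain ⟨x, c, hz, hfz⟩ := key z
        obtain ⟨x', c', hz', hfz'⟩ := key z'
        rw [hfz, hfz', hz, hz']
        simp only [map_add, LinearMap.add_apply, map_smul, LinearMap.smul_apply, hwB', hwB'', hf,
          hA.self_eq_zero]) (by
        intro z z' hzz'
        obtain ⟨x, c, hz, hfz⟩ := key z
        obtain ⟨x', c', hz', hfz'⟩ := key z'
        rw [hfz, hfz'] at hzz'
        have h1 : (c - c') • w = f (x' - x) := by
          rw [LinearPMap.map_sub, sub_smul]
          have h0 : f x + c • w - (f x + c' • w) = f x' + c' • w - (f x + c' • w) := by rw [hzz']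
          have h00 : c • w - c' • w = f x + c • w - (f x + c' • w) := by abel
          rw [h00, h0]
          abel
        have hc : c = c' := by
          by_contra hne'
          apply hw
          have h2 : w = (c - c')⁻¹ • f (x' - x) := by
            rw [← h1, smul_smul, inv_mul_cancel₀ (sub_ne_zero.mpr hne'), one_smul]
          rw [h2]
          exact Submodule.smul_mem _ _ ⟨x' - x, rfl⟩
        subst hc
        have hx : f x = f x' := by
          simpa using hzz'
        have hx' : x = x' := hinj hx
        apply Subtype.ext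
        rw [hz, hz', hx']) (by
        rw [LinearPMap.domain_supSpanSingleton]
        rw [Submodule.finrank_sup_span_singleton hv]
        omega)
    refine ⟨g, hg, fun x => ?_⟩
    have h1 := hgf ⟨x, Submodule.mem_sup_left x.2⟩
    rw [LinearPMap.supSpanSingleton_apply_mk_of_mem] at h1
    exact h1

/-- Witt's Lemma for alternating forms. If B is a non-degenerate alternating bilinear form on a finite-dimensional vector space V (over any field) and φ is a linear equivalence between subspaces X and Y of V preserving B, then φ extends to a B-preserving linear automorphism of V. -/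
theorem result {F V : Type*} [Field F] [AddCommGroup V] [Module F V] [FiniteDimensional F V] (B : LinearMap.BilinForm F V) (hB : B.Nondegenerate) (hA : B.IsAlt) (X Y : Submodule F V) (φ : X ≃ₗ[F] Y) (hφ : ∀ x x' : X, B (φ x : V) (φ x' : V) = B (x : V) (x' : V)) : ∃ g : V ≃ₗ[F] V, (∀ u v : V, B (g u) (g v) = B u v) ∧ ∀ x : X, g (x : V) = (φ x : V) := by
  obtain ⟨g, hg, hgf⟩ := aux B hB hA (Module.finrank F V - Module.finrank F X)
    ⟨X, Y.subtype ∘ₗ φ.toLinearMap⟩ hφ (fun x x' h => φ.injective (Subtype.ext h))
    (by
      have := Submodule.finrank_le X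
      show _ = Module.finrank F X + _
      omega)
  have hinj : Function.Injective g := by
    rw [injective_iff_map_eq_zero]
    intro u hu
    apply hB.1
    intro v
    rw [← hg, hu]
    simp
  refine ⟨LinearEquiv.ofInjectiveEndo g hinj, fun u v => ?_, fun x => ?_⟩
  · exact hg u v
  · exact hgf x

end Cfsg.Agent.S0749
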