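import Cfsg.Statements.S0754
-- import your own Cfsg.Agent.* helpers here

set_option autoImplicit false
open Cfsg

namespace Cfsg.Agent.S0754

/-- In a field F with q^2 elements, every non-zero μ with μ^q = μ (that is, μ in the subfield of order q) has exactly q + 1 solutions λ of λ^(q+1) = μ. -/
theorem result {F : Type*} [Field F] [Fintype F] {q : ℕ} (hF : Fintype.card F = q ^ 2) (μ : F) (hμ : μ ≠ 0) (hμq : μ ^ q = μ) : Nat.card {x : F // x ^ (q + 1) = μ} = q + 1 := by
  classical
  have h1 : 1 < Fintype.card F := Fintype.one_lt_card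
  have hq : 2 ≤ q := by
    rw [hF] at h1
    by_contra hlt
    have : q ≤ 1 := by omega
    have h2 : q ^ 2 ≤ 1 := by
      calc q ^ 2 ≤ 1 ^ 2 := Nat.pow_le_pow_left this 2
        _ = 1 := by norm_num
    omega
  obtain ⟨r, rfl⟩ : ∃ r, q = r + 1 := ⟨q - 1, by omega⟩
  have hr : 0 < r := by omega
  have hcard : Nat.card Fˣ = (r + 1 + 1) * r := by
    rw [Nat.card_units, Nat.card_eq_fintype_card, hF]
    have : (r + 1) ^ 2 = (r + 1 + 1) * r + 1 := by ring
    omega
  -- the image of the `(q+1)`-st power map is the kernel of the `(q-1)`-st power map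
  have hle : (powMonoidHom (r + 1 + 1) : Fˣ →* Fˣ).range ≤ (powMonoidHom r : Fˣ →* Fˣ).ker := by
    rintro _ ⟨x, rfl⟩
    rw [MonoidHom.mem_ker, powMonoidHom_apply, powMonoidHom_apply, ← pow_mul, ← hcard,
      Nat.card_eq_fintype_card]
    exact pow_card_eq_one
  have hrange : Nat.card (powMonoidHom (r + 1 + 1) : Fˣ →* Fˣ).range = r := by
    rw [IsCyclic.card_powMonoidHom_range, hcard, Nat.gcd_eq_right (Dvd.intro _ rfl)]
    exact Nat.mul_div_cancel_left r (by omega)
  have hker : Nat.card (powMonoidHom r : Fˣ →* Fˣ).ker = r := by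
    rw [IsCyclic.card_powMonoidHom_ker, hcard, Nat.gcd_eq_right (Dvd.intro_left _ rfl)]
  have hker2 : Nat.card (powMonoidHom (r + 1 + 1) : Fˣ →* Fˣ).ker = r + 1 + 1 := by
    rw [IsCyclic.card_powMonoidHom_ker, hcard, Nat.gcd_eq_right (Dvd.intro _ rfl)]
  have heq : (powMonoidHom (r + 1 + 1) : Fˣ →* Fˣ).range = (powMonoidHom r : Fˣ →* Fˣ).ker :=
    Subgroup.eq_of_le_of_card_ge hle (by rw [hrange, hker])
  have hμ1 : μ ^ r = 1 := by
    have h2 : μ ^ r * μ = 1 * μ := by rw [← pow_succ, hμq, one_mul]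
    exact mul_right_cancel₀ hμ h2
  have hmem : Units.mk0 μ hμ ∈ (powMonoidHom r : Fˣ →* Fˣ).ker := by
    rw [MonoidHom.mem_ker, powMonoidHom_apply]
    ext
    simpa using hμ1
  rw [← heq] at hmem
  obtain ⟨x₀, hx₀⟩ := hmem
  have hx₀' : (x₀ : F) ^ (r + 1 + 1) = μ := by
    have := congrArg (fun u : Fˣ => (u : F)) hx₀
    simpa using this
  refine Eq.trans ?_ hker2
  symm
  refine Nat.card_congr
    { toFun := fun u => ⟨(u : Fˣ) * x₀, ?_⟩
      invFun := fun x => ⟨(Units.mk0 x.1 ?_) * x₀⁻¹, ?_⟩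
      left_inv := ?_
      right_inv := ?_ }
  · have hu : ((u : Fˣ) : F) ^ (r + 1 + 1) = 1 := by
      have h3 := u.2
      rw [MonoidHom.mem_ker, powMonoidHom_apply] at h3
      have := congrArg (fun u : Fˣ => (u : F)) h3
      simpa using this
    rw [mul_pow, hu, one_mul, hx₀']
  · intro h0
    have h3 := x.2
    rw [h0, zero_pow (by omega)] at h3
    exact hμ h3.symm
  · rw [MonoidHom.mem_ker, powMonoidHom_apply]
    ext
    have h3 := x.2
    simp only [Units.val_pow_eq_pow_val, Units.val_mul, Units.val_mk0, Units.val_inv_eq_inv_val,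
      mul_pow, inv_pow, Units.val_one]
    rw [h3, hx₀']
    exact mul_inv_cancel₀ hμ
  · intro u
    ext
    simp
  · intro x
    ext
    simp

end Cfsg.Agent.S0754
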