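import Cfsg.Statements.S0760
-- import your own Cfsg.Agent.* helpers here

set_option autoImplicit false
open Cfsg

namespace Cfsg.Agent.S0760

section General

variable {F V : Type*} [Field F] [AddCommGroup V] [Module F V]

/-- The polar form of `Q` vanishes on a totally singular subspace. -/
theorem polar_eq_zero (Q : QuadraticForm F V) (W : Submodule F V) (h : ∀ w ∈ W, Q w = 0)
    {v w : V} (hv : v ∈ W) (hw : w ∈ W) : QuadraticMap.polar Q v w = 0 := by
  simp [QuadraticMap.polar, h v hv, h w hw, h (v + w) (W.add_mem hv hw)]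

theorem mem_orthogonal_iff' (Q : QuadraticForm F V) (W : Submodule F V) (v : V) :
    v ∈ LinearMap.BilinForm.orthogonal (QuadraticMap.polarBilin Q) W ↔
      ∀ w ∈ W, QuadraticMap.polar Q w v = 0 := Iff.rfl

theorem polarBilin_isSymm (Q : QuadraticForm F V) :
    LinearMap.BilinForm.IsSymm (QuadraticMap.polarBilin Q) :=
  ⟨fun x y => QuadraticMap.polar_comm Q x y⟩

/-- Adding a singular vector orthogonal to a totally singular subspace keeps it totally
singular. -/
theorem sup_span_singular (Q : QuadraticForm F V) (W : Submodule F V) (h : ∀ w ∈ W, Q w = 0)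
    (v : V) (hv : Q v = 0) (hvW : ∀ w ∈ W, QuadraticMap.polar Q w v = 0) :
    ∀ w ∈ W ⊔ Submodule.span F {v}, Q w = 0 := by
  intro u hu
  obtain ⟨w, hw, v', hv', rfl⟩ := Submodule.mem_sup.1 hu
  obtain ⟨c, rfl⟩ := Submodule.mem_span_singleton.1 hv'
  rw [QuadraticMap.map_add (⇑Q), h w hw, QuadraticMap.map_smul, hv,
    QuadraticMap.polar_smul_right, hvW w hw]
  simp

variable [FiniteDimensional F V]

/-- A maximal totally singular subspace has at least the dimension of every totally singular
subspace. -/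
theorem finrank_le_of_maximal (Q : QuadraticForm F V)
    (hQ : (QuadraticMap.polarBilin Q).Nondegenerate) (W₁ W₂ : Submodule F V)
    (h₁ : ∀ w ∈ W₁, Q w = 0) (h₂ : ∀ w ∈ W₂, Q w = 0)
    (hmax₁ : ∀ W : Submodule F V, W₁ ≤ W → (∀ w ∈ W, Q w = 0) → W = W₁) :
    Module.finrank F W₂ ≤ Module.finrank F W₁ := by
  classical
  set B : LinearMap.BilinForm F V := QuadraticMap.polarBilin Q with hB
  have hrefl : B.IsRefl := (polarBilin_isSymm Q).isRefl
  -- every vector of `W₂` orthogonal to `W₁` lies in `W₁`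
  have key : W₂ ⊓ B.orthogonal W₁ ≤ W₂ ⊓ W₁ := by
    rintro v ⟨hv₂, hv⟩
    refine ⟨hv₂, ?_⟩
    have hs := sup_span_singular Q W₁ h₁ v (h₂ v hv₂) ((mem_orthogonal_iff' Q W₁ v).1 hv)
    have := hmax₁ _ le_sup_left hs
    rw [← this]
    exact Submodule.mem_sup_right (Submodule.mem_span_singleton_self v)
  have hle₂ : W₂ ≤ B.orthogonal W₂ := by
    intro v hv w hw
    exact polar_eq_zero Q W₂ h₂ hw hv
  -- `W₂ ⊓ W₁ᗮ = (W₂ᗮ ⊔ W₁)ᗮ`
  have hdim : Module.finrank F (W₂ ⊓ B.orthogonal W₁ : Submodule F V) + Module.finrank F W₁ =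
      Module.finrank F W₂ + Module.finrank F (B.orthogonal W₂ ⊓ W₁ : Submodule F V) := by
    have e1 : W₂ ⊓ B.orthogonal W₁ = B.orthogonal (B.orthogonal W₂ ⊔ W₁) := by
      apply le_antisymm
      · rintro v ⟨hv₂, hv₁⟩ u hu
        obtain ⟨a, ha, b, hb, rfl⟩ := Submodule.mem_sup.1 hu
        have h1 : B a v = 0 := hrefl _ _ (ha v hv₂)
        have h2 : B b v = 0 := hv₁ b hb
        show B (a + b) v = 0
        rw [map_add, LinearMap.add_apply, h1, h2, add_zero]
      · intro v hv
        refine ⟨?_, fun w hw => hv w (Submodule.mem_sup_right hw)⟩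
        rw [← LinearMap.BilinForm.orthogonal_orthogonal hQ hrefl W₂]
        exact fun w hw => hv w (Submodule.mem_sup_left hw)
    have e2 := Submodule.finrank_sup_add_finrank_inf_eq (B.orthogonal W₂) W₁
    have e3 := LinearMap.BilinForm.finrank_orthogonal (B := B) hQ W₂
    have e4 := LinearMap.BilinForm.finrank_orthogonal (B := B) hQ (B.orthogonal W₂ ⊔ W₁)
    have e5 := Submodule.finrank_le W₂
    have e6 := Submodule.finrank_le (B.orthogonal W₂ ⊔ W₁)
    rw [← e1] at e4
    omega
  have h3 : Module.finrank F (W₂ ⊓ B.orthogonal W₁ : Submodule F V) ≤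
      Module.finrank F (W₂ ⊓ W₁ : Submodule F V) := Submodule.finrank_mono key
  have h4 : Module.finrank F (W₂ ⊓ W₁ : Submodule F V) ≤
      Module.finrank F (B.orthogonal W₂ ⊓ W₁ : Submodule F V) :=
    Submodule.finrank_mono (inf_le_inf_right _ hle₂)
  omega

/-- A totally singular subspace has at most half the dimension of the space. -/
theorem two_mul_finrank_le (Q : QuadraticForm F V)
    (hQ : (QuadraticMap.polarBilin Q).Nondegenerate) (W : Submodule F V)
    (h : ∀ w ∈ W, Q w = 0) : 2 * Module.finrank F W ≤ Module.finrank F V := by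
  set B : LinearMap.BilinForm F V := QuadraticMap.polarBilin Q with hB
  have hle : W ≤ B.orthogonal W := by
    intro v hv w hw
    exact polar_eq_zero Q W h hw hv
  have e1 := Submodule.finrank_mono hle
  have e2 := LinearMap.BilinForm.finrank_orthogonal (B := B) hQ W
  have e3 := Submodule.finrank_le W
  omega

end General

/-- Witt index is well defined: if Q is a quadratic form on a finite-dimensional space V over a finite field with non-degenerate polar form, and W₁, W₂ are subspaces on which Q vanishes that are maximal with this property, then W₁ and W₂ have the same dimension, and twice this dimension is at most dim V. -/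
theorem result {F V : Type*} [Field F] [Finite F] [AddCommGroup V] [Module F V] [FiniteDimensional F V] (Q : QuadraticForm F V) (hQ : (QuadraticMap.polarBilin Q).Nondegenerate) (W₁ W₂ : Submodule F V) (h₁ : ∀ w ∈ W₁, Q w = 0) (h₂ : ∀ w ∈ W₂, Q w = 0) (hmax₁ : ∀ W : Submodule F V, W₁ ≤ W → (∀ w ∈ W, Q w = 0) → W = W₁) (hmax₂ : ∀ W : Submodule F V, W₂ ≤ W → (∀ w ∈ W, Q w = 0) → W = W₂) : Module.finrank F W₁ = Module.finrank F W₂ ∧ 2 * Module.finrank F W₁ ≤ Module.finrank F V := by
  refine ⟨le_antisymm (finrank_le_of_maximal Q hQ W₂ W₁ h₂ h₁ hmax₂)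
    (finrank_le_of_maximal Q hQ W₁ W₂ h₁ h₂ hmax₁), two_mul_finrank_le Q hQ W₁ h₁⟩

end Cfsg.Agent.S0760
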