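import Cfsg.Statements.S0761
-- import your own Cfsg.Agent.* helpers here

set_option autoImplicit false
open Cfsg

namespace Cfsg.Agent.S0761

/-- A vector outside a subspace is separated from it by a linear functional of the form `B · y`. -/
theorem exists_partner {F V : Type*} [Field F] [AddCommGroup V] [Module F V] [FiniteDimensional F V]
    (B : LinearMap.BilinForm F V) (hB : B.Nondegenerate) (x : V) (Z : Submodule F V) (hxZ : x ∉ Z) :
    ∃ y : V, B x y = 1 ∧ ∀ z ∈ Z, B z y = 0 := by
  obtain ⟨f, hfx, hfZ⟩ := Submodule.exists_le_ker_of_notMem (p := Z) (v := x) hxZ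
  have hfl : B.flip.Nondegenerate := hB.flip
  refine ⟨(B.flip.toDual hfl).symm ((f x)⁻¹ • f), ?_, ?_⟩
  · have h := LinearMap.BilinForm.apply_toDual_symm_apply (B := B.flip) (hB := hfl)
      ((f x)⁻¹ • f) x
    have h2 : B.flip ((B.flip.toDual hfl).symm ((f x)⁻¹ • f)) x =
      B x ((B.flip.toDual hfl).symm ((f x)⁻¹ • f)) := rfl
    rw [← h2, h]
    simp [hfx]
  · intro z hz
    have h := LinearMap.BilinForm.apply_toDual_symm_apply (B := B.flip) (hB := hfl)
      ((f x)⁻¹ • f) z
    have h2 : B.flip ((B.flip.toDual hfl).symm ((f x)⁻¹ • f)) z =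
      B z ((B.flip.toDual hfl).symm ((f x)⁻¹ • f)) := rfl
    rw [← h2, h]
    have := hfZ hz
    simp only [LinearMap.mem_ker] at this
    simp [this]

/-- Hyperbolic partners: let B be a non-degenerate bilinear form on a finite-dimensional space, either alternating, or symmetric with 2 ≠ 0. If Z is a subspace on which B vanishes, x ∉ Z is isotropic and orthogonal to Z, then there is an isotropic y with B x y = 1 which is orthogonal to Z. -/
theorem result {F V : Type*} [Field F] [AddCommGroup V] [Module F V] [FiniteDimensional F V] (B : LinearMap.BilinForm F V) (hB : B.Nondegenerate) (hform : B.IsAlt ∨ (B.IsSymm ∧ (2 : F) ≠ 0)) (x : V) (Z : Submodule F V) (hxZ : x ∉ Z) (hx : B x x = 0) (hxz : ∀ z ∈ Z, B x z = 0) (hZ : ∀ z ∈ Z, ∀ z' ∈ Z, B z z' = 0) : ∃ y : V, B y y = 0 ∧ B x y = 1 ∧ ∀ z ∈ Z, B z y = 0 := by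
  obtain ⟨y₀, hxy, hzy⟩ := exists_partner B hB x Z hxZ
  rcases hform with halt | ⟨hsymm, h2⟩
  · exact ⟨y₀, halt y₀, hxy, hzy⟩
  · refine ⟨y₀ - (B y₀ y₀ / 2) • x, ?_, ?_, ?_⟩
    · have hyx : B y₀ x = 1 := by rw [← hxy]; exact hsymm.eq y₀ x
      simp only [map_sub, map_smul, LinearMap.sub_apply, LinearMap.smul_apply, smul_eq_mul, hx, hxy,
        hyx]
      field_simp
      ring
    · simp [hx, hxy]
    · intro z hz
      have hzx : B z x = 0 := by rw [← hxz z hz]; exact hsymm.eq z x
      simp [hzy z hz, hzx]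

end Cfsg.Agent.S0761
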