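import Cfsg.Statements.S0762
-- import your own Cfsg.Agent.* helpers here

set_option autoImplicit false
open Cfsg

namespace Cfsg.Agent.S0762

/-- In characteristic two over a finite field, a quadratic form on a space of dimension at least 3 vanishes on some non-zero vector. -/
theorem result {F V : Type*} [Field F] [Finite F] [CharP F 2] [AddCommGroup V] [Module F V] [FiniteDimensional F V] (Q : QuadraticForm F V) (h3 : 3 ≤ Module.finrank F V) : ∃ v : V, v ≠ 0 ∧ Q v = 0 := by
  classical
  have hsq : ∀ a : F, ∃ b : F, b ^ 2 = a := by
    intro a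
    have h : Function.Injective (frobenius F 2) := frobenius_inj F 2
    obtain ⟨b, hb⟩ := Finite.surjective_of_injective h a
    exact ⟨b, by simpa [frobenius_def] using hb⟩
  have : Nontrivial V := Module.nontrivial_of_finrank_pos (R := F) (by omega)
  obtain ⟨v, hv⟩ := exists_ne (0 : V)
  by_cases hQv : Q v = 0
  · exact ⟨v, hv, hQv⟩
  -- the perp of v
  let f : V →ₗ[F] F := QuadraticMap.polarBilin Q v
  have hker : 2 ≤ Module.finrank F (LinearMap.ker f) := by
    have h1 := LinearMap.finrank_range_add_finrank_ker f
    have h2 : Module.finrank F (LinearMap.range f) ≤ 1 := by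
      calc Module.finrank F (LinearMap.range f) ≤ Module.finrank F F := Submodule.finrank_le _
        _ = 1 := Module.finrank_self F
    omega
  have hex : ∃ w ∈ LinearMap.ker f, w ∉ Submodule.span F {v} := by
    by_contra hcon
    push Not at hcon
    have hle : LinearMap.ker f ≤ Submodule.span F {v} := fun w hw => hcon w hw
    have h1 := Submodule.finrank_mono hle
    have h2 := finrank_span_singleton (K := F) hv
    omega
  obtain ⟨w, hw, hwv⟩ := hex
  obtain ⟨a, ha⟩ := hsq (Q w / Q v)
  refine ⟨a • v + w, ?_, ?_⟩
  · intro h0
    apply hwv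
    rw [Submodule.mem_span_singleton]
    refine ⟨-a, ?_⟩
    rw [neg_smul]
    exact neg_eq_of_add_eq_zero_right h0
  · have hpol : QuadraticMap.polar Q v w = 0 := by
      have : f w = 0 := hw
      simpa [f] using this
    rw [QuadraticMap.map_add (⇑Q), QuadraticMap.map_smul, QuadraticMap.polar_smul_left, hpol]
    have : a * a * Q v = Q w := by
      rw [← pow_two, ha]; field_simp
    simp only [smul_eq_mul, mul_zero, add_zero, this]
    exact CharTwo.add_self_eq_zero _

end Cfsg.Agent.S0762
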