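import Cfsg.Statements.S0763
-- import your own Cfsg.Agent.* helpers here

set_option autoImplicit false
open Cfsg

namespace Cfsg.Agent.S0763

/-- Binary quadratic forms in characteristic two over a finite field: if Q is a quadratic form on a 2-dimensional space whose polar form is non-degenerate, then either there are vectors v, w with Q v = Q w = 0 and polar value 1 (Q is xy in these coordinates), or there are v, w and μ with Q v = 1, Q w = μ, polar value 1 and x² + x + μ without roots in F (Q is x² + xy + μy²). -/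
theorem result {F V : Type*} [Field F] [Finite F] [CharP F 2] [AddCommGroup V] [Module F V] (Q : QuadraticForm F V) (h2 : Module.finrank F V = 2) (hQ : (QuadraticMap.polarBilin Q).Nondegenerate) : (∃ v w : V, LinearIndependent F ![v, w] ∧ Q v = 0 ∧ Q w = 0 ∧ QuadraticMap.polar Q v w = 1) ∨ (∃ (v w : V) (μ : F), LinearIndependent F ![v, w] ∧ (∀ x : F, x ^ 2 + x + μ ≠ 0) ∧ Q v = 1 ∧ Q w = μ ∧ QuadraticMap.polar Q v w = 1) := by
  classical
  have hsq : ∀ a : F, ∃ b : F, b ^ 2 = a := by
    intro a
    have h : Function.Injective (frobenius F 2) := frobenius_inj F 2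
    obtain ⟨b, hb⟩ := Finite.surjective_of_injective h a
    exact ⟨b, by simpa [frobenius_def] using hb⟩
  have hself : ∀ v : V, QuadraticMap.polar Q v v = 0 := by
    intro v
    rw [QuadraticMap.polar_self, two_nsmul]
    exact CharTwo.add_self_eq_zero _
  have hli : ∀ v w : V, QuadraticMap.polar Q v w = 1 → LinearIndependent F ![v, w] := by
    intro v w h
    rw [LinearIndependent.pair_iff]
    intro s t hst
    have h1 : QuadraticMap.polar Q v (s • v + t • w) = 0 := by
      rw [hst]; simp
    rw [QuadraticMap.polar_add_right, QuadraticMap.polar_smul_right,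
      QuadraticMap.polar_smul_right, hself, h] at h1
    have ht : t = 0 := by simpa using h1
    have h3 : QuadraticMap.polar Q (s • v + t • w) w = 0 := by
      rw [hst]; simp
    rw [QuadraticMap.polar_add_left, QuadraticMap.polar_smul_left,
      QuadraticMap.polar_smul_left, hself, h] at h3
    have hs : s = 0 := by simpa using h3
    exact ⟨hs, ht⟩
  have hpart : ∀ v : V, v ≠ 0 → ∃ w : V, QuadraticMap.polar Q v w = 1 := by
    intro v hv
    have : ∃ w : V, QuadraticMap.polar Q v w ≠ 0 := by
      by_contra hcon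
      push Not at hcon
      exact hv (hQ.1 v (fun w => by simpa using hcon w))
    obtain ⟨w, hw⟩ := this
    refine ⟨(QuadraticMap.polar Q v w)⁻¹ • w, ?_⟩
    rw [QuadraticMap.polar_smul_right, smul_eq_mul, inv_mul_cancel₀ hw]
  have : Nontrivial V := Module.nontrivial_of_finrank_pos (R := F) (by omega)
  by_cases hex : ∃ v : V, v ≠ 0 ∧ Q v = 0
  · left
    obtain ⟨v, hv, hQv⟩ := hex
    obtain ⟨w, hw⟩ := hpart v hv
    have hpol : QuadraticMap.polar Q v (Q w • v + w) = 1 := by
      rw [QuadraticMap.polar_add_right, QuadraticMap.polar_smul_right, hself, hw]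
      simp
    refine ⟨v, Q w • v + w, hli _ _ hpol, hQv, ?_, hpol⟩
    rw [QuadraticMap.map_add (⇑Q), QuadraticMap.map_smul, QuadraticMap.polar_smul_left, hw, hQv]
    simp only [smul_eq_mul, mul_zero, zero_add, mul_one]
    exact CharTwo.add_self_eq_zero _
  · right
    push Not at hex
    obtain ⟨v₀, hv₀⟩ := exists_ne (0 : V)
    obtain ⟨a, ha⟩ := hsq (Q v₀)⁻¹
    have hQv₀ := hex v₀ hv₀
    have hQv : Q (a • v₀) = 1 := by
      rw [QuadraticMap.map_smul, smul_eq_mul, ← pow_two, ha, inv_mul_cancel₀ hQv₀]
    have hv : a • v₀ ≠ 0 := by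
      intro h0
      rw [h0] at hQv
      simp at hQv
    obtain ⟨w, hw⟩ := hpart _ hv
    refine ⟨a • v₀, w, Q w, hli _ _ hw, ?_, hQv, rfl, hw⟩
    intro x hx
    have hne : x • (a • v₀) + w ≠ 0 := by
      intro h0
      have := (LinearIndependent.pair_iff.mp (hli _ _ hw)) x 1 (by simpa using h0)
      exact one_ne_zero this.2
    apply hex _ hne
    rw [QuadraticMap.map_add (⇑Q), QuadraticMap.map_smul, QuadraticMap.polar_smul_left, hw, hQv,
      ← hx]
    simp only [smul_eq_mul, mul_one]
    ring

end Cfsg.Agent.S0763
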