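import Cfsg.Statements.S0774

set_option autoImplicit false
open Cfsg

namespace Cfsg.Agent.S0774

open Matrix

variable {F : Type*} [Field F] {m : ℕ}

/-- The isotropic coordinate subspace `⟨e_0, …, e_k⟩`. -/
def flagSub (F : Type*) [Field F] (m k : ℕ) : Submodule F (Fin m ⊕ Fin m → F) where
  carrier := {v : Fin m ⊕ Fin m → F | (∀ i : Fin m, k < (i : ℕ) → v (Sum.inl i) = 0) ∧ ∀ i : Fin m, v (Sum.inr i) = 0}
  add_mem' {a b} ha hb := by
    refine ⟨fun i hi => ?_, fun i => ?_⟩
    · simp [ha.1 i hi, hb.1 i hi]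
    · simp [ha.2 i, hb.2 i]
  zero_mem' := ⟨fun i _ => rfl, fun i => rfl⟩
  smul_mem' c x hx := by
    refine ⟨fun i hi => ?_, fun i => ?_⟩
    · simp [hx.1 i hi]
    · simp [hx.2 i]

theorem mem_of_mulVec_mem {ι : Type*} [Fintype ι] [DecidableEq ι] {g h : Matrix ι ι F} (hgh : h * g = 1)
    (W : Submodule F (ι → F)) (hW : ∀ v ∈ W, g *ᵥ v ∈ W) (v : ι → F) (hv : g *ᵥ v ∈ W) : v ∈ W := by
  let f : (ι → F) →ₗ[F] (ι → F) := Matrix.mulVecLin g
  have hf : Function.Injective f := by
    intro x y hxy
    have h3 : g *ᵥ x = g *ᵥ y := hxy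
    have h4 := congrArg (fun z => h *ᵥ z) h3
    simpa [Matrix.mulVec_mulVec, hgh] using h4
  let f' : W →ₗ[F] W := f.restrict hW
  have hf' : Function.Injective f' := by
    intro x y hxy
    apply Subtype.ext
    apply hf
    exact congrArg Subtype.val hxy
  have hs : Function.Surjective f' := LinearMap.surjective_of_injective hf'
  obtain ⟨w, hw⟩ := hs ⟨_, hv⟩
  have hw' : f w.1 = f v := congrArg Subtype.val hw
  have := hf hw'
  rw [← this]
  exact w.2

theorem mem_borel_iff (g : Matrix.symplecticGroup (Fin m) F) :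
    g ∈ (⨅ k : Fin m, Cfsg.stabilizing (Cfsg.spToMat m F) {v : Fin m ⊕ Fin m → F | (∀ i : Fin m, (k : ℕ) < (i : ℕ) → v (Sum.inl i) = 0) ∧ ∀ i : Fin m, v (Sum.inr i) = 0}) ↔
      (∀ i j : Fin m, j < i → (g : Matrix (Fin m ⊕ Fin m) (Fin m ⊕ Fin m) F) (Sum.inl i) (Sum.inl j) = 0) ∧
        ∀ i j : Fin m, (g : Matrix (Fin m ⊕ Fin m) (Fin m ⊕ Fin m) F) (Sum.inr i) (Sum.inl j) = 0 := by
  rw [Subgroup.mem_iInf]
  constructor
  · intro h
    have h0 : ∀ j : Fin m, (g : Matrix (Fin m ⊕ Fin m) (Fin m ⊕ Fin m) F) *ᵥ (Pi.single (Sum.inl j) 1) ∈ flagSub F m j := by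
      intro j
      refine (h j _).1 ⟨fun i hi => ?_, fun i => ?_⟩
      · rw [Pi.single_apply, if_neg]
        intro hij
        have := Sum.inl.inj hij
        omega
      · rw [Pi.single_apply, if_neg (by simp)]
    refine ⟨fun i j hij => ?_, fun i j => ?_⟩
    · have := (h0 j).1 i hij
      simpa using this
    · have := (h0 j).2 i
      simpa using this
  · rintro ⟨h1, h2⟩ k
    have hle : ∀ v ∈ flagSub F m k, (g : Matrix (Fin m ⊕ Fin m) (Fin m ⊕ Fin m) F) *ᵥ v ∈ flagSub F m k := by
      intro v hv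
      refine ⟨fun i hi => ?_, fun i => ?_⟩
      · simp only [Matrix.mulVec, dotProduct, Fintype.sum_sum_type]
        rw [Finset.sum_eq_zero, Finset.sum_eq_zero, add_zero]
        · intro j _
          rw [hv.2 j, mul_zero]
        · intro j _
          by_cases hj : (k : ℕ) < (j : ℕ)
          · rw [hv.1 j hj, mul_zero]
          · rw [h1 i j (by rw [Fin.lt_def]; omega), zero_mul]
      · simp only [Matrix.mulVec, dotProduct, Fintype.sum_sum_type]
        rw [Finset.sum_eq_zero, Finset.sum_eq_zero, add_zero]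
        · intro j _
          rw [hv.2 j, mul_zero]
        · intro j _
          rw [h2 i j, zero_mul]
    intro v
    refine ⟨fun hv => hle v hv, fun hv => ?_⟩
    refine mem_of_mulVec_mem (g := (g : Matrix (Fin m ⊕ Fin m) (Fin m ⊕ Fin m) F)) (h := ((g⁻¹ : Matrix.symplecticGroup (Fin m) F) : Matrix (Fin m ⊕ Fin m) (Fin m ⊕ Fin m) F)) ?_
      (flagSub F m k) hle v hv
    exact congrArg Subtype.val (inv_mul_cancel g)

/-- The upper triangular part. -/
def upperA (d : Fin m → Fˣ) (M : Matrix (Fin m) (Fin m) F) : Matrix (Fin m) (Fin m) F :=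
  Matrix.of fun i j => if i = j then (d i : F) else if i < j then M i j else 0

/-- The symmetric part. -/
def symmS (M : Matrix (Fin m) (Fin m) F) : Matrix (Fin m) (Fin m) F :=
  Matrix.of fun i j => if j ≤ i then M i j else M j i

theorem symmS_transpose (M : Matrix (Fin m) (Fin m) F) : (symmS M)ᵀ = symmS M := by
  ext i j
  simp only [symmS, Matrix.transpose_apply, Matrix.of_apply]
  rcases lt_trichotomy i j with h | h | h
  · rw [if_pos h.le, if_neg (not_le.mpr h)]
  · rw [h]
  · rw [if_neg (not_le.mpr h), if_pos h.le]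

theorem det_upperA (d : Fin m → Fˣ) (M : Matrix (Fin m) (Fin m) F) : (upperA d M).det = ∏ i, (d i : F) := by
  rw [Matrix.det_of_isUpperTriangular]
  · apply Finset.prod_congr rfl
    intro i _
    simp [upperA]
  · intro i j hij
    have hij' : j < i := hij
    simp only [upperA, Matrix.of_apply]
    rw [if_neg hij'.ne', if_neg (not_lt.mpr hij'.le)]

theorem isUnit_det_upperA (d : Fin m → Fˣ) (M : Matrix (Fin m) (Fin m) F) : IsUnit (upperA d M).det := by
  rw [det_upperA, isUnit_iff_ne_zero, Finset.prod_ne_zero_iff]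
  intro i _
  exact (d i).ne_zero

/-- The parametrisation of the Borel subgroup. -/
noncomputable def param (d : Fin m → Fˣ) (M : Matrix (Fin m) (Fin m) F) : Matrix (Fin m ⊕ Fin m) (Fin m ⊕ Fin m) F :=
  Matrix.fromBlocks (upperA d M) (upperA d M * symmS M) 0 ((upperA d M)⁻¹)ᵀ

theorem param_mem (d : Fin m → Fˣ) (M : Matrix (Fin m) (Fin m) F) : param d M ∈ Matrix.symplecticGroup (Fin m) F := by
  rw [param, SymplecticGroup.fromBlocks_mem_iff]
  have hu := isUnit_det_upperA d M
  refine ⟨by simp, ?_, ?_⟩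
  · rw [Matrix.transpose_mul, Matrix.mul_assoc, ← Matrix.transpose_mul, Matrix.nonsing_inv_mul _ hu,
      Matrix.transpose_one, Matrix.mul_one, Matrix.transpose_transpose, ← Matrix.mul_assoc,
      Matrix.nonsing_inv_mul _ hu, Matrix.one_mul, symmS_transpose]
  · rw [← Matrix.transpose_mul, Matrix.nonsing_inv_mul _ hu]
    simp

theorem param_bijective : Function.Bijective (fun p : (Fin m → Fˣ) × Matrix (Fin m) (Fin m) F =>
    (⟨⟨param p.1 p.2, param_mem p.1 p.2⟩, (mem_borel_iff _).2 (by
      refine ⟨fun i j hij => ?_, fun i j => ?_⟩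
      · simp only [param, Matrix.fromBlocks_apply₁₁, upperA, Matrix.of_apply]
        rw [if_neg hij.ne', if_neg (not_lt.mpr hij.le)]
      · simp [param])⟩ :
      ↥(⨅ k : Fin m, Cfsg.stabilizing (Cfsg.spToMat m F) {v : Fin m ⊕ Fin m → F | (∀ i : Fin m, (k : ℕ) < (i : ℕ) → v (Sum.inl i) = 0) ∧ ∀ i : Fin m, v (Sum.inr i) = 0}))) := by
  constructor
  · rintro ⟨d, M⟩ ⟨d', M'⟩ h
    have h1 : param d M = param d' M' := congrArg (fun x => x.1.1) h
    obtain ⟨hA, hB, -, -⟩ := Matrix.fromBlocks_inj.1 h1
    have hu := isUnit_det_upperA d M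
    have hd : d = d' := by
      funext i
      apply Units.ext
      have := congrFun (congrFun hA i) i
      simpa [upperA] using this
    have hS : symmS M = symmS M' := by
      rw [← hA] at hB
      have := congrArg (fun X => (upperA d M)⁻¹ * X) hB
      simpa [← Matrix.mul_assoc, Matrix.nonsing_inv_mul _ hu] using this
    have hM : M = M' := by
      ext i j
      by_cases hij : j ≤ i
      · have := congrFun (congrFun hS i) j
        simpa [symmS, hij] using this
      · have := congrFun (congrFun hA i) j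
        have h2 : i < j := not_le.mp hij
        simpa [upperA, h2, h2.ne] using this
    rw [hd, hM]
  · rintro ⟨⟨g, hg⟩, hgB⟩
    rw [mem_borel_iff] at hgB
    obtain ⟨h1, h2⟩ := hgB
    dsimp only at h1 h2
    obtain ⟨A, B, C, D, rfl⟩ : ∃ A B C D, g = Matrix.fromBlocks A B C D :=
      ⟨_, _, _, _, (Matrix.fromBlocks_toBlocks g).symm⟩
    have hC : C = 0 := by
      ext i j
      simpa using h2 i j
    subst hC
    have hAt : ∀ i j : Fin m, j < i → A i j = 0 := by
      intro i j hij
      simpa using h1 i j hij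
    obtain ⟨-, hBD, hAD⟩ := SymplecticGroup.fromBlocks_mem_iff.1 hg
    rw [Matrix.transpose_zero, Matrix.zero_mul, sub_zero] at hAD
    have hDA : Dᵀ * A = 1 := by
      have := congrArg Matrix.transpose hAD
      simpa [Matrix.transpose_mul] using this
    have hAD' : A * Dᵀ = 1 := mul_eq_one_comm.mp hDA
    have hdetA : A.det ≠ 0 := by
      intro h0
      have := congrArg Matrix.det hDA
      rw [Matrix.det_mul, h0, mul_zero, Matrix.det_one] at this
      exact zero_ne_one this
    have hdet : A.det = ∏ i, A i i := by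
      apply Matrix.det_of_isUpperTriangular
      intro i j hij
      exact hAt i j hij
    have hdiag : ∀ i, A i i ≠ 0 := by
      rw [hdet, Finset.prod_ne_zero_iff] at hdetA
      intro i
      exact hdetA i (Finset.mem_univ i)
    let S : Matrix (Fin m) (Fin m) F := Dᵀ * B
    have hS : ∀ i j, S i j = S j i := by
      intro i j
      have : Sᵀ = S := by
        show (Dᵀ * B)ᵀ = Dᵀ * B
        rw [Matrix.transpose_mul, Matrix.transpose_transpose, hBD]
      have h3 := congrFun (congrFun this j) i
      simpa using h3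
    let d : Fin m → Fˣ := fun i => Units.mk0 (A i i) (hdiag i)
    let M : Matrix (Fin m) (Fin m) F := Matrix.of fun i j => if i < j then A i j else S i j
    have hA' : upperA d M = A := by
      ext i j
      simp only [upperA, Matrix.of_apply]
      rcases lt_trichotomy i j with h | h | h
      · rw [if_neg h.ne, if_pos h]
        simp [M, h]
      · subst h
        simp [d]
      · rw [if_neg h.ne', if_neg (not_lt.mpr h.le), hAt i j h]
    have hS' : symmS M = S := by
      ext i j
      simp only [symmS, Matrix.of_apply]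
      by_cases h : j ≤ i
      · rw [if_pos h]
        simp [M, not_lt.mpr h]
      · rw [if_neg h]
        have h' : i < j := not_le.mp h
        simp only [M, Matrix.of_apply]
        rw [if_neg (not_lt.mpr h'.le), hS]
    refine ⟨(d, M), ?_⟩
    apply Subtype.ext
    apply Subtype.ext
    show param d M = _
    rw [param, hA', hS']
    have hinv : A⁻¹ = Dᵀ := Matrix.inv_eq_left_inv hDA
    rw [hinv, Matrix.transpose_transpose]
    show Matrix.fromBlocks A (A * (Dᵀ * B)) 0 D = _
    rw [← Matrix.mul_assoc, hAD', Matrix.one_mul]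

/-- Borel subgroup of the symplectic group: the elements of Sp_2m(q) stabilising each of the totally isotropic coordinate subspaces ⟨e_0, ..., e_k⟩ (k < m) form a subgroup of order q^(m²) (q − 1)^m. -/
theorem result {F : Type*} [Field F] [Fintype F] {q : ℕ} (hF : Fintype.card F = q) (m : ℕ) : Nat.card ↥(⨅ k : Fin m, Cfsg.stabilizing (Cfsg.spToMat m F) {v : Fin m ⊕ Fin m → F | (∀ i : Fin m, (k : ℕ) < (i : ℕ) → v (Sum.inl i) = 0) ∧ ∀ i : Fin m, v (Sum.inr i) = 0}) = q ^ (m ^ 2) * (q - 1) ^ m := by
  classical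
  rw [← Nat.card_congr (Equiv.ofBijective _ (param_bijective (F := F) (m := m)))]
  rw [Nat.card_prod, Nat.card_eq_fintype_card, Nat.card_eq_fintype_card]
  rw [Fintype.card_fun, Fintype.card_units, Fintype.card_fin, hF]
  have : Fintype.card (Matrix (Fin m) (Fin m) F) = q ^ (m ^ 2) := by
    show Fintype.card (Fin m → Fin m → F) = _
    rw [Fintype.card_fun, Fintype.card_fun, Fintype.card_fin, hF, ← pow_mul, sq]
  rw [this, mul_comm]

end Cfsg.Agent.S0774
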