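import Cfsg.Statements.S0776
-- import your own Cfsg.Agent.* helpers here
import Cfsg.Agent.ClassicalGeometry.SympBasic
import Cfsg.Agent.ClassicalGeometry.SympIso

set_option autoImplicit false
open Cfsg

namespace Cfsg.Agent.S0776

open Cfsg.Agent.ClassicalGeometry.SympBasic Cfsg.Agent.ClassicalGeometry.SympIso
open scoped Matrix

variable {F : Type*} [Field F]

theorem mem_stabilizing_iff {H : Type*} [Group H] {ι : Type} [Fintype ι] [DecidableEq ι]
    (toMat : H →* Matrix ι ι F) (S : Set (ι → F)) (h : H) :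
    h ∈ stabilizing toMat S ↔ ∀ v, v ∈ S ↔ toMat h *ᵥ v ∈ S := Iff.rfl

/-- The block embedding `Sp_2a × Sp_2b → Sp_2m` attached to an isometric decomposition. -/
noncomputable def blockHom {a b m : ℕ}
    (e : ((Fin a ⊕ Fin a → F) × (Fin b ⊕ Fin b → F)) ≃ₗ[F] (Fin m ⊕ Fin m → F))
    (he : ∀ x y, sympForm m F (e x) (e y) = sympForm a F x.1 y.1 + sympForm b F x.2 y.2) :
    Matrix.symplecticGroup (Fin a) F × Matrix.symplecticGroup (Fin b) F →*
      Matrix.symplecticGroup (Fin m) F where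
  toFun A := ⟨LinearMap.toMatrix' (e.toLinearMap ∘ₗ
    ((Matrix.toLin' (A.1 : Matrix (Fin a ⊕ Fin a) (Fin a ⊕ Fin a) F)).prodMap
      (Matrix.toLin' (A.2 : Matrix (Fin b ⊕ Fin b) (Fin b ⊕ Fin b) F))) ∘ₗ e.symm.toLinearMap), by
    rw [mem_symplecticGroup_iff]
    intro u v
    rw [LinearMap.toMatrix'_mulVec, LinearMap.toMatrix'_mulVec]
    simp only [LinearMap.comp_apply, LinearEquiv.coe_coe, he, LinearMap.prodMap_apply,
      Matrix.toLin'_apply]
    rw [sympForm_mulVec A.1.2, sympForm_mulVec A.2.2, ← he, e.apply_symm_apply,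
      e.apply_symm_apply]⟩
  map_one' := by
    ext1
    change LinearMap.toMatrix' (e.toLinearMap ∘ₗ
      ((Matrix.toLin' (1 : Matrix (Fin a ⊕ Fin a) (Fin a ⊕ Fin a) F)).prodMap
      (Matrix.toLin' (1 : Matrix (Fin b ⊕ Fin b) (Fin b ⊕ Fin b) F))) ∘ₗ e.symm.toLinearMap) = 1
    rw [Matrix.toLin'_one, Matrix.toLin'_one, ← LinearMap.toMatrix'_id]
    congr 1
    refine LinearMap.ext fun x => ?_
    simp
  map_mul' A B := by
    ext1
    change LinearMap.toMatrix' (e.toLinearMap ∘ₗ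
      ((Matrix.toLin' ((A.1 : Matrix (Fin a ⊕ Fin a) (Fin a ⊕ Fin a) F) *
        (B.1 : Matrix (Fin a ⊕ Fin a) (Fin a ⊕ Fin a) F))).prodMap
      (Matrix.toLin' ((A.2 : Matrix (Fin b ⊕ Fin b) (Fin b ⊕ Fin b) F) *
        (B.2 : Matrix (Fin b ⊕ Fin b) (Fin b ⊕ Fin b) F)))) ∘ₗ e.symm.toLinearMap) =
      LinearMap.toMatrix' (e.toLinearMap ∘ₗ
      ((Matrix.toLin' (A.1 : Matrix (Fin a ⊕ Fin a) (Fin a ⊕ Fin a) F)).prodMap
      (Matrix.toLin' (A.2 : Matrix (Fin b ⊕ Fin b) (Fin b ⊕ Fin b) F))) ∘ₗ e.symm.toLinearMap) *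
      LinearMap.toMatrix' (e.toLinearMap ∘ₗ
      ((Matrix.toLin' (B.1 : Matrix (Fin a ⊕ Fin a) (Fin a ⊕ Fin a) F)).prodMap
      (Matrix.toLin' (B.2 : Matrix (Fin b ⊕ Fin b) (Fin b ⊕ Fin b) F))) ∘ₗ e.symm.toLinearMap)
    rw [← LinearMap.toMatrix'_comp]
    congr 1
    refine LinearMap.ext fun x => ?_
    simp [Matrix.mulVec_mulVec]

theorem blockHom_mulVec {a b m : ℕ}
    (e : ((Fin a ⊕ Fin a → F) × (Fin b ⊕ Fin b → F)) ≃ₗ[F] (Fin m ⊕ Fin m → F))
    (he : ∀ x y, sympForm m F (e x) (e y) = sympForm a F x.1 y.1 + sympForm b F x.2 y.2)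
    (A : Matrix.symplecticGroup (Fin a) F × Matrix.symplecticGroup (Fin b) F)
    (x : Fin a ⊕ Fin a → F) (y : Fin b ⊕ Fin b → F) :
    (blockHom e he A : Matrix (Fin m ⊕ Fin m) (Fin m ⊕ Fin m) F) *ᵥ e (x, y) =
      e ((A.1 : Matrix (Fin a ⊕ Fin a) (Fin a ⊕ Fin a) F) *ᵥ x,
        (A.2 : Matrix (Fin b ⊕ Fin b) (Fin b ⊕ Fin b) F) *ᵥ y) := by
  change LinearMap.toMatrix' (e.toLinearMap ∘ₗ
    ((Matrix.toLin' (A.1 : Matrix (Fin a ⊕ Fin a) (Fin a ⊕ Fin a) F)).prodMap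
      (Matrix.toLin' (A.2 : Matrix (Fin b ⊕ Fin b) (Fin b ⊕ Fin b) F))) ∘ₗ e.symm.toLinearMap)
      *ᵥ e (x, y) = _
  rw [LinearMap.toMatrix'_mulVec]
  simp only [LinearMap.comp_apply, LinearEquiv.coe_coe, LinearMap.prodMap_apply,
    Matrix.toLin'_apply, e.symm_apply_apply]

theorem blockHom_injective {a b m : ℕ}
    (e : ((Fin a ⊕ Fin a → F) × (Fin b ⊕ Fin b → F)) ≃ₗ[F] (Fin m ⊕ Fin m → F))
    (he : ∀ x y, sympForm m F (e x) (e y) = sympForm a F x.1 y.1 + sympForm b F x.2 y.2) :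
    Function.Injective (blockHom e he) := by
  intro A B hAB
  have h : ∀ x y, ((A.1 : Matrix (Fin a ⊕ Fin a) (Fin a ⊕ Fin a) F) *ᵥ x,
        (A.2 : Matrix (Fin b ⊕ Fin b) (Fin b ⊕ Fin b) F) *ᵥ y) =
      ((B.1 : Matrix (Fin a ⊕ Fin a) (Fin a ⊕ Fin a) F) *ᵥ x,
        (B.2 : Matrix (Fin b ⊕ Fin b) (Fin b ⊕ Fin b) F) *ᵥ y) := by
    intro x y
    apply e.injective
    rw [← blockHom_mulVec e he, ← blockHom_mulVec e he, hAB]
  refine Prod.ext (Subtype.ext ?_) (Subtype.ext ?_)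
  · rw [← Matrix.mulVec_injective.eq_iff]
    funext x
    exact (Prod.ext_iff.1 (h x 0)).1
  · rw [← Matrix.mulVec_injective.eq_iff]
    funext y
    exact (Prod.ext_iff.1 (h 0 y)).2

theorem mem_range_blockHom {a b m : ℕ}
    (e : ((Fin a ⊕ Fin a → F) × (Fin b ⊕ Fin b → F)) ≃ₗ[F] (Fin m ⊕ Fin m → F))
    (he : ∀ x y, sympForm m F (e x) (e y) = sympForm a F x.1 y.1 + sympForm b F x.2 y.2)
    (A : Matrix.symplecticGroup (Fin m) F) :
    A ∈ (blockHom e he).range ↔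
      ∀ v, (e.symm v).2 = 0 ↔
        (e.symm ((A : Matrix (Fin m ⊕ Fin m) (Fin m ⊕ Fin m) F) *ᵥ v)).2 = 0 := by
  constructor
  · rintro ⟨B, rfl⟩ v
    obtain ⟨⟨x, y⟩, rfl⟩ := e.surjective v
    rw [blockHom_mulVec, e.symm_apply_apply, e.symm_apply_apply]
    change y = 0 ↔ _ *ᵥ y = 0
    constructor
    · rintro rfl; exact Matrix.mulVec_zero _
    · intro h
      apply eq_zero_of_forall_sympForm_left
      intro w
      rw [← sympForm_mulVec B.2.2, h, sympForm_zero_right]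
  · intro h
    -- `A` preserves the orthogonal complement too
    have h0 : ∀ x, (e.symm ((A : Matrix (Fin m ⊕ Fin m) (Fin m ⊕ Fin m) F) *ᵥ e (x, 0))).2 = 0 :=
      fun x => (h (e (x, 0))).1 (by rw [e.symm_apply_apply])
    have h0' : ∀ x, ∃ x', (A : Matrix (Fin m ⊕ Fin m) (Fin m ⊕ Fin m) F) *ᵥ e (x', 0) =
        e (x, 0) := by
      intro x
      have hA : (A : Matrix (Fin m ⊕ Fin m) (Fin m ⊕ Fin m) F) *ᵥ
          ((A⁻¹ : Matrix.symplecticGroup (Fin m) F) *ᵥ e (x, 0)) = e (x, 0) := by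
        rw [← coe_mul_mulVec, mul_inv_cancel, Submonoid.coe_one, Matrix.one_mulVec]
      have h2 := (h ((A⁻¹ : Matrix.symplecticGroup (Fin m) F) *ᵥ e (x, 0))).2 (by
        rw [hA, e.symm_apply_apply])
      refine ⟨(e.symm ((A⁻¹ : Matrix.symplecticGroup (Fin m) F) *ᵥ e (x, 0))).1, ?_⟩
      have h3 : ((e.symm ((A⁻¹ : Matrix.symplecticGroup (Fin m) F) *ᵥ e (x, 0))).1,
          (0 : Fin b ⊕ Fin b → F)) =
          e.symm ((A⁻¹ : Matrix.symplecticGroup (Fin m) F) *ᵥ e (x, 0)) :=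
        Prod.ext rfl h2.symm
      rw [h3, e.apply_symm_apply, hA]
    have h1 : ∀ y, (e.symm ((A : Matrix (Fin m ⊕ Fin m) (Fin m ⊕ Fin m) F) *ᵥ e (0, y))).1 = 0 := by
      intro y
      apply eq_zero_of_forall_sympForm_left
      intro x
      obtain ⟨x', hx'⟩ := h0' x
      have h4 : sympForm m F (e (x, 0)) ((A : Matrix (Fin m ⊕ Fin m) (Fin m ⊕ Fin m) F) *ᵥ e (0, y))
          = 0 := by
        rw [← hx', sympForm_mulVec A.2, he]
        simp
      rw [← e.apply_symm_apply ((A : Matrix (Fin m ⊕ Fin m) (Fin m ⊕ Fin m) F) *ᵥ e (0, y)),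
        he] at h4
      simpa using h4
    -- components
    let L1 : (Fin a ⊕ Fin a → F) →ₗ[F] (Fin a ⊕ Fin a → F) :=
      LinearMap.fst F _ _ ∘ₗ e.symm.toLinearMap ∘ₗ
        Matrix.toLin' (A : Matrix (Fin m ⊕ Fin m) (Fin m ⊕ Fin m) F) ∘ₗ e.toLinearMap ∘ₗ
        LinearMap.inl F _ _
    let L2 : (Fin b ⊕ Fin b → F) →ₗ[F] (Fin b ⊕ Fin b → F) :=
      LinearMap.snd F _ _ ∘ₗ e.symm.toLinearMap ∘ₗ
        Matrix.toLin' (A : Matrix (Fin m ⊕ Fin m) (Fin m ⊕ Fin m) F) ∘ₗ e.toLinearMap ∘ₗ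
        LinearMap.inr F _ _
    have hL1 : ∀ x, e (L1 x, 0) = (A : Matrix (Fin m ⊕ Fin m) (Fin m ⊕ Fin m) F) *ᵥ e (x, 0) := by
      intro x
      have h3 : (L1 x, (0 : Fin b ⊕ Fin b → F)) =
          e.symm ((A : Matrix (Fin m ⊕ Fin m) (Fin m ⊕ Fin m) F) *ᵥ e (x, 0)) :=
        Prod.ext rfl (h0 x).symm
      rw [h3, e.apply_symm_apply]
    have hL2 : ∀ y, e (0, L2 y) = (A : Matrix (Fin m ⊕ Fin m) (Fin m ⊕ Fin m) F) *ᵥ e (0, y) := by
      intro y
      have h3 : ((0 : Fin a ⊕ Fin a → F), L2 y) =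
          e.symm ((A : Matrix (Fin m ⊕ Fin m) (Fin m ⊕ Fin m) F) *ᵥ e (0, y)) :=
        Prod.ext (h1 y).symm rfl
      rw [h3, e.apply_symm_apply]
    refine ⟨(⟨LinearMap.toMatrix' L1, ?_⟩, ⟨LinearMap.toMatrix' L2, ?_⟩), ?_⟩
    · rw [mem_symplecticGroup_iff]
      intro u v
      rw [LinearMap.toMatrix'_mulVec, LinearMap.toMatrix'_mulVec]
      have h5 := he (L1 u, 0) (L1 v, 0)
      rw [hL1, hL1, sympForm_mulVec A.2, he] at h5
      simpa using h5.symm
    · rw [mem_symplecticGroup_iff]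
      intro u v
      rw [LinearMap.toMatrix'_mulVec, LinearMap.toMatrix'_mulVec]
      have h5 := he (0, L2 u) (0, L2 v)
      rw [hL2, hL2, sympForm_mulVec A.2, he] at h5
      simpa using h5.symm
    · ext1
      rw [← Matrix.mulVec_injective.eq_iff]
      funext v
      obtain ⟨⟨x, y⟩, rfl⟩ := e.surjective v
      rw [blockHom_mulVec]
      change e (LinearMap.toMatrix' L1 *ᵥ x, LinearMap.toMatrix' L2 *ᵥ y) = _
      rw [LinearMap.toMatrix'_mulVec, LinearMap.toMatrix'_mulVec]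
      have h6 : (L1 x, L2 y) = (L1 x, 0) + (0, L2 y) := by simp
      have h7 : (x, y) = (x, 0) + (0, y) := by simp
      rw [h6, map_add, hL1, hL2, h7, map_add, Matrix.mulVec_add]

/-- If W ≤ F^(2m) is a 2k-dimensional subspace on which the symplectic form is non-degenerate, then the stabiliser of W in Sp_2m(F) is isomorphic to Sp_2k(F) × Sp_(2m−2k)(F). -/
theorem result {F : Type*} [Field F] (m k : ℕ) (hk : k ≤ m) (W : Submodule F (Fin m ⊕ Fin m → F)) (hWk : Module.finrank F W = 2 * k) (hW : ∀ u ∈ W, (∀ v ∈ W, Cfsg.sympForm m F u v = 0) → u = 0) : Nonempty (↥(Cfsg.stabilizing (Cfsg.spToMat m F) (W : Set (Fin m ⊕ Fin m → F))) ≃* Matrix.symplecticGroup (Fin k) F × Matrix.symplecticGroup (Fin (m - k)) F) := by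
  have hB : (sympBilin m F).IsRefl := sympBilin_isAlt.isRefl
  have hc : IsCompl W (LinearMap.BilinForm.orthogonal (sympBilin m F) W) := by
    rw [LinearMap.BilinForm.isCompl_orthogonal_iff_disjoint hB, Submodule.disjoint_def]
    intro u hu hu'
    refine hW u hu fun v hv => ?_
    rw [sympForm_swap]
    exact neg_eq_zero.2 (hu' v hv)
  set U := LinearMap.BilinForm.orthogonal (sympBilin m F) W with hU
  have hWU : ∀ w ∈ W, ∀ u ∈ U, sympForm m F w u = 0 := by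
    intro w hw u hu
    exact hu w hw
  have hUk : Module.finrank F U = 2 * (m - k) := by
    have := Submodule.finrank_add_eq_of_isCompl hc
    rw [hWk, Module.finrank_fintype_fun_eq_card] at this
    simp at this
    omega
  obtain ⟨e1, he1⟩ := exists_linearEquiv_sympForm
    (LinearMap.BilinForm.restrict (sympBilin m F) W) (fun x => sympForm_self (x : Fin m ⊕ Fin m → F))
    (fun u hu => Subtype.ext (hW u u.2 fun v hv => hu ⟨v, hv⟩)) hWk
  obtain ⟨e2, he2⟩ := exists_linearEquiv_sympForm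
    (LinearMap.BilinForm.restrict (sympBilin m F) U) (fun x => sympForm_self (x : Fin m ⊕ Fin m → F))
    (fun u hu => by
      ext1
      apply eq_zero_of_forall_sympForm_right
      intro v
      obtain ⟨w, hw, u', hu', rfl⟩ : ∃ w ∈ W, ∃ u' ∈ U, w + u' = v := by
        have : v ∈ W ⊔ U := by rw [hc.sup_eq_top]; trivial
        exact Submodule.mem_sup.1 this
      rw [sympForm_add_right, sympForm_swap, hWU w hw u u.2, neg_zero, zero_add]
      exact hu ⟨u', hu'⟩) hUk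
  let e : ((Fin k ⊕ Fin k → F) × (Fin (m - k) ⊕ Fin (m - k) → F)) ≃ₗ[F] (Fin m ⊕ Fin m → F) :=
    (e1.prodCongr e2).trans (Submodule.prodEquivOfIsCompl W U hc)
  have heapp : ∀ x, e x = (e1 x.1 : Fin m ⊕ Fin m → F) + (e2 x.2 : Fin m ⊕ Fin m → F) := by
    intro x
    simp [e]
  have he : ∀ x y, sympForm m F (e x) (e y) =
      sympForm k F x.1 y.1 + sympForm (m - k) F x.2 y.2 := by
    intro x y
    rw [heapp, heapp, sympForm_add_left, sympForm_add_right, sympForm_add_right,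
      hWU _ (e1 x.1).2 _ (e2 y.2).2, sympForm_swap (e2 x.2 : Fin m ⊕ Fin m → F) (e1 y.1),
      hWU _ (e1 y.1).2 _ (e2 x.2).2, neg_zero, add_zero, zero_add]
    exact congrArg₂ (· + ·) (he1 x.1 y.1) (he2 x.2 y.2)
  have hmemW : ∀ v, v ∈ W ↔ (e.symm v).2 = 0 := by
    intro v
    obtain ⟨⟨x, y⟩, rfl⟩ := e.surjective v
    rw [e.symm_apply_apply, heapp]
    change (e1 x : Fin m ⊕ Fin m → F) + (e2 y : Fin m ⊕ Fin m → F) ∈ W ↔ y = 0
    rw [Submodule.add_mem_iff_right _ (e1 x).2]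
    constructor
    · intro h
      have := (Submodule.disjoint_def.1 hc.disjoint) _ h (e2 y).2
      have h2 : e2 y = 0 := Subtype.ext this
      exact (LinearEquiv.map_eq_zero_iff e2).1 h2
    · rintro rfl
      rw [map_zero]
      exact W.zero_mem
  have hrange : (blockHom e he).range =
      Cfsg.stabilizing (Cfsg.spToMat m F) (W : Set (Fin m ⊕ Fin m → F)) := by
    ext A
    rw [mem_range_blockHom, mem_stabilizing_iff]
    refine forall_congr' fun v => ?_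
    rw [← hmemW, ← hmemW]
    rfl
  exact ⟨((MonoidHom.ofInjective (blockHom_injective e he)).trans
    (MulEquiv.subgroupCongr hrange)).symm⟩

end Cfsg.Agent.S0776
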