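import Cfsg.Statements.S0777
-- import your own Cfsg.Agent.* helpers here
import Cfsg.Agent.ClassicalGeometry.SympBasic

set_option autoImplicit false
open Cfsg

namespace Cfsg.Agent.S0777

open Cfsg.Agent.ClassicalGeometry.SympBasic
open scoped Matrix

variable {F : Type*} [Field F] {m : ℕ}

/-- Values of the form on the standard basis. -/
theorem sympForm_single (i j : Fin m ⊕ Fin m) :
    sympForm m F (Pi.single i 1) (Pi.single j 1) =
      Sum.elim (fun a => Sum.elim (fun _ => 0) (fun b => if a = b then -1 else 0) j)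
        (fun a => Sum.elim (fun b => if a = b then 1 else 0) (fun _ => 0) j) i := by
  rcases i with a | a <;> rcases j with b | b
  · rw [sympForm_single_inl_left]; simp
  · rw [sympForm_single_inl_left]
    by_cases h : a = b
    · subst h; simp
    · simp [h]
  · rw [sympForm_single_inr_left]
    by_cases h : a = b
    · subst h; simp
    · simp [h]
  · rw [sympForm_single_inr_left]; simp

theorem mem_sp_of_basis {A : Matrix (Fin m ⊕ Fin m) (Fin m ⊕ Fin m) F}
    (h : ∀ i j, sympForm m F (A *ᵥ Pi.single i 1) (A *ᵥ Pi.single j 1) =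
      sympForm m F (Pi.single i 1) (Pi.single j 1)) :
    A ∈ Matrix.symplecticGroup (Fin m) F := by
  rw [mem_symplecticGroup_iff]
  have key : (sympBilin m F).compl₁₂ (Matrix.toLin' A) (Matrix.toLin' A) = sympBilin m F := by
    refine LinearMap.ext_basis (Pi.basisFun F _) (Pi.basisFun F _) fun i j => ?_
    simpa using h i j
  intro u v
  exact LinearMap.congr_fun₂ key u v

/-- The torus, as a subgroup. -/
def torus (m : ℕ) (F : Type*) [Field F] : Subgroup (Matrix.symplecticGroup (Fin m) F) :=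
  ⨅ i : Fin m ⊕ Fin m, Cfsg.stabilizing (Cfsg.spToMat m F)
    ((Submodule.span F {(Pi.single i (1 : F) : Fin m ⊕ Fin m → F)} :
      Submodule F (Fin m ⊕ Fin m → F)) : Set (Fin m ⊕ Fin m → F))

/-- A vector is supported on the coordinate `i`. -/
theorem mem_axis_iff {ι : Type*} [DecidableEq ι] (i : ι) (v : ι → F) :
    v ∈ Submodule.span F {(Pi.single i (1 : F) : ι → F)} ↔ ∀ j, j ≠ i → v j = 0 := by
  rw [Submodule.mem_span_singleton]
  constructor
  · rintro ⟨a, rfl⟩ j hj
    simp [hj]
  · intro h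
    refine ⟨v i, ?_⟩
    funext j
    by_cases hj : j = i
    · subst hj; simp
    · simp [hj, h j hj]

theorem mem_torus_iff (A : Matrix.symplecticGroup (Fin m) F) :
    A ∈ torus m F ↔ ∀ i, ∃ c : F,
      (A : Matrix (Fin m ⊕ Fin m) (Fin m ⊕ Fin m) F) *ᵥ Pi.single i 1 = c • Pi.single i 1 := by
  have h0 : A ∈ torus m F ↔ ∀ i v, v ∈ Submodule.span F {(Pi.single i (1 : F) : Fin m ⊕ Fin m → F)} ↔
      (A : Matrix (Fin m ⊕ Fin m) (Fin m ⊕ Fin m) F) *ᵥ v ∈
        Submodule.span F {(Pi.single i (1 : F) : Fin m ⊕ Fin m → F)} := by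
    rw [torus, Subgroup.mem_iInf]
    exact Iff.rfl
  rw [h0]
  constructor
  · intro h i
    have := (h i (Pi.single i 1)).1 (Submodule.mem_span_singleton_self _)
    rw [Submodule.mem_span_singleton] at this
    obtain ⟨c, hc⟩ := this
    exact ⟨c, hc.symm⟩
  · intro h i v
    choose c hc using h
    have hcv : ∀ w j, ((A : Matrix (Fin m ⊕ Fin m) (Fin m ⊕ Fin m) F) *ᵥ w) j = c j * w j := by
      intro w j
      have h1 : ∀ k, (A : Matrix (Fin m ⊕ Fin m) (Fin m ⊕ Fin m) F) j k = if j = k then c k else 0 := by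
        intro k
        have := congrFun (hc k) j
        rw [Matrix.mulVec_single_one] at this
        by_cases hjk : j = k
        · subst hjk; simpa using this
        · simpa [hjk] using this
      simp [Matrix.mulVec, dotProduct, h1]
    have hne : ∀ j, c j ≠ 0 := by
      intro j hj
      have h2 : (A : Matrix (Fin m ⊕ Fin m) (Fin m ⊕ Fin m) F) *ᵥ Pi.single j 1 = 0 := by
        rw [hc, hj, zero_smul]
      have h3 : (Pi.single j 1 : Fin m ⊕ Fin m → F) = 0 := by
        apply eq_zero_of_forall_sympForm_left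
        intro w
        rw [← sympForm_mulVec A.2, h2, sympForm_zero_right]
      exact one_ne_zero (α := F) (by simpa using congrFun h3 j)
    rw [mem_axis_iff, mem_axis_iff]
    refine forall_congr' fun j => imp_congr_right fun _ => ?_
    rw [hcv]
    simp [hne j]

/-- The diagonal element with entries `t, t⁻¹`. -/
noncomputable def dg (t : Fin m → Fˣ) : Matrix.symplecticGroup (Fin m) F :=
  ⟨Matrix.diagonal (Sum.elim (fun i => ((t i : Fˣ) : F)) (fun i => (((t i)⁻¹ : Fˣ) : F))), by
    rw [mem_symplecticGroup_iff]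
    intro u v
    rw [sympForm_eq_sum, sympForm_eq_sum]
    refine Finset.sum_congr rfl fun i _ => ?_
    simp only [Matrix.mulVec_diagonal, Sum.elim_inl, Sum.elim_inr, Units.val_inv_eq_inv_val]
    have h := (t i).ne_zero
    field_simp⟩

theorem dg_mulVec (t : Fin m → Fˣ) (v : Fin m ⊕ Fin m → F) (j : Fin m ⊕ Fin m) :
    (((dg t : Matrix.symplecticGroup (Fin m) F) : Matrix (Fin m ⊕ Fin m) (Fin m ⊕ Fin m) F) *ᵥ v) j =
      (Sum.elim (fun i => ((t i : Fˣ) : F)) (fun i => (((t i)⁻¹ : Fˣ) : F))) j * v j := by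
  exact Matrix.mulVec_diagonal _ _ _

theorem dg_mem_torus (t : Fin m → Fˣ) : (dg t : Matrix.symplecticGroup (Fin m) F) ∈ torus m F := by
  rw [mem_torus_iff]
  intro i
  refine ⟨(Sum.elim (fun i => ((t i : Fˣ) : F)) (fun i => (((t i)⁻¹ : Fˣ) : F))) i, ?_⟩
  funext j
  rw [dg_mulVec]
  by_cases hj : j = i
  · subst hj; simp
  · simp [hj]

/-- Elements of the normaliser of the torus map axes to axes. -/
theorem exists_axis [Finite F] (hF : 3 < Nat.card F) {A : Matrix.symplecticGroup (Fin m) F}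
    (hA : A ∈ Subgroup.normalizer (torus m F : Set (Matrix.symplecticGroup (Fin m) F)))
    (i : Fin m ⊕ Fin m) : ∃ (j : Fin m ⊕ Fin m) (c : Fˣ),
      (A : Matrix (Fin m ⊕ Fin m) (Fin m ⊕ Fin m) F) *ᵥ Pi.single i 1 = (c : F) • Pi.single j 1 := by
  classical
  obtain ⟨g, hg⟩ : ∃ g : Fˣ, g ^ 2 ≠ 1 := by
    apply exists_pow_ne_one_of_isCyclic two_ne_zero
    rw [Nat.card_units]
    omega
  have hg1 : (g : F) ≠ 1 := by
    intro h
    apply hg
    rw [Units.val_eq_one.1 h, one_pow]
  have hg2 : (g : F) ≠ ((g⁻¹ : Fˣ) : F) := by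
    intro h
    apply hg
    have := Units.ext h
    rw [pow_two]
    nth_rw 1 [this]
    rw [inv_mul_cancel]
  have hg3 : ((g⁻¹ : Fˣ) : F) ≠ 1 := by
    intro h
    apply hg1
    rw [inv_eq_one.1 (Units.val_eq_one.1 h), Units.val_one]
  set v : Fin m ⊕ Fin m → F := (A : Matrix (Fin m ⊕ Fin m) (Fin m ⊕ Fin m) F) *ᵥ Pi.single i 1
    with hv
  have hvne : v ≠ 0 := by
    intro h
    have h3 : (Pi.single i 1 : Fin m ⊕ Fin m → F) = 0 := by
      apply eq_zero_of_forall_sympForm_left
      intro w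
      rw [← sympForm_mulVec A.2, ← hv, h, sympForm_zero_right]
    exact one_ne_zero (α := F) (by simpa using congrFun h3 i)
  -- `v` is an eigenvector of every diagonal element
  have heig : ∀ t : Fin m → Fˣ, ∃ c : F, ∀ j,
      (Sum.elim (fun i => ((t i : Fˣ) : F)) (fun i => (((t i)⁻¹ : Fˣ) : F))) j * v j = c * v j := by
    intro t
    have h1 : A⁻¹ * dg t * A⁻¹⁻¹ ∈ torus m F :=
      (Subgroup.mem_normalizer_iff.1 (inv_mem hA) (dg t)).1 (dg_mem_torus t)
    obtain ⟨c, hc⟩ := (mem_torus_iff _).1 h1 i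
    refine ⟨c, fun j => ?_⟩
    have h2 : ((dg t : Matrix.symplecticGroup (Fin m) F) :
        Matrix (Fin m ⊕ Fin m) (Fin m ⊕ Fin m) F) *ᵥ v = c • v := by
      rw [hv, ← Matrix.mulVec_smul, ← hc, ← coe_mul_mulVec, ← coe_mul_mulVec]
      congr 2
      group
    rw [← dg_mulVec, h2, Pi.smul_apply, smul_eq_mul]
  obtain ⟨j, hj⟩ : ∃ j, v j ≠ 0 := by
    by_contra h
    push Not at h
    exact hvne (funext h)
  have huniq : ∀ k, k ≠ j → v k = 0 := by
    intro k hkj
    by_contra hk
    have hall : ∀ t : Fin m → Fˣ,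
        (Sum.elim (fun i => ((t i : Fˣ) : F)) (fun i => (((t i)⁻¹ : Fˣ) : F))) j =
        (Sum.elim (fun i => ((t i : Fˣ) : F)) (fun i => (((t i)⁻¹ : Fˣ) : F))) k := by
      intro t
      obtain ⟨c, hc⟩ := heig t
      rw [mul_right_cancel₀ hj (hc j), mul_right_cancel₀ hk (hc k)]
    rcases j with a | a <;> rcases k with b | b
    · have := hall (Function.update 1 a g)
      have hab : b ≠ a := fun h => hkj (by rw [h])
      simp [hab] at this
      exact hg1 (by rw [this]; rfl)
    · have := hall (Function.update 1 a g)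
      by_cases hab : b = a
      · subst hab
        simp at this
        exact hg2 (by simpa using this)
      · simp [hab] at this
        exact hg1 (by rw [this]; rfl)
    · have := hall (Function.update 1 a g)
      by_cases hab : b = a
      · subst hab
        simp at this
        exact hg2 (by simpa using this.symm)
      · simp [hab] at this
        exact hg1 (by rw [this]; rfl)
    · have := hall (Function.update 1 a g)
      have hab : b ≠ a := fun h => hkj (by rw [h])
      simp [hab] at this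
      exact hg1 (by rw [this]; rfl)
  refine ⟨j, Units.mk0 (v j) hj, ?_⟩
  funext k
  by_cases hk : k = j
  · subst hk; simp
  · simp [hk, huniq k hk]

/-- The permutation part of a monomial element. -/
def pm (σ : Equiv.Perm (Fin m)) (ε : Fin m → Bool) : Fin m ⊕ Fin m → Fin m ⊕ Fin m :=
  Sum.elim (fun i => if ε i then Sum.inr (σ i) else Sum.inl (σ i))
    (fun i => if ε i then Sum.inl (σ i) else Sum.inr (σ i))

/-- The coefficients of a monomial element. -/
def co (ε : Fin m → Bool) (t : Fin m → Fˣ) : Fin m ⊕ Fin m → Fˣ :=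
  Sum.elim t (fun i => if ε i then -(t i)⁻¹ else (t i)⁻¹)

/-- The monomial matrix. -/
def mon (σ : Equiv.Perm (Fin m)) (ε : Fin m → Bool) (t : Fin m → Fˣ) :
    Matrix (Fin m ⊕ Fin m) (Fin m ⊕ Fin m) F :=
  Matrix.of fun r c => if r = pm σ ε c then (co ε t c : F) else 0

theorem mon_mulVec (σ : Equiv.Perm (Fin m)) (ε : Fin m → Bool) (t : Fin m → Fˣ)
    (i : Fin m ⊕ Fin m) :
    mon σ ε t *ᵥ Pi.single i 1 = (co ε t i : F) • Pi.single (pm σ ε i) 1 := by
  rw [Matrix.mulVec_single_one]
  funext j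
  by_cases hj : j = pm σ ε i
  · subst hj; simp [mon]
  · simp [mon, hj]

theorem mon_mem (σ : Equiv.Perm (Fin m)) (ε : Fin m → Bool) (t : Fin m → Fˣ) :
    mon σ ε t ∈ Matrix.symplecticGroup (Fin m) F := by
  apply mem_sp_of_basis
  intro i j
  rw [mon_mulVec, mon_mulVec, sympForm_smul_left, sympForm_smul_right, sympForm_single,
    sympForm_single]
  rcases i with a | a <;> rcases j with b | b <;> by_cases hab : a = b <;>
    rcases ha : ε a with _ | _ <;> rcases hb : ε b with _ | _ <;>
    first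
    | (subst hab; simp [pm, co, ha])
    | simp [pm, co, ha, hb, hab]

theorem pm_injective (σ : Equiv.Perm (Fin m)) (ε : Fin m → Bool) :
    Function.Injective (pm σ ε) := by
  intro i j h
  rcases i with a | a <;> rcases j with b | b <;>
    rcases ha : ε a with _ | _ <;> rcases hb : ε b with _ | _ <;>
    simp [pm, ha, hb] at h <;> subst h <;> simp_all

/-- The monomial matrices as elements of the symplectic group. -/
def monS (x : Equiv.Perm (Fin m) × (Fin m → Bool) × (Fin m → Fˣ)) :
    Matrix.symplecticGroup (Fin m) F := ⟨mon x.1 x.2.1 x.2.2, mon_mem _ _ _⟩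

theorem monS_mulVec (x : Equiv.Perm (Fin m) × (Fin m → Bool) × (Fin m → Fˣ))
    (i : Fin m ⊕ Fin m) :
    (monS x : Matrix (Fin m ⊕ Fin m) (Fin m ⊕ Fin m) F) *ᵥ Pi.single i 1 =
      (co x.2.1 x.2.2 i : F) • Pi.single (pm x.1 x.2.1 i) 1 :=
  mon_mulVec _ _ _ i

theorem smul_single_eq {i j : Fin m ⊕ Fin m} {c d : Fˣ}
    (h : (c : F) • (Pi.single i 1 : Fin m ⊕ Fin m → F) = (d : F) • Pi.single j 1) :
    i = j ∧ c = d := by
  have hij : i = j := by
    by_contra hij
    have := congrFun h i
    simp [hij] at this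
  subst hij
  refine ⟨rfl, Units.ext ?_⟩
  simpa using congrFun h i

theorem monS_injective : Function.Injective
    (monS : Equiv.Perm (Fin m) × (Fin m → Bool) × (Fin m → Fˣ) →
      Matrix.symplecticGroup (Fin m) F) := by
  rintro ⟨σ, ε, t⟩ ⟨σ', ε', t'⟩ h
  have h1 : ∀ i : Fin m, ε i = ε' i ∧ σ i = σ' i ∧ t i = t' i := by
    intro i
    have h2 := monS_mulVec (F := F) ⟨σ, ε, t⟩ (Sum.inl i)
    rw [h, monS_mulVec] at h2
    obtain ⟨h3, h4⟩ := smul_single_eq h2
    rcases ha : ε i with _ | _ <;> rcases hb : ε' i with _ | _ <;>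
      simp_all [pm, co]
  refine Prod.ext (Equiv.ext fun i => (h1 i).2.1) (Prod.ext (funext fun i => (h1 i).1)
    (funext fun i => (h1 i).2.2))

theorem monS_mem_normalizer (x : Equiv.Perm (Fin m) × (Fin m → Bool) × (Fin m → Fˣ)) :
    (monS x : Matrix.symplecticGroup (Fin m) F) ∈
      Subgroup.normalizer (torus m F : Set (Matrix.symplecticGroup (Fin m) F)) := by
  rw [Subgroup.mem_normalizer_iff]
  have hinv : ∀ i : Fin m ⊕ Fin m,
      (((monS x)⁻¹ : Matrix.symplecticGroup (Fin m) F) :
        Matrix (Fin m ⊕ Fin m) (Fin m ⊕ Fin m) F) *ᵥ Pi.single (pm x.1 x.2.1 i) 1 =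
      (((co x.2.1 x.2.2 i)⁻¹ : Fˣ) : F) • Pi.single i 1 := by
    intro i
    have h1 := monS_mulVec (F := F) x i
    have h2 : (Pi.single (pm x.1 x.2.1 i) 1 : Fin m ⊕ Fin m → F) =
        (monS x : Matrix (Fin m ⊕ Fin m) (Fin m ⊕ Fin m) F) *ᵥ
          ((((co x.2.1 x.2.2 i)⁻¹ : Fˣ) : F) • Pi.single i 1) := by
      rw [Matrix.mulVec_smul, h1, smul_smul, Units.inv_mul, one_smul]
    rw [h2, ← coe_mul_mulVec, inv_mul_cancel, Submonoid.coe_one, Matrix.one_mulVec]
  have hsurj : Function.Surjective (pm x.1 x.2.1) :=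
    Finite.injective_iff_surjective.1 (pm_injective _ _)
  intro h
  rw [mem_torus_iff, mem_torus_iff]
  constructor
  · intro hh j
    obtain ⟨i, rfl⟩ := hsurj j
    obtain ⟨c, hc⟩ := hh i
    refine ⟨c, ?_⟩
    rw [coe_mul_mulVec, hinv, Matrix.mulVec_smul, coe_mul_mulVec, hc, Matrix.mulVec_smul,
      monS_mulVec, smul_smul, smul_smul]
    congr 1
    rw [mul_comm, Units.mul_inv_cancel_left]
  · intro hh i
    obtain ⟨c, hc⟩ := hh (pm x.1 x.2.1 i)
    refine ⟨c, ?_⟩
    rw [coe_mul_mulVec, hinv, Matrix.mulVec_smul, coe_mul_mulVec] at hc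
    have h1 := congrArg (fun v => (((monS x)⁻¹ : Matrix.symplecticGroup (Fin m) F) :
        Matrix (Fin m ⊕ Fin m) (Fin m ⊕ Fin m) F) *ᵥ v) hc
    rw [Matrix.mulVec_smul, Matrix.mulVec_smul, hinv, ← coe_mul_mulVec, inv_mul_cancel,
      Submonoid.coe_one, Matrix.one_mulVec, smul_comm] at h1
    exact (smul_right_injective _ (Units.ne_zero _)) h1

theorem exists_monS [Finite F] (hF : 3 < Nat.card F) {A : Matrix.symplecticGroup (Fin m) F}
    (hA : A ∈ Subgroup.normalizer (torus m F : Set (Matrix.symplecticGroup (Fin m) F))) :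
    ∃ x, monS x = A := by
  choose p c hp using exists_axis hF hA
  have hf : ∀ i j, (c i : F) * ((c j : F) * sympForm m F (Pi.single (p i) 1) (Pi.single (p j) 1)) =
      sympForm m F (Pi.single i 1) (Pi.single j 1) := by
    intro i j
    rw [← sympForm_smul_right, ← sympForm_smul_left, ← hp, ← hp, sympForm_mulVec A.2]
  have hpinj : Function.Injective p := by
    intro i j hij
    by_contra hne
    have h1 : (A : Matrix (Fin m ⊕ Fin m) (Fin m ⊕ Fin m) F) *ᵥ
        ((c j : F) • Pi.single i 1 - (c i : F) • Pi.single j 1) = 0 := by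
      rw [Matrix.mulVec_sub, Matrix.mulVec_smul, Matrix.mulVec_smul, hp, hp, hij, smul_smul,
        smul_smul, mul_comm, sub_self]
    have h2 : ((c j : F) • Pi.single i 1 - (c i : F) • Pi.single j 1 : Fin m ⊕ Fin m → F) = 0 := by
      apply eq_zero_of_forall_sympForm_left
      intro w
      rw [← sympForm_mulVec A.2, h1, sympForm_zero_right]
    have h3 := congrFun h2 i
    simp [hne] at h3
  -- partner
  have hpart : ∀ a : Fin m, ∃ (b : Fin m) (e : Bool),
      p (Sum.inl a) = (if e then Sum.inr b else Sum.inl b) ∧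
      p (Sum.inr a) = (if e then Sum.inl b else Sum.inr b) ∧
      c (Sum.inr a) = (if e then -(c (Sum.inl a))⁻¹ else (c (Sum.inl a))⁻¹) := by
    intro a
    have h1 := hf (Sum.inl a) (Sum.inr a)
    rw [sympForm_single, sympForm_single] at h1
    rcases hl : p (Sum.inl a) with b | b <;> rcases hr : p (Sum.inr a) with d | d
    · rw [hl, hr] at h1; simp at h1
    · rw [hl, hr] at h1
      by_cases hbd : b = d
      · subst hbd
        refine ⟨b, false, by simp, by simp, ?_⟩
        simp at h1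
        rw [if_neg (by simp), eq_inv_iff_mul_eq_one]
        apply Units.ext
        rw [Units.val_mul, mul_comm, h1, Units.val_one]
      · simp [hbd] at h1
    · rw [hl, hr] at h1
      by_cases hbd : b = d
      · subst hbd
        refine ⟨b, true, by simp, by simp, ?_⟩
        simp at h1
        rw [if_pos rfl, ← neg_eq_iff_eq_neg, eq_inv_iff_mul_eq_one]
        apply Units.ext
        rw [Units.val_mul, Units.val_neg, neg_mul, mul_comm, h1, neg_neg, Units.val_one]
      · simp [hbd] at h1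
    · rw [hl, hr] at h1; simp at h1
  choose σ ε h1 h2 h3 using hpart
  have hσ : Function.Injective σ := by
    intro a b hab
    by_cases he : ε a = ε b
    · have h4 := h1 a
      rw [hab, he, ← h1 b] at h4
      exact Sum.inl_injective (hpinj h4)
    · exfalso
      have h4 : p (Sum.inl a) = p (Sum.inr b) := by
        rw [h1, h2, hab]
        rcases ha : ε a with _ | _ <;> rcases hb : ε b with _ | _ <;> simp_all
      exact Sum.inl_ne_inr (hpinj h4)
  refine ⟨⟨Equiv.ofBijective σ ((Fintype.bijective_iff_injective_and_card σ).2 ⟨hσ, rfl⟩), ε,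
    fun a => c (Sum.inl a)⟩, ?_⟩
  ext1
  refine Matrix.ext_of_mulVec_single fun i => ?_
  rw [monS_mulVec, hp]
  rcases i with a | a
  · rw [h1]; rfl
  · rw [h2, h3]; rfl

/-- Weyl group of type C_m: for q ≥ 4 the diagonal matrices of Sp_2m(q) form a torus T ≅ (C_(q−1))^m (the elements stabilising every coordinate axis), and the normaliser of T in Sp_2m(q) has order 2^m · m! · (q − 1)^m. -/
theorem result {F : Type*} [Field F] [Fintype F] {q : ℕ} (hF : Fintype.card F = q) (hq : 4 ≤ q) (m : ℕ) : Nat.card ↥(Subgroup.normalizer (⨅ i : Fin m ⊕ Fin m, Cfsg.stabilizing (Cfsg.spToMat m F) ((Submodule.span F {(Pi.single i (1 : F) : Fin m ⊕ Fin m → F)} : Submodule F (Fin m ⊕ Fin m → F)) : Set (Fin m ⊕ Fin m → F)) : Set (Matrix.symplecticGroup (Fin m) F))) = 2 ^ m * Nat.factorial m * (q - 1) ^ m := by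
  classical
  have h0 : (⨅ i : Fin m ⊕ Fin m, Cfsg.stabilizing (Cfsg.spToMat m F) ((Submodule.span F {(Pi.single i (1 : F) : Fin m ⊕ Fin m → F)} : Submodule F (Fin m ⊕ Fin m → F)) : Set (Fin m ⊕ Fin m → F)) : Set (Matrix.symplecticGroup (Fin m) F)) = (torus m F : Set (Matrix.symplecticGroup (Fin m) F)) := by
    rw [torus, Subgroup.coe_iInf]
    rfl
  rw [h0]
  have hF' : 3 < Nat.card F := by rw [Nat.card_eq_fintype_card, hF]; omega
  let f : Equiv.Perm (Fin m) × (Fin m → Bool) × (Fin m → Fˣ) →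
      Subgroup.normalizer (torus m F : Set (Matrix.symplecticGroup (Fin m) F)) :=
    fun x => ⟨monS x, monS_mem_normalizer x⟩
  have hf : Function.Bijective f := by
    constructor
    · intro x y hxy
      exact monS_injective (Subtype.ext_iff.1 hxy)
    · rintro ⟨A, hA⟩
      obtain ⟨x, hx⟩ := exists_monS hF' hA
      exact ⟨x, Subtype.ext hx⟩
  rw [← Nat.card_congr (Equiv.ofBijective f hf), Nat.card_prod, Nat.card_prod, Nat.card_perm,
    Nat.card_fun, Nat.card_fun, Nat.card_units, Nat.card_eq_fintype_card (α := F), hF,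
    Nat.card_eq_fintype_card (α := Bool), Nat.card_fin, Fintype.card_bool]
  ring

end Cfsg.Agent.S0777
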