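import Cfsg.Statements.S0778

set_option autoImplicit false
open Cfsg

namespace Cfsg.Agent.S0778

open Matrix

/-- The block-diagonal matrix `diag(X, X⁻ᵀ)` lies in the symplectic group. -/
theorem blk_mem {F : Type*} [Field F] (m : ℕ) (X : GL (Fin m) F) :
    Matrix.fromBlocks (X : Matrix (Fin m) (Fin m) F) 0 0
      ((X⁻¹ : GL (Fin m) F) : Matrix (Fin m) (Fin m) F)ᵀ ∈ Matrix.symplecticGroup (Fin m) F := by
  rw [SymplecticGroup.mem_iff, Matrix.J, Matrix.fromBlocks_transpose,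
    Matrix.fromBlocks_multiply, Matrix.fromBlocks_multiply]
  have h1 : (X : Matrix (Fin m) (Fin m) F) * ((X⁻¹ : GL (Fin m) F) : Matrix (Fin m) (Fin m) F) = 1 := by
    rw [← Units.val_mul, mul_inv_cancel, Units.val_one]
  have h2 : ((X⁻¹ : GL (Fin m) F) : Matrix (Fin m) (Fin m) F)ᵀ
      * (X : Matrix (Fin m) (Fin m) F)ᵀ = 1 := by
    rw [← Matrix.transpose_mul, h1, Matrix.transpose_one]
  simp only [Matrix.transpose_transpose, Matrix.transpose_zero, Matrix.mul_zero, Matrix.zero_mul,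
    Matrix.mul_one, Matrix.mul_neg, Matrix.neg_mul, add_zero, zero_add, neg_zero, h1, h2]

/-- The embedding of `GL_m` into `Sp_2m`. -/
noncomputable def blkHom {F : Type*} [Field F] (m : ℕ) :
    GL (Fin m) F →* Matrix.symplecticGroup (Fin m) F where
  toFun X := ⟨_, blk_mem m X⟩
  map_one' := by
    apply Subtype.ext
    simp
  map_mul' X Y := by
    apply Subtype.ext
    show Matrix.fromBlocks ((X * Y : GL (Fin m) F) : Matrix (Fin m) (Fin m) F) 0 0
      (((X * Y)⁻¹ : GL (Fin m) F) : Matrix (Fin m) (Fin m) F)ᵀ =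
      Matrix.fromBlocks (X : Matrix (Fin m) (Fin m) F) 0 0
        ((X⁻¹ : GL (Fin m) F) : Matrix (Fin m) (Fin m) F)ᵀ *
      Matrix.fromBlocks (Y : Matrix (Fin m) (Fin m) F) 0 0
        ((Y⁻¹ : GL (Fin m) F) : Matrix (Fin m) (Fin m) F)ᵀ
    rw [Matrix.fromBlocks_multiply, _root_.mul_inv_rev, Units.val_mul, Units.val_mul,
      Matrix.transpose_mul]
    simp only [Matrix.mul_zero, Matrix.zero_mul, add_zero, zero_add]

theorem blkHom_injective {F : Type*} [Field F] (m : ℕ) :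
    Function.Injective (blkHom (F := F) m) := by
  intro X Y h
  have h1 := congrArg Subtype.val h
  have h2 : Matrix.fromBlocks (X : Matrix (Fin m) (Fin m) F) 0 0
        ((X⁻¹ : GL (Fin m) F) : Matrix (Fin m) (Fin m) F)ᵀ =
      Matrix.fromBlocks (Y : Matrix (Fin m) (Fin m) F) 0 0
        ((Y⁻¹ : GL (Fin m) F) : Matrix (Fin m) (Fin m) F)ᵀ := h1
  have h3 := (Matrix.fromBlocks_inj.1 h2).1
  exact Units.ext h3

theorem range_blkHom {F : Type*} [Field F] (m : ℕ) :
    (blkHom (F := F) m).range =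
      (Cfsg.stabilizing (Cfsg.spToMat m F) {v : Fin m ⊕ Fin m → F | ∀ i : Fin m, v (Sum.inr i) = 0} ⊓
        Cfsg.stabilizing (Cfsg.spToMat m F)
          {v : Fin m ⊕ Fin m → F | ∀ i : Fin m, v (Sum.inl i) = 0}) := by
  apply le_antisymm
  · -- range is contained in the stabilizer
    have key1 : ∀ (X : GL (Fin m) F) (v : Fin m ⊕ Fin m → F) (i : Fin m),
        ((spToMat m F (blkHom m X)) *ᵥ v) (Sum.inl i) =
          ((X : Matrix (Fin m) (Fin m) F) *ᵥ (v ∘ Sum.inl)) i := by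
      intro X v i
      show (Matrix.fromBlocks (X : Matrix (Fin m) (Fin m) F) 0 0
        ((X⁻¹ : GL (Fin m) F) : Matrix (Fin m) (Fin m) F)ᵀ *ᵥ v) (Sum.inl i) = _
      rw [Matrix.fromBlocks_mulVec]
      simp
    have key2 : ∀ (X : GL (Fin m) F) (v : Fin m ⊕ Fin m → F) (i : Fin m),
        ((spToMat m F (blkHom m X)) *ᵥ v) (Sum.inr i) =
          (((X⁻¹ : GL (Fin m) F) : Matrix (Fin m) (Fin m) F)ᵀ *ᵥ (v ∘ Sum.inr)) i := by
      intro X v i
      show (Matrix.fromBlocks (X : Matrix (Fin m) (Fin m) F) 0 0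
        ((X⁻¹ : GL (Fin m) F) : Matrix (Fin m) (Fin m) F)ᵀ *ᵥ v) (Sum.inr i) = _
      rw [Matrix.fromBlocks_mulVec]
      simp
    have fwd1 : ∀ (X : GL (Fin m) F) (v : Fin m ⊕ Fin m → F),
        (∀ i : Fin m, v (Sum.inr i) = 0) →
          ∀ i : Fin m, ((spToMat m F (blkHom m X)) *ᵥ v) (Sum.inr i) = 0 := by
      intro X v hv i
      rw [key2]
      have : v ∘ Sum.inr = 0 := funext hv
      rw [this, Matrix.mulVec_zero]; rfl
    have fwd2 : ∀ (X : GL (Fin m) F) (v : Fin m ⊕ Fin m → F),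
        (∀ i : Fin m, v (Sum.inl i) = 0) →
          ∀ i : Fin m, ((spToMat m F (blkHom m X)) *ᵥ v) (Sum.inl i) = 0 := by
      intro X v hv i
      rw [key1]
      have : v ∘ Sum.inl = 0 := funext hv
      rw [this, Matrix.mulVec_zero]; rfl
    have inv : ∀ (X : GL (Fin m) F) (v : Fin m ⊕ Fin m → F),
        (spToMat m F (blkHom m X⁻¹)) *ᵥ ((spToMat m F (blkHom m X)) *ᵥ v) = v := by
      intro X v
      rw [Matrix.mulVec_mulVec, ← map_mul, ← map_mul, inv_mul_cancel, map_one, map_one,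
        Matrix.one_mulVec]
    rintro _ ⟨X, rfl⟩
    refine ⟨fun v => ⟨fwd1 X v, fun h => ?_⟩, fun v => ⟨fwd2 X v, fun h => ?_⟩⟩
    · have := fwd1 X⁻¹ _ h
      rw [inv] at this
      exact this
    · have := fwd2 X⁻¹ _ h
      rw [inv] at this
      exact this
  · rintro ⟨A, hA⟩ ⟨h1, h2⟩
    obtain ⟨X, B, C, Y, rfl⟩ : ∃ X B C Y, A = Matrix.fromBlocks X B C Y :=
      ⟨_, _, _, _, (Matrix.fromBlocks_toBlocks A).symm⟩
    have hC : C = 0 := by
      ext i j
      have hm : ∀ k : Fin m, (Sum.elim (Pi.single j (1 : F)) (0 : Fin m → F)) (Sum.inr k) = 0 :=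
        fun k => rfl
      have h := (h1 (Sum.elim (Pi.single j 1) 0)).1 hm i
      have h' : (Matrix.fromBlocks X B C Y *ᵥ (Sum.elim (Pi.single j (1 : F)) 0)) (Sum.inr i) = 0 := h
      rw [Matrix.fromBlocks_mulVec, Sum.elim_inr, Sum.elim_comp_inl, Sum.elim_comp_inr,
        Matrix.mulVec_zero, add_zero, Matrix.mulVec_single_one] at h'
      exact h'
    have hB : B = 0 := by
      ext i j
      have hm : ∀ k : Fin m, (Sum.elim (0 : Fin m → F) (Pi.single j (1 : F))) (Sum.inl k) = 0 :=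
        fun k => rfl
      have h := (h2 (Sum.elim 0 (Pi.single j 1))).1 hm i
      have h' : (Matrix.fromBlocks X B C Y *ᵥ (Sum.elim 0 (Pi.single j (1 : F)))) (Sum.inl i) = 0 := h
      rw [Matrix.fromBlocks_mulVec, Sum.elim_inl, Sum.elim_comp_inl, Sum.elim_comp_inr,
        Matrix.mulVec_zero, zero_add, Matrix.mulVec_single_one] at h'
      exact h'
    subst hC hB
    have hA' := hA
    rw [SymplecticGroup.mem_iff, Matrix.J, Matrix.fromBlocks_transpose,
      Matrix.fromBlocks_multiply, Matrix.fromBlocks_multiply] at hA'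
    have h3 := (Matrix.fromBlocks_inj.1 hA').2.1
    simp only [Matrix.transpose_zero, Matrix.mul_zero, Matrix.zero_mul,
      Matrix.mul_one, Matrix.mul_neg, Matrix.neg_mul, add_zero, zero_add, neg_inj] at h3
    have h4 : Yᵀ * X = 1 := _root_.mul_eq_one_comm.1 h3
    refine ⟨⟨X, Yᵀ, h3, h4⟩, ?_⟩
    apply Subtype.ext
    show Matrix.fromBlocks X 0 0 (Yᵀ)ᵀ = Matrix.fromBlocks X 0 0 Y
    rw [Matrix.transpose_transpose]

/-- The elements of Sp_2m(F) stabilising both W = ⟨e_1..e_m⟩ and U = ⟨f_1..f_m⟩ form a subgroup isomorphic to GL_m(F) (block-diagonal matrices diag(X, X^(−ᵀ)) up to the sign convention of J), for m ≥ 1 or m = 0 alike. -/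
theorem result {F : Type*} [Field F] (m : ℕ) : Nonempty (↥(Cfsg.stabilizing (Cfsg.spToMat m F) {v : Fin m ⊕ Fin m → F | ∀ i : Fin m, v (Sum.inr i) = 0} ⊓ Cfsg.stabilizing (Cfsg.spToMat m F) {v : Fin m ⊕ Fin m → F | ∀ i : Fin m, v (Sum.inl i) = 0}) ≃* Matrix.GeneralLinearGroup (Fin m) F) := by
  rw [← range_blkHom]
  exact ⟨(MonoidHom.ofInjective (blkHom_injective m)).symm⟩

end Cfsg.Agent.S0778
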