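import Cfsg.Statements.S0779

set_option autoImplicit false
open Cfsg

namespace Cfsg.Agent.S0779

open Matrix

/-- `q` is a power of the characteristic. -/
theorem exists_pow {F : Type*} [Field F] [Fintype F] {q : ℕ} (hF : Fintype.card F = q ^ 2) :
    ∃ p k : ℕ, p.Prime ∧ CharP F p ∧ q = p ^ k := by
  obtain ⟨p, hp⟩ := CharP.exists F
  obtain ⟨n, hpr, hn⟩ := FiniteField.card F p
  have hdvd : q ∣ p ^ (n : ℕ) := by
    rw [← hn, hF]; exact Dvd.intro_left (q ^ 1) (by ring)
  obtain ⟨k, -, hk⟩ := (Nat.dvd_prime_pow hpr).1 hdvd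
  exact ⟨p, k, hpr, hp, hk⟩

theorem add_pow_q {F : Type*} [Field F] [Fintype F] {q : ℕ} (hF : Fintype.card F = q ^ 2)
    (a b : F) : (a + b) ^ q = a ^ q + b ^ q := by
  obtain ⟨p, k, hp, hchar, rfl⟩ := exists_pow hF
  have := Fact.mk hp
  exact add_pow_char_pow a b p k

theorem q_pos {F : Type*} [Field F] [Fintype F] {q : ℕ} (hF : Fintype.card F = q ^ 2) : 0 < q := by
  rcases Nat.eq_zero_or_pos q with h | h
  · subst h
    have := Fintype.card_pos (α := F)
    omega
  · exact h

theorem sum_pow_q {F : Type*} [Field F] [Fintype F] {q : ℕ} (hF : Fintype.card F = q ^ 2)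
    {ι : Type*} (s : Finset ι) (f : ι → F) : (∑ i ∈ s, f i) ^ q = ∑ i ∈ s, f i ^ q := by
  classical
  induction s using Finset.induction_on with
  | empty => simp [(q_pos hF).ne']
  | insert a s ha ih => rw [Finset.sum_insert ha, Finset.sum_insert ha, add_pow_q hF, ih]

theorem pow_q_pow_q {F : Type*} [Field F] [Fintype F] {q : ℕ} (hF : Fintype.card F = q ^ 2)
    (a : F) : (a ^ q) ^ q = a := by
  rw [← pow_mul, ← pow_two, ← hF, FiniteField.pow_card]

theorem herm_swap {F : Type*} [Field F] [Fintype F] {q : ℕ} (hF : Fintype.card F = q ^ 2) (n : ℕ)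
    (x y : Fin n → F) : (hermForm n F q x y) ^ q = hermForm n F q y x := by
  show (∑ i, x i * (y i) ^ q) ^ q = ∑ i, y i * (x i) ^ q
  rw [sum_pow_q hF]
  refine Finset.sum_congr rfl fun i _ => ?_
  rw [mul_pow, pow_q_pow_q hF, mul_comm]

theorem herm_add_smul {F : Type*} [Field F] [Fintype F] {q : ℕ} (hF : Fintype.card F = q ^ 2)
    (n : ℕ) (x y v : Fin n → F) (a b : F) :
    hermForm n F q (x + a • v) (y + b • v) =
      hermForm n F q x y + a * hermForm n F q v y + b ^ q * hermForm n F q x v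
        + a * b ^ q * hermForm n F q v v := by
  show ∑ i, (x i + a * v i) * (y i + b * v i) ^ q =
    (∑ i, x i * (y i) ^ q) + a * (∑ i, v i * (y i) ^ q) + b ^ q * (∑ i, x i * (v i) ^ q)
      + a * b ^ q * (∑ i, v i * (v i) ^ q)
  rw [Finset.mul_sum, Finset.mul_sum, Finset.mul_sum, ← Finset.sum_add_distrib,
    ← Finset.sum_add_distrib, ← Finset.sum_add_distrib]
  refine Finset.sum_congr rfl fun i _ => ?_
  rw [add_pow_q hF, mul_pow]
  ring

theorem trans_mulVec {F : Type*} [Field F] (n q : ℕ) (v : Fin n → F) (c : F) (x : Fin n → F) :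
    (unitaryTransvection n q v c).mulVec x = x + (c * hermForm n F q x v) • v := by
  unfold unitaryTransvection
  rw [Matrix.add_mulVec, Matrix.one_mulVec, Matrix.smul_mulVec, Matrix.vecMulVec_mulVec]
  congr 1
  funext i
  simp only [Pi.smul_apply, MulOpposite.smul_eq_mul_unop, MulOpposite.unop_op, smul_eq_mul]
  have : (fun j => v j ^ q) ⬝ᵥ x = hermForm n F q x v := by
    show ∑ j, v j ^ q * x j = ∑ j, x j * v j ^ q
    exact Finset.sum_congr rfl fun j _ => mul_comm _ _
  rw [this]
  ring

/-- Unitary transvections: let |F| = q², h the standard Hermitian form Σ x_i y_i^q and v ≠ 0 with h(v, v) = 0. The linear map x ↦ x + c h(x, v) v is an isometry of h if and only if c = 0 or c^(q−1) = −1. -/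
theorem result {F : Type*} [Field F] [Fintype F] {q : ℕ} (hF : Fintype.card F = q ^ 2) (n : ℕ) (v : Fin n → F) (hv : v ≠ 0) (hv0 : Cfsg.hermForm n F q v v = 0) (c : F) : (∀ x y : Fin n → F, Cfsg.hermForm n F q ((Cfsg.unitaryTransvection n q v c).mulVec x) ((Cfsg.unitaryTransvection n q v c).mulVec y) = Cfsg.hermForm n F q x y) ↔ (c = 0 ∨ c ^ (q - 1) = -1) := by
  classical
  have hq := q_pos hF
  have key : ∀ x y : Fin n → F,
      hermForm n F q ((unitaryTransvection n q v c).mulVec x)
        ((unitaryTransvection n q v c).mulVec y) =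
      hermForm n F q x y + (c + c ^ q) * (hermForm n F q x v * hermForm n F q v y) := by
    intro x y
    rw [trans_mulVec, trans_mulVec, herm_add_smul hF, hv0, mul_pow, herm_swap hF]
    ring
  have hc : c + c ^ q = 0 ↔ (c = 0 ∨ c ^ (q - 1) = -1) := by
    have e : c + c ^ q = c * (1 + c ^ (q - 1)) := by
      obtain ⟨r, rfl⟩ : ∃ r, q = r + 1 := ⟨q - 1, by omega⟩
      rw [Nat.add_sub_cancel, pow_succ]; ring
    rw [e, mul_eq_zero]
    refine or_congr Iff.rfl ⟨fun h => ?_, fun h => ?_⟩
    · exact (neg_eq_of_add_eq_zero_right h).symm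
    · rw [h]; ring
  rw [← hc]
  constructor
  · intro h
    obtain ⟨j, hj⟩ : ∃ j, v j ≠ 0 := by
      by_contra hcon
      push Not at hcon
      exact hv (funext hcon)
    have h1 := h (Pi.single j 1) (Pi.single j 1)
    rw [key] at h1
    have h2 : hermForm n F q (Pi.single j 1) v = v j ^ q := by
      show ∑ i, (Pi.single j (1 : F) : Fin n → F) i * (v i) ^ q = v j ^ q
      rw [Finset.sum_eq_single j]
      · rw [Pi.single_eq_same, one_mul]
      · intro b _ hb
        rw [Pi.single_eq_of_ne hb, zero_mul]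
      · intro hb
        exact absurd (Finset.mem_univ j) hb
    have h3 : hermForm n F q v (Pi.single j 1) = v j := by
      rw [← herm_swap hF, h2, pow_q_pow_q hF]
    rw [h2, h3] at h1
    have h4 : (c + c ^ q) * (v j ^ q * v j) = 0 := by
      have := h1
      rwa [add_eq_left] at this
    rcases mul_eq_zero.1 h4 with h5 | h5
    · exact h5
    · exact absurd h5 (mul_ne_zero (pow_ne_zero q hj) hj)
  · intro h x y
    rw [key, h, zero_mul, add_zero]

end Cfsg.Agent.S0779
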