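import Cfsg.Statements.S0783
import Cfsg.Agent.ClassicalGeometry.GUBasic

set_option autoImplicit false
open Cfsg

namespace Cfsg.Agent.S0783

open Cfsg.Agent.ClassicalGeometry.GUBasic

/-- The kernel of `ZMod N → ZMod (gcd n N)` consists of the multiples of `n`. -/
theorem castHom_eq_zero_iff {n N : ℕ} [NeZero N] (x : ZMod N) :
    ZMod.castHom (Nat.gcd_dvd_right n N) (ZMod (Nat.gcd n N)) x = 0 ↔ ∃ y : ZMod N, x = n • y := by
  constructor
  · intro h
    have h1 : ((x.val : ℕ) : ZMod (Nat.gcd n N)) = 0 := by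
      rw [← h, ← map_natCast (ZMod.castHom (Nat.gcd_dvd_right n N) (ZMod (Nat.gcd n N))) x.val,
        ZMod.natCast_zmod_val]
    rw [ZMod.natCast_eq_zero_iff] at h1
    obtain ⟨k, hk⟩ := h1
    have h2 : ((Nat.gcd n N : ℕ) : ZMod N) = (n : ZMod N) * ((Nat.gcdA n N : ℤ) : ZMod N) := by
      have h3 := congrArg (fun z : ℤ => (z : ZMod N)) (Nat.gcd_eq_gcd_ab n N)
      simpa using h3
    refine ⟨((Nat.gcdA n N : ℤ) : ZMod N) * (k : ZMod N), ?_⟩
    rw [nsmul_eq_mul, ← mul_assoc, ← h2, ← Nat.cast_mul, ← hk, ZMod.natCast_zmod_val]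
  · rintro ⟨y, rfl⟩
    rw [map_nsmul, nsmul_eq_mul]
    have : ((n : ℕ) : ZMod (Nat.gcd n N)) = 0 := by
      rw [ZMod.natCast_eq_zero_iff]
      exact Nat.gcd_dvd_left n N
    rw [this, zero_mul]

/-- PGU_n(q)/PSU_n(q) is cyclic of order (n, q+1): for n ≥ 2 and |F| = q² there is a surjective homomorphism from GU_n(q) onto the cyclic group of order gcd(n, q + 1) whose kernel is generated by the determinant-one elements together with the centre. -/
theorem result {F : Type*} [Field F] [Fintype F] {q : ℕ} (hF : Fintype.card F = q ^ 2) (n : ℕ) (hn : 2 ≤ n) : ∃ φ : ↥(Cfsg.GU n F q) →* Multiplicative (ZMod (Nat.gcd n (q + 1))), Function.Surjective φ ∧ φ.ker = (Matrix.GeneralLinearGroup.det : Matrix.GeneralLinearGroup (Fin n) F →* Fˣ).ker.subgroupOf (Cfsg.GU n F q) ⊔ Subgroup.center ↥(Cfsg.GU n F q) := by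
  have hcyc : IsCyclic (rootsOfUnity (q + 1) F) := rootsOfUnity.isCyclic F (q + 1)
  obtain ⟨e⟩ : Nonempty (rootsOfUnity (q + 1) F ≃* Multiplicative (ZMod (q + 1))) := by
    have key : ∀ m, Nat.card (rootsOfUnity (q + 1) F) = m →
        Nonempty (rootsOfUnity (q + 1) F ≃* Multiplicative (ZMod m)) := by
      rintro m rfl
      exact ⟨(zmodCyclicMulEquiv hcyc).symm⟩
    exact key _ (card_rootsOfUnity_eq hF)
  let ψ : Multiplicative (ZMod (q + 1)) →* Multiplicative (ZMod (Nat.gcd n (q + 1))) :=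
    AddMonoidHom.toMultiplicative
      (ZMod.castHom (Nat.gcd_dvd_right n (q + 1)) (ZMod (Nat.gcd n (q + 1)))).toAddMonoidHom
  have hψ : Function.Surjective ψ := ZMod.castHom_surjective (Nat.gcd_dvd_right n (q + 1))
  have hψk : ∀ x, ψ x = 1 ↔ ∃ y, x = y ^ n := fun x =>
    castHom_eq_zero_iff (n := n) (N := q + 1) (Multiplicative.toAdd x)
  have hk : ∀ z : rootsOfUnity (q + 1) F, ψ (e z) = 1 ↔ ∃ c, z = c ^ n := by
    intro z
    rw [hψk]
    constructor
    · rintro ⟨y, hy⟩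
      refine ⟨e.symm y, ?_⟩
      rw [← map_pow, ← hy, MulEquiv.symm_apply_apply]
    · rintro ⟨c, rfl⟩
      exact ⟨e c, map_pow e c n⟩
  refine ⟨(ψ.comp e.toMonoidHom).comp (detHom n hF), ?_, ?_⟩
  · exact (hψ.comp e.surjective).comp (detHom_surjective (by omega) hF)
  have hdet : ∀ A : Cfsg.GU n F q, A ∈ (Matrix.GeneralLinearGroup.det :
      Matrix.GeneralLinearGroup (Fin n) F →* Fˣ).ker.subgroupOf (Cfsg.GU n F q) ↔
      detHom n hF A = 1 := by
    intro A
    rw [Subgroup.mem_subgroupOf, MonoidHom.mem_ker]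
    exact ⟨fun h => Subtype.ext h, fun h => congrArg Subtype.val h⟩
  have hsc : ∀ (c : F) (hc : c ^ (q + 1) = 1),
      ((detHom n hF (guDiag q (fun _ => c) (fun _ => hc)) : Fˣ) : F) = c ^ n := by
    intro c hc
    rw [detHom_guDiag, Finset.prod_const, Finset.card_univ, Fintype.card_fin]
  ext A
  rw [MonoidHom.mem_ker]
  change ψ (e (detHom n hF A)) = 1 ↔ _
  rw [hk, Subgroup.mem_sup_of_normal_right]
  constructor
  · rintro ⟨c, hc⟩
    have hc1 : ((c : Fˣ) : F) ^ (q + 1) = 1 := by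
      rw [← Units.val_pow_eq_pow_val, (mem_rootsOfUnity _ _).1 c.2, Units.val_one]
    have hZ := guDiag_const_mem_center (n := n) q ((c : Fˣ) : F) hc1
    refine ⟨A * (guDiag q (fun _ => ((c : Fˣ) : F)) (fun _ => hc1))⁻¹, ?_, _, hZ, by group⟩
    rw [hdet, map_mul, map_inv, mul_inv_eq_one, hc]
    apply Subtype.ext
    apply Units.ext
    rw [hsc]
    simp
  · rintro ⟨s, hs, z, hz, rfl⟩
    obtain ⟨c, hc, rfl⟩ := (mem_center_GU_iff hF (by omega) z).1 hz
    rw [hdet] at hs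
    have hc0 : c ≠ 0 := by
      rintro rfl
      rw [zero_pow (Nat.succ_ne_zero q)] at hc
      exact zero_ne_one hc
    refine ⟨⟨Units.mk0 c hc0, ?_⟩, ?_⟩
    · rw [mem_rootsOfUnity]
      apply Units.ext
      simpa using hc
    · rw [map_mul, hs, one_mul]
      apply Subtype.ext
      apply Units.ext
      rw [hsc]
      simp

end Cfsg.Agent.S0783
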