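import Cfsg.Statements.S0787
import Cfsg.Agent.S0785
import Cfsg.Agent.S0789
import Cfsg.Agent.ClassicalGeometry.OmegaIndex
import Cfsg.Agent.ClassicalGeometry.IndexTwoUnique

set_option autoImplicit false
open Cfsg

namespace Cfsg.Agent.S0787

/-- Existence and uniqueness of Ω: if F is finite, n ≥ 2, Q is a quadratic form on F^n with non-degenerate polar form and (|F|, n) ≠ (2, 4), then the group of isometries of determinant one has a unique subgroup of index 2. -/
theorem result {F : Type*} [Field F] [Fintype F] {n : ℕ} (hn : 2 ≤ n) (Q : QuadraticForm F (Fin n → F)) (hQ : (QuadraticMap.polarBilin Q).Nondegenerate) (h : Fintype.card F ≠ 2 ∨ n ≠ 4) : ∃! H : Subgroup ↥(Cfsg.specialIsometryGroup F ⇑Q), H.index = 2 := by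
  by_cases h2 : (2 : F) = 0
  · -- characteristic two: all isometries have determinant one, and `Ω` has index two
    haveI : CharP F 2 := by
      haveI : Fact (Nat.Prime 2) := ⟨Nat.prime_two⟩
      exact CharTwo.of_one_ne_zero_of_two_eq_zero one_ne_zero h2
    have hneg : (-1 : F) = 1 := by linear_combination -h2
    have htop : Cfsg.specialIsometryGroup F (⇑Q) = ⊤ := by
      rw [eq_top_iff]
      rintro g -
      rw [Cfsg.Agent.ClassicalGeometry.CartanDieudonne.mem_specialIsometryGroup_iff]
      rcases (Cfsg.Agent.S0785.result Q hQ).1 g with h1 | h1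
      · exact h1
      · rw [h1, hneg]
    have h3 : (commutator (Cfsg.isometryGroup F (⇑Q))).index = 2 :=
      Cfsg.Agent.S0789.result hn Q hQ h
    have h4 := Cfsg.Agent.ClassicalGeometry.IndexTwoUnique.existsUnique_of_index_commutator h3
    exact Cfsg.Agent.ClassicalGeometry.IndexTwoUnique.existsUnique_of_mulEquiv
      ((MulEquiv.subgroupCongr htop).trans Subgroup.topEquiv).symm h4
  · exact Cfsg.Agent.ClassicalGeometry.OmegaIndex.existsUnique_index_two h2 (by simpa using hn) Q hQ

end Cfsg.Agent.S0787
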