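import Cfsg.Statements.S0801
-- import your own Cfsg.Agent.* helpers here
import Cfsg.Agent.ClassicalGeometry.DicksonGen
import Cfsg.Agent.Lib.DicksonAlt

set_option autoImplicit false
open Cfsg

namespace Cfsg.Agent.S0801

open Cfsg.Agent.LieClassical.SLTwoUnipotent in
theorem closure_set_eq {F : Type*} [Field F] (lam : F) :
    {g : Matrix.SpecialLinearGroup (Fin 2) F | (g : Matrix (Fin 2) (Fin 2) F) = !![1, 0; 1, 1] ∨
      (g : Matrix (Fin 2) (Fin 2) F) = !![1, lam; 0, 1]} = {l 1, u lam} := by
  ext g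
  constructor
  · rintro (h | h)
    · left
      exact Subtype.ext h
    · right
      exact Subtype.ext h
  · rintro (h | h)
    · left
      rw [h, coe_l]
    · right
      have h' : g = u lam := h
      rw [h', coe_u]

open Cfsg.Agent.LieClassical.SLTwoUnipotent in
/-- Let F be a finite field of odd characteristic and λ ≠ 0 an element generating F as a field. Then the lower and upper unitriangular matrices with off-diagonal entries 1 and λ generate SL_2(F), unless |F| = 9 and λ² = −1, in which case they generate a subgroup of order 120. -/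
theorem result {F : Type*} [Field F] [Fintype F] (h2 : (2 : F) ≠ 0) (lam : F) (hlam : lam ≠ 0) (hgen : Subfield.closure ({lam} : Set F) = ⊤) : (Subgroup.closure {g : Matrix.SpecialLinearGroup (Fin 2) F | (g : Matrix (Fin 2) (Fin 2) F) = !![1, 0; 1, 1] ∨ (g : Matrix (Fin 2) (Fin 2) F) = !![1, lam; 0, 1]} = ⊤ ∧ ¬ (Fintype.card F = 9 ∧ lam ^ 2 = -1)) ∨ (Fintype.card F = 9 ∧ lam ^ 2 = -1 ∧ Nat.card ↥(Subgroup.closure {g : Matrix.SpecialLinearGroup (Fin 2) F | (g : Matrix (Fin 2) (Fin 2) F) = !![1, 0; 1, 1] ∨ (g : Matrix (Fin 2) (Fin 2) F) = !![1, lam; 0, 1]}) = 120) := by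
  rw [closure_set_eq]
  obtain ⟨p, hp⟩ := CharP.exists F
  haveI := hp
  have hpp : p.Prime := CharP.char_is_prime F p
  haveI : Fact p.Prime := ⟨hpp⟩
  have hp2 : p ≠ 2 := by
    rintro rfl
    exact h2 (by exact_mod_cast CharP.cast_eq_zero F 2)
  refine Cfsg.Agent.ClassicalGeometry.DicksonGen.generation h2 lam hlam hgen ?_
  rcases Cfsg.Agent.Lib.DicksonAlt.dickson_alternative p hp2
    (Subgroup.closure ({u 1, l lam} : Set (Matrix.SpecialLinearGroup (Fin 2) F)))
    (Subgroup.subset_closure (by simp)) lam hlam (Subgroup.subset_closure (by simp)) with h | ⟨h3, h⟩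
  · exact Or.inl h
  · right
    refine ⟨?_, h⟩
    have := CharP.cast_eq_zero F p
    rw [h3] at this
    exact_mod_cast this

end Cfsg.Agent.S0801
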