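import Cfsg.Statements.S0802
-- import your own Cfsg.Agent.* helpers here
import Cfsg.Agent.Lib.VonDyck
import Cfsg.Agent.LieClassical.SLTwoUnipotent

set_option autoImplicit false
open Cfsg

namespace Cfsg.Agent.S0802

open Matrix
open Cfsg.Agent.LieClassical.SLTwoUnipotent

section Exists

variable {F : Type*} [Field F]

/-- An element of `SL₂` with trace one has cube `-1`. -/
theorem cube_of_trace_one (B : SpecialLinearGroup (Fin 2) F)
    (hB : (B : Matrix (Fin 2) (Fin 2) F) 0 0 + (B : Matrix (Fin 2) (Fin 2) F) 1 1 = 1) :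
    B ^ 3 = -1 := by
  apply ext_coe
  have hdet : B 0 0 * B 1 1 - B 0 1 * B 1 0 = 1 := by
    rw [← Matrix.det_fin_two, B.det_coe]
  have hg := Matrix.eta_fin_two (B : Matrix (Fin 2) (Fin 2) F)
  rw [Matrix.SpecialLinearGroup.coe_pow, Matrix.SpecialLinearGroup.coe_neg, Matrix.SpecialLinearGroup.coe_one]
  set a := B 0 0
  set b := B 0 1
  set c := B 1 0
  set d := B 1 1
  have hd : d = 1 - a := by linear_combination hB
  rw [hg, hd, pow_succ, pow_two, Matrix.mul_fin_two, Matrix.mul_fin_two, Matrix.one_fin_two]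
  rw [hd] at hdet
  have hbc : b * c = a * (1 - a) - 1 := by linear_combination -hdet
  ext i j
  fin_cases i <;> fin_cases j
  · simp
    linear_combination (a + 1) * hbc
  · simp
    linear_combination b * hbc
  · simp
    linear_combination c * hbc
  · simp
    linear_combination (2 - a) * hbc

theorem mem_center_of_eq_neg_one {x : SpecialLinearGroup (Fin 2) F} (h : x = -1) :
    x ∈ Subgroup.center (SpecialLinearGroup (Fin 2) F) := by
  subst h
  rw [Subgroup.mem_center_iff]
  intro g
  simp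

theorem exists_alternating_four (a c : F) (h : a ^ 2 - a + c ^ 2 + c + 1 = 0) :
    ∃ H : Subgroup (ProjectiveSpecialLinearGroup (Fin 2) F),
      Nonempty (H ≃* alternatingGroup (Fin 4)) := by
  let A : SpecialLinearGroup (Fin 2) F := ⟨!![0, -1; 1, 0], by simp⟩
  let B : SpecialLinearGroup (Fin 2) F := ⟨!![a, 1 + c; c, 1 - a], by
    rw [Matrix.det_fin_two_of]
    linear_combination -h⟩
  let π : SpecialLinearGroup (Fin 2) F →* ProjectiveSpecialLinearGroup (Fin 2) F :=
    QuotientGroup.mk' _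
  have hπ : ∀ x : SpecialLinearGroup (Fin 2) F, x = -1 → π x = 1 := fun x hx =>
    (QuotientGroup.eq_one_iff x).2 (mem_center_of_eq_neg_one hx)
  have hA : A ^ 2 = -1 := by
    apply ext_coe
    rw [Matrix.SpecialLinearGroup.coe_pow, Matrix.SpecialLinearGroup.coe_neg, Matrix.SpecialLinearGroup.coe_one, pow_two,
      Matrix.one_fin_two]
    simp [A]
  have hB : B ^ 3 = -1 := cube_of_trace_one B (by simp [B])
  have hAB : (A * B) ^ 3 = -1 := by
    apply cube_of_trace_one
    rw [coe_mul]
    simp [A, B, Matrix.mul_apply, Fin.sum_univ_two]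
  have hA1 : π A ≠ 1 := by
    intro h1
    have h2 : A ∈ Subgroup.center (SpecialLinearGroup (Fin 2) F) := (QuotientGroup.eq_one_iff A).1 h1
    obtain ⟨r, -, hr⟩ := Matrix.SpecialLinearGroup.mem_center_iff.1 h2
    have := congrFun (congrFun hr 1) 0
    simp [A] at this
  refine ⟨Subgroup.closure {π A, π B}, ?_⟩
  apply Cfsg.Agent.Lib.VonDyck.closure_equiv_alternatingFour
  · rw [← map_pow]; exact hπ _ hA
  · rw [← map_pow]; exact hπ _ hB
  · rw [← map_mul, ← map_pow]; exact hπ _ hAB
  · exact hA1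

end Exists

section Odd

variable {F : Type*} [Field F] [Fintype F]

open Polynomial in
theorem exists_solution_odd (hodd : Fintype.card F % 2 = 1) :
    ∃ a c : F, a ^ 2 - a + c ^ 2 + c + 1 = 0 := by
  obtain ⟨a, c, h⟩ := FiniteField.exists_root_sum_quadratic (R := F)
    (f := X ^ 2 - X) (g := X ^ 2 + X + 1) (by compute_degree!) (by compute_degree!) hodd
  refine ⟨a, c, ?_⟩
  simp at h
  linear_combination h

theorem exists_solution_three (h3 : 3 ∣ Fintype.card F - 1) :
    ∃ a c : F, a ^ 2 - a + c ^ 2 + c + 1 = 0 := by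
  classical
  have : Fact (Nat.Prime 3) := ⟨Nat.prime_three⟩
  obtain ⟨x, hx⟩ := exists_prime_orderOf_dvd_card (G := Fˣ) 3 (by rwa [Fintype.card_units])
  have hx3 : x ^ 3 = 1 := by rw [← hx]; exact pow_orderOf_eq_one x
  have hx1 : x ≠ 1 := by
    rintro rfl
    simp at hx
  refine ⟨-(x : F), 0, ?_⟩
  have e : ((x : F) - 1) * ((x : F) ^ 2 + x + 1) = 0 := by
    have : (x : F) ^ 3 = 1 := by rw [← Units.val_pow_eq_pow_val, hx3, Units.val_one]
    linear_combination this
  rcases mul_eq_zero.1 e with h | h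
  · exfalso
    apply hx1
    ext
    simpa using sub_eq_zero.1 h
  · linear_combination h

theorem cube_eq_one {x : F} (h3 : ¬ 3 ∣ Fintype.card F - 1) (hx : x ^ 3 = 1) : x = 1 := by
  classical
  have hx0 : x ≠ 0 := by
    rintro rfl
    simp at hx
  let y : Fˣ := Units.mk0 x hx0
  have hy : y ^ 3 = 1 := by
    ext
    simpa [y] using hx
  have h1 : orderOf y ∣ 3 := orderOf_dvd_of_pow_eq_one hy
  have h2 : orderOf y ∣ Fintype.card F - 1 := by
    rw [← Fintype.card_units]
    exact orderOf_dvd_card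
  rcases (Nat.dvd_prime Nat.prime_three).1 h1 with h | h
  · rw [orderOf_eq_one_iff] at h
    have := congrArg Units.val h
    simpa [y] using this
  · rw [h] at h2
    exact absurd h2 h3

end Odd

section NotExists

variable {F : Type*} [Field F] [Fintype F]

/-- In characteristic two with `3 ∤ q - 1` there is no injective homomorphism
`A_4 → SL₂(q)`. -/
theorem no_hom [CharP F 2] (h3 : ¬ 3 ∣ Fintype.card F - 1)
    (φ : alternatingGroup (Fin 4) →* SpecialLinearGroup (Fin 2) F)
    (hφ : Function.Injective φ) : False := by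
  have : Fact (Nat.Prime 2) := ⟨Nat.prime_two⟩
  let W : Subgroup (alternatingGroup (Fin 4)) :=
    { carrier := {g | g ^ 2 = 1}
      mul_mem' := by
        have : ∀ a b : alternatingGroup (Fin 4), a ^ 2 = 1 → b ^ 2 = 1 → (a * b) ^ 2 = 1 := by
          decide +kernel
        intro a b ha hb
        exact this a b ha hb
      one_mem' := by simp
      inv_mem' := by
        intro a ha
        simp only [Set.mem_setOf_eq] at ha ⊢
        rw [inv_pow, ha, inv_one] }
  have hWp : IsPGroup 2 W := fun g => ⟨1, by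
    have h : (g : alternatingGroup (Fin 4)) ^ 2 = 1 := g.2
    apply Subtype.ext
    rw [pow_one, Subgroup.coe_pow, h, Subgroup.coe_one]⟩
  obtain ⟨Q, hQ⟩ := (hWp.map φ).exists_le_sylow
  obtain ⟨s, rfl⟩ := exists_smul_upperUnipSylowSL_eq 2 Q
  have key : ∀ g : alternatingGroup (Fin 4), g ^ 2 = 1 → s⁻¹ * φ g * s ∈ upperUnipSL F := by
    intro g hg
    have h1 : φ g ∈ s • upperUnipSylowSL F 2 := hQ ⟨g, hg, rfl⟩
    exact (mem_smul_upperUnipSylowSL_iff 2).1 h1
  obtain ⟨v, t, hv, hv1, ht, ht1⟩ : ∃ v t : alternatingGroup (Fin 4),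
      v ^ 2 = 1 ∧ v ≠ 1 ∧ t ^ 3 = 1 ∧ t ≠ 1 := by decide +kernel
  have h0 : (s⁻¹ * φ t * s) 1 0 = 0 := by
    apply apply_one_zero_eq_zero_of_conj_SL (key v hv)
    · intro h
      apply hv1
      apply hφ
      have := congrArg (fun x => s * x * s⁻¹) h
      simpa [mul_assoc] using this
    · have := key (t * v * t⁻¹) (by
        rw [← MulAut.conj_apply, ← map_pow, hv, map_one])
      rw [map_mul, map_mul, map_inv] at this
      convert this using 1
      group
  set c := s⁻¹ * φ t * s with hc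
  have hc3 : c ^ 3 = 1 := by
    have e : c = MulAut.conj s⁻¹ (φ t) := by
      rw [MulAut.conj_apply, inv_inv]
    rw [e, ← map_pow, ← map_pow, ht, map_one, map_one]
  have hcd : c 0 0 * c 1 1 = 1 := by
    have : c 0 0 * c 1 1 - c 0 1 * c 1 0 = 1 := by
      rw [← Matrix.det_fin_two, c.det_coe]
    rw [h0] at this
    simpa using this
  have hcube : (c 0 0) ^ 3 = 1 := by
    have h1 := congrArg (fun x : SpecialLinearGroup (Fin 2) F => x 0 0) hc3
    simp only [pow_succ, pow_zero, one_mul, coe_mul, Matrix.mul_apply, Fin.sum_univ_two, h0,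
      coe_one] at h1
    simp at h1
    linear_combination h1
  have hc00 : c 0 0 = 1 := cube_eq_one h3 hcube
  have hc11 : c 1 1 = 1 := by rw [hc00, one_mul] at hcd; exact hcd
  have hcu : c ∈ upperUnipSL F := mem_upperUnipSL_iff.2 ⟨hc00, h0, hc11⟩
  obtain ⟨x, hx⟩ := mem_upperUnipSL_iff_exists.1 hcu
  have hc2 : c ^ 2 = 1 := by
    rw [hx, pow_two, ← u_add, CharTwo.add_self_eq_zero, u_zero]
  have hc1 : c = 1 := by
    have : c ^ 3 = c ^ 2 * c := pow_succ c 2
    rw [hc3, hc2, one_mul] at this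
    exact this.symm
  apply ht1
  apply hφ
  have := congrArg (fun x => s * x * s⁻¹) (hc.symm.trans hc1)
  simpa [mul_assoc] using this

theorem center_eq_bot [CharP F 2] :
    Subgroup.center (SpecialLinearGroup (Fin 2) F) = ⊥ := by
  rw [eq_bot_iff]
  intro x hx
  obtain ⟨r, hr, hrx⟩ := Matrix.SpecialLinearGroup.mem_center_iff.1 hx
  rw [Fintype.card_fin] at hr
  have h1 : (r - 1) ^ 2 = 0 := by
    have h2 : (2 : F) = 0 := CharTwo.two_eq_zero
    linear_combination hr + (1 - r) * h2
  have hr1 : r = 1 := by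
    have := pow_eq_zero_iff (two_ne_zero) |>.1 h1
    exact sub_eq_zero.1 this
  rw [Subgroup.mem_bot]
  apply ext_coe
  rw [← hrx, hr1]
  simp

end NotExists

/-- PSL_2(p^n) has a subgroup isomorphic to A_4 if and only if it is not the case that p = 2 and n is odd. -/
theorem result {F : Type*} [Field F] [Fintype F] (p n : ℕ) [Fact p.Prime] [CharP F p] (hF : Fintype.card F = p ^ n) : (∃ H : Subgroup (Matrix.ProjectiveSpecialLinearGroup (Fin 2) F), Nonempty (H ≃* alternatingGroup (Fin 4))) ↔ ¬ (p = 2 ∧ Odd n) := by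
  constructor
  · rintro ⟨H, ⟨e⟩⟩ ⟨rfl, hn⟩
    have h3 : ¬ 3 ∣ Fintype.card F - 1 := by
      rw [hF]
      obtain ⟨k, rfl⟩ := hn
      intro h
      have h4 : (2 : ℕ) ^ (2 * k + 1) ≡ 2 [MOD 3] := by
        rw [pow_succ, pow_mul]
        have : ((2 : ℕ) ^ 2) ^ k ≡ 1 ^ k [MOD 3] := Nat.ModEq.pow k (by decide)
        calc ((2 : ℕ) ^ 2) ^ k * 2 ≡ 1 ^ k * 2 [MOD 3] := Nat.ModEq.mul_right 2 this
          _ = 2 := by simp
      have h5 : 1 ≤ 2 ^ (2 * k + 1) := Nat.one_le_two_pow
      have h6 : (2 : ℕ) ^ (2 * k + 1) % 3 = 2 := h4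
      generalize (2 : ℕ) ^ (2 * k + 1) = m at h h5 h6
      omega
    let ψ : SpecialLinearGroup (Fin 2) F →* ProjectiveSpecialLinearGroup (Fin 2) F :=
      QuotientGroup.mk' _
    have hψi : Function.Injective ψ := by
      rw [← MonoidHom.ker_eq_bot_iff]
      change (QuotientGroup.mk' _).ker = ⊥
      rw [QuotientGroup.ker_mk', center_eq_bot]
    have hψs : Function.Surjective ψ := QuotientGroup.mk'_surjective _
    let ψe := MulEquiv.ofBijective ψ ⟨hψi, hψs⟩
    exact no_hom h3 ((ψe.symm.toMonoidHom.comp H.subtype).comp e.symm.toMonoidHom)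
      ((ψe.symm.injective.comp H.subtype_injective).comp e.symm.injective)
  · intro h
    by_cases hp : p = 2
    · have hn : Even n := by
        rw [← Nat.not_odd_iff_even]
        exact fun hn => h ⟨hp, hn⟩
      obtain ⟨a, c, hac⟩ := exists_solution_three (F := F) (by
        rw [hF, hp]
        obtain ⟨k, rfl⟩ := hn
        rw [← two_mul, pow_mul]
        have : (3 : ℕ) ∣ (2 ^ 2) ^ k - 1 ^ k := Nat.sub_dvd_pow_sub_pow (2 ^ 2) 1 k
        simpa using this)
      exact exists_alternating_four a c hac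
    · obtain ⟨a, c, hac⟩ := exists_solution_odd (F := F) (by
        rw [hF]
        have : Odd p := (Fact.out : p.Prime).odd_of_ne_two hp
        exact Nat.odd_iff.1 (this.pow))
      exact exists_alternating_four a c hac

end Cfsg.Agent.S0802
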