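import Cfsg.Statements.S0805
import Cfsg.Agent.ClassicalGeometry.PSL2Basic

set_option autoImplicit false
open Cfsg

namespace Cfsg.Agent.S0805

open Cfsg.Agent.ClassicalGeometry.PSL2Basic

section aux

variable {K F : Type*} [Field K] [Field F]

theorem pglMap_injective (f : K →+* F) :
    Function.Injective (Matrix.ProjGenLinGroup.map (n := Fin 2) f) := by
  rw [injective_iff_map_eq_one]
  intro x
  induction x using Matrix.ProjGenLinGroup.induction_on with
  | mk g =>
    intro h
    rw [Matrix.ProjGenLinGroup.map_mk, Matrix.ProjGenLinGroup.mk_eq_one, Subgroup.mem_center_iff] at h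
    rw [Matrix.ProjGenLinGroup.mk_eq_one, Subgroup.mem_center_iff]
    intro y
    have h1 := h (Matrix.GeneralLinearGroup.map f y)
    rw [← map_mul, ← map_mul] at h1
    have hinj : Function.Injective (Matrix.GeneralLinearGroup.map (n := Fin 2) f) := by
      intro a b hab
      apply Units.ext
      ext i j
      have := congrFun (congrFun (congrArg (fun g : GL (Fin 2) F => (g : Matrix (Fin 2) (Fin 2) F)) hab) i) j
      exact f.injective this
    exact hinj h1

/-- An invertible matrix whose determinant is a square lies in the image of `PSL_2` in `PGL_2`. -/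
theorem mem_range_toPGL {g : GL (Fin 2) F} {s : F} (hs : (g : Matrix (Fin 2) (Fin 2) F).det = s * s) :
    Matrix.ProjGenLinGroup.mk g ∈
      (Matrix.ProjectiveSpecialLinearGroup.toPGL (n := Fin 2) (R := F)).range := by
  have hdet : (g : Matrix (Fin 2) (Fin 2) F).det ≠ 0 := by
    intro h0
    have := (Matrix.isUnit_iff_isUnit_det _).1 g.isUnit
    rw [h0] at this
    exact not_isUnit_zero this
  have hs0 : s ≠ 0 := by
    rintro rfl
    rw [mul_zero] at hs
    exact hdet hs
  have hd1 : (s⁻¹ • (g : Matrix (Fin 2) (Fin 2) F)).det = 1 := by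
    rw [Matrix.det_smul, Fintype.card_fin, hs]
    field_simp
  obtain ⟨A, hA⟩ : ∃ A : Matrix.SpecialLinearGroup (Fin 2) F,
      (A : Matrix (Fin 2) (Fin 2) F) = s⁻¹ • (g : Matrix (Fin 2) (Fin 2) F) := ⟨⟨_, hd1⟩, rfl⟩
  refine ⟨QuotientGroup.mk A, ?_⟩
  rw [Matrix.ProjectiveSpecialLinearGroup.toPGL_mk, Matrix.ProjGenLinGroup.mk_eq_mk_iff]
  refine ⟨Units.mk0 s hs0, ?_⟩
  apply Units.ext
  rw [Units.val_mul, Matrix.SpecialLinearGroup.coe_GL_coe_matrix, hA, Matrix.GeneralLinearGroup.coe_scalar,
    Units.val_mk0, Matrix.smul_mul]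
  ext i j
  simp [Matrix.mul_diagonal]
  field_simp

theorem isSquare_of_even [Fintype K] [Fintype F] (f : K →+* F) {m : ℕ} (hodd : Odd (Fintype.card F))
    (hm : Fintype.card K ^ (2 * m) = Fintype.card F) {d : K} (hd : d ≠ 0) : IsSquare (f d) := by
  have hr : ringChar F ≠ 2 := by
    intro h
    have := (FiniteField.even_card_iff_char_two (F := F)).1 h
    rw [Nat.odd_iff] at hodd
    omega
  rw [FiniteField.isSquare_iff hr ((map_ne_zero f).2 hd), ← map_pow]
  have hK1 : 1 < Fintype.card K := Fintype.one_lt_card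
  have hKodd : Odd (Fintype.card K) := by
    rcases Nat.even_or_odd (Fintype.card K) with h | h
    · exfalso
      have hm0 : 2 * m ≠ 0 := by
        intro h0
        rw [h0, pow_zero] at hm
        have := Fintype.one_lt_card (α := F)
        omega
      have := (Nat.even_pow' hm0).2 h
      rw [hm] at this
      exact (Nat.not_even_iff_odd.2 hodd) this
    · exact h
  have h1 : (Fintype.card K - 1) ∣ Fintype.card F / 2 := by
    obtain ⟨k, hk⟩ := hKodd
    have h2 : Fintype.card K ^ 2 - 1 ∣ (Fintype.card K ^ 2) ^ m - 1 := by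
      simpa using Nat.sub_dvd_pow_sub_pow (Fintype.card K ^ 2) 1 m
    rw [← pow_mul, hm] at h2
    obtain ⟨l, hl⟩ := h2
    refine ⟨(k + 1) * l, ?_⟩
    have h3 : Fintype.card K ^ 2 - 1 = 2 * (Fintype.card K - 1) * (k + 1) := by
      have e1 : Fintype.card K - 1 = 2 * k := by omega
      rw [e1, hk]
      have : (2 * k + 1) ^ 2 = 2 * (2 * k) * (k + 1) + 1 := by ring
      omega
    rw [h3] at hl
    obtain ⟨j, hj⟩ := hodd
    have h4 : Fintype.card F / 2 = j := by omega
    have h5 : Fintype.card F - 1 = 2 * j := by omega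
    rw [h4]
    rw [h5] at hl
    have : 2 * j = 2 * ((Fintype.card K - 1) * ((k + 1) * l)) := by rw [hl]; ring
    omega
  obtain ⟨l, hl⟩ := h1
  rw [hl, pow_mul, FiniteField.pow_card_sub_one_eq_one d hd, one_pow, map_one]

theorem exists_pgl_of_even [Fintype K] [Fintype F] {m : ℕ} (hodd : Odd (Fintype.card F))
    (hm : Fintype.card K ^ (2 * m) = Fintype.card F) :
    ∃ H : Subgroup (Matrix.ProjectiveSpecialLinearGroup (Fin 2) F),
      Nonempty (H ≃* Matrix.ProjGenLinGroup (Fin 2) K) := by
  obtain ⟨f⟩ := exists_ringHom_of_card_pow hm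
  have hrange : ∀ x : Matrix.ProjGenLinGroup (Fin 2) K, Matrix.ProjGenLinGroup.map f x ∈
      (Matrix.ProjectiveSpecialLinearGroup.toPGL (n := Fin 2) (R := F)).range := by
    intro x
    induction x using Matrix.ProjGenLinGroup.induction_on with
    | mk g =>
      have hdet : (g : Matrix (Fin 2) (Fin 2) K).det ≠ 0 := by
        intro h0
        have := (Matrix.isUnit_iff_isUnit_det _).1 g.isUnit
        rw [h0] at this
        exact not_isUnit_zero this
      obtain ⟨s, hs⟩ := isSquare_of_even f hodd hm hdet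
      rw [Matrix.ProjGenLinGroup.map_mk]
      apply mem_range_toPGL (s := s)
      rw [← hs]
      exact (f.map_det (g : Matrix (Fin 2) (Fin 2) K)).symm
  let φ : Matrix.ProjGenLinGroup (Fin 2) K →* Matrix.ProjectiveSpecialLinearGroup (Fin 2) F :=
    (MonoidHom.ofInjective (Matrix.ProjectiveSpecialLinearGroup.toPGL_injective (n := Fin 2) (R := F))).symm.toMonoidHom.comp
      ((Matrix.ProjGenLinGroup.map f).codRestrict _ hrange)
  have hφ : Function.Injective φ := by
    intro x y hxy
    have h1 := (MonoidHom.ofInjective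
      (Matrix.ProjectiveSpecialLinearGroup.toPGL_injective (n := Fin 2) (R := F))).symm.injective hxy
    exact pglMap_injective f (congrArg Subtype.val h1)
  exact ⟨φ.range, ⟨(MonoidHom.ofInjective hφ).symm⟩⟩

theorem even_of_exists_pgl [Fintype K] [Fintype F] {m : ℕ} (hodd : Odd (Fintype.card F)) (hm : 1 ≤ m)
    (hK : Fintype.card K ^ m = Fintype.card F)
    (h : ∃ H : Subgroup (Matrix.ProjectiveSpecialLinearGroup (Fin 2) F),
      Nonempty (H ≃* Matrix.ProjGenLinGroup (Fin 2) K)) : Even m := by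
  by_contra hcon
  rw [Nat.not_even_iff_odd] at hcon
  obtain ⟨H, ⟨e⟩⟩ := h
  have h1 := H.card_subgroup_dvd_card
  rw [Nat.card_congr e.toEquiv, card_PGL2] at h1
  obtain ⟨k, hk⟩ := h1
  have h2 := card_PSL2_odd F hodd
  rw [hk] at h2
  set r := Fintype.card K with hr
  have hr1 : 1 < r := Fintype.one_lt_card
  have hq : Fintype.card F ^ 2 - 1 = (r ^ 2 - 1) * ∑ i ∈ Finset.range m, (r ^ 2) ^ i := by
    have h3 := Nat.geomSum_eq (m := r ^ 2) (by nlinarith) m
    have h4 : r ^ 2 - 1 ∣ (r ^ 2) ^ m - 1 := by simpa using Nat.sub_dvd_pow_sub_pow (r ^ 2) 1 m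
    rw [h3, Nat.mul_div_cancel' h4, ← hK, ← pow_mul, ← pow_mul, mul_comm 2 m]
  rw [hq] at h2
  have hpos : 0 < r ^ 2 - 1 := by
    have : 1 < r ^ 2 := by nlinarith
    omega
  have h5 : 2 * (r * k) = Fintype.card F * ∑ i ∈ Finset.range m, (r ^ 2) ^ i := by
    apply Nat.eq_of_mul_eq_mul_left hpos
    calc (r ^ 2 - 1) * (2 * (r * k)) = r * (r ^ 2 - 1) * k * 2 := by ring
      _ = Fintype.card F * ((r ^ 2 - 1) * ∑ i ∈ Finset.range m, (r ^ 2) ^ i) := h2
      _ = _ := by ring
  have hrodd : Odd r := by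
    rcases Nat.even_or_odd r with h | h
    · exfalso
      have := (Nat.even_pow' (by omega : m ≠ 0)).2 h
      rw [hK] at this
      exact (Nat.not_even_iff_odd.2 hodd) this
    · exact h
  have h6 : Odd (∑ i ∈ Finset.range m, (r ^ 2) ^ i) := by
    rw [Finset.odd_sum_iff_odd_card_odd]
    have : (Finset.range m).filter (fun i => Odd ((r ^ 2) ^ i)) = Finset.range m := by
      apply Finset.filter_true_of_mem
      intro i _
      exact (hrodd.pow).pow
    rw [this, Finset.card_range]
    exact hcon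
  have h7 : Odd (2 * (r * k)) := by rw [h5]; exact hodd.mul h6
  exact (Nat.not_even_iff_odd.2 h7) (even_two_mul _)

end aux

/-- Subfield subgroups: let F be a finite field of odd order q and K a finite field with |K|^m = q, m ≥ 1. Then PSL_2(F) has a subgroup isomorphic to PSL_2(K), and has a subgroup isomorphic to PGL_2(K) if and only if m is even. -/
theorem result {F K : Type*} [Field F] [Fintype F] [Field K] [Fintype K] {q : ℕ} (hF : Fintype.card F = q) (hodd : Odd q) (m : ℕ) (hm : 1 ≤ m) (hK : Fintype.card K ^ m = q) : (∃ H : Subgroup (Matrix.ProjectiveSpecialLinearGroup (Fin 2) F), Nonempty (H ≃* Matrix.ProjectiveSpecialLinearGroup (Fin 2) K)) ∧ ((∃ H : Subgroup (Matrix.ProjectiveSpecialLinearGroup (Fin 2) F), Nonempty (H ≃* Matrix.ProjGenLinGroup (Fin 2) K)) ↔ Even m) := by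
  subst hF
  refine ⟨?_, ?_, ?_⟩
  · obtain ⟨f⟩ := exists_ringHom_of_card_pow hK
    exact ⟨(pslMap f).range, ⟨(MonoidHom.ofInjective (pslMap_injective f)).symm⟩⟩
  · exact even_of_exists_pgl hodd hm hK
  · rintro ⟨k, rfl⟩
    exact exists_pgl_of_even hodd (m := k) (by rw [two_mul]; exact hK)

end Cfsg.Agent.S0805
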