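import Cfsg.Statements.S0819
-- import your own Cfsg.Agent.* helpers here

set_option autoImplicit false
open Cfsg

namespace Cfsg.Agent.S0819

/-- Cayley–Hamilton for a `3 × 3` matrix of determinant `1`. -/
theorem cayley3 {F : Type*} [Field F] (M : Matrix (Fin 3) (Fin 3) F)
    (hdet : M.det = 1) :
    ∃ s t : F, M ^ 3 - (s • M ^ 2 + t • M + (1 : Matrix (Fin 3) (Fin 3) F)) = 0 := by
  rw [Matrix.det_fin_three] at hdet
  refine ⟨M 0 0 + M 1 1 + M 2 2, -(M 0 0 * M 1 1 + M 0 0 * M 2 2 + M 1 1 * M 2 2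
    - M 0 1 * M 1 0 - M 0 2 * M 2 0 - M 1 2 * M 2 1), ?_⟩
  ext i j
  fin_cases i <;> fin_cases j <;>
    simp [pow_succ, Matrix.mul_apply, Fin.sum_univ_three] <;> first | ring1 | linear_combination hdet

theorem case5 {R : Type*} [CommRing R] (h2 : (2 : R) = 0) (x s t : R) (hs : s ^ 3 = 1)
    (ht : t ^ 2 + s ^ 2 * t + s = 0) :
    x ^ 5 - (s ^ 2 + t) = (x ^ 3 - (s * x ^ 2 + t * x + 1)) * (x ^ 2 + s * x + s ^ 2 + t) := by
  linear_combination (x ^ 2) * hs + x * ht + (x ^ 2 + x ^ 2 * s * t) * h2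

theorem case4 {R : Type*} [CommRing R] (h2 : (2 : R) = 0) (x s t : R) (hs : s ^ 3 = 1)
    (ht : t = s ^ 2) :
    x ^ 4 - s = (x ^ 3 - (s * x ^ 2 + t * x + 1)) * (x + s) := by
  subst ht
  linear_combination x * hs + (x + x ^ 2 * s ^ 2) * h2

theorem case3 {R : Type*} [CommRing R] (x s t : R) (hs : s = 0) (ht : t = 0) :
    x ^ 3 - 1 = (x ^ 3 - (s * x ^ 2 + t * x + 1)) * 1 := by
  subst hs; subst ht
  ring

theorem case7 {R : Type*} [CommRing R] (h2 : (2 : R) = 0) (x s t : R) (hs : s = 0)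
    (ht : t ^ 3 = 1) :
    x ^ 7 - t ^ 2 = (x ^ 3 - (s * x ^ 2 + t * x + 1)) * (x ^ 4 + t * x ^ 2 + x + t ^ 2) := by
  subst hs
  linear_combination x * ht + (x + x ^ 2 * t) * h2

theorem case7' {R : Type*} [CommRing R] (h2 : (2 : R) = 0) (x s t : R) (hs : s ^ 3 = 1)
    (ht : t = 0) :
    x ^ 7 - s = (x ^ 3 - (s * x ^ 2 + t * x + 1)) * (x ^ 4 + s * x ^ 3 + s ^ 2 * x ^ 2 + s) := by
  subst ht
  linear_combination x ^ 4 * hs + (x ^ 2 * s ^ 2 + x ^ 4) * h2

open Polynomial in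
/-- Some power `3`, `4`, `5` or `7` is scalar. -/
theorem key {F : Type*} [Field F] [Fintype F] (hF : Fintype.card F = 4)
    (M : Matrix (Fin 3) (Fin 3) F) (hdet : M.det = 1) :
    ∃ k : ℕ, (k = 3 ∨ k = 4 ∨ k = 5 ∨ k = 7) ∧ ∃ c : F, M ^ k = c • 1 := by
  obtain ⟨s, t, hst⟩ := cayley3 M hdet
  have hchar : CharP F 2 := by
    have h4 : ((4 : ℕ) : F) = 0 := by
      rw [← hF]; exact Nat.cast_card_eq_zero F
    have h2 : (2 : F) = 0 := by
      have : (2 : F) * 2 = 0 := by
        have : ((4 : ℕ) : F) = 2 * 2 := by norm_num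
        rw [← this]; exact h4
      rcases mul_eq_zero.1 this with h | h <;> exact h
    exact CharTwo.of_one_ne_zero_of_two_eq_zero one_ne_zero h2
  have h2 : (2 : F) = 0 := CharTwo.two_eq_zero
  have h2' : (2 : F[X]) = 0 := by
    have : (2 : F[X]) = C (2 : F) := (map_ofNat C 2).symm
    rw [this, h2, C_0]
  have h3 : ∀ x : F, x ≠ 0 → x ^ 3 = 1 := fun x hx => by
    have := FiniteField.pow_card_sub_one_eq_one x hx
    rwa [hF] at this
  have hP : aeval M ((X : F[X]) ^ 3 - (C s * X ^ 2 + C t * X + 1)) = 0 := by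
    simpa [Algebra.smul_def] using hst
  have main : ∀ (k : ℕ) (c : F) (Q : F[X]),
      (X : F[X]) ^ k - C c = ((X : F[X]) ^ 3 - (C s * X ^ 2 + C t * X + 1)) * Q →
      M ^ k = c • 1 := by
    intro k c Q h
    have h' := congrArg (aeval M) h
    rw [map_mul, hP, zero_mul] at h'
    simp only [map_sub, map_pow, aeval_X, aeval_C, sub_eq_zero] at h'
    rw [h', Algebra.algebraMap_eq_smul_one]
  by_cases hs : s = 0
  · by_cases ht : t = 0
    · refine ⟨3, Or.inl rfl, 1, main 3 1 1 ?_⟩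
      have := case3 (X : F[X]) (C s) (C t) (by rw [hs, C_0]) (by rw [ht, C_0])
      rw [C_1]; exact this
    · refine ⟨7, by tauto, t ^ 2, main 7 (t ^ 2) (X ^ 4 + C t * X ^ 2 + X + C t ^ 2) ?_⟩
      have := case7 h2' (X : F[X]) (C s) (C t) (by rw [hs, C_0]) (by rw [← C_pow, h3 t ht, C_1])
      rw [C_pow]; exact this
  · have hs3 : (C s : F[X]) ^ 3 = 1 := by rw [← C_pow, h3 s hs, C_1]
    by_cases ht : t = 0
    · refine ⟨7, by tauto, s,
        main 7 s (X ^ 4 + C s * X ^ 3 + C s ^ 2 * X ^ 2 + C s) ?_⟩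
      exact case7' h2' (X : F[X]) (C s) (C t) hs3 (by rw [ht, C_0])
    · by_cases ht' : t = s ^ 2
      · refine ⟨4, by tauto, s, main 4 s (X + C s) ?_⟩
        exact case4 h2' (X : F[X]) (C s) (C t) hs3 (by rw [ht', C_pow])
      · refine ⟨5, by tauto, s ^ 2 + t,
          main 5 (s ^ 2 + t) (X ^ 2 + C s * X + C s ^ 2 + C t) ?_⟩
        have hq : t ^ 2 + s ^ 2 * t + s = 0 := by
          have hne : t * (t + s ^ 2) ≠ 0 := by
            refine mul_ne_zero ht ?_
            intro h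
            apply ht'
            have : t = -s ^ 2 := by linear_combination h
            rw [this, CharTwo.neg_eq]
          have : t * (t + s ^ 2) * (t ^ 2 + s ^ 2 * t + s) = 0 := by
            linear_combination t * h3 t ht + (t + t ^ 2 * s) * h3 s hs
              + (t + s ^ 2 * t ^ 3 + t ^ 2 * s) * h2
          rcases mul_eq_zero.1 this with h | h
          · exact absurd h hne
          · exact h
        have := case5 h2' (X : F[X]) (C s) (C t) hs3 (by rw [← C_pow, ← C_pow, ← C_mul, ← C_add, ← C_add, hq, C_0])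
        rw [C_add, C_pow]; exact this

/-- No element of PSL_3(4) has order 15. -/
theorem result {F : Type*} [Field F] [Fintype F] (hF : Fintype.card F = 4) (g : Matrix.ProjectiveSpecialLinearGroup (Fin 3) F) : orderOf g ≠ 15 := by
  intro hg
  obtain ⟨A, rfl⟩ := QuotientGroup.mk_surjective g
  obtain ⟨k, hk, c, hc⟩ := key hF (A : Matrix (Fin 3) (Fin 3) F) A.2
  have hcen : A ^ k ∈ Subgroup.center (Matrix.SpecialLinearGroup (Fin 3) F) := by
    rw [Subgroup.mem_center_iff]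
    intro B
    apply Subtype.ext
    rw [Matrix.SpecialLinearGroup.coe_mul, Matrix.SpecialLinearGroup.coe_mul,
      Matrix.SpecialLinearGroup.coe_pow, hc]
    simp
  have h1 : (QuotientGroup.mk A : Matrix.ProjectiveSpecialLinearGroup (Fin 3) F) ^ k = 1 := by
    rw [← QuotientGroup.mk_pow]
    exact (QuotientGroup.eq_one_iff _).2 hcen
  have hdvd := orderOf_dvd_of_pow_eq_one h1
  have hg' : orderOf (QuotientGroup.mk A : Matrix.ProjectiveSpecialLinearGroup (Fin 3) F) = 15 := hg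
  rw [hg'] at hdvd
  rcases hk with rfl | rfl | rfl | rfl <;> omega

end Cfsg.Agent.S0819
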