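import Cfsg.Statements.S0820
-- import your own Cfsg.Agent.* helpers here

set_option autoImplicit false
open Cfsg

namespace Cfsg.Agent.S0820

open Matrix

/-- For a nonzero `3 × 3` matrix `N` with `N² = 0` over a field there is a matrix `h` of determinant `1` with
`N h = h E₀₁`. -/
theorem exists_basis_of_sq_zero {F : Type*} [Field F] (N : Matrix (Fin 3) (Fin 3) F) (hN : N * N = 0)
    (hne : N ≠ 0) :
    ∃ h : SpecialLinearGroup (Fin 3) F,
      N * (h : Matrix (Fin 3) (Fin 3) F) =
        (h : Matrix (Fin 3) (Fin 3) F) * Matrix.single (0 : Fin 3) (1 : Fin 3) (1 : F) := by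
  -- a vector not killed by `N`
  have h1 : ∃ v : Fin 3 → F, N *ᵥ v ≠ 0 := by
    by_contra hcon
    push Not at hcon
    apply hne
    ext i j
    have := congrFun (hcon (Pi.single j 1)) i
    simpa using this
  obtain ⟨v, hv⟩ := h1
  set u := N *ᵥ v with hu
  have hNu : N *ᵥ u = 0 := by
    rw [hu, Matrix.mulVec_mulVec, hN, Matrix.zero_mulVec]
  -- the kernel has dimension at least 2
  have hker : ∃ w : Fin 3 → F, N *ᵥ w = 0 ∧ w ∉ Submodule.span F {u} := by
    by_contra hcon
    push Not at hcon
    have hle : LinearMap.ker N.mulVecLin ≤ Submodule.span F {u} := by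
      intro w hw
      exact hcon w (by simpa using hw)
    have h2 : Module.finrank F (LinearMap.ker N.mulVecLin) ≤ 1 :=
      (Submodule.finrank_mono hle).trans (finrank_span_singleton hv).le
    have hrange : LinearMap.range N.mulVecLin ≤ LinearMap.ker N.mulVecLin := by
      rintro _ ⟨w, rfl⟩
      simp [Matrix.mulVec_mulVec, hN]
    have h3 := Submodule.finrank_mono hrange
    have h4 := LinearMap.finrank_range_add_finrank_ker N.mulVecLin
    simp at h4
    omega
  obtain ⟨w, hw, hwu⟩ := hker
  -- the matrix with columns `u`, `v`, `w`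
  have hli : LinearIndependent F ![u, v, w] := by
    rw [Fintype.linearIndependent_iff]
    intro c hc
    rw [Fin.sum_univ_three] at hc
    have hc' : c 0 • u + c 1 • v + c 2 • w = 0 := by simpa using hc
    have hb : c 1 = 0 := by
      have := congrArg (fun x => N *ᵥ x) hc'
      simp only [Matrix.mulVec_add, Matrix.mulVec_smul, hNu, hw, ← hu, smul_zero, zero_add,
        add_zero, Matrix.mulVec_zero] at this
      exact (smul_eq_zero.mp this).resolve_right hv
    rw [hb, zero_smul, add_zero] at hc'
    have h2 : c 2 = 0 := by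
      by_contra h2
      apply hwu
      rw [Submodule.mem_span_singleton]
      refine ⟨-(c 2)⁻¹ * c 0, ?_⟩
      have : c 0 • u = -(c 2 • w) := eq_neg_of_add_eq_zero_left hc'
      rw [mul_smul, this, smul_neg, neg_smul, neg_neg, smul_smul, inv_mul_cancel₀ h2, one_smul]
    rw [h2, zero_smul, add_zero] at hc'
    have h0 : c 0 = 0 := (smul_eq_zero.mp hc').resolve_right hv
    intro i
    fin_cases i <;> assumption
  set A : Matrix (Fin 3) (Fin 3) F := (Matrix.of ![u, v, w])ᵀ with hA
  have hdet : A.det ≠ 0 := by
    rw [hA, Matrix.det_transpose]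
    have := (Matrix.linearIndependent_rows_iff_isUnit (A := Matrix.of ![u, v, w])).mp hli
    exact ((Matrix.isUnit_iff_isUnit_det _).mp this).ne_zero
  set B : Matrix (Fin 3) (Fin 3) F := (Matrix.of ![u, v, A.det⁻¹ • w])ᵀ with hB
  have hBdet : B.det = 1 := by
    have h3 : (Matrix.of ![u, v, A.det⁻¹ • w]) = Matrix.updateRow (Matrix.of ![u, v, w]) 2 (A.det⁻¹ • w) := by
      ext i j
      fin_cases i <;> simp [Matrix.updateRow_apply]
    have h4 : Matrix.updateRow (Matrix.of ![u, v, w]) 2 w = Matrix.of ![u, v, w] := by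
      ext i j
      fin_cases i <;> simp [Matrix.updateRow_apply]
    rw [hB, Matrix.det_transpose, h3, Matrix.det_updateRow_smul, h4]
    rw [hA, Matrix.det_transpose] at hdet ⊢
    exact inv_mul_cancel₀ hdet
  refine ⟨⟨B, hBdet⟩, ?_⟩
  have e0 : ∀ j, N *ᵥ (B.col j) = (N * B).col j := by
    intro j
    ext i
    simp [Matrix.mulVec, Matrix.mul_apply, dotProduct]
  have c0 : B.col 0 = u := by ext i; simp [hB]
  have c1 : B.col 1 = v := by ext i; simp [hB]
  have c2 : B.col 2 = A.det⁻¹ • w := by ext i; simp [hB]
  have f0 : (N * B).col 0 = 0 := by rw [← e0, c0, hNu]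
  have f1 : (N * B).col 1 = u := by rw [← e0, c1]
  have f2 : (N * B).col 2 = 0 := by rw [← e0, c2, Matrix.mulVec_smul, hw, smul_zero]
  show N * B = B * _
  ext i j
  fin_cases j
  · have := congrFun f0 i
    simpa using this
  · have := congrFun f1 i
    have hh := congrFun c0 i
    simp at this hh
    simp [this, hh]
  · have := congrFun f2 i
    simpa using this

/-- An element of `SL_3(F)` whose square is `1`, in characteristic 2, not the identity, is conjugate in `SL_3(F)` to
the elementary transvection. -/
theorem exists_conj_transvection {F : Type*} [Field F] (h2 : (2 : F) = 0)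
    (g : SpecialLinearGroup (Fin 3) F) (hg : g * g = 1) (hne : g ≠ 1) :
    ∃ h : SpecialLinearGroup (Fin 3) F,
      (h⁻¹ * g * h : SpecialLinearGroup (Fin 3) F) =
        SpecialLinearGroup.transvection (i := (0 : Fin 3)) (j := 1) (by decide) 1 := by
  have hg' : (g : Matrix (Fin 3) (Fin 3) F) * (g : Matrix (Fin 3) (Fin 3) F) = 1 := by
    have := congrArg (fun x : SpecialLinearGroup (Fin 3) F => (x : Matrix (Fin 3) (Fin 3) F)) hg
    simpa using this
  obtain ⟨h, hh⟩ := exists_basis_of_sq_zero ((g : Matrix (Fin 3) (Fin 3) F) - 1)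
    (by
      have : ((g : Matrix (Fin 3) (Fin 3) F) - 1) * ((g : Matrix (Fin 3) (Fin 3) F) - 1) =
        (2 : F) • (1 - (g : Matrix (Fin 3) (Fin 3) F)) := by
        rw [sub_mul, mul_sub, hg', two_smul]; noncomm_ring
      rw [this, h2, zero_smul])
    (by
      intro h0
      apply hne
      apply Subtype.ext
      simpa [sub_eq_zero] using h0)
  refine ⟨h, ?_⟩
  have : g * h = h * SpecialLinearGroup.transvection (i := (0 : Fin 3)) (j := 1) (by decide) 1 := by
    apply Subtype.ext
    rw [sub_mul, one_mul, sub_eq_iff_eq_add] at hh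
    show (g : Matrix (Fin 3) (Fin 3) F) * (h : Matrix (Fin 3) (Fin 3) F) =
      (h : Matrix (Fin 3) (Fin 3) F) * ((1 : Matrix (Fin 3) (Fin 3) F) + Matrix.single 0 1 1)
    rw [hh, mul_add, mul_one, add_comm]
  rw [mul_assoc, this, inv_mul_cancel_left]

/-- Any two elements of order 2 of PSL_3(4) are conjugate. -/
theorem result {F : Type*} [Field F] [Fintype F] (hF : Fintype.card F = 4) (x y : Matrix.ProjectiveSpecialLinearGroup (Fin 3) F) (hx : orderOf x = 2) (hy : orderOf y = 2) : IsConj x y := by
  have h2 : (2 : F) = 0 := by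
    have h4 : ((Fintype.card F : ℕ) : F) = 0 := Nat.cast_card_eq_zero F
    rw [hF] at h4
    have : (2 : F) * 2 = 0 := by
      have h5 : ((4 : ℕ) : F) = 2 * 2 := by norm_num
      rw [← h5, h4]
    simpa using this
  suffices key : ∀ x : Matrix.ProjectiveSpecialLinearGroup (Fin 3) F, orderOf x = 2 →
      IsConj x (QuotientGroup.mk
        (SpecialLinearGroup.transvection (i := (0 : Fin 3)) (j := 1) (by decide) (1 : F))) from
    (key x hx).trans (key y hy).symm
  intro x hx
  induction x using QuotientGroup.induction_on with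
  | H g =>
    have hsq : (g * g : SpecialLinearGroup (Fin 3) F) ∈ Subgroup.center (SpecialLinearGroup (Fin 3) F) := by
      rw [← QuotientGroup.eq_one_iff]
      have := pow_orderOf_eq_one (QuotientGroup.mk g : Matrix.ProjectiveSpecialLinearGroup (Fin 3) F)
      rw [hx, pow_two] at this
      exact this
    have hg1 : g ∉ Subgroup.center (SpecialLinearGroup (Fin 3) F) := by
      intro h
      rw [← QuotientGroup.eq_one_iff] at h
      rw [h, orderOf_one] at hx
      omega
    set z : SpecialLinearGroup (Fin 3) F := g * g with hz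
    -- `z ^ 3 = 1`
    have hz3 : z ^ 3 = 1 := by
      obtain ⟨r, hr, hr'⟩ := Matrix.SpecialLinearGroup.mem_center_iff.mp hsq
      rw [Fintype.card_fin] at hr
      apply Subtype.ext
      rw [Matrix.SpecialLinearGroup.coe_pow, ← hr', ← map_pow, hr, map_one]
      rfl
    have hcomm : z * g = g * z := by rw [hz, mul_assoc]
    have hsq1 : (g * z) * (g * z) = 1 := by
      have : (g * z) * (g * z) = z ^ 3 := by
        calc (g * z) * (g * z) = g * (z * g) * z := by group
          _ = g * (g * z) * z := by rw [hcomm]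
          _ = (g * g) * z * z := by group
          _ = z ^ 3 := by rw [← hz, pow_succ, pow_two]
      rw [this, hz3]
    have hne : g * z ≠ 1 := by
      intro h
      apply hg1
      rw [eq_inv_of_mul_eq_one_left h]
      exact Subgroup.inv_mem _ hsq
    obtain ⟨h, hh⟩ := exists_conj_transvection h2 (g * z) hsq1 hne
    rw [isConj_iff]
    refine ⟨(QuotientGroup.mk h)⁻¹, ?_⟩
    rw [← hh]
    have hgz : (QuotientGroup.mk g : Matrix.ProjectiveSpecialLinearGroup (Fin 3) F) = QuotientGroup.mk (g * z) := by
      rw [QuotientGroup.eq]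
      simpa using hsq
    rw [hgz, inv_inv]
    rfl

end Cfsg.Agent.S0820
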