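import Cfsg.Statements.S0821
import Cfsg.Agent.ClassicalGeometry.SympInvolutions
import Cfsg.Agent.ClassicalGeometry.OddInvolutions

set_option autoImplicit false
open Cfsg

namespace Cfsg.Agent.S0821

/-- PSp_2m(q) ≇ PΩ_(2m+1)(q) for q odd and m ≥ 3 (they have the same order). -/
theorem result {F : Type*} [Field F] [Fintype F] (hodd : Odd (Fintype.card F)) (m : ℕ) (hm : 3 ≤ m) : IsEmpty (Cfsg.PSp m F ≃* Cfsg.POmega F (Cfsg.quadFormOdd m F)) := by
  refine ⟨fun φ => ?_⟩
  have hodd' : Fintype.card F % 2 = 1 := Nat.odd_iff.mp hodd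
  have h2 : (2 : F) ≠ 0 :=
    Cfsg.Agent.ClassicalGeometry.SympInvolutions.two_ne_zero_of_odd hodd'
  obtain ⟨s, hs1, hs2⟩ :=
    Cfsg.Agent.ClassicalGeometry.OddInvolutions.exists_nonconj_odd (F := F) (m := m) h2 hm
  have h := Cfsg.Agent.ClassicalGeometry.SympInvolutions.card_le_of_nonconj (F := F) (m := m)
    hodd' m (fun i => φ.symm (s i))
    (fun i => by
      rw [← hs1 i]
      exact orderOf_injective φ.symm.toMonoidHom φ.symm.injective (s i))
    (fun i j hij => hs2 i j (by
      rw [isConj_iff] at hij ⊢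
      obtain ⟨g, hg⟩ := hij
      refine ⟨φ g, ?_⟩
      apply φ.symm.injective
      simpa using hg))
  omega

end Cfsg.Agent.S0821
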