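import Cfsg.Statements.S0825
import Cfsg.Agent.ClassicalGeometry.SymModel

set_option autoImplicit false
open Cfsg

namespace Cfsg.Agent.S0825

open Matrix Cfsg.Agent.ClassicalGeometry.SymModel Cfsg.Agent.ClassicalGeometry.IsoTransfer

def B8 : Matrix (Fin 8) (Fin 3 ⊕ Fin 3) (ZMod 2) :=
  Matrix.of fun k => Sum.elim
    (fun i => ![![1,1,1,1,0,0,0,0],![1,0,0,1,1,1,0,0],![0,0,1,1,1,0,1,0]] i k)
    (fun i => ![![1,1,1,0,1,0,0,0],![0,1,0,1,1,1,0,0],![1,1,0,0,0,1,1,0]] i k)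

def C8 : Matrix (Fin 3 ⊕ Fin 3) (Fin 8) (ZMod 2) :=
  Matrix.of fun j k => B8 k (Sum.swap j)

def D8 : Data 8 (Fin 3 ⊕ Fin 3) where
  B := B8
  C := C8
  lam := ![0,0,0,0,0,0,0,1]
  mu := ![1,1,1,1,1,1,1,0]
  hCB := by decide +kernel
  hC1 := by decide +kernel
  h1B := by decide +kernel
  hBC := by decide +kernel

theorem hQ8 : ∀ w : Fin (5 + 3) → ZMod 2, ∑ i, w i = 0 →
    quadFormPlus 3 (ZMod 2) (D8.C *ᵥ w) = halfWt w := by decide +kernel

theorem hinj8 : ∀ i j k l : Fin (5 + 3), i ≠ j → D8.p i j = D8.p k l → (k = i ∨ k = j) := by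
  decide +kernel

set_option synthInstance.maxSize 10000 in
theorem equiv_ZMod :
    Nonempty (isometryGroup (ZMod 2) (quadFormPlus 3 (ZMod 2)) ≃* Equiv.Perm (Fin 8)) :=
  D8.nonempty_equiv_of_decide (n := 5) hQ8 hinj8 6
    (by decide +kernel) (by decide +kernel) (by decide +kernel) (by decide +kernel)

/-- O⁺_6(2) ≅ S_8: the isometry group of the hyperbolic form x_1y_1 + x_2y_2 + x_3y_3 over the field with 2 elements is isomorphic to the symmetric group on 8 letters. -/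
theorem result {F : Type*} [Field F] [Fintype F] (hF : Fintype.card F = 2) : Nonempty (↥(Cfsg.isometryGroup F (Cfsg.quadFormPlus 3 F)) ≃* Equiv.Perm (Fin 8)) := by
  obtain ⟨e⟩ := equiv_ZMod
  let φ : F ≃+* ZMod 2 := (ZMod.ringEquivOfPrime F Nat.prime_two hF).symm
  exact ⟨(isometryGroupCongr φ _ _ (by
    intro v
    simp [quadFormPlus, map_mul, map_sum])).trans e⟩

end Cfsg.Agent.S0825
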