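import Cfsg.Statements.S0826
-- import your own Cfsg.Agent.* helpers here

set_option autoImplicit false
open Cfsg

namespace Cfsg.Agent.S0826

open Matrix

section Abstract

set_option linter.unusedSectionVars false

variable {Ω : Type*} [Fintype Ω] [DecidableEq Ω] {m : ℕ}

/-- The permutation action on vectors over the field with two elements. -/
def act (σ : Equiv.Perm Ω) (v : Ω → ZMod 2) : Ω → ZMod 2 := fun x => v (σ⁻¹ x)

theorem act_apply (σ : Equiv.Perm Ω) (v : Ω → ZMod 2) (x : Ω) : act σ v x = v (σ⁻¹ x) := rfl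

theorem sum_act (σ : Equiv.Perm Ω) (v : Ω → ZMod 2) : ∑ x, act σ v x = ∑ x, v x := by
  unfold act
  exact Equiv.sum_comp (σ⁻¹ : Equiv.Perm Ω) v

theorem dot_act (σ : Equiv.Perm Ω) (u v : Ω → ZMod 2) : u ⬝ᵥ act σ v = act σ⁻¹ u ⬝ᵥ v := by
  unfold act dotProduct
  rw [← Equiv.sum_comp σ]
  simp

/-- A system of sum-zero vectors whose Gram matrix is `J` and which is nondegenerate modulo constants. -/
structure Sys (e : Fin m ⊕ Fin m → Ω → ZMod 2) : Prop where
  sum : ∀ i, ∑ x, e i x = 0
  gram : ∀ i j, e i ⬝ᵥ e j = J (Fin m) (ZMod 2) i j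
  nondeg : ∀ w : Ω → ZMod 2, ∑ x, w x = 0 → (∀ i, e i ⬝ᵥ w = 0) → ∃ c, ∀ x, w x = c

/-- The matrix of Gram products of the system with its image. -/
def gm (e : Fin m ⊕ Fin m → Ω → ZMod 2) (σ : Equiv.Perm Ω) :
    Matrix (Fin m ⊕ Fin m) (Fin m ⊕ Fin m) (ZMod 2) :=
  Matrix.of fun k j => e k ⬝ᵥ act σ (e j)

theorem gm_apply (e : Fin m ⊕ Fin m → Ω → ZMod 2) (σ : Equiv.Perm Ω) (k j : Fin m ⊕ Fin m) :
    gm e σ k j = e k ⬝ᵥ act σ (e j) := rfl

theorem JJ : J (Fin m) (ZMod 2) * J (Fin m) (ZMod 2) = 1 := by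
  rw [J_squared]
  ext i j
  simp [ZMod.neg_eq_self_mod_two]

theorem expand {e : Fin m ⊕ Fin m → Ω → ZMod 2} (he : Sys e) (v : Ω → ZMod 2) (hv : ∑ x, v x = 0) :
    ∃ c, ∀ x, v x = ∑ i, (J (Fin m) (ZMod 2) *ᵥ (fun k => e k ⬝ᵥ v)) i * e i x + c := by
  set t := J (Fin m) (ZMod 2) *ᵥ (fun k => e k ⬝ᵥ v) with ht
  obtain ⟨c, hc⟩ := he.nondeg (fun x => v x - ∑ i, t i * e i x) (by
    rw [Finset.sum_sub_distrib, hv, Finset.sum_comm]
    simp [← Finset.mul_sum, he.sum]) (by
    intro k
    have h1 : e k ⬝ᵥ (fun x => v x - ∑ i, t i * e i x) = e k ⬝ᵥ v - ∑ i, t i * (e k ⬝ᵥ e i) := by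
      simp only [dotProduct, mul_sub, Finset.sum_sub_distrib, Finset.mul_sum]
      congr 1
      rw [Finset.sum_comm]
      refine Finset.sum_congr rfl fun i _ => Finset.sum_congr rfl fun x _ => by ring
    have h2 : ∑ i, t i * (e k ⬝ᵥ e i) = (J (Fin m) (ZMod 2) *ᵥ t) k := by
      show _ = ∑ i, J (Fin m) (ZMod 2) k i * t i
      refine Finset.sum_congr rfl fun i _ => by rw [he.gram, mul_comm]
    rw [h1, h2, ht, mulVec_mulVec, JJ, one_mulVec]
    simp)
  refine ⟨c, fun x => ?_⟩
  have h5 : v x - ∑ i, t i * e i x = c := hc x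
  rw [← h5]; ring

theorem gm_one {e : Fin m ⊕ Fin m → Ω → ZMod 2} (he : Sys e) : gm e 1 = J (Fin m) (ZMod 2) := by
  ext i j
  rw [gm_apply, ← he.gram i j]
  rfl

theorem gm_mul {e : Fin m ⊕ Fin m → Ω → ZMod 2} (he : Sys e) (σ τ : Equiv.Perm Ω) :
    gm e (σ * τ) = gm e σ * (J (Fin m) (ZMod 2) * gm e τ) := by
  ext k j
  obtain ⟨c, hc⟩ := expand he (act τ (e j)) (by rw [sum_act, he.sum])
  have hact : ∀ x, act (σ * τ) (e j) x
      = ∑ i, (J (Fin m) (ZMod 2) *ᵥ (fun k => e k ⬝ᵥ act τ (e j))) i * act σ (e i) x + c := by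
    intro x
    have : act (σ * τ) (e j) x = act τ (e j) (σ⁻¹ x) := by
      simp [act]
    rw [this, hc]
    rfl
  rw [gm_apply, mul_apply]
  have h1 : e k ⬝ᵥ act (σ * τ) (e j) = ∑ x, e k x *
      (∑ i, (J (Fin m) (ZMod 2) *ᵥ (fun k => e k ⬝ᵥ act τ (e j))) i * act σ (e i) x + c) := by
    exact Finset.sum_congr rfl fun x _ => by rw [hact]
  rw [h1]
  simp only [mul_add, Finset.sum_add_distrib, ← Finset.sum_mul, he.sum, zero_mul, add_zero,
    Finset.mul_sum]
  rw [Finset.sum_comm]
  refine Finset.sum_congr rfl fun i _ => ?_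
  have h2 : (J (Fin m) (ZMod 2) * gm e τ) i j
      = (J (Fin m) (ZMod 2) *ᵥ (fun k => e k ⬝ᵥ act τ (e j))) i := rfl
  rw [h2, gm_apply, dotProduct, Finset.sum_mul]
  refine Finset.sum_congr rfl fun x _ => by ring

theorem gm_transpose (e : Fin m ⊕ Fin m → Ω → ZMod 2) (σ : Equiv.Perm Ω) :
    (gm e σ)ᵀ = gm e σ⁻¹ := by
  ext i j
  rw [transpose_apply, gm_apply, gm_apply, dot_act, dotProduct_comm]

/-- The homomorphism. -/
def hom {e : Fin m ⊕ Fin m → Ω → ZMod 2} (he : Sys e) :
    Equiv.Perm Ω →* Matrix.symplecticGroup (Fin m) (ZMod 2) where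
  toFun σ := ⟨J (Fin m) (ZMod 2) * gm e σ, by
    have hJt : (J (Fin m) (ZMod 2))ᵀ = J (Fin m) (ZMod 2) := by
      rw [J_transpose]
      ext i j
      simp [ZMod.neg_eq_self_mod_two]
    rw [SymplecticGroup.mem_iff, transpose_mul, hJt, gm_transpose, Matrix.mul_assoc,
      Matrix.mul_assoc, ← Matrix.mul_assoc (J (Fin m) (ZMod 2)) (gm e σ⁻¹),
      ← Matrix.mul_assoc (gm e σ), ← gm_mul he, mul_inv_cancel, gm_one he, JJ, Matrix.mul_one]⟩
  map_one' := by
    apply Subtype.ext
    simp only [gm_one he, JJ]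
    rfl
  map_mul' σ τ := by
    apply Subtype.ext
    show J (Fin m) (ZMod 2) * gm e (σ * τ)
      = J (Fin m) (ZMod 2) * gm e σ * (J (Fin m) (ZMod 2) * gm e τ)
    rw [gm_mul he, Matrix.mul_assoc]

theorem hom_injective {e : Fin m ⊕ Fin m → Ω → ZMod 2} (he : Sys e) (hcard : 5 ≤ Fintype.card Ω) :
    Function.Injective (hom he) := by
  rw [injective_iff_map_eq_one]
  intro σ hσ
  have h0 : J (Fin m) (ZMod 2) * gm e σ = 1 := congrArg Subtype.val hσ
  have h1 : gm e σ = J (Fin m) (ZMod 2) := by
    have := congrArg (fun M => J (Fin m) (ZMod 2) * M) h0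
    simpa [← Matrix.mul_assoc, JJ] using this
  -- every `σ e_j - e_j` is constant
  have h2 : ∀ j, ∃ c, ∀ x, act σ (e j) x - e j x = c := by
    intro j
    refine he.nondeg _ ?_ ?_
    · rw [Finset.sum_sub_distrib, sum_act, sub_self]
    · intro i
      have : e i ⬝ᵥ (fun x => act σ (e j) x - e j x) = gm e σ i j - e i ⬝ᵥ e j := by
        rw [gm_apply]
        simp only [dotProduct, mul_sub, Finset.sum_sub_distrib]
      rw [this, h1, he.gram, sub_self]
  -- hence for all sum-zero vectors
  have h3 : ∀ v : Ω → ZMod 2, ∑ x, v x = 0 → ∃ c, ∀ x, act σ v x - v x = c := by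
    intro v hv
    obtain ⟨c, hc⟩ := expand he v hv
    choose d hd using h2
    refine ⟨∑ i, (J (Fin m) (ZMod 2) *ᵥ (fun k => e k ⬝ᵥ v)) i * d i, fun x => ?_⟩
    rw [act_apply, hc, hc]
    rw [add_sub_add_right_eq_sub, ← Finset.sum_sub_distrib]
    refine Finset.sum_congr rfl fun i _ => ?_
    rw [← mul_sub, ← hd i x]
    rfl
  -- pairs are fixed
  have h4 : ∀ x y : Ω, x ≠ y → σ x = x ∨ σ x = y := by
    intro x y hxy
    obtain ⟨c, hc⟩ := h3 (Pi.single x 1 + Pi.single y 1) (by
      simp only [Pi.add_apply, Finset.sum_add_distrib, Finset.sum_pi_single']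
      simp
      decide)
    by_contra hcon
    push Not at hcon
    -- find z outside
    obtain ⟨z, hz⟩ : ∃ z, z ∉ ({x, y, σ x, σ y} : Finset Ω) := by
      by_contra hall
      push Not at hall
      have : Fintype.card Ω ≤ ({x, y, σ x, σ y} : Finset Ω).card := by
        rw [← Finset.card_univ]
        exact Finset.card_le_card fun z _ => hall z
      have h4 : ({x, y, σ x, σ y} : Finset Ω).card ≤ 4 := Finset.card_le_four
      omega
    simp only [Finset.mem_insert, Finset.mem_singleton, not_or] at hz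
    obtain ⟨hz1, hz2, hz3, hz4⟩ := hz
    have e1 := hc z
    have e2 := hc (σ x)
    have hzx : σ⁻¹ z ≠ x := fun h => hz3 (by rw [← h]; simp)
    have hzy : σ⁻¹ z ≠ y := fun h => hz4 (by rw [← h]; simp)
    rw [act_apply] at e1 e2
    simp only [Pi.add_apply, Pi.single_apply, hzx, hzy, hz1, hz2, if_false] at e1
    have : σ⁻¹ (σ x) = x := by simp
    simp only [this, Pi.add_apply, Pi.single_apply, hxy, hcon.1, hcon.2, if_false, if_true] at e2
    rw [← e1] at e2
    revert e2
    simp
  ext x
  simp only [Equiv.Perm.coe_one, id_eq]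
  by_contra hx
  -- take y ≠ x, σ x
  obtain ⟨z, hz⟩ : ∃ z, z ∉ ({x, σ x} : Finset Ω) := by
    by_contra hall
    push Not at hall
    have : Fintype.card Ω ≤ ({x, σ x} : Finset Ω).card := by
      rw [← Finset.card_univ]
      exact Finset.card_le_card fun z _ => hall z
    have h4 : ({x, σ x} : Finset Ω).card ≤ 2 := Finset.card_le_two
    omega
  simp only [Finset.mem_insert, Finset.mem_singleton, not_or] at hz
  rcases h4 x z (Ne.symm hz.1) with h | h
  · exact hx h
  · exact hz.2 h.symm

end Abstract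

/-- The concrete system on `Fin (m+1) × Bool`. -/
def esys (m : ℕ) : Fin m ⊕ Fin m → Fin (m + 1) × Bool → ZMod 2
  | Sum.inl i, x => if x.1 = i.castSucc then 1 else 0
  | Sum.inr i, x => (if x.1 < i.castSucc then 1 else 0) + (if x = (i.castSucc, true) then 1 else 0)
      + (if x = (Fin.last m, true) then 1 else 0)

theorem esys_sys (m : ℕ) : Sys (esys m) := by
  have two : (1 : ZMod 2) + 1 = 0 := by decide
  have hsum : ∀ (f : Fin (m + 1) × Bool → ZMod 2), ∑ x, f x = ∑ i, (f (i, true) + f (i, false)) := by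
    intro f
    rw [Fintype.sum_prod_type]
    simp
  have dotl : ∀ (i : Fin m) (w : Fin (m + 1) × Bool → ZMod 2),
      esys m (Sum.inl i) ⬝ᵥ w = w (i.castSucc, true) + w (i.castSucc, false) := by
    intro i w
    unfold dotProduct
    rw [hsum]
    simp only [esys, ite_mul, one_mul, zero_mul]
    rw [Finset.sum_add_distrib]
    simp
  have dotr : ∀ (i : Fin m) (w : Fin (m + 1) × Bool → ZMod 2),
      esys m (Sum.inr i) ⬝ᵥ w = (∑ j, if j < i.castSucc then w (j, true) + w (j, false) else 0)
        + w (i.castSucc, true) + w (Fin.last m, true) := by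
    intro i w
    unfold dotProduct
    simp only [esys, add_mul, ite_mul, one_mul, zero_mul, Finset.sum_add_distrib]
    rw [hsum]
    simp [← ite_add_zero]
  have hlt : ∀ i : Fin m, i.castSucc ≠ Fin.last m := fun i => (Fin.castSucc_lt_last i).ne
  have hlt' : ∀ i : Fin m, Fin.last m ≠ i.castSucc := fun i => (hlt i).symm
  have hlast : ∀ i : Fin m, ¬ Fin.last m < i.castSucc := fun i => not_lt.mpr (Fin.le_last _)
  refine ⟨?_, ?_, ?_⟩
  · rintro (i | i)
    · rw [hsum]
      simp only [esys]
      refine Finset.sum_eq_zero fun j _ => ?_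
      split_ifs <;> simp [two]
    · have := dotr i (fun _ => 1)
      simp only [dotProduct, mul_one] at this
      rw [this]
      simp [two]
  · rintro (i | i) (j | j)
    · rw [dotl]
      simp only [esys]
      split_ifs <;> simp [two, J]
    · rw [dotl]
      simp only [esys, J, fromBlocks_apply₁₂]
      simp [hlt, Matrix.one_apply]
      by_cases h : i = j
      · simp [h]
      · by_cases h' : i < j <;> simp [h, h', two]
    · rw [dotr]
      simp only [esys, J, fromBlocks_apply₂₁]
      rw [Finset.sum_eq_zero]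
      · simp [hlt', Matrix.one_apply]
      · intro x _
        split_ifs <;> simp [two]
    · rw [dotr]
      simp only [esys, J, fromBlocks_apply₂₂]
      have hs : ∀ x : Fin (m + 1), (if x < i.castSucc then
          (((if x < j.castSucc then 1 else 0) + if (x, true) = (j.castSucc, true) then 1 else 0) +
            if (x, true) = (Fin.last m, true) then 1 else 0) +
              (((if x < j.castSucc then 1 else 0) + if (x, false) = (j.castSucc, true) then 1 else 0) +
            if (x, false) = (Fin.last m, true) then 1 else 0)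
          else 0) = if x = j.castSucc then (if j.castSucc < i.castSucc then (1 : ZMod 2) else 0) else 0 := by
        intro x
        by_cases hxj : x = j.castSucc
        · subst hxj
          by_cases hji : j.castSucc < i.castSucc
          · simp [hlt]
          · rw [if_neg hji, if_neg hji]; simp
        · by_cases hxi : x < i.castSucc
          · have hxl : x ≠ Fin.last m := fun h => by
              rw [h] at hxi
              exact absurd hxi (not_lt.mpr (Fin.le_last _))
            by_cases hxj' : x < j.castSucc <;> simp [hxi, hxj, hxl, hxj', two]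
          · rw [if_neg hxi, if_neg hxj]
      rw [Finset.sum_congr rfl fun x _ => hs x, Finset.sum_ite_eq' Finset.univ]
      simp [hlt', hlast]
      rcases lt_trichotomy i j with h | h | h
      · simp [h, h.ne, h.not_gt, two]
      · simp [h, two]
      · simp [h, h.ne', h.not_gt, two]
  · intro w hw h
    refine ⟨w (Fin.last m, true), ?_⟩
    have h1 : ∀ i : Fin m, w (i.castSucc, true) + w (i.castSucc, false) = 0 := fun i => by
      rw [← dotl]; exact h _
    have h2 : ∀ i : Fin m, w (i.castSucc, true) + w (Fin.last m, true) = 0 := fun i => by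
      rw [← h (Sum.inr i), dotr, Finset.sum_eq_zero, zero_add]
      intro j _
      split_ifs with hj
      · have : j = (j.castLT (lt_of_lt_of_le hj (by simp))).castSucc := by simp
        rw [this]; exact h1 _
      · rfl
    have h3 : w (Fin.last m, true) + w (Fin.last m, false) = 0 := by
      rw [hsum, Fin.sum_univ_castSucc, Finset.sum_eq_zero (fun i _ => h1 i), zero_add] at hw
      exact hw
    have key : ∀ a b : ZMod 2, a + b = 0 → a = b := by decide
    rintro ⟨x, b⟩
    rcases Fin.eq_castSucc_or_eq_last x with ⟨i, rfl⟩ | rfl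
    · cases b
      · rw [← key _ _ (h1 i), key _ _ (h2 i)]
      · exact key _ _ (h2 i)
    · cases b
      · exact (key _ _ h3).symm
      · rfl

/-- S_2n ≤ Sp_(2n−2)(2) for n ≥ 3: there is an injective homomorphism from the symmetric group on 2n letters into the symplectic group of degree 2n − 2 over the field with two elements. -/
theorem result (n : ℕ) (hn : 3 ≤ n) : ∃ f : Equiv.Perm (Fin (2 * n)) →* Matrix.symplecticGroup (Fin (n - 1)) (ZMod 2), Function.Injective f := by
  obtain ⟨m, rfl⟩ : ∃ m, n = m + 1 := ⟨n - 1, by omega⟩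
  have hcard : Fintype.card (Fin (m + 1) × Bool) = 2 * (m + 1) := by
    simp; ring
  have eqv : Fin (2 * (m + 1)) ≃ Fin (m + 1) × Bool :=
    (Fintype.equivFinOfCardEq hcard).symm
  refine ⟨(hom (esys_sys m)).comp eqv.permCongrHom.toMonoidHom, ?_⟩
  rw [MonoidHom.coe_comp]
  refine (hom_injective (esys_sys m) (by rw [hcard]; omega)).comp ?_
  exact eqv.permCongrHom.injective

end Cfsg.Agent.S0826
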