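import Cfsg.Statements.S0827
import Cfsg.Agent.ClassicalGeometry.SU32
import Cfsg.Agent.LieClassical.FieldTransfer

set_option autoImplicit false
open Cfsg

namespace Cfsg.Agent.S0827

open Cfsg.Agent.Lib.FieldFour
open Cfsg.Agent.Lib.FieldFour.F4
open Cfsg.Agent.ClassicalGeometry.SU32

/-- Equality up to a scalar. -/
def eqv (A B : M) : Bool := beqM A B || (beqM A (smulM w B) || beqM A (smulM v B))

/-- scalar matrices -/
def isScal (A : M) : Bool := eqv A oneM

/-- cube -/
def cube (A : M) : M := mulM A (mulM A A)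

def tA : M := ⟨i, i, i, i, w, v, i, v, w⟩
def tX : M := ⟨i, v, v, w, w, v, w, v, w⟩
def tD : M := ⟨i, o, o, o, w, o, o, o, v⟩
def tP : M := ⟨o, i, o, o, o, i, i, o, o⟩

/-- powers -/
def powM (A : M) : ℕ → M
  | 0 => oneM
  | n + 1 => mulM A (powM A n)

/-- The eight elements of the quaternion subgroup. -/
def q8t : QuaternionGroup 2 → M
  | .a j => powM tA (ZMod.val j)
  | .xa j => mulM tX (powM tA (ZMod.val j))

theorem q8t_isU : ∀ x : QuaternionGroup 2, isU (q8t x) = true := by decide +kernel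

theorem q8t_mul : ∀ x y : QuaternionGroup 2, q8t (x * y) = mulM (q8t x) (q8t y) := by
  decide +kernel

theorem q8t_one : q8t 1 = oneM := by decide +kernel

/-- The quaternion subgroup of `SU_3(2)`. -/
def q8 : QuaternionGroup 2 →* SU 3 F4 2 where
  toFun x := mk (q8t x) (q8t_isU x)
  map_one' := tup_injective (by rw [tup_mk, q8t_one, tup_one])
  map_mul' x y := tup_injective (by rw [tup_mul, tup_mk, tup_mk, tup_mk, q8t_mul])

theorem tup_q8 (x : QuaternionGroup 2) : tup (q8 x) = q8t x := rfl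

/-- The nine elements `D ^ r * P ^ s`. -/
def dp (r s : Fin 3) : M := mulM (powM tD r.val) (powM tP s.val)

theorem dp_isU : ∀ r s : Fin 3, isU (dp r s) = true := by decide +kernel

theorem dp_inj : ∀ r s r' s' : Fin 3, eqv (dp r s) (dp r' s') = true → r = r' ∧ s = s' := by
  decide +kernel

theorem dp_cube : ∀ r s : Fin 3, isScal (cube (dp r s)) = true := by
  decide +kernel

/-- Boolean equivalence -/
def iffB (a b : Bool) : Bool := if a then b else !b

theorem iffB_spec {a b : Bool} (h : iffB a b = true) : a = true ↔ b = true := by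
  cases a <;> cases b <;> simp_all [iffB]

/-- Disjunction over a list -/
def anyL (l : List M) (p : M → Bool) : Bool :=
  match l with
  | [] => false
  | x :: l => p x || anyL l p

theorem anyL_spec {l : List M} {p : M → Bool} (h : anyL l p = true) : ∃ x ∈ l, p x = true := by
  induction l with
  | nil => simp [anyL] at h
  | cons x l ih =>
    rw [anyL, Bool.or_eq_true] at h
    rcases h with h | h
    · exact ⟨x, by simp, h⟩
    · obtain ⟨y, hy, hp⟩ := ih h
      exact ⟨y, by simp [hy], hp⟩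

theorem check1 : check (fun A => iffB (eqv (mulM A tD) (mulM tD A) && eqv (mulM A tP) (mulM tP A))
    (isScal (cube A))) = true := by
  decide +kernel

theorem check2 : check (fun A => imp (isScal (cube A)) (anyL
    [dp 0 0, dp 0 1, dp 0 2, dp 1 0, dp 1 1, dp 1 2, dp 2 0, dp 2 1, dp 2 2] (fun B => eqv A B)))
    = true := by
  decide +kernel

theorem check3 : check (fun A => anyL
    [q8t (.a 0), q8t (.a 1), q8t (.a 2), q8t (.a 3), q8t (.xa 0), q8t (.xa 1), q8t (.xa 2),
      q8t (.xa 3)] (fun B => isScal (cube (mulM B A)))) = true := by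
  decide +kernel

/-! ### The group `PSU_3(2)` over `F4` -/

/-- The projection. -/
def pr : SU 3 F4 2 →* PSU 3 F4 2 := QuotientGroup.mk' (Subgroup.center (SU 3 F4 2))

theorem pr_surjective : Function.Surjective pr := QuotientGroup.mk'_surjective _

theorem ofM_smul_one (c : F4) : toM (Matrix.diagonal (fun _ : Fin 3 => c)) = smulM c oneM := by
  revert c; decide

theorem eqv_iff (A B : M) : eqv A B = true ↔ ∃ c : F4, c ^ 3 = 1 ∧ A = smulM c B := by
  have h1 : smulM i B = B := by
    obtain ⟨a, b, c, d, e, f, g, h, k⟩ := B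
    rfl
  simp only [eqv, Bool.or_eq_true, beqM_iff]
  constructor
  · rintro (h | h | h)
    · exact ⟨i, by decide, by rw [h1]; exact h⟩
    · exact ⟨w, by decide, h⟩
    · exact ⟨v, by decide, h⟩
  · rintro ⟨c, hc, h⟩
    cases c
    · exact absurd hc (by decide)
    · left; rw [h1] at h; exact h
    · right; left; exact h
    · right; right; exact h

theorem mem_center_iff (g : SU 3 F4 2) :
    g ∈ Subgroup.center (SU 3 F4 2) ↔ isScal (tup g) = true := by
  rw [Cfsg.Agent.LieClassical.SUBasic.mem_center_SU_iff (q := 2) (by rw [F4.card]; norm_num)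
    (le_refl 3), isScal, eqv_iff]
  constructor
  · rintro ⟨c, hc, hc', rfl⟩
    exact ⟨c, hc, ofM_smul_one c⟩
  · rintro ⟨c, hc, h⟩
    exact ⟨c, hc, hc, tup_injective (h.trans (ofM_smul_one c).symm)⟩

theorem pr_eq_one_iff (g : SU 3 F4 2) : pr g = 1 ↔ isScal (tup g) = true := by
  rw [← mem_center_iff]
  exact QuotientGroup.eq_one_iff g

theorem mulM_scal (A : M) (c : F4) : mulM A (smulM c oneM) = smulM c A := by
  rw [← toM_ofM A, ← ofM_smul_one, ← toM_mul, ← toM_smul, Matrix.smul_eq_diagonal_mul,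
    ← Matrix.scalar_apply]
  congr 1
  exact (Matrix.scalar_commute c (fun _ => Commute.all _ _) (ofM A)).symm

theorem pr_eq_iff (x y : SU 3 F4 2) : pr x = pr y ↔ eqv (tup x) (tup y) = true := by
  rw [eq_comm, ← inv_mul_eq_one, ← map_inv, ← map_mul, pr_eq_one_iff, isScal, eqv_iff, eqv_iff]
  have h : tup x = mulM (tup y) (tup (y⁻¹ * x)) := by
    rw [← tup_mul, mul_inv_cancel_left]
  constructor
  · rintro ⟨c, hc, hc'⟩
    refine ⟨c, hc, ?_⟩
    rw [h, hc', mulM_scal]
  · rintro ⟨c, hc, hc'⟩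
    refine ⟨c, hc, ?_⟩
    have h1 : Cfsg.Agent.LieClassical.SUBasic.suScalar (n := 3) 2 c hc hc = y⁻¹ * x := by
      rw [eq_inv_mul_iff_mul_eq]
      apply tup_injective
      rw [tup_mul, hc', ← mulM_scal]
      congr 1
      exact ofM_smul_one c
    rw [← h1]
    exact ofM_smul_one c

/-- The elements `D` and `P`. -/
def gD : SU 3 F4 2 := mk tD (by decide)
def gP : SU 3 F4 2 := mk tP (by decide)

/-- The normal subgroup of order nine. -/
def N : Subgroup (PSU 3 F4 2) := Subgroup.centralizer {pr gD, pr gP}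

theorem mem_N_iff (g : SU 3 F4 2) : pr g ∈ N ↔ isScal (cube (tup g)) = true := by
  rw [← iffB_spec (forall_of_check check1 g), Bool.and_eq_true]
  change pr g ∈ Subgroup.centralizer {pr gD, pr gP} ↔ _
  rw [Subgroup.mem_centralizer_iff]
  have e1 : eqv (mulM (tup g) tD) (mulM tD (tup g)) = true ↔ pr gD * pr g = pr g * pr gD := by
    rw [@eq_comm _ (pr gD * pr g), ← map_mul, ← map_mul, pr_eq_iff, tup_mul, tup_mul]
    rfl
  have e2 : eqv (mulM (tup g) tP) (mulM tP (tup g)) = true ↔ pr gP * pr g = pr g * pr gP := by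
    rw [@eq_comm _ (pr gP * pr g), ← map_mul, ← map_mul, pr_eq_iff, tup_mul, tup_mul]
    rfl
  rw [e1, e2]
  simp

theorem mem_N_iff_cube (x : PSU 3 F4 2) : x ∈ N ↔ x ^ 3 = 1 := by
  obtain ⟨g, rfl⟩ := pr_surjective x
  rw [mem_N_iff, ← map_pow, pr_eq_one_iff, pow_succ', pow_two, tup_mul, tup_mul]
  rfl

instance N_normal : N.Normal := by
  constructor
  intro n hn g
  rw [mem_N_iff_cube] at hn ⊢
  rw [conj_pow, hn, mul_one, mul_inv_cancel]

/-- The parametrisation of `N`. -/
def f (x : Fin 3 × Fin 3) : PSU 3 F4 2 := pr (mk (dp x.1 x.2) (dp_isU x.1 x.2))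

theorem f_mem (x : Fin 3 × Fin 3) : f x ∈ N := by
  rw [f, mem_N_iff, tup_mk]
  exact dp_cube _ _

theorem f_injective : Function.Injective f := by
  rintro ⟨r, s⟩ ⟨r', s'⟩ h
  rw [f, f, pr_eq_iff, tup_mk, tup_mk] at h
  obtain ⟨h1, h2⟩ := dp_inj _ _ _ _ h
  exact Prod.ext h1 h2

theorem exists_f {x : PSU 3 F4 2} (hx : x ∈ N) : ∃ y, f y = x := by
  obtain ⟨g, rfl⟩ := pr_surjective x
  rw [mem_N_iff] at hx
  obtain ⟨B, hB, hB'⟩ := anyL_spec (imp_spec (forall_of_check check2 g) hx)
  have : ∃ r s, B = dp r s := by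
    simp only [List.mem_cons, List.not_mem_nil, or_false] at hB
    rcases hB with h | h | h | h | h | h | h | h | h <;> exact ⟨_, _, h⟩
  obtain ⟨r, s, rfl⟩ := this
  refine ⟨(r, s), ?_⟩
  rw [eq_comm, f, pr_eq_iff]
  exact hB'

theorem card_N : Nat.card N = 9 := by
  have hb : Function.Bijective (fun x : Fin 3 × Fin 3 => (⟨f x, f_mem x⟩ : N)) := by
    constructor
    · intro x y h
      exact f_injective (congrArg Subtype.val h)
    · rintro ⟨x, hx⟩
      obtain ⟨y, hy⟩ := exists_f hx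
      exact ⟨y, Subtype.ext hy⟩
  rw [← Nat.card_congr (Equiv.ofBijective _ hb)]
  simp

theorem q8_scal : ∀ x : QuaternionGroup 2, isScal (cube (q8t x)) = true → x = 1 := by
  decide +kernel

/-- The map from the quaternion group to the quotient. -/
def phi : QuaternionGroup 2 →* PSU 3 F4 2 ⧸ N := (QuotientGroup.mk' N).comp (pr.comp q8)

theorem phi_injective : Function.Injective phi := by
  rw [injective_iff_map_eq_one]
  intro x hx
  apply q8_scal
  rw [← tup_q8, ← mem_N_iff]
  exact (QuotientGroup.eq_one_iff _).1 hx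

theorem phi_surjective : Function.Surjective phi := by
  intro y
  obtain ⟨z, rfl⟩ := QuotientGroup.mk'_surjective N y
  obtain ⟨g, rfl⟩ := pr_surjective z
  obtain ⟨B, hB, hB'⟩ := anyL_spec (forall_of_check check3 g)
  have : ∃ x, B = q8t x := by
    simp only [List.mem_cons, List.not_mem_nil, or_false] at hB
    rcases hB with h | h | h | h | h | h | h | h <;> exact ⟨_, h⟩
  obtain ⟨x, rfl⟩ := this
  refine ⟨x⁻¹, ?_⟩
  change (QuotientGroup.mk' N) (pr (q8 x⁻¹)) = (QuotientGroup.mk' N) (pr g)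
  rw [QuotientGroup.mk'_apply, QuotientGroup.mk'_apply, QuotientGroup.eq, ← map_inv, ← map_inv,
    inv_inv, ← map_mul, mem_N_iff, tup_mul, tup_q8]
  exact hB'

/-- The result over `F4`. -/
theorem result_F4 : ∃ (N : Subgroup (Cfsg.PSU 3 F4 2)) (_ : N.Normal), Nat.card N = 9 ∧
    (∀ x ∈ N, x ^ 3 = 1) ∧ Nonempty (Cfsg.PSU 3 F4 2 ⧸ N ≃* QuaternionGroup 2) :=
  ⟨N, N_normal, card_N, fun x hx => (mem_N_iff_cube x).1 hx,
    ⟨(MulEquiv.ofBijective phi ⟨phi_injective, phi_surjective⟩).symm⟩⟩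

/-- U_3(2) ≅ 3².Q_8: PSU_3(2) (form over the field with 4 elements) has a normal subgroup N which is elementary abelian of order 9 such that the quotient by N is isomorphic to the quaternion group of order 8. -/
theorem result {F : Type*} [Field F] [Fintype F] (hF : Fintype.card F = 4) : ∃ (N : Subgroup (Cfsg.PSU 3 F 2)) (_ : N.Normal), Nat.card N = 9 ∧ (∀ x ∈ N, x ^ 3 = 1) ∧ Nonempty (Cfsg.PSU 3 F 2 ⧸ N ≃* QuaternionGroup 2) := by
  obtain ⟨N, hN, h9, h3, ⟨e⟩⟩ := result_F4
  let u : PSU 3 F 2 ≃* PSU 3 F4 2 :=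
    Cfsg.Agent.LieClassical.FieldTransfer.psuCongr 3 2 (equivOfCard hF)
  have hN' : (N.comap u.toMonoidHom).Normal := hN.comap u.toMonoidHom
  refine ⟨N.comap u.toMonoidHom, hN', ?_, ?_, ⟨?_⟩⟩
  · rw [← h9]
    exact Nat.card_congr (u.toEquiv.subtypeEquiv fun x => Iff.rfl)
  · intro x hx
    apply u.injective
    rw [map_pow, map_one]
    exact h3 _ hx
  · exact (QuotientGroup.congr _ _ u (Subgroup.map_comap_eq_self_of_surjective u.surjective N)).trans e

end Cfsg.Agent.S0827
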