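import Cfsg.Statements.S0829
import Cfsg.Agent.ClassicalGeometry.HermLines4

set_option autoImplicit false
open Cfsg

namespace Cfsg.Agent.S0829

open Cfsg.Agent.ClassicalGeometry.HermLines4

variable {F : Type*} [Field F] [Fintype F] {q : ℕ}

omit [Fintype F] in
theorem herm4 (u v : Fin 4 → F) : Cfsg.hermForm 4 F q u v =
    u 0 * v 0 ^ q + u 1 * v 1 ^ q + u 2 * v 2 ^ q + u 3 * v 3 ^ q := by
  show ∑ i, u i * (v i) ^ q = _
  rw [Fin.sum_univ_four]

/-- span of a pair -/
def sp (u v : Fin 4 → F) : Submodule F (Fin 4 → F) := Submodule.span F {u, v}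

omit [Fintype F] in
theorem mem_sp {u v w : Fin 4 → F} : w ∈ sp u v ↔ ∃ a b : F, a • u + b • v = w :=
  Submodule.mem_span_pair

omit [Fintype F] in
theorem finrank_sp {u v : Fin 4 → F} (h : LinearIndependent F ![u, v]) :
    Module.finrank F (sp u v) = 2 := by
  have h1 := finrank_span_eq_card h
  rw [Fintype.card_fin] at h1
  have h2 : Set.range ![u, v] = {u, v} := by
    simp [Matrix.range_cons, Matrix.range_empty, Set.pair_comm]
  rw [h2] at h1
  exact h1

theorem sp_isotropic (hF : Fintype.card F = q ^ 2) {u v : Fin 4 → F}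
    (huu : Cfsg.hermForm 4 F q u u = 0) (hvv : Cfsg.hermForm 4 F q v v = 0)
    (huv : Cfsg.hermForm 4 F q u v = 0) : ∀ x ∈ sp u v, ∀ y ∈ sp u v, Cfsg.hermForm 4 F q x y = 0 := by
  have hvu : Cfsg.hermForm 4 F q v u = 0 := by
    have h1 : (Cfsg.hermForm 4 F q u v) ^ q = 0 := by
      rw [huv, zero_pow (by have := two_le hF; omega)]
    rw [herm4] at h1 ⊢
    simp only [add_pow_q hF, mul_pow, pow_q_pow_q hF] at h1
    linear_combination h1
  rintro x hx y hy
  obtain ⟨a, b, rfl⟩ := mem_sp.1 hx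
  obtain ⟨c, d, rfl⟩ := mem_sp.1 hy
  rw [herm4] at huu hvv huv hvu ⊢
  simp only [Pi.add_apply, Pi.smul_apply, smul_eq_mul, add_pow_q hF, mul_pow]
  linear_combination a * c ^ q * huu + a * d ^ q * huv + b * c ^ q * hvu + b * d ^ q * hvv

abbrev A (F : Type*) [Field F] (q : ℕ) : Type _ :=
  {x : (F × F) × (F × F) // (x.1.1 * x.1.1 ^ q + x.1.2 * x.1.2 ^ q = -1) ∧
    (x.2.1 * x.2.1 ^ q + x.2.2 * x.2.2 ^ q = -1) ∧ x.1.1 * x.2.1 ^ q + x.1.2 * x.2.2 ^ q = 0}

abbrev B (F : Type*) [Field F] (q : ℕ) : Type _ :=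
  {x : F // x * x ^ q = -1} × {x : F // x * x ^ q = -1}

abbrev T (F : Type*) [Field F] (q : ℕ) : Type _ :=
  {W : Submodule F (Fin 4 → F) // Module.finrank F W = 2 ∧ ∀ u ∈ W, ∀ v ∈ W, Cfsg.hermForm 4 F q u v = 0}

theorem card_A (hF : Fintype.card F = q ^ 2) : Nat.card (A F q) = ((q + 1) * (q ^ 2 - q)) * (q + 1) := by
  have e : A F q ≃ {x : F × F // x.1 * x.1 ^ q + x.2 * x.2 ^ q = -1} × {x : F // x * x ^ q = 1} :=
    { toFun := fun x => (⟨x.1.1, x.2.1⟩,
        ⟨x.1.2.2 * x.1.1.1 - x.1.2.1 * x.1.1.2, by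
          obtain ⟨⟨⟨a, b⟩, ⟨c, d⟩⟩, h1, h2, h3⟩ := x
          simp only at h1 h2 h3 ⊢
          rw [sub_eq_add_neg, add_pow_q hF, neg_pow_q hF, mul_pow, mul_pow]
          linear_combination (c * c ^ q + d * d ^ q) * h1 - h2 - (a ^ q * c + b ^ q * d) * h3⟩)
      invFun := fun y => ⟨(y.1.1, (y.2.1 * (y.1.1.2) ^ q, - (y.2.1 * (y.1.1.1) ^ q))), by
          obtain ⟨⟨⟨a, b⟩, h1⟩, ⟨l, h2⟩⟩ := y
          simp only at h1 h2 ⊢
          refine ⟨h1, ?_, ?_⟩
          · rw [neg_pow_q hF, mul_pow, mul_pow, pow_q_pow_q hF, pow_q_pow_q hF]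
            linear_combination l * l ^ q * h1 - h2
          · rw [neg_pow_q hF, mul_pow, mul_pow, pow_q_pow_q hF, pow_q_pow_q hF]
            ring⟩
      left_inv := by
        rintro ⟨⟨⟨a, b⟩, ⟨c, d⟩⟩, h1, h2, h3⟩
        simp only at h1 h2 h3
        have h3' : a ^ q * c + b ^ q * d = 0 := by
          have h4 : (a * c ^ q + b * d ^ q) ^ q = 0 := by
            rw [h3, zero_pow (by have := two_le hF; omega)]
          simpa only [add_pow_q hF, mul_pow, pow_q_pow_q hF] using h4
        refine Subtype.ext (Prod.ext rfl (Prod.ext ?_ ?_))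
        · simp only
          linear_combination (-c) * h1 + a * h3'
        · simp only
          linear_combination (-d) * h1 + b * h3'
      right_inv := by
        rintro ⟨⟨⟨a, b⟩, h1⟩, ⟨l, h2⟩⟩
        simp only at h1 h2
        refine Prod.ext rfl (Subtype.ext ?_)
        simp only
        linear_combination (-l) * h1 }
  rw [Nat.card_congr e, Nat.card_prod, card_pair hF, card_norm_eq hF (by simp) one_ne_zero]

theorem card_B (hF : Fintype.card F = q ^ 2) : Nat.card (B F q) = (q + 1) * (q + 1) := by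
  rw [Nat.card_prod, card_norm_eq hF (neg_one_pow_q hF) (by simp)]

/-- the parametrisation -/
def Phi (hF : Fintype.card F = q ^ 2) : A F q ⊕ B F q → T F q
  | Sum.inl x => ⟨sp ![1, 0, x.1.1.1, x.1.1.2] ![0, 1, x.1.2.1, x.1.2.2], by
      obtain ⟨⟨⟨a, b⟩, ⟨c, d⟩⟩, h1, h2, h3⟩ := x
      simp only at h1 h2 h3 ⊢
      have hq : q ≠ 0 := by have := two_le hF; omega
      refine ⟨finrank_sp ?_, sp_isotropic hF ?_ ?_ ?_⟩
      · rw [LinearIndependent.pair_iff]
        intro s t h
        have e0 := congrFun h 0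
        have e1 := congrFun h 1
        simp at e0 e1
        exact ⟨e0, e1⟩
      · rw [herm4]; simp [hq]; linear_combination h1
      · rw [herm4]; simp [hq]; linear_combination h2
      · rw [herm4]; simp [hq]; linear_combination h3⟩
  | Sum.inr x => ⟨sp ![1, x.1.1, 0, 0] ![0, 0, 1, x.2.1], by
      obtain ⟨⟨s, h1⟩, ⟨t, h2⟩⟩ := x
      simp only at h1 h2 ⊢
      have hq : q ≠ 0 := by have := two_le hF; omega
      refine ⟨finrank_sp ?_, sp_isotropic hF ?_ ?_ ?_⟩
      · rw [LinearIndependent.pair_iff]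
        intro s t h
        have e0 := congrFun h 0
        have e1 := congrFun h 2
        simp at e0 e1
        exact ⟨e0, e1⟩
      · rw [herm4]; simp [hq]; linear_combination h1
      · rw [herm4]; simp [hq]; linear_combination h2
      · rw [herm4]; simp [hq]⟩

theorem Phi_injective (hF : Fintype.card F = q ^ 2) : Function.Injective (Phi (F := F) hF) := by
  rintro (⟨⟨⟨a, b⟩, ⟨c, d⟩⟩, h1, h2, h3⟩ | ⟨⟨s, h1⟩, ⟨t, h2⟩⟩)
    (⟨⟨⟨a', b'⟩, ⟨c', d'⟩⟩, h1', h2', h3'⟩ | ⟨⟨s', h1'⟩, ⟨t', h2'⟩⟩) h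
  · have h' : sp ![1, 0, a, b] ![0, 1, c, d] = sp ![1, 0, a', b'] ![0, 1, c', d'] :=
      congrArg Subtype.val h
    have m1 : ![1, 0, a, b] ∈ sp ![1, 0, a', b'] ![0, 1, c', d'] := by
      rw [← h', mem_sp]; exact ⟨1, 0, by simp⟩
    have m2 : ![0, 1, c, d] ∈ sp ![1, 0, a', b'] ![0, 1, c', d'] := by
      rw [← h', mem_sp]; exact ⟨0, 1, by simp⟩
    obtain ⟨x, y, hxy⟩ := mem_sp.1 m1
    obtain ⟨z, w, hzw⟩ := mem_sp.1 m2
    have e0 := congrFun hxy 0
    have e1 := congrFun hxy 1
    have e2 := congrFun hxy 2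
    have e3 := congrFun hxy 3
    have f0 := congrFun hzw 0
    have f1 := congrFun hzw 1
    have f2 := congrFun hzw 2
    have f3 := congrFun hzw 3
    simp at e0 e1 f0 f1
    subst e0 e1 f0 f1
    simp at e2 e3 f2 f3
    subst e2 e3 f2 f3
    rfl
  · exfalso
    have h' : sp ![1, 0, a, b] ![0, 1, c, d] = sp ![1, s', 0, 0] ![0, 0, 1, t'] :=
      congrArg Subtype.val h
    have m1 : ![0, 0, 1, t'] ∈ sp ![1, 0, a, b] ![0, 1, c, d] := by
      rw [h', mem_sp]; exact ⟨0, 1, by simp⟩
    obtain ⟨x, y, hxy⟩ := mem_sp.1 m1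
    have e0 := congrFun hxy 0
    have e1 := congrFun hxy 1
    have e2 := congrFun hxy 2
    simp at e0 e1
    subst e0 e1
    simp at e2
  · exfalso
    have h' : sp ![1, s, 0, 0] ![0, 0, 1, t] = sp ![1, 0, a', b'] ![0, 1, c', d'] :=
      congrArg Subtype.val h
    have m1 : ![0, 0, 1, t] ∈ sp ![1, 0, a', b'] ![0, 1, c', d'] := by
      rw [← h', mem_sp]; exact ⟨0, 1, by simp⟩
    obtain ⟨x, y, hxy⟩ := mem_sp.1 m1
    have e0 := congrFun hxy 0
    have e1 := congrFun hxy 1
    have e2 := congrFun hxy 2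
    simp at e0 e1
    subst e0 e1
    simp at e2
  · have h' : sp ![1, s, 0, 0] ![0, 0, 1, t] = sp ![1, s', 0, 0] ![0, 0, 1, t'] :=
      congrArg Subtype.val h
    have m1 : ![1, s, 0, 0] ∈ sp ![1, s', 0, 0] ![0, 0, 1, t'] := by
      rw [← h', mem_sp]; exact ⟨1, 0, by simp⟩
    have m2 : ![0, 0, 1, t] ∈ sp ![1, s', 0, 0] ![0, 0, 1, t'] := by
      rw [← h', mem_sp]; exact ⟨0, 1, by simp⟩
    obtain ⟨x, y, hxy⟩ := mem_sp.1 m1
    obtain ⟨z, w, hzw⟩ := mem_sp.1 m2
    have e0 := congrFun hxy 0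
    have e1 := congrFun hxy 1
    have e2 := congrFun hxy 2
    have f0 := congrFun hzw 0
    have f2 := congrFun hzw 2
    have f3 := congrFun hzw 3
    simp at e0 e2 f0 f2
    subst e0 e2 f0 f2
    simp at e1 f3
    subst e1 f3
    rfl

theorem Phi_surjective (hF : Fintype.card F = q ^ 2) : Function.Surjective (Phi (F := F) hF) := by
  rintro ⟨W, hW, hiso⟩
  have hq : q ≠ 0 := by have := two_le hF; omega
  have key : ∀ {u v : Fin 4 → F}, u ∈ W → v ∈ W → LinearIndependent F ![u, v] → sp u v = W := by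
    intro u v hu hv hl
    refine Submodule.eq_of_le_of_finrank_eq ?_ (by rw [finrank_sp hl, hW])
    refine Submodule.span_le.2 ?_
    rintro x (rfl | rfl)
    · exact hu
    · exact hv
  by_cases hcase : ∃ w ∈ W, w ≠ 0 ∧ w 0 = 0 ∧ w 1 = 0
  · obtain ⟨w, hw, hw0, e0, e1⟩ := hcase
    have hww := hiso w hw w hw
    rw [herm4, e0, e1, zero_mul, zero_add, zero_add] at hww
    -- w 2 ≠ 0
    have h2 : w 2 ≠ 0 := by
      intro h2
      rw [h2, zero_mul, zero_add] at hww
      have h3 : w 3 = 0 := by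
        rcases mul_eq_zero.1 hww with h | h
        · exact h
        · exact (pow_eq_zero_iff hq).1 h
      apply hw0
      ext i
      fin_cases i <;> simp [e0, e1, h2, h3]
    -- the normalised vector
    set t : F := (w 2)⁻¹ * w 3 with ht
    have hv2 : (![0, 0, 1, t] : Fin 4 → F) ∈ W := by
      have h := W.smul_mem (w 2)⁻¹ hw
      have : (w 2)⁻¹ • w = ![0, 0, 1, t] := by
        ext i
        fin_cases i <;> simp [e0, e1, h2, ht]
      rwa [this] at h
    have ht1 : t * t ^ q = -1 := by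
      have h := hiso _ hv2 _ hv2
      rw [herm4] at h
      simp [hq] at h
      linear_combination h
    -- a vector outside of the span of this one
    have hex : ∃ x ∈ W, ∀ c : F, x ≠ c • ![0, 0, 1, t] := by
      by_contra hcon
      push Not at hcon
      have hle : W ≤ Submodule.span F {(![0, 0, 1, t] : Fin 4 → F)} := by
        intro x hx
        obtain ⟨c, hc⟩ := hcon x hx
        exact Submodule.mem_span_singleton.2 ⟨c, hc.symm⟩
      have h3 := Submodule.finrank_mono hle
      have h4 := finrank_span_singleton (K := F) (v := (![0, 0, 1, t] : Fin 4 → F))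
        (by intro h; have := congrFun h 2; simp at this)
      rw [hW, h4] at h3
      omega
    obtain ⟨x, hx, hxc⟩ := hex
    have hperp := hiso x hx _ hv2
    rw [herm4] at hperp
    simp [hq] at hperp
    have hx3 : x 3 = x 2 * t := by
      linear_combination (-t) * hperp + x 3 * ht1
    set y : Fin 4 → F := x - x 2 • ![0, 0, 1, t] with hy
    have hyW : y ∈ W := W.sub_mem hx (W.smul_mem _ hv2)
    have hyi : ∀ i, y i = x i - x 2 * (![0, 0, 1, t] : Fin 4 → F) i := fun i => rfl
    have y0 : y 0 = x 0 := by rw [hyi]; simp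
    have y1 : y 1 = x 1 := by rw [hyi]; simp
    have y2 : y 2 = 0 := by rw [hyi]; simp
    have y3 : y 3 = 0 := by rw [hyi, hx3]; simp
    have hyy := hiso y hyW y hyW
    rw [herm4, y2, y3, zero_mul, add_zero, add_zero] at hyy
    have hy0 : y 0 ≠ 0 := by
      intro h0
      rw [h0, zero_mul, zero_add] at hyy
      have h1 : y 1 = 0 := by
        rcases mul_eq_zero.1 hyy with h | h
        · exact h
        · exact (pow_eq_zero_iff hq).1 h
      have : y = 0 := by
        ext i
        fin_cases i <;> simp [h0, h1, y2, y3]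
      exact hxc (x 2) (sub_eq_zero.1 this)
    set s : F := (y 0)⁻¹ * y 1 with hs
    have hv1 : (![1, s, 0, 0] : Fin 4 → F) ∈ W := by
      have h := W.smul_mem (y 0)⁻¹ hyW
      have : (y 0)⁻¹ • y = ![1, s, 0, 0] := by
        ext i
        fin_cases i <;> simp [y2, y3, hy0, hs]
      rwa [this] at h
    have hs1 : s * s ^ q = -1 := by
      have h := hiso _ hv1 _ hv1
      rw [herm4] at h
      simp [hq] at h
      linear_combination h
    refine ⟨Sum.inr ⟨⟨s, hs1⟩, ⟨t, ht1⟩⟩, ?_⟩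
    apply Subtype.ext
    show sp ![1, s, 0, 0] ![0, 0, 1, t] = W
    refine key hv1 hv2 ?_
    rw [LinearIndependent.pair_iff]
    intro s t h
    have e0 := congrFun h 0
    have e1 := congrFun h 2
    simp at e0 e1
    exact ⟨e0, e1⟩
  · push Not at hcase
    -- the projection
    let π : W →ₗ[F] (Fin 2 → F) :=
      { toFun := fun w => ![w.1 0, w.1 1]
        map_add' := by
          intro x y
          ext i
          fin_cases i <;> simp
        map_smul' := by
          intro c x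
          ext i
          fin_cases i <;> simp }
    have hinj : Function.Injective π := by
      rw [← LinearMap.ker_eq_bot, LinearMap.ker_eq_bot']
      intro w hw
      by_contra hne
      have e0 : w.1 0 = 0 := congrFun hw 0
      have e1 : w.1 1 = 0 := congrFun hw 1
      exact hcase w.1 w.2 (fun h => hne (Subtype.ext h)) e0 e1
    have hsurj : Function.Surjective π := by
      refine (LinearMap.injective_iff_surjective_of_finrank_eq_finrank ?_).1 hinj
      rw [hW]; simp
    obtain ⟨w1, hw1⟩ := hsurj ![1, 0]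
    obtain ⟨w2, hw2⟩ := hsurj ![0, 1]
    have a0 : w1.1 0 = 1 := congrFun hw1 0
    have a1 : w1.1 1 = 0 := congrFun hw1 1
    have b0 : w2.1 0 = 0 := congrFun hw2 0
    have b1 : w2.1 1 = 1 := congrFun hw2 1
    have hw1' : w1.1 = ![1, 0, w1.1 2, w1.1 3] := by
      ext i
      fin_cases i <;> simp [a0, a1]
    have hw2' : w2.1 = ![0, 1, w2.1 2, w2.1 3] := by
      ext i
      fin_cases i <;> simp [b0, b1]
    have h11 := hiso _ w1.2 _ w1.2
    have h22 := hiso _ w2.2 _ w2.2
    have h12 := hiso _ w1.2 _ w2.2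
    rw [herm4, a0, a1] at h11
    rw [herm4, b0, b1] at h22
    rw [herm4, a0, a1, b0, b1] at h12
    simp [hq] at h11 h22 h12
    refine ⟨Sum.inl ⟨⟨⟨w1.1 2, w1.1 3⟩, ⟨w2.1 2, w2.1 3⟩⟩, ?_, ?_, ?_⟩, ?_⟩
    · simp only
      linear_combination h11
    · simp only
      linear_combination h22
    · simp only
      linear_combination h12
    · apply Subtype.ext
      show sp ![1, 0, w1.1 2, w1.1 3] ![0, 1, w2.1 2, w2.1 3] = W
      rw [← hw1', ← hw2']
      refine key w1.2 w2.2 ?_
      rw [LinearIndependent.pair_iff]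
      intro s t h
      have e0 := congrFun h 0
      have e1 := congrFun h 1
      simp [a0, a1, b0, b1] at e0 e1
      exact ⟨e0, e1⟩

/-- The unitary quadrangle of PSU_4(q): with |F| = q², the number of 2-dimensional subspaces of F^4 on which the Hermitian form Σ x_i y_i^q vanishes is (q + 1)(q³ + 1). -/
theorem result {F : Type*} [Field F] [Fintype F] {q : ℕ} (hF : Fintype.card F = q ^ 2) : Nat.card {W : Submodule F (Fin 4 → F) // Module.finrank F W = 2 ∧ ∀ u ∈ W, ∀ v ∈ W, Cfsg.hermForm 4 F q u v = 0} = (q + 1) * (q ^ 3 + 1) := by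
  have h := Nat.card_congr (Equiv.ofBijective (Phi (F := F) hF) ⟨Phi_injective hF, Phi_surjective hF⟩)
  rw [Nat.card_sum, card_A hF, card_B hF] at h
  have hq := two_le hF
  have h5 : q ≤ q ^ 2 := by nlinarith
  refine h.symm.trans ?_
  zify [h5]
  ring

end Cfsg.Agent.S0829
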