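import Cfsg.Statements.S0837
import Cfsg.Agent.ClassicalGeometry.HermOrtho

set_option autoImplicit false
open Cfsg

namespace Cfsg.Agent.S0837

open Matrix Module
open Cfsg.Agent.LieClassical.HermBasic
open Cfsg.Agent.ClassicalGeometry.HermOrtho

variable {F : Type*} [Field F] {q k m n : ℕ}

/-- Block diagonal matrices, as a monoid homomorphism. -/
def blockHom (F : Type*) [Field F] {k m n : ℕ} (e : Fin k ⊕ Fin m ≃ Fin n) :
    Matrix (Fin k) (Fin k) F × Matrix (Fin m) (Fin m) F →* Matrix (Fin n) (Fin n) F where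
  toFun AB := Matrix.reindex e e (Matrix.fromBlocks AB.1 0 0 AB.2)
  map_one' := by
    simp [Matrix.fromBlocks_one]
  map_mul' x y := by
    rw [Matrix.reindex_apply, Matrix.reindex_apply, Matrix.reindex_apply,
      Matrix.submatrix_mul_equiv, Matrix.fromBlocks_multiply]
    simp

theorem blockHom_mulVec (e : Fin k ⊕ Fin m ≃ Fin n) (A : Matrix (Fin k) (Fin k) F)
    (B : Matrix (Fin m) (Fin m) F) (x : Fin n → F) (i : Fin k ⊕ Fin m) :
    (blockHom F e (A, B) *ᵥ x) (e i) =
      Sum.elim (A *ᵥ fun i => x (e (.inl i))) (B *ᵥ fun i => x (e (.inr i))) i := by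
  rw [Matrix.mulVec, dotProduct, ← e.sum_comp, Fintype.sum_sum_type]
  rcases i with i | i
  · simp [blockHom, Matrix.mulVec, dotProduct]
  · simp [blockHom, Matrix.mulVec, dotProduct]

theorem herm_split (e : Fin k ⊕ Fin m ≃ Fin n) (x y : Fin n → F) :
    hermForm n F q x y = hermForm k F q (fun i => x (e (.inl i))) (fun i => y (e (.inl i))) +
      hermForm m F q (fun i => x (e (.inr i))) (fun i => y (e (.inr i))) := by
  rw [herm_def, ← e.sum_comp, Fintype.sum_sum_type]
  rfl

theorem blockHom_mem (e : Fin k ⊕ Fin m ≃ Fin n) {A : Matrix (Fin k) (Fin k) F}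
    {B : Matrix (Fin m) (Fin m) F}
    (hA : ∀ u v, hermForm k F q (A *ᵥ u) (A *ᵥ v) = hermForm k F q u v)
    (hB : ∀ u v, hermForm m F q (B *ᵥ u) (B *ᵥ v) = hermForm m F q u v) (u v : Fin n → F) :
    hermForm n F q (blockHom F e (A, B) *ᵥ u) (blockHom F e (A, B) *ᵥ v) =
      hermForm n F q u v := by
  rw [herm_split e, herm_split e u v]
  simp only [blockHom_mulVec, Sum.elim_inl, Sum.elim_inr]
  rw [hA, hB]

/-- A matrix of `GU_n` stabilising the coordinate subspace is block diagonal. -/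
theorem exists_block [Fintype F] (hF : Fintype.card F = q ^ 2) (e : Fin k ⊕ Fin m ≃ Fin n)
    (g : Matrix.GeneralLinearGroup (Fin n) F) (hg : g ∈ GU n F q)
    (hU : ∀ x : Fin n → F, (∀ j : Fin m, x (e (.inr j)) = 0) ↔
      (∀ j : Fin m, ((g : Matrix (Fin n) (Fin n) F) *ᵥ x) (e (.inr j)) = 0)) :
    ∃ A ∈ GU k F q, ∃ B ∈ GU m F q,
      (g : Matrix (Fin n) (Fin n) F) = blockHom F e ((A : Matrix (Fin k) (Fin k) F),
        (B : Matrix (Fin m) (Fin m) F)) := by
  set M : Matrix (Fin n) (Fin n) F := (g : Matrix (Fin n) (Fin n) F) with hM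
  -- lower left block vanishes
  have h21 : ∀ (i : Fin k) (j : Fin m), M (e (.inr j)) (e (.inl i)) = 0 := by
    intro i j
    have h := (hU (Pi.single (e (.inl i)) 1)).1 (fun j => by
      rw [Pi.single_eq_of_ne]
      simp) j
    simpa using h
  -- upper right block vanishes
  have h12 : ∀ (i : Fin k) (j : Fin m), M (e (.inl i)) (e (.inr j)) = 0 := by
    intro i j
    -- preimage of the basis vector
    set x : Fin n → F := ((g⁻¹ : Matrix.GeneralLinearGroup (Fin n) F) : Matrix (Fin n) (Fin n) F) *ᵥ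
      (Pi.single (e (.inl i)) 1) with hx
    have hgx : M *ᵥ x = Pi.single (e (.inl i)) 1 := by
      rw [hx, hM, Matrix.mulVec_mulVec, ← Units.val_mul, mul_inv_cancel, Units.val_one,
        Matrix.one_mulVec]
    have hx0 : ∀ j : Fin m, x (e (.inr j)) = 0 := by
      rw [hU, hgx]
      intro j
      rw [Pi.single_eq_of_ne]
      simp
    have h1 := hg (Pi.single (e (.inr j)) 1) x
    change hermForm n F q (M *ᵥ _) (M *ᵥ _) = _ at h1
    rw [hgx, herm_single_right hF, herm_single_left, hx0 j, zero_pow_q hF, mul_zero, one_pow,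
      mul_one] at h1
    simpa using h1
  set A₀ : Matrix (Fin k) (Fin k) F := Matrix.of fun i j => M (e (.inl i)) (e (.inl j)) with hA₀
  set B₀ : Matrix (Fin m) (Fin m) F := Matrix.of fun i j => M (e (.inr i)) (e (.inr j)) with hB₀
  have hblock : M = blockHom F e (A₀, B₀) := by
    ext i j
    obtain ⟨i, rfl⟩ := e.surjective i
    obtain ⟨j, rfl⟩ := e.surjective j
    rcases i with i | i <;> rcases j with j | j
    · simp [blockHom, hA₀]
    · simp [blockHom, h12]
    · simp [blockHom, h21]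
    · simp [blockHom, hB₀]
  have hiso : ∀ (u v : Fin k → F) (u' v' : Fin m → F),
      hermForm k F q (A₀ *ᵥ u) (A₀ *ᵥ v) + hermForm m F q (B₀ *ᵥ u') (B₀ *ᵥ v') =
        hermForm k F q u v + hermForm m F q u' v' := by
    intro u v u' v'
    have h := hg (fun i => Sum.elim u u' (e.symm i)) (fun i => Sum.elim v v' (e.symm i))
    change hermForm n F q (M *ᵥ _) (M *ᵥ _) = _ at h
    rw [hblock, herm_split e, herm_split e (fun i => Sum.elim u u' (e.symm i))] at h
    simpa only [blockHom_mulVec, Sum.elim_inl, Sum.elim_inr, e.symm_apply_apply] using h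
  obtain ⟨A, hA, hAA⟩ := exists_GU_of_isometry hF (M := A₀) (by
    intro u v
    have h := hiso u v 0 0
    simpa [herm_zero_left] using h)
  obtain ⟨B, hB, hBB⟩ := exists_GU_of_isometry hF (M := B₀) (by
    intro u v
    have h := hiso 0 0 u v
    simpa [herm_zero_left] using h)
  exact ⟨A, hA, B, hB, by rw [hAA, hBB, hblock]⟩

theorem blockHom_injective (e : Fin k ⊕ Fin m ≃ Fin n) : Function.Injective (blockHom F e) := by
  rintro ⟨A, B⟩ ⟨A', B'⟩ h
  have h1 := (Matrix.reindex e e).injective h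
  have h2 := Matrix.fromBlocks_inj.1 h1
  exact Prod.ext h2.1 h2.2.2.2

/-- `GL_k × GL_m → GL_n`, block diagonal. -/
def blockUnits (F : Type*) [Field F] {k m n : ℕ} (e : Fin k ⊕ Fin m ≃ Fin n) :
    Matrix.GeneralLinearGroup (Fin k) F × Matrix.GeneralLinearGroup (Fin m) F →*
      Matrix.GeneralLinearGroup (Fin n) F :=
  (Units.map (blockHom F e)).comp MulEquiv.prodUnits.symm.toMonoidHom

theorem coe_blockUnits (e : Fin k ⊕ Fin m ≃ Fin n) (A : Matrix.GeneralLinearGroup (Fin k) F)
    (B : Matrix.GeneralLinearGroup (Fin m) F) :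
    ((blockUnits F e (A, B) : Matrix.GeneralLinearGroup (Fin n) F) : Matrix (Fin n) (Fin n) F) =
      blockHom F e ((A : Matrix (Fin k) (Fin k) F), (B : Matrix (Fin m) (Fin m) F)) := rfl

theorem main [Fintype F] (hF : Fintype.card F = q ^ 2) (hn : k + m = n)
    (W : Submodule F (Fin n → F)) (hWk : Module.finrank F W = k)
    (hW : ∀ u ∈ W, (∀ v ∈ W, Cfsg.hermForm n F q u v = 0) → u = 0) :
    Nonempty (↥((Cfsg.stabilizing (Cfsg.glToMat (Fin n) F) (W : Set (Fin n → F))).subgroupOf
      (Cfsg.GU n F q)) ≃* ↥(Cfsg.GU k F q) × ↥(Cfsg.GU m F q)) := by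
  let e : Fin k ⊕ Fin m ≃ Fin n := finSumFinEquiv.trans (finCongr hn)
  obtain ⟨P, hP, hPW⟩ := exists_GU_adapted hF e W hW hWk
  have hblk : ∀ AB : ↥(GU k F q) × ↥(GU m F q),
      blockUnits F e ((AB.1 : Matrix.GeneralLinearGroup (Fin k) F),
        (AB.2 : Matrix.GeneralLinearGroup (Fin m) F)) ∈ GU n F q :=
    fun AB => blockHom_mem e AB.1.2 AB.2.2
  let ψ : ↥(GU k F q) × ↥(GU m F q) →* ↥(GU n F q) :=
    (((MulAut.conj P).toMonoidHom.comp (blockUnits F e)).comp
      ((GU k F q).subtype.prodMap (GU m F q).subtype)).codRestrict (GU n F q) (fun AB =>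
        (GU n F q).mul_mem ((GU n F q).mul_mem hP (hblk AB)) ((GU n F q).inv_mem hP))
  have hψ : ∀ AB : ↥(GU k F q) × ↥(GU m F q),
      ((ψ AB : ↥(GU n F q)) : Matrix.GeneralLinearGroup (Fin n) F) =
        P * blockUnits F e ((AB.1 : Matrix.GeneralLinearGroup (Fin k) F),
        (AB.2 : Matrix.GeneralLinearGroup (Fin m) F)) * P⁻¹ := fun AB => rfl
  have hinj : Function.Injective ψ := by
    intro x y hxy
    have h1 := congrArg (fun z : ↥(GU n F q) => (z : Matrix.GeneralLinearGroup (Fin n) F)) hxy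
    simp only [hψ] at h1
    have h2 := mul_left_cancel (mul_right_cancel h1)
    have h3 := congrArg
      (fun z : Matrix.GeneralLinearGroup (Fin n) F => (z : Matrix (Fin n) (Fin n) F)) h2
    simp only [coe_blockUnits] at h3
    have h4 := blockHom_injective e h3
    rw [Prod.mk.injEq] at h4
    exact Prod.ext (Subtype.ext (Units.ext h4.1)) (Subtype.ext (Units.ext h4.2))
  -- `g = P D P⁻¹` stabilises `W` iff `D` stabilises the coordinate subspace
  have hstab : ∀ D : Matrix.GeneralLinearGroup (Fin n) F,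
      P * D * P⁻¹ ∈ Cfsg.stabilizing (Cfsg.glToMat (Fin n) F) (W : Set (Fin n → F)) ↔
      ∀ x : Fin n → F, (∀ j : Fin m, x (e (.inr j)) = 0) ↔
      (∀ j : Fin m, ((D : Matrix (Fin n) (Fin n) F) *ᵥ x) (e (.inr j)) = 0) := by
    intro D
    have key : ∀ x : Fin n → F, (Cfsg.glToMat (Fin n) F (P * D * P⁻¹)) *ᵥ
        ((P : Matrix (Fin n) (Fin n) F) *ᵥ x) = (P : Matrix (Fin n) (Fin n) F) *ᵥ
          ((D : Matrix (Fin n) (Fin n) F) *ᵥ x) := by
      intro x
      rw [Matrix.mulVec_mulVec, Matrix.mulVec_mulVec]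
      congr 1
      change ((P * D * P⁻¹ : Matrix.GeneralLinearGroup (Fin n) F) : Matrix (Fin n) (Fin n) F) *
        ((P : Matrix.GeneralLinearGroup (Fin n) F) : Matrix (Fin n) (Fin n) F) = _
      rw [← Units.val_mul, ← Units.val_mul, inv_mul_cancel_right]
    constructor
    · intro h x
      have h1 := h ((P : Matrix (Fin n) (Fin n) F) *ᵥ x)
      rw [key, SetLike.mem_coe, SetLike.mem_coe, hPW, hPW] at h1
      exact h1
    · intro h v
      have hv : v = (P : Matrix (Fin n) (Fin n) F) *ᵥ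
          (((P⁻¹ : Matrix.GeneralLinearGroup (Fin n) F) : Matrix (Fin n) (Fin n) F) *ᵥ v) := by
        rw [Matrix.mulVec_mulVec, ← Units.val_mul, mul_inv_cancel, Units.val_one,
          Matrix.one_mulVec]
      rw [hv, key, SetLike.mem_coe, SetLike.mem_coe, hPW, hPW]
      exact h _
  have hrange : ψ.range = (Cfsg.stabilizing (Cfsg.glToMat (Fin n) F)
      (W : Set (Fin n → F))).subgroupOf (Cfsg.GU n F q) := by
    ext g
    rw [Subgroup.mem_subgroupOf, MonoidHom.mem_range]
    constructor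
    · rintro ⟨AB, rfl⟩
      rw [hψ, hstab]
      intro x
      simp only [coe_blockUnits, blockHom_mulVec, Sum.elim_inr]
      constructor
      · intro h j
        rw [show (fun i : Fin m => x (e (.inr i))) = 0 from funext h, Matrix.mulVec_zero]
        rfl
      · intro h
        have h0 : ((AB.2 : Matrix.GeneralLinearGroup (Fin m) F) : Matrix (Fin m) (Fin m) F) *ᵥ
            (fun i : Fin m => x (e (.inr i))) = 0 := funext h
        have h1 : (fun i : Fin m => x (e (.inr i))) = 0 := by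
          have h2 := congrArg (fun y => (((AB.2 : Matrix.GeneralLinearGroup (Fin m) F)⁻¹ :
            Matrix.GeneralLinearGroup (Fin m) F) : Matrix (Fin m) (Fin m) F) *ᵥ y) h0
          rwa [Matrix.mulVec_mulVec, ← Units.val_mul, inv_mul_cancel, Units.val_one,
            Matrix.one_mulVec, Matrix.mulVec_zero] at h2
        exact fun j => congrFun h1 j
    · intro hg
      have h1 : (g : Matrix.GeneralLinearGroup (Fin n) F) =
          P * (P⁻¹ * (g : Matrix.GeneralLinearGroup (Fin n) F) * P) * P⁻¹ := by group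
      rw [h1, hstab] at hg
      obtain ⟨A, hA, B, hB, hAB⟩ := exists_block hF e
        (P⁻¹ * (g : Matrix.GeneralLinearGroup (Fin n) F) * P)
        ((GU n F q).mul_mem ((GU n F q).mul_mem ((GU n F q).inv_mem hP) g.2) hP) hg
      refine ⟨(⟨A, hA⟩, ⟨B, hB⟩), ?_⟩
      apply Subtype.ext
      rw [hψ, h1]
      congr 2
      apply Units.ext
      rw [coe_blockUnits, hAB]
  exact ⟨((MonoidHom.ofInjective hinj).trans (MulEquiv.subgroupCongr hrange)).symm⟩

/-- If W ≤ F^n (|F| = q²) is a k-dimensional subspace on which the Hermitian form Σ x_i y_i^q is non-degenerate, then the stabiliser of W in GU_n(q) is isomorphic to GU_k(q) × GU_(n−k)(q). -/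
theorem result {F : Type*} [Field F] [Fintype F] {q : ℕ} (hF : Fintype.card F = q ^ 2) (n k : ℕ) (hk : k ≤ n) (W : Submodule F (Fin n → F)) (hWk : Module.finrank F W = k) (hW : ∀ u ∈ W, (∀ v ∈ W, Cfsg.hermForm n F q u v = 0) → u = 0) : Nonempty (↥((Cfsg.stabilizing (Cfsg.glToMat (Fin n) F) (W : Set (Fin n → F))).subgroupOf (Cfsg.GU n F q)) ≃* ↥(Cfsg.GU k F q) × ↥(Cfsg.GU (n - k) F q)) :=
  main hF (Nat.add_sub_cancel' hk) W hWk hW

end Cfsg.Agent.S0837
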