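import Cfsg.Statements.S0856
import Cfsg.Agent.Characters.Core
import Cfsg.Agent.CharactersDeep.NormalInd

set_option autoImplicit false
open Cfsg

namespace Cfsg.Agent.S0856

open Cfsg.Agent.Characters.Core Cfsg.Agent.CharactersDeep.NormalInd

/-- Let N be a normal subgroup of the finite group G and φ, ϑ irreducible characters of N that are invariant under conjugation by G, such that the pointwise product φ * ϑ is irreducible and ϑ is the restriction of an irreducible character χ of G. Then multiplication by χ is a bijection from the set of irreducible characters of G having nonzero inner product with the function induced from φ onto the set of those having nonzero inner product with the function induced from φ * ϑ. -/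
theorem result {G : Type*} [Group G] [Fintype G] (N : Subgroup G) [hN : N.Normal] (φ ϑ : N → ℂ) (hφ : Cfsg.IsIrrCharacter N φ) (hϑ : Cfsg.IsIrrCharacter N ϑ) (hφinv : ∀ (g : G) (n : N), φ ⟨g * n * g⁻¹, hN.conj_mem (n : G) n.2 g⟩ = φ n) (hϑinv : ∀ (g : G) (n : N), ϑ ⟨g * n * g⁻¹, hN.conj_mem (n : G) n.2 g⟩ = ϑ n) (hprod : Cfsg.IsIrrCharacter N (φ * ϑ)) (χ : G → ℂ) (hχ : Cfsg.IsIrrCharacter G χ) (hext : ∀ n : N, χ n = ϑ n) : Set.BijOn (fun β : G → ℂ => β * χ) {β : G → ℂ | Cfsg.IsIrrCharacter G β ∧ Cfsg.classInner (Cfsg.indFun N φ) β ≠ 0} {ψ : G → ℂ | Cfsg.IsIrrCharacter G ψ ∧ Cfsg.classInner (Cfsg.indFun N (φ * ϑ)) ψ ≠ 0} := by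
  classical
  haveI : Finite (IrrCharacter G) := finite_irr (G := G)
  letI : Fintype (IrrCharacter G) := Fintype.ofFinite _
  letI : Fintype N := Fintype.ofFinite N
  have hcl := indFun_isClassFunction N φ
  -- the multiplicities
  have he : ∀ β : IrrCharacter G, ∃ n : ℕ, classInner (indFun N φ) (β : G → ℂ) = n := by
    intro β
    rw [classInner_indFun N φ _ (isIrr_isClassFunction β.2)]
    exact classInner_isNat (isIrr_isCharacter hφ)
      (isCharacter_comp N.subtype (isIrr_isCharacter β.2))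
  choose e he using he
  have hsum : indFun N φ = ∑ β : IrrCharacter G, (e β : ℂ) • (β : G → ℂ) := by
    rw [classFunction_eq_sum hcl]
    exact Finset.sum_congr rfl (fun β _ => by rw [he])
  have hind : indFun N (φ * ϑ) = indFun N φ * χ := by
    rw [indFun_mul N φ χ (isIrr_isClassFunction hχ)]
    congr 1
    funext n
    rw [Pi.mul_apply, hext]
  have hindsum : indFun N (φ * ϑ) = ∑ β : IrrCharacter G, (e β : ℂ) • ((β : G → ℂ) * χ) := by
    rw [hind, hsum, Finset.sum_mul]
    exact Finset.sum_congr rfl (fun β _ => smul_mul_assoc _ _ _)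
  have hchar : ∀ β : IrrCharacter G, IsCharacter G ((β : G → ℂ) * χ) := fun β =>
    isCharacter_mul (isIrr_isCharacter β.2) (isIrr_isCharacter hχ)
  have ha : ∀ β γ : IrrCharacter G, ∃ n : ℕ,
      classInner ((β : G → ℂ) * χ) ((γ : G → ℂ) * χ) = n := fun β γ =>
    classInner_isNat (hchar β) (hchar γ)
  choose a ha using ha
  -- norms
  have hnorm1 : classInner (indFun N φ) (indFun N φ) = N.index := by
    rw [classInner_indFun_of_invariant N φ φ hφinv, classInner_irr_self hφ, mul_one]
  have hnorm2 : classInner (indFun N (φ * ϑ)) (indFun N (φ * ϑ)) = N.index := by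
    rw [classInner_indFun_of_invariant N (φ * ϑ) (φ * ϑ), classInner_irr_self hprod, mul_one]
    intro g n
    rw [Pi.mul_apply, Pi.mul_apply, hφinv, hϑinv]
  have h1 : ∑ β : IrrCharacter G, e β * e β = N.index := by
    have h : (∑ β : IrrCharacter G, (e β : ℂ) * (e β : ℂ)) = (N.index : ℂ) := by
      rw [← hnorm1]
      conv_rhs => rw [hsum]
      rw [classInner_sum_left]
      refine Finset.sum_congr rfl (fun β _ => ?_)
      rw [classInner_smul_left, ← classInner_conj_symm, ← hsum, he, Complex.conj_natCast]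
    exact_mod_cast h
  have h2 : ∑ β : IrrCharacter G, ∑ γ : IrrCharacter G, e β * (e γ * a β γ) = N.index := by
    have h : (∑ β : IrrCharacter G, ∑ γ : IrrCharacter G, (e β : ℂ) * ((e γ : ℂ) * (a β γ : ℂ))) =
        (N.index : ℂ) := by
      rw [← hnorm2]
      conv_rhs => rw [hindsum]
      rw [classInner_sum_left]
      refine Finset.sum_congr rfl (fun β _ => ?_)
      rw [classInner_smul_left, classInner_sum_right, Finset.mul_sum]
      refine Finset.sum_congr rfl (fun γ _ => ?_)
      rw [classInner_smul_right, ha, Complex.conj_natCast]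
    exact_mod_cast h
  have h3 : ∀ β : IrrCharacter G, 1 ≤ a β β := by
    intro β
    rw [Nat.one_le_iff_ne_zero]
    intro h0
    have h4 := ha β β
    rw [h0, Nat.cast_zero] at h4
    have h5 := classInner_self_eq_zero h4
    have h6 : (β : G → ℂ) 1 * χ 1 = 0 := by
      have := congrFun h5 1
      simpa using this
    obtain ⟨n, hn, hn'⟩ := isIrr_apply_one β.2
    obtain ⟨m, hm, hm'⟩ := isIrr_apply_one hχ
    rw [hn', hm'] at h6
    rcases mul_eq_zero.1 h6 with h7 | h7
    · exact hn.ne' (by exact_mod_cast h7)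
    · exact hm.ne' (by exact_mod_cast h7)
  -- comparison
  have h4 : ∀ β : IrrCharacter G, e β * e β ≤ ∑ γ : IrrCharacter G, e β * (e γ * a β γ) := by
    intro β
    calc e β * e β ≤ e β * (e β * a β β) :=
          Nat.mul_le_mul_left _ (Nat.le_mul_of_pos_right _ (h3 β))
      _ ≤ _ := Finset.single_le_sum (f := fun γ => e β * (e γ * a β γ))
          (fun _ _ => Nat.zero_le _) (Finset.mem_univ β)
  have h5 : ∀ β : IrrCharacter G, e β * e β = ∑ γ : IrrCharacter G, e β * (e γ * a β γ) := by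
    have := (Finset.sum_eq_sum_iff_of_le (fun β (_ : β ∈ (Finset.univ : Finset (IrrCharacter G))) =>
      h4 β)).1 (h1.trans h2.symm)
    exact fun β => this β (Finset.mem_univ β)
  have h6 : ∀ β : IrrCharacter G, e β ≠ 0 → a β β = 1 := by
    intro β hβ
    have h7 : e β * (e β * a β β) ≤ e β * e β := by
      rw [h5 β]
      exact Finset.single_le_sum (f := fun γ => e β * (e γ * a β γ))
          (fun _ _ => Nat.zero_le _) (Finset.mem_univ β)
    have h8 := Nat.le_of_mul_le_mul_left h7 (Nat.pos_of_ne_zero hβ)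
    have h9 : a β β ≤ 1 := by
      by_contra h10
      push Not at h10
      have := Nat.mul_lt_mul_of_pos_left h10 (Nat.pos_of_ne_zero hβ)
      omega
    exact le_antisymm h9 (h3 β)
  have h7 : ∀ β γ : IrrCharacter G, e β ≠ 0 → e γ ≠ 0 → β ≠ γ → a β γ = 0 := by
    intro β γ hβ hγ hne
    have h8 : e β * (e β * a β β) + e β * (e γ * a β γ) ≤ e β * e β := by
      rw [h5 β]
      calc e β * (e β * a β β) + e β * (e γ * a β γ)
          = ∑ δ ∈ ({β, γ} : Finset (IrrCharacter G)), e β * (e δ * a β δ) := by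
            rw [Finset.sum_pair hne]
        _ ≤ _ := Finset.sum_le_sum_of_subset (Finset.subset_univ _)
    rw [h6 β hβ, mul_one] at h8
    have h9 : e β * (e γ * a β γ) = 0 := by omega
    rcases Nat.mul_eq_zero.1 h9 with h | h
    · exact absurd h hβ
    · rcases Nat.mul_eq_zero.1 h with h | h
      · exact absurd h hγ
      · exact h
  have hirr : ∀ β : IrrCharacter G, e β ≠ 0 → IsIrrCharacter G ((β : G → ℂ) * χ) := by
    intro β hβ
    rw [isIrr_iff_classInner_self (hchar β), ha, h6 β hβ, Nat.cast_one]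
  have hmult : ∀ ψ : G → ℂ, classInner (indFun N (φ * ϑ)) ψ =
      ∑ β : IrrCharacter G, (e β : ℂ) * classInner ((β : G → ℂ) * χ) ψ := by
    intro ψ
    rw [hindsum, classInner_sum_left]
    exact Finset.sum_congr rfl (fun β _ => classInner_smul_left _ _ _)
  refine ⟨?_, ?_, ?_⟩
  · rintro β ⟨hβ, hβ'⟩
    have heβ : e ⟨β, hβ⟩ ≠ 0 := by
      intro h
      apply hβ'
      have := he ⟨β, hβ⟩
      rw [h, Nat.cast_zero] at this
      exact this
    refine ⟨hirr ⟨β, hβ⟩ heβ, ?_⟩
    show classInner (indFun N (φ * ϑ)) (((⟨β, hβ⟩ : IrrCharacter G) : G → ℂ) * χ) ≠ 0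
    rw [hmult, Finset.sum_eq_single (⟨β, hβ⟩ : IrrCharacter G)]
    · rw [ha, h6 _ heβ, Nat.cast_one, mul_one]
      exact_mod_cast heβ
    · intro γ _ hγ
      by_cases hγ0 : e γ = 0
      · rw [hγ0, Nat.cast_zero, zero_mul]
      · rw [ha, h7 _ _ hγ0 heβ hγ, Nat.cast_zero, mul_zero]
    · intro h
      exact absurd (Finset.mem_univ _) h
  · rintro β ⟨hβ, hβ'⟩ γ ⟨hγ, hγ'⟩ heq
    by_contra hne
    have hne' : (⟨β, hβ⟩ : IrrCharacter G) ≠ ⟨γ, hγ⟩ := fun h => hne (congrArg Subtype.val h)
    have heβ : e ⟨β, hβ⟩ ≠ 0 := by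
      intro h
      apply hβ'
      have := he ⟨β, hβ⟩
      rw [h, Nat.cast_zero] at this
      exact this
    have heγ : e ⟨γ, hγ⟩ ≠ 0 := by
      intro h
      apply hγ'
      have := he ⟨γ, hγ⟩
      rw [h, Nat.cast_zero] at this
      exact this
    have h8 := h7 _ _ heβ heγ hne'
    have h9 := ha ⟨β, hβ⟩ ⟨γ, hγ⟩
    have heq' : ((⟨γ, hγ⟩ : IrrCharacter G) : G → ℂ) * χ = ((⟨β, hβ⟩ : IrrCharacter G) : G → ℂ) * χ :=
      heq.symm
    rw [heq', ha, h6 _ heβ, h8] at h9
    norm_num at h9
  · rintro ψ ⟨hψ, hψ'⟩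
    have h8 : classInner (indFun N (φ * ϑ)) ψ ≠ 0 := hψ'
    rw [hmult] at h8
    obtain ⟨β, -, hβ⟩ := Finset.exists_ne_zero_of_sum_ne_zero h8
    have heβ : e β ≠ 0 := by
      intro h
      apply hβ
      rw [h, Nat.cast_zero, zero_mul]
    have hβψ : classInner ((β : G → ℂ) * χ) ψ ≠ 0 := by
      intro h
      apply hβ
      rw [h, mul_zero]
    refine ⟨(β : G → ℂ), ⟨β.2, ?_⟩, ?_⟩
    · rw [he]
      exact_mod_cast heβ
    · by_contra hne
      exact hβψ (classInner_irr_ne (hirr β heβ) hψ hne)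

end Cfsg.Agent.S0856
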