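import Cfsg.Statements.S0857
import Cfsg.Agent.Characters.Core
import Cfsg.Agent.Characters.Clifford
import Cfsg.Agent.CharactersDeep.AbelianQuotient
import Cfsg.Agent.CharactersDeep.CliffordSum

set_option autoImplicit false
open Cfsg

namespace Cfsg.Agent.S0857

open Cfsg.Agent.Characters.Core Cfsg.Agent.Characters.Clifford
open Cfsg.Agent.CharactersDeep.AbelianQuotient Cfsg.Agent.CharactersDeep.CliffordSum

/-- Going down, with a family of automorphisms in place of the big group. -/
theorem going_down {K : Type*} [Group K] [Fintype K] (N : Subgroup K) [hNn : N.Normal]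
    [Fintype N] (hab : ∀ x y : K, x * y * x⁻¹ * y⁻¹ ∈ N) {Γ : Type*} (a : Γ → MulAut K)
    (hN : ∀ (γ : Γ) (n : K), a γ n ∈ N ↔ n ∈ N)
    (hchief : ∀ M : Subgroup K, (∀ γ : Γ, ∀ m ∈ M, a γ m ∈ M) → N ≤ M → M = N ∨ M = ⊤)
    (θ : K → ℂ) (hθ : IsIrrCharacter K θ) (hinv : ∀ (γ : Γ) (k : K), θ (a γ k) = θ k) :
    IsIrrCharacter N (fun n : N => θ n) ∨
      (∃ (φ : N → ℂ) (e : ℕ), IsIrrCharacter N φ ∧ (fun n : N => θ n) = (e : ℂ) • φ ∧
        e ^ 2 = N.index) ∨
      (∃ F : Finset (N → ℂ), (∀ φ ∈ F, IsIrrCharacter N φ) ∧ F.card = N.index ∧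
        (fun n : N => θ n) = ∑ φ ∈ F, φ) := by
  classical
  have hθN : IsCharacter N (fun n : N => θ n) := isCharacter_restrict N (isIrr_isCharacter hθ)
  set M : Subgroup K := Subgroup.closure {k : K | k ∈ N ∨ θ k ≠ 0} with hM
  have hMinv : ∀ γ : Γ, ∀ m ∈ M, a γ m ∈ M := by
    intro γ m hm
    induction hm using Subgroup.closure_induction with
    | mem k hk =>
      apply Subgroup.subset_closure
      rcases hk with hk | hk
      · exact Or.inl ((hN γ k).2 hk)
      · right
        rw [hinv]
        exact hk
    | one => rw [map_one]; exact M.one_mem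
    | mul x y _ _ hx hy => rw [map_mul]; exact M.mul_mem hx hy
    | inv x _ hx => rw [map_inv]; exact M.inv_mem hx
  have hNM : N ≤ M := fun n hn => Subgroup.subset_closure (Or.inl hn)
  rcases hchief M hMinv hNM with hMN | hMtop
  · -- `θ` vanishes off `N`
    right
    have hvan : ∀ k ∉ N, θ k = 0 := by
      intro k hk
      by_contra hne
      apply hk
      rw [← hMN]
      exact Subgroup.subset_closure (Or.inr hne)
    have hnorm := classInner_restrict_self_of_vanish N hθ hvan
    -- an irreducible constituent
    have hex : ∃ φ : N → ℂ, IsIrrCharacter N φ ∧ classInner (fun n : N => θ n) φ ≠ 0 := by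
      by_contra hcon
      push Not at hcon
      have h0 := classFunction_eq_zero (isCharacter_isClassFunction hθN) hcon
      have h1 : θ 1 = 0 := congrFun h0 1
      obtain ⟨n, hn, hn'⟩ := isIrr_apply_one hθ
      rw [hn'] at h1
      exact hn.ne' (by exact_mod_cast h1)
    obtain ⟨φ, hφ, hφ0⟩ := hex
    obtain ⟨e, he⟩ := classInner_isNat hθN (isIrr_isCharacter hφ)
    have he0 : e ≠ 0 := by
      rintro rfl
      exact hφ0 (by rw [he]; simp)
    -- the inertia group
    let T : Subgroup K :=
      { carrier := {k : K | φ ∘ (MulAut.conjNormal k : MulAut N) = φ}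
        mul_mem' := by
          intro x y hx hy
          show φ ∘ (MulAut.conjNormal (x * y) : MulAut N) = φ
          rw [comp_conjNormal_mul, hx, hy]
        one_mem' := by
          show φ ∘ (MulAut.conjNormal (1 : K) : MulAut N) = φ
          rw [map_one]
          rfl
        inv_mem' := by
          intro x hx
          show φ ∘ (MulAut.conjNormal (x⁻¹) : MulAut N) = φ
          have h := (comp_conjNormal_eq_iff N φ x 1).1 (by
            rw [show φ ∘ (MulAut.conjNormal x : MulAut N) = φ from hx, map_one]; rfl)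
          rwa [one_mul] at h }
    have hT : ∀ k : K, k ∈ T ↔ φ ∘ (MulAut.conjNormal k : MulAut N) = φ := fun k => Iff.rfl
    have hNT : N ≤ T := by
      intro n hn
      rw [hT]
      funext m
      have h1 : (MulAut.conjNormal n : MulAut N) m = (⟨n, hn⟩ : N) * m * (⟨n, hn⟩ : N)⁻¹ := by
        ext
        simp
      rw [Function.comp_apply, h1]
      exact isIrr_isClassFunction hφ m ⟨n, hn⟩
    have hTinv : ∀ γ : Γ, ∀ t ∈ T, a γ t ∈ T := by
      intro γ t ht
      let b : MulAut N :=
        { toFun := fun n => ⟨a γ n, (hN γ n).2 n.2⟩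
          invFun := fun n => ⟨(a γ).symm n, (hN γ _).1 (by rw [MulEquiv.apply_symm_apply]; exact n.2)⟩
          left_inv := fun n => Subtype.ext (MulEquiv.symm_apply_apply (a γ) (n : K))
          right_inv := fun n => Subtype.ext (MulEquiv.apply_symm_apply (a γ) (n : K))
          map_mul' := fun x y => Subtype.ext (map_mul (a γ) (x : K) (y : K)) }
      have hb : ∀ n : N, ((b n : N) : K) = a γ n := fun n => rfl
      have hφb : IsIrrCharacter N (φ ∘ b) := isIrr_comp (b : N →* N) b.surjective hφ
      have hθb : (fun n : N => θ n) ∘ b = fun n : N => θ n := by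
        funext n
        exact hinv γ n
      have hφb0 : classInner (fun n : N => θ n) (φ ∘ b) ≠ 0 := by
        rw [← hθb, classInner_comp_mulEquiv b]
        exact hφ0
      obtain ⟨x, hx⟩ := exists_conj_of_constituents N hθ hφ hφb hφ0 hφb0
      have hxt : x * t * x⁻¹ ∈ T := by
        have h1 : x * t * x⁻¹ = (x * t * x⁻¹ * t⁻¹) * t := by group
        rw [h1]
        exact T.mul_mem (hNT (hab x t)) ht
      have h2 : (φ ∘ (MulAut.conjNormal (a γ t) : MulAut N)) ∘ b = φ ∘ b := by
        have h3 : ∀ n : N, (MulAut.conjNormal (a γ t) : MulAut N) (b n) =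
            b ((MulAut.conjNormal t : MulAut N) n) := by
          intro n
          ext
          rw [MulAut.conjNormal_apply, hb, hb, MulAut.conjNormal_apply, map_mul, map_mul, map_inv]
        have h4 : (φ ∘ (MulAut.conjNormal (a γ t) : MulAut N)) ∘ b =
            (φ ∘ b) ∘ (MulAut.conjNormal t : MulAut N) := by
          funext n
          exact congrArg φ (h3 n)
        rw [h4, hx, ← comp_conjNormal_mul, comp_conjNormal_eq_iff]
        exact (hT _).1 hxt
      rw [hT]
      funext n
      have h5 := congrFun h2 (b.symm n)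
      simp only [Function.comp_apply, MulEquiv.apply_symm_apply] at h5
      exact h5
    set F := Finset.univ.image (fun x : K => φ ∘ (MulAut.conjNormal x : MulAut N)) with hF
    have hsum := restrict_eq_smul_sum N hθ hφ hφ0
    rw [← hF, he] at hsum
    have hcard := card_conj_mul_card N φ T hT
    rw [← hF] at hcard
    have hee : e ^ 2 * F.card = N.index := by
      have h := classInner_restrict_self_eq N hθ hφ he he0
      rw [hnorm, ← hF] at h
      exact_mod_cast h.symm
    have hφF : φ ∈ F := by
      rw [hF, Finset.mem_image]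
      refine ⟨1, Finset.mem_univ _, ?_⟩
      rw [map_one]
      rfl
    rcases hchief T hTinv hNT with hTN | hTtop
    · right
      have hFc : F.card = N.index := by
        rw [hTN, ← Subgroup.card_mul_index N, mul_comm] at hcard
        exact Nat.eq_of_mul_eq_mul_left Nat.card_pos hcard
      have hidx : 0 < N.index := Nat.pos_of_ne_zero Subgroup.index_ne_zero_of_finite
      have he1 : e = 1 := by
        rw [hFc] at hee
        have h1 : e ^ 2 = 1 := by
          have : e ^ 2 * N.index = 1 * N.index := by rw [hee, one_mul]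
          exact Nat.eq_of_mul_eq_mul_right hidx this
        nlinarith [Nat.pos_of_ne_zero he0]
      refine ⟨F, ?_, hFc, ?_⟩
      · intro ψ hψ
        obtain ⟨x, -, rfl⟩ := Finset.mem_image.1 hψ
        exact isIrr_conjNormal hφ x
      · rw [hsum, he1, Nat.cast_one, one_smul]
    · left
      have hFc : F.card = 1 := by
        rw [hTtop, Subgroup.card_top] at hcard
        have h1 : F.card * Nat.card K = 1 * Nat.card K := by rw [hcard, one_mul]
        exact Nat.eq_of_mul_eq_mul_right Nat.card_pos h1
      have hFφ : F = {φ} := by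
        obtain ⟨ψ, hψ⟩ := Finset.card_eq_one.1 hFc
        rw [hψ] at hφF
        rw [hψ, Finset.mem_singleton.1 hφF]
      refine ⟨φ, e, hφ, ?_, ?_⟩
      · rw [hsum, hFφ, Finset.sum_singleton]
      · rw [hFc, mul_one] at hee
        exact hee
  · -- no nontrivial linear character of `K / N` fixes `θ`
    left
    obtain ⟨Λ, hΛ, -, h1, h2⟩ := exists_linear_dual N hab
    have hnorm := classInner_restrict_self N hθ Λ h1 h2
    have hfil : Λ.filter (fun l => (fun g => (l g : ℂ)) * θ = θ) = {1} := by
      ext l
      rw [Finset.mem_filter, Finset.mem_singleton]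
      constructor
      · rintro ⟨hl, hl'⟩
        have hker : M ≤ l.ker := by
          rw [hM, Subgroup.closure_le]
          rintro k (hk | hk)
          · exact (hΛ l).1 hl k hk
          · have h3 := congrFun hl' k
            rw [Pi.mul_apply] at h3
            have h4 : (l k : ℂ) = 1 := mul_right_cancel₀ hk (by rw [h3, one_mul])
            show l k = 1
            ext
            rw [h4, Units.val_one]
        ext k
        have h5 : k ∈ l.ker := hker (hMtop ▸ Subgroup.mem_top k)
        rw [MonoidHom.mem_ker] at h5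
        rw [h5]
        rfl
      · rintro rfl
        refine ⟨(hΛ 1).2 (fun n _ => rfl), ?_⟩
        funext k
        simp
    rw [isIrr_iff_classInner_self hθN, hnorm, hfil, Finset.card_singleton, Nat.cast_one]

/-- Let L < K be normal subgroups of the finite group G with no normal subgroup of G strictly between them and with K / L abelian (the commutator subgroup of K lies in L). Let ϑ be an irreducible character of K invariant under conjugation by G. Then the restriction of ϑ to L is irreducible; or it equals e times an irreducible character of L with e ^ 2 equal to the index of L in K; or it is the sum of a family of pairwise distinct irreducible characters of L indexed by a set whose size is the index of L in K. -/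
theorem result {G : Type*} [Group G] [Fintype G] (K L : Subgroup G) [hK : K.Normal] [L.Normal] (hLK : L < K) (hchief : ∀ M : Subgroup G, M.Normal → L ≤ M → M ≤ K → M = L ∨ M = K) (hab : ⁅K, K⁆ ≤ L) (ϑ : K → ℂ) (hϑ : Cfsg.IsIrrCharacter K ϑ) (hinv : ∀ (g : G) (n : K), ϑ ⟨g * n * g⁻¹, hK.conj_mem (n : G) n.2 g⟩ = ϑ n) : Cfsg.IsIrrCharacter L (fun x : L => ϑ ⟨(x : G), hLK.le x.2⟩) ∨ (∃ (φ : L → ℂ) (e : ℕ), Cfsg.IsIrrCharacter L φ ∧ (fun x : L => ϑ ⟨(x : G), hLK.le x.2⟩) = (e : ℂ) • φ ∧ e ^ 2 = L.relIndex K) ∨ (∃ F : Finset (L → ℂ), (∀ φ ∈ F, Cfsg.IsIrrCharacter L φ) ∧ F.card = L.relIndex K ∧ (fun x : L => ϑ ⟨(x : G), hLK.le x.2⟩) = ∑ φ ∈ F, φ) := by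
  classical
  have hLn : L.Normal := inferInstance
  let : Fintype K := Fintype.ofFinite K
  let : Fintype (L.subgroupOf K) := Fintype.ofFinite _
  let f : L ≃* L.subgroupOf K := (Subgroup.subgroupOfEquivOfLe hLK.le).symm
  have hf : ∀ x : L, ((f x : L.subgroupOf K) : K) = ⟨(x : G), hLK.le x.2⟩ := fun x => rfl
  have hirr : ∀ φ : L.subgroupOf K → ℂ, IsIrrCharacter (L.subgroupOf K) φ →
      IsIrrCharacter L (φ ∘ f) := fun φ hφ => isIrr_comp (f : L →* L.subgroupOf K) f.surjective hφ
  have hres : (fun x : L => ϑ ⟨(x : G), hLK.le x.2⟩) =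
      (fun n : L.subgroupOf K => ϑ n) ∘ f := by
    funext x
    rfl
  have key := going_down (L.subgroupOf K)
    (fun x y => by
      rw [Subgroup.mem_subgroupOf]
      exact hab (Subgroup.commutator_mem_commutator x.2 y.2))
    (fun g : G => (MulAut.conjNormal g : MulAut K))
    (fun g n => by
      rw [Subgroup.mem_subgroupOf, Subgroup.mem_subgroupOf, MulAut.conjNormal_apply]
      constructor
      · intro h
        have h1 := hLn.conj_mem _ h g⁻¹
        have h2 : g⁻¹ * (g * (n : G) * g⁻¹) * g⁻¹⁻¹ = n := by group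
        rwa [h2] at h1
      · intro h
        exact hLn.conj_mem _ h g)
    (fun M hM hLM => by
      have h1 : (M.map K.subtype).Normal := by
        constructor
        rintro _ ⟨m, hm, rfl⟩ g
        exact ⟨(MulAut.conjNormal g : MulAut K) m, hM g m hm, by simp⟩
      have h2 : L ≤ M.map K.subtype := by
        intro l hl
        exact ⟨⟨l, hLK.le hl⟩, hLM (Subgroup.mem_subgroupOf.2 hl), rfl⟩
      have h3 : M.map K.subtype ≤ K := by
        rintro _ ⟨m, hm, rfl⟩
        exact m.2
      rcases hchief _ h1 h2 h3 with h | h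
      · left
        apply le_antisymm _ hLM
        intro m hm
        rw [Subgroup.mem_subgroupOf, ← h]
        exact ⟨m, hm, rfl⟩
      · right
        rw [eq_top_iff]
        intro m _
        have h4 : (m : G) ∈ M.map K.subtype := by
          rw [h]
          exact m.2
        obtain ⟨m', hm', hmm'⟩ := h4
        rwa [← Subtype.ext (a1 := m') (a2 := m) hmm'])
    ϑ hϑ
    (fun g n => by
      rw [← hinv g n]
      congr 1)
  rw [hres]
  rcases key with h | ⟨φ, e, hφ, h1, h2⟩ | ⟨F, hF, hFc, hFs⟩
  · exact Or.inl (hirr _ h)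
  · refine Or.inr (Or.inl ⟨φ ∘ f, e, hirr _ hφ, ?_, h2⟩)
    rw [h1]
    rfl
  · refine Or.inr (Or.inr ⟨F.image (fun φ => φ ∘ f), ?_, ?_, ?_⟩)
    · intro ψ hψ
      obtain ⟨φ, hφ, rfl⟩ := Finset.mem_image.1 hψ
      exact hirr _ (hF φ hφ)
    · rw [Finset.card_image_of_injective _ f.surjective.injective_comp_right]
      exact hFc
    · rw [Finset.sum_image (fun _ _ _ _ h => f.surjective.injective_comp_right h), hFs]
      funext x
      simp [Finset.sum_apply]

end Cfsg.Agent.S0857
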