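import Mathlib
import Cfsg.Statements.S0858
import Cfsg.Agent.S0147
import Cfsg.Agent.S0854
import Cfsg.Agent.S0857
import Cfsg.Agent.Characters.Core
import Cfsg.Agent.Characters.Clifford

set_option autoImplicit false
open Cfsg

namespace Cfsg.Agent.S0858

open Cfsg.Agent.Characters.Core Cfsg.Agent.Characters.Clifford

universe u

/-- the inertia group of a function on a normal subgroup -/
def inertia {G : Type u} [Group G] (L : Subgroup G) [hL : L.Normal] (φ : L → ℂ) : Subgroup G where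
  carrier := {g | ∀ n : L, φ ⟨g * n * g⁻¹, hL.conj_mem n n.2 g⟩ = φ n}
  one_mem' := by
    intro n
    congr 1
    ext
    simp
  mul_mem' := by
    intro a b ha hb n
    have h1 := ha ⟨b * n * b⁻¹, hL.conj_mem n n.2 b⟩
    rw [hb n] at h1
    rw [← h1]
    congr 1
    ext
    simp [mul_assoc]
  inv_mem' := by
    intro a ha n
    have h1 := ha ⟨a⁻¹ * n * a⁻¹⁻¹, hL.conj_mem n n.2 a⁻¹⟩
    rw [← h1]
    congr 1
    ext
    simp [mul_assoc]

theorem mem_inertia {G : Type u} [Group G] (L : Subgroup G) [hL : L.Normal] (φ : L → ℂ) (g : G) :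
    g ∈ inertia L φ ↔ ∀ n : L, φ ⟨g * n * g⁻¹, hL.conj_mem n n.2 g⟩ = φ n := Iff.rfl

/-- One reduction step: an irreducible character restricts irreducibly to `N` or is induced from
a proper subgroup containing `N`. -/
theorem step {G : Type u} [Group G] [Fintype G] (N : Subgroup G) [N.Normal]
    (hsolv : Group.IsSolvable (G ⧸ N))
    (hchief : ∀ K L : Subgroup G, K.Normal → L.Normal → N ≤ L → L < K →
      (∀ M : Subgroup G, M.Normal → L ≤ M → M ≤ K → M = L ∨ M = K) → ¬ IsSquare (L.relIndex K))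
    (χ : G → ℂ) (hχ : IsIrrCharacter G χ) :
    IsIrrCharacter N (fun n : N => χ n) ∨
      ∃ T : Subgroup G, N ≤ T ∧ T < ⊤ ∧ ∃ ψ : T → ℂ, IsIrrCharacter T ψ ∧ indFun T ψ = χ := by
  classical
  -- `K` minimal with `χ_K` irreducible
  let S : Set (Subgroup G) := {K | K.Normal ∧ N ≤ K ∧ IsIrrCharacter K (fun k : K => χ k)}
  have hS : S.Nonempty := ⟨⊤, inferInstance, le_top,
    isIrr_comp ((Subgroup.topEquiv : (⊤ : Subgroup G) ≃* G) : (⊤ : Subgroup G) →* G)
      (Subgroup.topEquiv : (⊤ : Subgroup G) ≃* G).surjective hχ⟩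
  obtain ⟨K, hKmin⟩ := (Set.toFinite S).exists_minimal hS
  obtain ⟨hKn, hNK, hKirr⟩ := hKmin.prop
  by_cases hKN : N = K
  · subst hKN
    exact Or.inl hKirr
  have hNK' : N < K := lt_of_le_of_ne hNK hKN
  -- `L` maximal normal with `N ≤ L < K`
  let S' : Set (Subgroup G) := {L | L.Normal ∧ N ≤ L ∧ L < K}
  have hS' : S'.Nonempty := ⟨N, inferInstance, le_rfl, hNK'⟩
  obtain ⟨L, hLmax⟩ := (Set.toFinite S').exists_maximal hS'
  obtain ⟨hLn, hNL, hLK⟩ := hLmax.prop
  have hchiefKL : ∀ M : Subgroup G, M.Normal → L ≤ M → M ≤ K → M = L ∨ M = K := by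
    intro M hM hLM hMK
    by_cases h : M = K
    · exact Or.inr h
    · left
      exact le_antisymm (hLmax.2 ⟨hM, hNL.trans hLM, lt_of_le_of_ne hMK h⟩ hLM) hLM
  -- the factor is abelian
  have hab : ⁅K, K⁆ ≤ L := by
    have hcK : ⁅K, K⁆ ≤ K := Subgroup.commutator_le_left K K
    rcases hchiefKL (L ⊔ ⁅K, K⁆) inferInstance le_sup_left (sup_le hLK.le hcK) with h | h
    · rw [← h]; exact le_sup_right
    · exfalso
      have hsolvL : Group.IsSolvable (G ⧸ L) :=
        Group.isSolvable_of_surjective (f := QuotientGroup.map N L (MonoidHom.id G) hNL)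
          (by
            intro x
            obtain ⟨g, rfl⟩ := QuotientGroup.mk_surjective x
            exact ⟨(g : G ⧸ N), rfl⟩)
      have hne : K.map (QuotientGroup.mk' L) ≠ ⊥ := by
        intro hb
        rw [Subgroup.map_eq_bot_iff, QuotientGroup.ker_mk'] at hb
        exact absurd hb (not_le_of_gt hLK)
      have hlt := Group.IsSolvable.commutator_lt_of_ne_bot hne
      apply hlt.ne
      rw [← Subgroup.map_commutator]
      conv_rhs => rw [← h, Subgroup.map_sup]
      have : Subgroup.map (QuotientGroup.mk' L) L = ⊥ := by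
        rw [Subgroup.map_eq_bot_iff, QuotientGroup.ker_mk']
      rw [this, bot_sup_eq]
  have hχc : IsClassFunction G χ := isIrr_isClassFunction hχ
  rcases Cfsg.Agent.S0857.result K L hLK hchiefKL hab (fun k : K => χ k) hKirr
      (fun g n => hχc n g) with h | ⟨φ, e, hφ, he, he2⟩ | ⟨F, hF, hcard, hsum⟩
  · -- contradiction with minimality of `K`
    exact absurd (hKmin.2 ⟨hLn, hNL, h⟩ hLK.le) (not_le_of_gt hLK)
  · exact absurd ⟨e, by rw [← he2, sq]⟩ (hchief K L hKn hLn hNL hLK hchiefKL)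
  · right
    have hcard1 : 1 < F.card := by
      rw [hcard]
      have h0 : L.relIndex K ≠ 0 :=
        (Subgroup.index_ne_zero_of_finite : (L.subgroupOf K).index ≠ 0)
      have h1 : L.relIndex K ≠ 1 := by
        intro h1
        rw [Subgroup.relIndex_eq_one] at h1
        exact absurd h1 (not_le_of_gt hLK)
      omega
    obtain ⟨φ, hφF, φ', hφ'F, hne⟩ := Finset.one_lt_card.1 hcard1
    have hmult : ∀ ψ ∈ F, classInner (fun x : L => χ x) ψ ≠ 0 := by
      intro ψ hψ
      have : (fun x : L => χ x) = ∑ φ ∈ F, φ := hsum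
      rw [this, classInner_sum_left, Finset.sum_eq_single ψ, classInner_irr_self (hF ψ hψ)]
      · exact one_ne_zero
      · intro b hb hbψ
        exact classInner_irr_ne (hF b hb) (hF ψ hψ) hbψ
      · intro h; exact absurd hψ h
    have hLT : L ≤ inertia L φ := by
      intro g hg n
      exact isIrr_isClassFunction (hF φ hφF) n ⟨g, hg⟩
    obtain ⟨ψ, hψ, hind, -⟩ := Cfsg.Agent.S0854.result L φ (hF φ hφF) (inertia L φ)
      (fun g => Iff.rfl) hLT χ hχ (hmult φ hφF)
    refine ⟨inertia L φ, hNL.trans hLT, ?_, ψ, hψ, hind⟩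
    rw [lt_top_iff_ne_top]
    intro htop
    obtain ⟨g, hg⟩ := exists_conj_of_constituents L hχ (hF φ hφF) (hF φ' hφ'F)
      (hmult φ hφF) (hmult φ' hφ'F)
    apply hne
    rw [hg]
    funext n
    have : g ∈ inertia L φ := by rw [htop]; trivial
    exact (this n).symm

theorem indFun_top_restrict {G : Type u} [Group G] [Fintype G] {χ : G → ℂ}
    (hχ : IsClassFunction G χ) : indFun (⊤ : Subgroup G) (fun x => χ x) = χ := by
  funext g
  have h1 : ∀ x : G, extendByZero (⊤ : Subgroup G) (fun x => χ x) (x⁻¹ * g * x) = χ g := by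
    intro x
    have h2 : extendByZero (⊤ : Subgroup G) (fun x => χ x) (x⁻¹ * g * x) = χ (x⁻¹ * g * x) :=
      Subtype.val_injective.extend_apply (fun x : (⊤ : Subgroup G) => χ x) 0
        ⟨x⁻¹ * g * x, trivial⟩
    rw [h2]
    have h3 := hχ g x⁻¹
    rwa [inv_inv] at h3
  show (Nat.card (⊤ : Subgroup G) : ℂ)⁻¹ * ∑ x : G, extendByZero (⊤ : Subgroup G)
    (fun x => χ x) (x⁻¹ * g * x) = χ g
  rw [Finset.sum_congr rfl (fun x _ => h1 x), Finset.sum_const, Finset.card_univ, nsmul_eq_mul,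
    Subgroup.card_top, ← Nat.card_eq_fintype_card, ← mul_assoc, inv_mul_cancel₀, one_mul]
  exact_mod_cast Nat.card_pos.ne'

/-- The chief-factor condition: relative to every subgroup containing `N`, chief factors above `N`
have non-square order. -/
def NonSquare {G : Type u} [Group G] (N : Subgroup G) : Prop :=
  ∀ (H K L : Subgroup G), N ≤ L → L < K → K ≤ H → (∀ h ∈ H, ∀ k ∈ K, h * k * h⁻¹ ∈ K) →
    (∀ h ∈ H, ∀ l ∈ L, h * l * h⁻¹ ∈ L) →
    (∀ M : Subgroup G, L ≤ M → M ≤ K → (∀ h ∈ H, ∀ m ∈ M, h * m * h⁻¹ ∈ M) → M = L ∨ M = K) →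
    ¬ IsSquare (L.relIndex K)

theorem NonSquare.chief {G : Type u} [Group G] {N : Subgroup G} (h : NonSquare N)
    (K L : Subgroup G) (hK : K.Normal) (hL : L.Normal) (hNL : N ≤ L) (hLK : L < K)
    (hM : ∀ M : Subgroup G, M.Normal → L ≤ M → M ≤ K → M = L ∨ M = K) :
    ¬ IsSquare (L.relIndex K) :=
  h ⊤ K L hNL hLK le_top (fun g _ k hk => hK.conj_mem k hk g) (fun g _ k hk => hL.conj_mem k hk g)
    (fun M h1 h2 h3 => hM M ⟨fun m hm g => h3 g trivial m hm⟩ h1 h2)

theorem NonSquare.subgroupOf {G : Type u} [Group G] {N : Subgroup G} (h : NonSquare N)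
    (T : Subgroup G) (hNT : N ≤ T) : NonSquare (N.subgroupOf T) := by
  intro H K L hNL hLK hKH hK hL hM
  have hinj : Function.Injective T.subtype := T.subtype_injective
  have key := h (H.map T.subtype) (K.map T.subtype) (L.map T.subtype) ?_ ?_ ?_ ?_ ?_ ?_
  · rwa [Subgroup.relIndex_map_map_of_injective _ _ hinj] at key
  · intro n hn
    exact ⟨⟨n, hNT hn⟩, hNL hn, rfl⟩
  · exact (Subgroup.map_lt_map_iff_of_injective hinj).2 hLK
  · exact Subgroup.map_mono hKH
  · rintro _ ⟨h', hh', rfl⟩ _ ⟨k, hk, rfl⟩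
    exact ⟨h' * k * h'⁻¹, hK h' hh' k hk, by simp⟩
  · rintro _ ⟨h', hh', rfl⟩ _ ⟨k, hk, rfl⟩
    exact ⟨h' * k * h'⁻¹, hL h' hh' k hk, by simp⟩
  · intro M hLM hMK hMn
    have hMT : M ≤ T := hMK.trans (Subgroup.map_subtype_le K)
    have hM' : (M.subgroupOf T).map T.subtype = M := Subgroup.map_subgroupOf_eq_of_le hMT
    have a1 : L ≤ M.subgroupOf T := by
      rw [← hM'] at hLM
      exact (Subgroup.map_le_map_iff_of_injective hinj).1 hLM
    have a2 : M.subgroupOf T ≤ K := by
      rw [← hM'] at hMK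
      exact (Subgroup.map_le_map_iff_of_injective hinj).1 hMK
    rcases hM (M.subgroupOf T) a1 a2 (fun h' hh' m hm => hMn h' ⟨h', hh', rfl⟩ m hm) with h1 | h1
    · left; rw [← hM', h1]
    · right; rw [← hM', h1]

theorem main (n : ℕ) : ∀ (G : Type u) [Group G] [Fintype G], Nat.card G = n →
    ∀ (N : Subgroup G) [N.Normal] (_ : Group.IsSolvable (G ⧸ N)) (_ : NonSquare N)
      (χ : G → ℂ) (_ : IsIrrCharacter G χ),
      ∃ (H : Subgroup G) (hNH : N ≤ H) (ψ : H → ℂ), IsIrrCharacter H ψ ∧ indFun H ψ = χ ∧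
        IsIrrCharacter N (fun n : N => ψ ⟨(n : G), hNH n.2⟩) := by
  induction n using Nat.strong_induction_on with
  | _ n ih =>
  intro G _ _ hn N _ hsolv hns χ hχ
  rcases step N hsolv hns.chief χ hχ with h | ⟨T, hNT, hT, ψ, hψ, hind⟩
  · exact ⟨⊤, le_top, fun x => χ x,
      isIrr_comp ((Subgroup.topEquiv : (⊤ : Subgroup G) ≃* G) : (⊤ : Subgroup G) →* G)
        (Subgroup.topEquiv : (⊤ : Subgroup G) ≃* G).surjective hχ,
      indFun_top_restrict (isIrr_isClassFunction hχ), h⟩
  · classical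
    have : Fintype T := Fintype.ofFinite T
    have hsolvT : Group.IsSolvable (T ⧸ N.subgroupOf T) :=
      Group.isSolvable_of_isSolvable_injective (f := QuotientGroup.map (N.subgroupOf T) N T.subtype
        (fun x hx => hx)) (by
          rw [injective_iff_map_eq_one]
          intro a ha
          obtain ⟨x, rfl⟩ := QuotientGroup.mk_surjective a
          exact (QuotientGroup.eq_one_iff x).2 ((QuotientGroup.eq_one_iff (x : G)).1 ha))
    have hcard : Nat.card T < n := by
      rw [← hn]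
      refine lt_of_le_of_ne (Subgroup.card_le_card_group T) (fun h => hT.ne ?_)
      exact Subgroup.eq_top_of_card_eq T h
    obtain ⟨H', hNH', θ', hθ', hind', hN'⟩ := ih (Nat.card T) hcard T rfl (N.subgroupOf T) hsolvT
      (hns.subgroupOf T hNT) ψ hψ
    obtain ⟨H, hHT, rfl⟩ : ∃ H : Subgroup G, H ≤ T ∧ H.subgroupOf T = H' :=
      ⟨H'.map T.subtype, Subgroup.map_subtype_le H',
        Subgroup.comap_map_eq_self_of_injective T.subtype_injective H'⟩
    have hNH : N ≤ H := fun n hn => hNH' (show (⟨n, hNT hn⟩ : T) ∈ N.subgroupOf T from hn)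
    let e : H.subgroupOf T ≃* H := Subgroup.subgroupOfEquivOfLe hHT
    let eN : N.subgroupOf T ≃* N := Subgroup.subgroupOfEquivOfLe hNT
    refine ⟨H, hNH, θ' ∘ e.symm, isIrr_comp (e.symm : H →* H.subgroupOf T) e.symm.surjective hθ',
      ?_, ?_⟩
    · rw [← Cfsg.Agent.S0147.result H T hHT, ← hind, ← hind']
      rfl
    · exact isIrr_comp (eN.symm : N →* N.subgroupOf T) eN.symm.surjective hN'

/-- Let N be a normal subgroup of the finite group G with G / N solvable, and suppose that for every subgroup H containing N and all subgroups L < K between N and H that are normal in H with no subgroup normal in H strictly between them, the index of L in K is not a perfect square. Then every irreducible character χ of G is induced from an irreducible character ψ of some subgroup H containing N such that the restriction of ψ to N is irreducible. -/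
theorem result {G : Type*} [Group G] [Fintype G] (N : Subgroup G) [N.Normal] (hsolv : Group.IsSolvable (G ⧸ N)) (hchief : ∀ (H K L : Subgroup G), N ≤ L → L < K → K ≤ H → (∀ h ∈ H, ∀ k ∈ K, h * k * h⁻¹ ∈ K) → (∀ h ∈ H, ∀ l ∈ L, h * l * h⁻¹ ∈ L) → (∀ M : Subgroup G, L ≤ M → M ≤ K → (∀ h ∈ H, ∀ m ∈ M, h * m * h⁻¹ ∈ M) → M = L ∨ M = K) → ¬ IsSquare (L.relIndex K)) (χ : G → ℂ) (hχ : Cfsg.IsIrrCharacter G χ) : ∃ (H : Subgroup G) (hNH : N ≤ H) (ψ : H → ℂ), Cfsg.IsIrrCharacter H ψ ∧ Cfsg.indFun H ψ = χ ∧ Cfsg.IsIrrCharacter N (fun n : N => ψ ⟨(n : G), hNH n.2⟩) :=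
  main (Nat.card G) G rfl N hsolv hchief χ hχ

end Cfsg.Agent.S0858
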