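import Cfsg.Statements.S0859
import Mathlib
import Cfsg.Agent.S0147
import Cfsg.Agent.Characters.Core
import Cfsg.Agent.Characters.Linear
import Cfsg.Agent.CharactersDeep.AbelianSylow
import Cfsg.Agent.CharactersDeep.Imprimitivity

set_option autoImplicit false
open Cfsg

namespace Cfsg.Agent.S0859

open Module
open Cfsg.Agent.CharactersDeep.AbelianSylow
open Cfsg.Agent.CharactersDeep.Imprimitivity

universe u v

/-- A one-dimensional representation: the character is a homomorphism to the units. -/
theorem exists_hom_of_scalar {G : Type u} [Group G] {V : Type v} [AddCommGroup V] [Module ℂ V]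
    [Nontrivial V] (ρ : Representation ℂ G V) (h : ∀ g, ∃ c : ℂ, ρ g = c • (1 : Module.End ℂ V)) :
    ∃ φ : G →* ℂˣ, ∀ g, ρ g = (φ g : ℂ) • (1 : Module.End ℂ V) := by
  classical
  choose c hc using h
  have hinj : ∀ a b : ℂ, a • (1 : Module.End ℂ V) = b • (1 : Module.End ℂ V) → a = b := by
    intro a b hab
    exact smul_left_injective ℂ (one_ne_zero : (1 : Module.End ℂ V) ≠ 0) hab
  have h1 : c 1 = 1 := by
    apply hinj
    rw [← hc 1, map_one, one_smul]
  have hmul : ∀ g k, c (g * k) = c g * c k := by
    intro g k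
    apply hinj
    rw [← hc (g * k), map_mul, hc g, hc k, smul_mul_smul_comm, one_mul]
  let c' : G →* ℂ := { toFun := c, map_one' := h1, map_mul' := hmul }
  refine ⟨c'.toHomUnits, fun g => ?_⟩
  rw [MonoidHom.coe_toHomUnits]
  exact hc g

theorem indFun_top {G : Type u} [Group G] [Fintype G] (χ : G → ℂ) (hχ : IsClassFunction G χ) :
    indFun (⊤ : Subgroup G) (fun x : (⊤ : Subgroup G) => χ x) = χ := by
  funext g
  show (Nat.card (⊤ : Subgroup G) : ℂ)⁻¹ * ∑ x : G, extendByZero ⊤ _ (x⁻¹ * g * x) = χ g
  have h : ∀ x : G, extendByZero (⊤ : Subgroup G) (fun x : (⊤ : Subgroup G) => χ x)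
      (x⁻¹ * g * x) = χ g := by
    intro x
    rw [extendByZero_of_mem' _ _ (Subgroup.mem_top _)]
    have := hχ g x⁻¹
    rw [inv_inv] at this
    exact this
  rw [Finset.sum_congr rfl (fun x _ => h x), Finset.sum_const, nsmul_eq_mul, Subgroup.card_top,
    Finset.card_univ, Nat.card_eq_fintype_card, ← mul_assoc, inv_mul_cancel₀, one_mul]
  exact Nat.cast_ne_zero.mpr Fintype.card_ne_zero

theorem indFun_congr {G : Type u} [Group G] [Fintype G] {H K : Subgroup G} (h : H = K)
    (θ : H → ℂ) (η : K → ℂ) (hθ : ∀ (x : G) (h1 : x ∈ H) (h2 : x ∈ K), θ ⟨x, h1⟩ = η ⟨x, h2⟩) :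
    indFun H θ = indFun K η := by
  subst h
  congr 1
  funext x
  exact hθ x x.2 x.2

/-- Transitivity of induction, for homomorphisms. -/
theorem indFun_trans {G : Type u} [Group G] [Fintype G] (T : Subgroup G) [Fintype T]
    (U : Subgroup T) (φ : U →* ℂˣ) :
    ∃ (U' : Subgroup G) (φ' : U' →* ℂˣ), indFun U' (fun x => (φ' x : ℂ)) =
      indFun T (indFun U (fun x => (φ x : ℂ))) := by
  have hle : U.map T.subtype ≤ T := Subgroup.map_subtype_le U
  have hsub : (U.map T.subtype).subgroupOf T = U := by
    rw [Subgroup.subgroupOf, Subgroup.comap_map_eq_self_of_injective (Subgroup.subtype_injective T)]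
  let e : U ≃* U.map T.subtype := U.equivMapOfInjective T.subtype (Subgroup.subtype_injective T)
  refine ⟨U.map T.subtype, φ.comp e.symm.toMonoidHom, ?_⟩
  rw [← Cfsg.Agent.S0147.result (U.map T.subtype) T hle]
  congr 1
  apply indFun_congr hsub
  intro x h1 h2
  have h3 : e ⟨x, h2⟩ = ⟨(x : G), Subgroup.mem_subgroupOf.mp h1⟩ := rfl
  show ((φ (e.symm ⟨(x : G), _⟩) : ℂˣ) : ℂ) = φ ⟨x, h2⟩
  rw [← h3, MulEquiv.symm_apply_apply]

/-- A representation irreducible on a subgroup with commutative image is one-dimensional. -/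
theorem scalar_of_comm {G : Type u} [Group G] {V : Type v} [AddCommGroup V] [Module ℂ V]
    [FiniteDimensional ℂ V] (ρ : Representation ℂ G V) (h : ρ.IsIrreducible)
    (hc : ∀ a b : G, ρ a * ρ b = ρ b * ρ a) : finrank ℂ V = 1 := by
  have hs : ∀ g, ∃ c : ℂ, ρ g = c • (1 : Module.End ℂ V) := fun g =>
    exists_smul_of_comm ρ h (ρ g) (fun k => hc g k)
  rw [isIrreducible_iff] at h
  obtain ⟨h1, h2⟩ := h
  obtain ⟨v, hv⟩ := exists_ne (0 : V)
  have h3 := h2 (Submodule.span ℂ {v}) (by
    intro g w hw
    obtain ⟨c, hc⟩ := hs g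
    rw [hc]
    exact Submodule.smul_mem _ c hw)
  rcases h3 with h3 | h3
  · rw [Submodule.span_singleton_eq_bot] at h3
    exact absurd h3 hv
  · rw [finrank_eq_one_iff_of_nonzero v hv]
    exact h3

/-- The key claim. -/
theorem monomial_aux : ∀ (n : ℕ) (G : Type u) [Group G] [Fintype G] (N : Subgroup G) [N.Normal]
    [Group.IsSolvable N] (V : Type v) [AddCommGroup V] [Module ℂ V] [FiniteDimensional ℂ V]
    (ρ : Representation ℂ G V), Nat.card G = n → AbSyl N →
    Representation.IsIrreducible (ρ.comp N.subtype : Representation ℂ N V) →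
    ∃ (U : Subgroup G) (φ : U →* ℂˣ), indFun U (fun x => (φ x : ℂ)) = ρ.character := by
  intro n
  induction n using Nat.strong_induction_on with
  | _ n ih =>
    intro G _ _ N _ _ V _ _ _ ρ hn hab hirr
    classical
    have hρ : ρ.IsIrreducible := isIrreducible_of_comp N.subtype ρ hirr
    have hV : Nontrivial V := ((isIrreducible_iff ρ).mp hρ).1
    by_cases hcomm : ∀ a b : N, (ρ.comp N.subtype) a * (ρ.comp N.subtype) b =
        (ρ.comp N.subtype) b * (ρ.comp N.subtype) a
    · -- one-dimensional
      have h1 : finrank ℂ V = 1 := scalar_of_comm _ hirr hcomm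
      have hs : ∀ g, ∃ c : ℂ, ρ g = c • (1 : Module.End ℂ V) := by
        intro g
        obtain ⟨v, hv⟩ := exists_ne (0 : V)
        have h2 := (finrank_eq_one_iff_of_nonzero' v hv).mp h1
        obtain ⟨c, hc⟩ := h2 (ρ g v)
        refine ⟨c, ?_⟩
        ext w
        obtain ⟨d, rfl⟩ := h2 w
        rw [map_smul, ← hc, map_smul]
        rfl
      obtain ⟨φ, hφ⟩ := exists_hom_of_scalar ρ hs
      refine ⟨⊤, φ.comp (⊤ : Subgroup G).subtype, ?_⟩
      have h3 : ρ.character = fun g => (φ g : ℂ) := by
        funext g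
        show LinearMap.trace ℂ V (ρ g) = _
        rw [hφ g, map_smul, LinearMap.trace_one, h1]
        simp
      rw [h3]
      exact indFun_top (fun g => (φ g : ℂ)) (fun g h => by
        show ((φ (h * g * h⁻¹) : ℂˣ) : ℂ) = φ g
        rw [map_mul, map_mul, mul_comm (φ h), mul_assoc, ← map_mul, mul_inv_cancel, map_one,
          mul_one])
    · -- the inductive step
      obtain ⟨i, hi1, hi2⟩ := hab.exists_derivedSeries (ρ.comp N.subtype) hcomm
      let A : Subgroup G := (derivedSeries N i).map N.subtype
      have hAn : A.Normal := by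
        have : (derivedSeries N i).Characteristic := inferInstance
        exact ConjAct.normal_of_characteristic_of_normal
      have hAc : ∀ a ∈ A, ∀ b ∈ A, ρ a * ρ b = ρ b * ρ a := by
        rintro _ ⟨a, ha, rfl⟩ _ ⟨b, hb, rfl⟩
        exact hi1 a ha b hb
      obtain ⟨lam, v, hv, hlam⟩ := exists_common_eigenvector ρ A hAc
      obtain ⟨hm, h0⟩ := lam_mul_of_eigenvector ρ A lam hv hlam
      let e := eig ρ A lam
      let T := stab A lam
      have he : e * e = e := eig_mul_eig ρ A lam hm h0
      have he0 : e ≠ 0 := by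
        intro h
        have h1 : e v = v := eig_apply_of ρ A lam h0 v hlam
        rw [h] at h1
        exact hv h1.symm
      have hT : ∀ t ∈ T, e * ρ t = ρ t * e := fun t ht => eig_comm ρ A lam t ht
      have hnT : ∀ y, y ∉ T → e * ρ y * e = 0 := fun y hy => eig_zero ρ A lam hm h0 y hy
      have hTtop : T ≠ ⊤ := by
        intro htop
        obtain ⟨c, hc⟩ := exists_smul_of_comm ρ hρ e
          (fun g => hT g (by rw [htop]; exact Subgroup.mem_top g))
        have hc0 : c ≠ 0 := by
          rintro rfl
          rw [zero_smul] at hc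
          exact he0 hc
        apply hi2
        intro a ha b
        have haA : (a : G) ∈ A := ⟨a, ha, rfl⟩
        have h1 : ρ (a : G) * e = lam (a : G) • e := mul_eig ρ A lam hm h0 a haA
        rw [hc, mul_smul_comm, mul_one, smul_comm] at h1
        have h2 : ρ (a : G) = lam (a : G) • (1 : Module.End ℂ V) :=
          smul_right_injective (Module.End ℂ V) hc0 h1
        show ρ (a : G) * ρ (b : G) = ρ (b : G) * ρ (a : G)
        rw [h2, smul_mul_assoc, mul_smul_comm, one_mul, mul_one]
      have hcard : Nat.card T < n := by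
        rw [← hn]
        rcases (Subgroup.card_le_card_group T).lt_or_eq with h | h
        · exact h
        · exact absurd (Subgroup.eq_top_of_card_eq T h) hTtop
      let σ := onRange ρ T e hT
      have hσ := onRange_isIrreducible ρ N T hirr e he he0 hT hnT
      have hsolT : Group.IsSolvable (N.subgroupOf T) := by
        have hinj : Function.Injective
            ((Subgroup.inclusion (le_refl N)).comp
              (MonoidHom.codRestrict ((T.subtype).comp (N.subgroupOf T).subtype) N
                (fun x => x.2))) := by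
          intro x y hxy
          apply Subtype.ext
          apply Subtype.ext
          exact congrArg (fun z : N => (z : G)) hxy
        exact Group.isSolvable_of_isSolvable_injective hinj
      have habT : AbSyl (N.subgroupOf T) := by
        refine hab.of_injective (MonoidHom.codRestrict
          ((T.subtype).comp (N.subgroupOf T).subtype) N (fun x => x.2)) ?_
        intro x y hxy
        apply Subtype.ext
        apply Subtype.ext
        exact congrArg (fun z : N => (z : G)) hxy
      obtain ⟨U, φ, hU⟩ := ih (Nat.card T) hcard T (N.subgroupOf T) (LinearMap.range e) σ rfl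
        habT hσ
      obtain ⟨U', φ', hU'⟩ := indFun_trans T U φ
      refine ⟨U', φ', ?_⟩
      rw [hU', hU, character_eq_indFun ρ hρ T e he he0 hT hnT]
      congr 1
      funext t
      exact onRange_character ρ T e he hT t

/-- Let G be a finite solvable group and N a normal subgroup such that for every prime p every Sylow p-subgroup of N is abelian. Suppose every irreducible character of G is induced from an irreducible character of some subgroup containing N whose restriction to N is irreducible. Then every irreducible character of G is induced from a character of degree 1 of some subgroup. -/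
theorem result {G : Type*} [Group G] [Fintype G] [Group.IsSolvable G] (N : Subgroup G) [N.Normal] (hab : ∀ (p : ℕ) [Fact p.Prime] (P : Sylow p N), ∀ a ∈ P, ∀ b ∈ P, a * b = b * a) (hrel : ∀ χ : G → ℂ, Cfsg.IsIrrCharacter G χ → ∃ (H : Subgroup G) (hNH : N ≤ H) (ψ : H → ℂ), Cfsg.IsIrrCharacter H ψ ∧ Cfsg.indFun H ψ = χ ∧ Cfsg.IsIrrCharacter N (fun n : N => ψ ⟨(n : G), hNH n.2⟩)) (χ : G → ℂ) (hχ : Cfsg.IsIrrCharacter G χ) : ∃ (U : Subgroup G) (lam : U → ℂ), Cfsg.IsCharacter U lam ∧ lam 1 = 1 ∧ Cfsg.indFun U lam = χ := by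
  classical
  obtain ⟨H, hNH, ψ, ⟨n, ρ, hρ, hψ⟩, hind, hres⟩ := hrel χ hχ
  have hirr0 : Representation.IsIrreducible
      (ρ.comp (Subgroup.inclusion hNH) : Representation ℂ N (Fin n → ℂ)) := by
    apply Cfsg.Agent.Characters.Core.isIrreducible_of_isIrrCharacter
    have h1 : Representation.character (ρ.comp (Subgroup.inclusion hNH) :
        Representation ℂ N (Fin n → ℂ)) = fun n : N => ψ ⟨(n : G), hNH n.2⟩ := by
      rw [← hψ]
      rfl
    rw [h1]
    exact hres
  have hirr : Representation.IsIrreducible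
      (ρ.comp (N.subgroupOf H).subtype : Representation ℂ (N.subgroupOf H) (Fin n → ℂ)) := by
    rw [isIrreducible_iff] at hirr0 ⊢
    refine ⟨hirr0.1, fun U hU => hirr0.2 U (fun g v hv => ?_)⟩
    exact hU ⟨⟨(g : G), hNH g.2⟩, g.2⟩ v hv
  have hinj : Function.Injective (MonoidHom.codRestrict
      ((H.subtype).comp (N.subgroupOf H).subtype) N (fun x => x.2)) := by
    intro x y hxy
    apply Subtype.ext
    apply Subtype.ext
    exact congrArg (fun z : N => (z : G)) hxy
  have habN : AbSyl N := hab
  have habT : AbSyl (N.subgroupOf H) := habN.of_injective _ hinj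
  obtain ⟨U, φ, hU⟩ := monomial_aux (Nat.card H) H (N.subgroupOf H) (Fin n → ℂ) ρ rfl habT hirr
  obtain ⟨U', φ', hU'⟩ := indFun_trans H U φ
  refine ⟨U', fun x => (φ' x : ℂ), ?_, ?_, ?_⟩
  · exact Cfsg.Agent.Characters.Core.isIrr_isCharacter
      (Cfsg.Agent.Characters.Linear.isIrrCharacter_hom φ')
  · show ((φ' 1 : ℂˣ) : ℂ) = 1
    rw [map_one]
    rfl
  · rw [hU', hU, hψ, hind]

end Cfsg.Agent.S0859
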