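import Cfsg.Statements.S0860
import Cfsg.Agent.Characters.Core
import Mathlib.LinearAlgebra.Trace
import Mathlib.LinearAlgebra.Dimension.Constructions

set_option autoImplicit false
open Cfsg

namespace Cfsg.Agent.S0860

open Cfsg.Agent.Characters.Core

/-- Trace of a linear map which permutes a basis: the number of fixed points. -/
theorem trace_of_perm {ι V : Type*} [Fintype ι] [AddCommGroup V] [Module ℂ V]
    (b : Module.Basis ι ℂ V) (T : V →ₗ[ℂ] V) (s : ι → ι) (h : ∀ i, T (b i) = b (s i)) :
    LinearMap.trace ℂ V T = (Nat.card {i : ι // s i = i} : ℂ) := by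
  classical
  rw [LinearMap.trace_eq_matrix_trace ℂ b T, Matrix.trace]
  have : ∀ i, Matrix.diag (LinearMap.toMatrix b b T) i = if s i = i then (1 : ℂ) else 0 := by
    intro i
    rw [Matrix.diag_apply, LinearMap.toMatrix_apply, h i, Module.Basis.repr_self,
      Finsupp.single_apply]
  rw [Finset.sum_congr rfl (fun i _ => this i), Finset.sum_boole, Nat.card_eq_fintype_card,
    Fintype.card_subtype]

/-- A function on `G` seen as a function on the conjugacy classes. -/
noncomputable def onClasses {G : Type*} [Group G] (f : G → ℂ) : ConjClasses G → ℂ :=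
  fun C => f (Quotient.out C)

theorem onClasses_mk {G : Type*} [Group G] {f : G → ℂ} (hf : IsClassFunction G f) (g : G) :
    onClasses f (ConjClasses.mk g) = f g := by
  have h : IsConj (Quotient.out (ConjClasses.mk g)) g := by
    rw [← ConjClasses.mk_eq_mk_iff_isConj]
    exact Quotient.out_eq _
  obtain ⟨c, hc⟩ := isConj_iff.mp h
  exact (hf _ c).symm.trans (congrArg f hc)

/-- Let a group A act on the set of irreducible characters and on the set of conjugacy classes of a finite group G in such a way that (a • χ) evaluated on the class a • C equals χ evaluated on C, for all a, χ and C. Then every element of A fixes exactly as many irreducible characters as it fixes conjugacy classes. -/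
theorem result {G : Type*} [Group G] [Finite G] {A : Type*} [Group A] [MulAction A (Cfsg.IrrCharacter G)] [MulAction A (ConjClasses G)] (hcompat : ∀ (a : A) (χ : Cfsg.IrrCharacter G) (g g' : G), ConjClasses.mk g' = a • ConjClasses.mk g → ((a • χ : Cfsg.IrrCharacter G) : G → ℂ) g' = (χ : G → ℂ) g) (a : A) : Nat.card {χ : Cfsg.IrrCharacter G // a • χ = χ} = Nat.card {C : ConjClasses G // a • C = C} := by
  classical
  have : Finite (IrrCharacter G) := finite_irr
  have := Fintype.ofFinite (IrrCharacter G)
  have := Fintype.ofFinite G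
  have : Fintype (ConjClasses G) := Fintype.ofFinite _
  -- the family of irreducible characters as functions on classes
  let v : IrrCharacter G → (ConjClasses G → ℂ) := fun χ => onClasses (χ : G → ℂ)
  have hvmk : ∀ (χ : IrrCharacter G) (g : G), v χ (ConjClasses.mk g) = (χ : G → ℂ) g :=
    fun χ g => onClasses_mk (isIrr_isClassFunction χ.2) g
  have hlin : LinearIndependent ℂ v := by
    have h1 : LinearIndependent ℂ (fun χ : IrrCharacter G => (χ : G → ℂ)) := irr_linearIndependent
    have h2 : (fun χ : IrrCharacter G => (χ : G → ℂ)) =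
        (LinearMap.funLeft ℂ ℂ (ConjClasses.mk : G → ConjClasses G)) ∘ v := by
      funext χ g
      exact (hvmk χ g).symm
    rw [h2] at h1
    exact LinearIndependent.of_comp _ h1
  have hcard : Fintype.card (IrrCharacter G) = Module.finrank ℂ (ConjClasses G → ℂ) := by
    rw [Module.finrank_fintype_fun_eq_card, ← Nat.card_eq_fintype_card,
      ← Nat.card_eq_fintype_card]
    exact card_irr
  have : Nonempty (IrrCharacter G) := ⟨⟨1, isIrr_one⟩⟩
  let b : Module.Basis (IrrCharacter G) ℂ (ConjClasses G → ℂ) :=
    basisOfLinearIndependentOfCardEqFinrank hlin hcard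
  have hb : ∀ χ, b χ = v χ := fun χ => by
    simp only [b, coe_basisOfLinearIndependentOfCardEqFinrank]
  let T : (ConjClasses G → ℂ) →ₗ[ℂ] (ConjClasses G → ℂ) :=
    LinearMap.funLeft ℂ ℂ (fun C : ConjClasses G => a⁻¹ • C)
  have hT1 : ∀ χ, T (b χ) = b (a • χ) := by
    intro χ
    rw [hb, hb]
    funext C
    obtain ⟨g', rfl⟩ := ConjClasses.mk_surjective C
    obtain ⟨g, hg⟩ := ConjClasses.mk_surjective (a⁻¹ • ConjClasses.mk g')
    show v χ (a⁻¹ • ConjClasses.mk g') = v (a • χ) (ConjClasses.mk g')
    rw [← hg, hvmk, hvmk]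
    refine (hcompat a χ g g' ?_).symm
    rw [hg, smul_inv_smul]
  have hT2 : ∀ C, T (Pi.basisFun ℂ (ConjClasses G) C) = Pi.basisFun ℂ (ConjClasses G) (a • C) := by
    intro C
    funext D
    show (Pi.basisFun ℂ (ConjClasses G) C) (a⁻¹ • D) = _
    rw [Pi.basisFun_apply, Pi.basisFun_apply, Pi.single_apply, Pi.single_apply]
    simp only [inv_smul_eq_iff]
  have e1 := trace_of_perm b T (fun χ => a • χ) hT1
  have e2 := trace_of_perm (Pi.basisFun ℂ (ConjClasses G)) T (fun C => a • C) hT2
  rw [e1] at e2
  exact_mod_cast e2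

end Cfsg.Agent.S0860
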