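import Cfsg.Statements.S0861
-- import your own Cfsg.Agent.* helpers here
import Mathlib
import Cfsg.Agent.Characters.Core
import Cfsg.Agent.Characters.Central
import Cfsg.Agent.CharactersDeep.SumRootsUnity
import Cfsg.Agent.CharactersDeep.ColumnBessel
import Cfsg.Agent.S0184

set_option autoImplicit false
open Cfsg

namespace Cfsg.Agent.S0861

open Representation Cfsg.Agent.CharactersDeep

/-- An abelian subgroup of a finite group has a common eigenvector in a nonzero representation. -/
theorem exists_common_eigenvector {G : Type*} [Group G] {V : Type*} [AddCommGroup V]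
    [Module ℂ V] [FiniteDimensional ℂ V] [Nontrivial V] (ρ : Representation ℂ G V)
    (P : Subgroup G) (hab : ∀ a ∈ P, ∀ b ∈ P, a * b = b * a) :
    ∃ (v : V) (l : G → ℂ), v ≠ 0 ∧ ∀ x ∈ P, ρ x v = l x • v := by
  classical
  let σ : Representation ℂ P V := ρ.comp P.subtype
  obtain ⟨U, hU⟩ := Characters.Core.exists_irreducible_sub σ
  have : IsMulCommutative P := ⟨⟨fun a b => Subtype.ext (hab a a.2 b b.2)⟩⟩
  have h1 : Module.finrank ℂ U.toSubmodule = 1 :=
    IsIrreducible.finrank_eq_one_of_isMulCommutative U.toRepresentation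
  obtain ⟨v, hv0, hv⟩ := finrank_eq_one_iff'.1 h1
  choose c hc using hv
  refine ⟨v.1, fun x => if hx : x ∈ P then c (U.toRepresentation ⟨x, hx⟩ v) else 0,
    fun h => hv0 (Subtype.ext h), ?_⟩
  intro x hx
  have h2 := congrArg Subtype.val (hc (U.toRepresentation ⟨x, hx⟩ v))
  simp only [hx, dif_pos]
  exact h2.symm

/-- An irreducible character does not vanish on a normal abelian Sylow `p`-subgroup. -/
theorem char_ne_zero {G : Type*} [Group G] [Finite G] {V : Type*} [AddCommGroup V]
    [Module ℂ V] [FiniteDimensional ℂ V] (ρ : Representation ℂ G V) (hρ : ρ.IsIrreducible)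
    (p : ℕ) [Fact p.Prime] (P : Subgroup G) [P.Normal] (hP : IsPGroup p P)
    (hab : ∀ a ∈ P, ∀ b ∈ P, a * b = b * a) (hidx : ¬ p ∣ P.index) (g : G) (hg : g ∈ P) :
    ρ.character g ≠ 0 := by
  classical
  have := Fintype.ofFinite (G ⧸ P)
  have hnt : Nontrivial V := Module.nontrivial_of_finrank_pos (Characters.Central.finrank_pos_of_irr ρ hρ)
  intro h0
  -- the sum over the class of `g`
  let T : Module.End ℂ V := ∑ q : G ⧸ P, ρ (q.out * g * q.out⁻¹)
  have hwd : ∀ a b : G, (a : G ⧸ P) = b → a * g * a⁻¹ = b * g * b⁻¹ := by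
    intro a b hab'
    have h1 : a⁻¹ * b ∈ P := QuotientGroup.eq.1 hab'
    have h2 := hab _ h1 _ hg
    have h3 : b = a * (a⁻¹ * b) := by group
    have h4 : (a⁻¹ * b) * g * (a⁻¹ * b)⁻¹ = g := by rw [h2]; group
    calc a * g * a⁻¹ = a * ((a⁻¹ * b) * g * (a⁻¹ * b)⁻¹) * a⁻¹ := by rw [h4]
      _ = b * g * b⁻¹ := by group
  have hTcomm : ∀ k, T * ρ k = ρ k * T := by
    intro k
    simp only [T, Finset.sum_mul, Finset.mul_sum]
    refine Fintype.sum_equiv (MulAction.toPerm (k⁻¹ : G)) _ _ (fun q => ?_)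
    rw [← map_mul, ← map_mul]
    congr 1
    have h1 : (((k⁻¹ • q).out : G) : G ⧸ P) = ((k⁻¹ * q.out : G) : G ⧸ P) := by
      rw [QuotientGroup.out_eq']
      conv_lhs => rw [← QuotientGroup.out_eq' q]
      rfl
    have h2 := hwd _ _ h1
    simp only [MulAction.toPerm_apply]
    rw [h2]
    group
  obtain ⟨c, hc⟩ := Characters.Central.exists_smul_of_comm ρ hρ T hTcomm
  -- trace
  have htr : LinearMap.trace ℂ V T = 0 := by
    simp only [T, map_sum]
    refine Finset.sum_eq_zero (fun q _ => ?_)
    have := char_conj ρ g q.out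
    rw [h0] at this
    exact this
  have hc0 : c = 0 := by
    rw [hc, map_smul, LinearMap.trace_one, smul_eq_mul] at htr
    rcases mul_eq_zero.1 htr with h | h
    · exact h
    · exact absurd h (by exact_mod_cast (Characters.Central.finrank_pos_of_irr ρ hρ).ne')
  obtain ⟨v, l, hv0, hv⟩ := exists_common_eigenvector ρ P hab
  have hmem : ∀ q : G ⧸ P, q.out * g * q.out⁻¹ ∈ P := fun q =>
    Subgroup.Normal.conj_mem inferInstance g hg _
  have hTv : T v = (∑ q : G ⧸ P, l (q.out * g * q.out⁻¹)) • v := by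
    simp only [T, LinearMap.sum_apply, Finset.sum_smul]
    exact Finset.sum_congr rfl (fun q _ => hv _ (hmem q))
  rw [hc, hc0, zero_smul, LinearMap.zero_apply] at hTv
  have hsum : ∑ q : G ⧸ P, l (q.out * g * q.out⁻¹) = 0 := by
    rcases smul_eq_zero.1 hTv.symm with h | h
    · exact h
    · exact absurd h hv0
  -- the values of `l` are roots of unity of `p`-power order
  obtain ⟨m, hm⟩ := (IsPGroup.iff_card.1 hP)
  refine SumRootsUnity.sum_ne_zero_of_not_dvd (p := p) (m := m)
    (fun q : G ⧸ P => l (q.out * g * q.out⁻¹)) ?_ ?_ hsum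
  · intro q
    set x := q.out * g * q.out⁻¹ with hx
    have hxP : x ∈ P := hmem q
    have hpow : ∀ k : ℕ, ρ (x ^ k) v = l x ^ k • v := by
      intro k
      induction k with
      | zero => simp
      | succ k ih => rw [pow_succ', map_mul, Module.End.mul_apply, ih, map_smul, hv x hxP,
          smul_smul, pow_succ]
    have h1 := hpow (p ^ m)
    have h2 : x ^ p ^ m = 1 := by
      have h3 : (⟨x, hxP⟩ : P) ^ Nat.card P = 1 := pow_card_eq_one'
      rw [hm] at h3
      exact congrArg Subtype.val h3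
    rw [h2, map_one, Module.End.one_apply] at h1
    have h4 : (l x ^ p ^ m - 1) • v = 0 := by rw [sub_smul, one_smul, ← h1, sub_self]
    rcases smul_eq_zero.1 h4 with h | h
    · exact sub_eq_zero.1 h
    · exact absurd h hv0
  · rwa [← Nat.card_eq_fintype_card]

/-- If `k` is prime to `n` and `g ^ n = 1` then `g` and `g ^ k` have the same centralizer. -/
theorem centralizer_pow_eq {G : Type*} [Group G] {g : G} {n k : ℕ} (hg : g ^ n = 1)
    (hk : k.Coprime n) : Subgroup.centralizer ({g ^ k} : Set G) = Subgroup.centralizer {g} := by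
  obtain ⟨a, b, hab⟩ : ∃ a b : ℤ, (k : ℤ) * a + n * b = 1 := by
    have := Int.isCoprime_iff_gcd_eq_one.2 (show Int.gcd (k : ℤ) n = 1 by simpa using hk)
    obtain ⟨a, b, h⟩ := this
    exact ⟨a, b, by linarith⟩
  have h1 : g = (g ^ k) ^ a := by
    have : g ^ ((k : ℤ) * a + n * b) = g := by rw [hab, zpow_one]
    rw [zpow_add, zpow_mul, zpow_mul, zpow_natCast, zpow_natCast, hg, one_zpow, mul_one] at this
    exact this.symm
  ext x
  rw [Subgroup.mem_centralizer_singleton_iff, Subgroup.mem_centralizer_singleton_iff]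
  constructor
  · intro h
    have h2 : Commute x (g ^ k) := h
    have h3 := h2.zpow_right a
    rw [← h1] at h3
    exact h3
  · intro h
    have h2 : Commute x g := h
    exact h2.pow_right k

/-- Let P be a normal abelian Sylow p-subgroup of the finite group G and suppose some element g of P has centralizer exactly P. Then the number of irreducible characters of G is at most the order of P, and if equality holds then G / P is abelian (the commutator subgroup lies in P). -/
theorem result {G : Type*} [Group G] [Finite G] (p : ℕ) [Fact p.Prime] (P : Sylow p G) [(P : Subgroup G).Normal] (hab : ∀ a ∈ P, ∀ b ∈ P, a * b = b * a) (g : G) (hg : g ∈ P) (hC : Subgroup.centralizer ({g} : Set G) = P) : Nat.card (Cfsg.IrrCharacter G) ≤ Nat.card P ∧ (Nat.card (Cfsg.IrrCharacter G) = Nat.card P → commutator G ≤ P) := by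
  classical
  set n := Nat.card G with hn
  have hn0 : n ≠ 0 := Nat.card_pos.ne'
  have hgn : g ^ n = 1 := pow_card_eq_one'
  obtain ⟨ι, _, _, k, hk, hprod⟩ := SumRootsUnity.exists_exponents n hn0
  -- the sum over the exponents of the squares of the character values
  have hchi : ∀ χ : IrrCharacter G, (Fintype.card ι : ℝ) ≤ ∑ i, ‖(χ : G → ℂ) (g ^ k i)‖ ^ 2 ∧
      ((Fintype.card ι : ℝ) = ∑ i, ‖(χ : G → ℂ) (g ^ k i)‖ ^ 2 →
        ∀ i, ‖(χ : G → ℂ) (g ^ k i)‖ = 1) := by
    rintro ⟨χ, d, ρ, hρ, rfl⟩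
    have hne : ρ.character g ≠ 0 :=
      char_ne_zero ρ hρ p P P.isPGroup' hab (Sylow.not_dvd_index P) g hg
    obtain ⟨s, -, hs, hsk⟩ := SumRootsUnity.exists_multiset_pow (ρ g) hn0
      (by rw [← map_pow, hgn, map_one])
    have hk' : ∀ j : ℕ, ρ.character (g ^ j) = (s.map (fun z => z ^ j)).sum := by
      intro j
      rw [← hsk, ← map_pow, Representation.character]
    have hsum : s.sum ≠ 0 := by
      have := hk' 1
      simp only [pow_one, Multiset.map_id'] at this
      rwa [← this]
    refine SumRootsUnity.card_le_sum_sq (fun i => ‖ρ.character (g ^ k i)‖)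
      (fun i => norm_nonneg _) ?_
    simp_rw [hk']
    exact hprod s hs hsum
  -- Bessel
  have hbes : ∀ (S : Finset (IrrCharacter G)) (i : ι),
      ∑ χ ∈ S, ‖(χ : G → ℂ) (g ^ k i)‖ ^ 2 ≤ Nat.card P := by
    intro S i
    have h1 := ColumnBessel.sum_norm_sq_le S (g ^ k i)
    rw [centralizer_pow_eq hgn (hk i), hC] at h1
    exact h1
  have hcι : (0 : ℝ) < Fintype.card ι := by exact_mod_cast Fintype.card_pos
  have hS : ∀ S : Finset (IrrCharacter G), S.card ≤ Nat.card P := by
    intro S
    have h1 : (Fintype.card ι : ℝ) * S.card ≤ Fintype.card ι * Nat.card P := by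
      calc (Fintype.card ι : ℝ) * S.card = ∑ χ ∈ S, (Fintype.card ι : ℝ) := by
            rw [Finset.sum_const, nsmul_eq_mul, mul_comm]
        _ ≤ ∑ χ ∈ S, ∑ i, ‖(χ : G → ℂ) (g ^ k i)‖ ^ 2 :=
            Finset.sum_le_sum (fun χ _ => (hchi χ).1)
        _ = ∑ i, ∑ χ ∈ S, ‖(χ : G → ℂ) (g ^ k i)‖ ^ 2 := Finset.sum_comm
        _ ≤ ∑ i : ι, (Nat.card P : ℝ) := Finset.sum_le_sum (fun i _ => hbes S i)
        _ = Fintype.card ι * Nat.card P := by
            rw [Finset.sum_const, nsmul_eq_mul, Finset.card_univ]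
    exact_mod_cast le_of_mul_le_mul_left h1 hcι
  have hfin : Finite (IrrCharacter G) := Characters.Core.finite_irr
  have := Fintype.ofFinite (IrrCharacter G)
  refine ⟨?_, ?_⟩
  · rw [Nat.card_eq_fintype_card, ← Finset.card_univ]
    exact hS Finset.univ
  · intro heq
    -- equality everywhere
    have hall : ∀ χ : IrrCharacter G, (Fintype.card ι : ℝ) = ∑ i, ‖(χ : G → ℂ) (g ^ k i)‖ ^ 2 := by
      by_contra hcon
      push Not at hcon
      obtain ⟨χ0, hχ0⟩ := hcon
      have hlt : (Fintype.card ι : ℝ) * (Finset.univ : Finset (IrrCharacter G)).card <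
          Fintype.card ι * Nat.card P := by
        calc (Fintype.card ι : ℝ) * (Finset.univ : Finset (IrrCharacter G)).card
            = ∑ χ : IrrCharacter G, (Fintype.card ι : ℝ) := by
              rw [Finset.sum_const, nsmul_eq_mul, mul_comm]
          _ < ∑ χ : IrrCharacter G, ∑ i, ‖(χ : G → ℂ) (g ^ k i)‖ ^ 2 :=
              Finset.sum_lt_sum (fun χ _ => (hchi χ).1)
                ⟨χ0, Finset.mem_univ _, lt_of_le_of_ne (hchi χ0).1 hχ0⟩
          _ = ∑ i, ∑ χ : IrrCharacter G, ‖(χ : G → ℂ) (g ^ k i)‖ ^ 2 := Finset.sum_comm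
          _ ≤ ∑ i : ι, (Nat.card P : ℝ) := Finset.sum_le_sum (fun i _ => hbes _ i)
          _ = Fintype.card ι * Nat.card P := by
              rw [Finset.sum_const, nsmul_eq_mul, Finset.card_univ]
      have h2 : ((Finset.univ : Finset (IrrCharacter G)).card : ℝ) < Nat.card P :=
        lt_of_mul_lt_mul_left hlt hcι.le
      rw [Finset.card_univ, ← Nat.card_eq_fintype_card, heq] at h2
      exact lt_irrefl _ h2
    have hone : ∀ (χ : IrrCharacter G) (i : ι), ‖(χ : G → ℂ) (g ^ k i)‖ = 1 :=
      fun χ => (hchi χ).2 (hall χ)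
    -- now the quotient
    intro c hc
    by_contra hcP
    have hc1 : ((c : G) : G ⧸ (P : Subgroup G)) ≠ 1 := by
      intro h
      exact hcP ((QuotientGroup.eq_one_iff c).1 h)
    obtain ⟨d, σ, hσ, hσc⟩ := S0184.exists_irreducible_ne_one _ hc1
    have hχ : IsIrrCharacter G (σ.character ∘ (QuotientGroup.mk' (P : Subgroup G))) :=
      Characters.Core.isIrr_comp _ (QuotientGroup.mk'_surjective _) ⟨d, σ, hσ, rfl⟩
    obtain ⟨i⟩ := (inferInstance : Nonempty ι)
    have h1 := hone ⟨_, hχ⟩ i
    have hgk : QuotientGroup.mk' (P : Subgroup G) (g ^ k i) = 1 :=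
      (QuotientGroup.eq_one_iff _).2 (Subgroup.pow_mem _ hg _)
    simp only [Function.comp_apply, hgk, char_one] at h1
    have hd1 : Module.finrank ℂ (Fin d → ℂ) = 1 := by
      simpa using h1
    -- all `σ x` commute
    have hcomm : ∀ x y, σ x * σ y = σ y * σ x := by
      intro x y
      obtain ⟨v, hv0, hv⟩ := finrank_eq_one_iff'.1 hd1
      apply LinearMap.ext
      intro w
      obtain ⟨a, rfl⟩ := hv w
      obtain ⟨b, hb⟩ := hv (σ x v)
      obtain ⟨e, he⟩ := hv (σ y v)
      simp only [Module.End.mul_apply, map_smul, ← hb, ← he]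
      rw [smul_comm b e]
    -- so `σ` is trivial on the commutator subgroup
    have hker : commutator G ≤ (σ.comp (QuotientGroup.mk' (P : Subgroup G))).ker := by
      rw [commutator_def, Subgroup.commutator_le]
      intro x _ y _
      rw [MonoidHom.mem_ker]
      have h2 : ∀ x y : G, (σ.comp (QuotientGroup.mk' (P : Subgroup G))) (x * y) =
          (σ.comp (QuotientGroup.mk' (P : Subgroup G))) (y * x) := by
        intro x y
        rw [map_mul, map_mul]
        exact hcomm _ _
      rw [commutatorElement_def]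
      calc (σ.comp (QuotientGroup.mk' (P : Subgroup G))) (x * y * x⁻¹ * y⁻¹)
          = (σ.comp (QuotientGroup.mk' (P : Subgroup G))) (x * y) *
            (σ.comp (QuotientGroup.mk' (P : Subgroup G))) (x⁻¹ * y⁻¹) := by
              rw [← map_mul]; congr 1; group
        _ = 1 := by
              rw [h2 x y, ← map_mul]
              have : y * x * (x⁻¹ * y⁻¹) = 1 := by group
              rw [this, map_one]
    exact hσc (hker hc)

end Cfsg.Agent.S0861
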