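import Cfsg.Statements.S0862
import Cfsg.Agent.CharDeep.Twist

set_option autoImplicit false
open Cfsg

namespace Cfsg.Agent.S0862

open Cfsg.Agent.CharDeep.LinearChar Cfsg.Agent.CharDeep.SameChar Cfsg.Agent.CharDeep.Twist

/-- If `ρ` restricts to the irreducible character `ϑ` on `N`, then so does its restriction. -/
theorem restrict_irreducible {G : Type*} [Group G] [Finite G] (N : Subgroup G) {n : ℕ}
    (ρ : Representation ℂ G (Fin n → ℂ)) (ϑ : N → ℂ) (hϑ : Cfsg.IsIrrCharacter N ϑ)
    (h : ∀ x : N, ρ.character x = ϑ x) :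
    Representation.IsIrreducible (ρ.comp N.subtype) ∧
      ∀ x : N, detChar ϑ x = LinearMap.det (ρ x) := by
  obtain ⟨m, τ, hτ, hτc⟩ := hϑ
  obtain ⟨e, he⟩ := exists_linearEquiv τ (ρ.comp N.subtype) hτ (by
    rw [hτc]; exact funext h)
  constructor
  · rw [isIrreducible_iff] at hτ ⊢
    refine ⟨?_, fun W hW => ?_⟩
    · have := hτ.1
      exact e.symm.toEquiv.nontrivial
    · rcases hτ.2 (W.comap (e : (Fin m → ℂ) →ₗ[ℂ] (Fin n → ℂ))) (fun g v hv => by
        have := hW g (e v) hv
        rw [← he] at this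
        exact this) with h1 | h1
      · left
        rw [Submodule.eq_bot_iff]
        intro w hw
        have h2 : e.symm w ∈ (W.comap (e : (Fin m → ℂ) →ₗ[ℂ] (Fin n → ℂ))) := by
          simpa using hw
        rw [h1, Submodule.mem_bot] at h2
        simpa using h2
      · right
        rw [Submodule.eq_top_iff']
        intro w
        have h2 : e.symm w ∈ (W.comap (e : (Fin m → ℂ) →ₗ[ℂ] (Fin n → ℂ))) := by
          rw [h1]; trivial
        simpa using h2
  · intro x
    rw [← hτc, detChar_character τ hτ]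
    exact (det_eq_of_linearEquiv τ (ρ.comp N.subtype) e he x).symm

/-- Let N be a normal subgroup of the finite group G and ϑ an irreducible character of N of degree d coprime to the index of N, which is the restriction of some irreducible character of G. Let μ be a character of G of degree 1 whose restriction to N is the determinantal character of ϑ. Then there is exactly one irreducible character χ of G restricting to ϑ whose determinantal character is μ. -/
theorem result {G : Type*} [Group G] [Finite G] (N : Subgroup G) [N.Normal] (ϑ : N → ℂ) (hϑ : Cfsg.IsIrrCharacter N ϑ) (d : ℕ) (hd : ϑ 1 = d) (hcop : Nat.Coprime N.index d) (hext : ∃ η : G → ℂ, Cfsg.IsIrrCharacter G η ∧ (∀ n : N, η n = ϑ n)) (μ : G → ℂ) (hμ : Cfsg.IsCharacter G μ ∧ μ 1 = 1) (hμN : ∀ n : N, μ n = Cfsg.detChar ϑ n) : ∃! χ : G → ℂ, Cfsg.IsIrrCharacter G χ ∧ (∀ n : N, χ n = ϑ n) ∧ Cfsg.detChar χ = μ := by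
  -- the degree
  have hdeg : ∀ (n : ℕ) (ρ : Representation ℂ G (Fin n → ℂ)),
      (∀ x : N, ρ.character x = ϑ x) → n = d := by
    intro n ρ h
    have h1 := h 1
    rw [hd, Subgroup.coe_one, Representation.char_one, Module.finrank_fin_fun] at h1
    exact_mod_cast h1
  refine existsUnique_of_exists_of_unique ?_ ?_
  · obtain ⟨η, ⟨n, ρ, hρ, rfl⟩, hη⟩ := hext
    obtain rfl := hdeg n ρ hη
    obtain ⟨hirr, hdet⟩ := restrict_irreducible N ρ ϑ hϑ hη
    obtain ⟨M, hM⟩ := exists_hom_of_isCharacter hμ.1 hμ.2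
    -- the linear character by which the determinant is off
    let lam : G →* ℂˣ := M * (detHom ρ)⁻¹
    have hlam : ∀ x : N, lam x = 1 := by
      intro x
      have h1 : M (x : G) = detHom ρ x := by
        apply Units.ext
        rw [← hM, hμN, hdet]
        rfl
      show M (x : G) * (detHom ρ x)⁻¹ = 1
      rw [h1, mul_inv_cancel]
    have hpow : ∀ g, lam g ^ N.index = 1 := pow_index_eq_one N lam hlam
    have hb := Nat.gcd_eq_gcd_ab N.index n
    rw [Nat.Coprime] at hcop
    rw [hcop] at hb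
    set a := Nat.gcdA N.index n
    set b := Nat.gcdB N.index n
    have hb2 : b * (n : ℤ) = 1 - N.index * a := by push_cast at hb; linarith
    refine ⟨(twist (lam ^ b) ρ).character,
      ⟨n, twist (lam ^ b) ρ, twist_irreducible _ _ hρ, rfl⟩, ?_, ?_⟩
    · intro x
      rw [twist_character, hη]
      have : (lam ^ b) (x : G) = 1 := by
        rw [MonoidHom.zpow_apply, hlam, one_zpow]
      rw [this, Units.val_one, one_mul]
    · funext g
      rw [detChar_character _ (twist_irreducible _ _ hρ), twist_det, Module.finrank_fin_fun, hM,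
        ← detHom_apply, ← Units.val_pow_eq_pow_val, ← Units.val_mul]
      congr 1
      rw [MonoidHom.zpow_apply, ← zpow_natCast, ← zpow_mul, hb2, zpow_sub, zpow_one, zpow_mul,
        zpow_natCast, hpow, one_zpow, inv_one, mul_one]
      show M g * (detHom ρ g)⁻¹ * detHom ρ g = M g
      rw [inv_mul_cancel_right]
  · rintro χ χ' ⟨⟨n, ρ, hρ, rfl⟩, hχ, hχμ⟩ ⟨⟨n', ρ', hρ', rfl⟩, hχ', hχμ'⟩
    obtain rfl := hdeg n ρ hχ
    obtain rfl := hdeg n' ρ' hχ'
    obtain ⟨hirr, -⟩ := restrict_irreducible N ρ ϑ hϑ hχ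
    obtain ⟨e, he⟩ := exists_scalar N ρ ρ' hirr (fun x => by rw [hχ, hχ'])
    funext g
    obtain ⟨z, hz1, hz⟩ := he g
    have hρg : ρ' g = z • ((e : (Fin n' → ℂ) →ₗ[ℂ] (Fin n' → ℂ)) ∘ₗ (ρ g) ∘ₗ
        (e.symm : (Fin n' → ℂ) →ₗ[ℂ] (Fin n' → ℂ))) := by
      apply LinearMap.ext
      intro v
      have := hz (e.symm v)
      rw [e.apply_symm_apply] at this
      rw [this]
      rfl
    have hdet : LinearMap.det (ρ' g) = z ^ n' * LinearMap.det (ρ g) := by
      rw [hρg, LinearMap.det_smul, LinearMap.det_conj, Module.finrank_fin_fun]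
    have h1 : LinearMap.det (ρ' g) = LinearMap.det (ρ g) := by
      rw [← detChar_character ρ' hρ', ← detChar_character ρ hρ, hχμ, hχμ']
    have h2 : LinearMap.det (ρ g) ≠ 0 := (detHom ρ g).ne_zero
    have h3 : z ^ n' = 1 := by
      have : (z ^ n' - 1) * LinearMap.det (ρ g) = 0 := by
        rw [sub_mul, ← hdet, h1, one_mul, sub_self]
      rcases mul_eq_zero.1 this with h | h
      · exact sub_eq_zero.1 h
      · exact absurd h h2
    have h4 : z = 1 := by
      have h5 : orderOf z ∣ 1 := by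
        rw [← hcop]
        exact Nat.dvd_gcd (orderOf_dvd_of_pow_eq_one hz1) (orderOf_dvd_of_pow_eq_one h3)
      exact orderOf_eq_one_iff.1 (Nat.dvd_one.1 h5)
    show LinearMap.trace ℂ _ (ρ g) = LinearMap.trace ℂ _ (ρ' g)
    rw [hρg, h4, one_smul]
    exact (LinearMap.trace_conj' (ρ g) e).symm

end Cfsg.Agent.S0862
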