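import Cfsg.Statements.S0864
import Cfsg.Agent.CharactersDeep.LinearExt
import Mathlib.Algebra.Group.Subgroup.ZPowers.Basic
import Mathlib.Algebra.EuclideanDomain.Int
import Mathlib.RingTheory.PrincipalIdealDomain

set_option autoImplicit false
open Cfsg

namespace Cfsg.Agent.S0864

/-- Let N be a normal subgroup of the finite group G and λ a character of N of degree 1 invariant under conjugation by G. Suppose that for every prime p dividing the order of λ (in the group of functions under pointwise multiplication) there is a subgroup H containing N, of index prime to p and with the index of N in H a power of p, together with a character of H of degree 1 restricting to λ. Then λ is the restriction of a character of G of degree 1. -/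
theorem result {G : Type*} [Group G] [Finite G] (N : Subgroup G) [hN : N.Normal] (lam : N → ℂ) (hlam : Cfsg.IsCharacter N lam ∧ lam 1 = 1) (hinv : ∀ (g : G) (n : N), lam ⟨g * n * g⁻¹, hN.conj_mem (n : G) n.2 g⟩ = lam n) (hsyl : ∀ p : ℕ, p.Prime → p ∣ orderOf lam → ∃ (H : Subgroup G) (hNH : N ≤ H) (ν : H → ℂ), Nat.Coprime H.index p ∧ (∃ k : ℕ, N.relIndex H = p ^ k) ∧ Cfsg.IsCharacter H ν ∧ ν 1 = 1 ∧ ∀ n : N, ν ⟨(n : G), hNH n.2⟩ = lam n) : ∃ μ : G → ℂ, Cfsg.IsCharacter G μ ∧ μ 1 = 1 ∧ ∀ n : N, μ n = lam n := by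
  classical
  obtain ⟨φ, hφ⟩ := Cfsg.Agent.CharactersDeep.LinearExt.exists_hom_of_isCharacter hlam.1 hlam.2
  let K : AddSubgroup ℤ :=
    { carrier := {k | ∃ ψ : G →* ℂˣ, ∀ n : N, ψ n = φ n ^ k}
      zero_mem' := ⟨1, fun n => by simp⟩
      add_mem' := by
        rintro a b ⟨ψ, hψ⟩ ⟨ψ', hψ'⟩
        exact ⟨ψ * ψ', fun n => by rw [MonoidHom.mul_apply, hψ, hψ', zpow_add]⟩
      neg_mem' := by
        rintro a ⟨ψ, hψ⟩
        exact ⟨ψ⁻¹, fun n => by rw [MonoidHom.inv_apply, hψ, zpow_neg]⟩ }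
  obtain ⟨d, hd⟩ := Int.subgroup_cyclic K
  have hdvd : ∀ k ∈ K, d ∣ k := by
    intro k hk
    rw [hd, AddSubgroup.mem_closure_singleton] at hk
    obtain ⟨m, hm⟩ := hk
    exact ⟨m, by rw [← hm, smul_eq_mul, mul_comm]⟩
  have hdK : d ∈ K := by
    rw [hd]
    exact AddSubgroup.subset_closure (Set.mem_singleton d)
  have hone : d.natAbs = 1 := by
    by_contra hne
    obtain ⟨p, hp, hpd⟩ := Nat.exists_prime_and_dvd hne
    have hpd' : (p : ℤ) ∣ d := Int.natCast_dvd.mpr hpd
    have hord : ((orderOf lam : ℕ) : ℤ) ∈ K := by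
      refine ⟨1, fun n => ?_⟩
      have h1 : lam n ^ orderOf lam = 1 := by
        have := congrFun (pow_orderOf_eq_one lam) n
        simpa using this
      rw [zpow_natCast, MonoidHom.one_apply]
      apply Units.ext
      rw [Units.val_pow_eq_pow_val, hφ, h1, Units.val_one]
    have hpo : p ∣ orderOf lam := by
      have := hpd'.trans (hdvd _ hord)
      exact_mod_cast this
    obtain ⟨H, hNH, ν, hcop, -, hν, hν1, hres⟩ := hsyl p hp hpo
    obtain ⟨ν', hν'⟩ := Cfsg.Agent.CharactersDeep.LinearExt.exists_hom_of_isCharacter hν hν1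
    have hres' : ∀ n : N, ν' ⟨(n : G), hNH n.2⟩ = φ n := by
      intro n
      apply Units.ext
      rw [hν', hres, hφ]
    have hidx : ((H.index : ℕ) : ℤ) ∈ K := by
      refine ⟨MonoidHom.transfer ν', fun n => ?_⟩
      rw [Cfsg.Agent.CharactersDeep.LinearExt.transfer_apply_of_invariant N H hNH ν' ?_ n n.2,
        hres', zpow_natCast]
      intro g m hm hgm
      have h1 := hres' ⟨m, hm⟩
      have h2 := hres' ⟨g * m * g⁻¹, hgm⟩
      have h3 : φ ⟨g * m * g⁻¹, hgm⟩ = φ ⟨m, hm⟩ := by
        apply Units.ext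
        rw [hφ, hφ]
        exact hinv g ⟨m, hm⟩
      exact h2.trans (h3.trans h1.symm)
    have hpi : p ∣ H.index := by
      have := hpd'.trans (hdvd _ hidx)
      exact_mod_cast this
    have := Nat.dvd_gcd hpi (dvd_refl p)
    rw [hcop] at this
    exact hp.one_lt.ne' (Nat.dvd_one.mp this)
  have h1K : (1 : ℤ) ∈ K := by
    rcases Int.natAbs_eq d with h | h
    · rw [hone] at h
      simpa [h] using hdK
    · rw [hone] at h
      have := K.neg_mem hdK
      simpa [h] using this
  obtain ⟨ψ, hψ⟩ := h1K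
  refine ⟨fun g => (ψ g : ℂ), Cfsg.Agent.CharactersDeep.LinearExt.isCharacter_of_hom ψ, by simp, ?_⟩
  intro n
  change ((ψ (n : G) : ℂˣ) : ℂ) = lam n
  rw [hψ n, zpow_one, hφ]

end Cfsg.Agent.S0864
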