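import Cfsg.Statements.S0865
import Cfsg.Agent.CharDeep.TransferExt
import Cfsg.Agent.CharDeep.LinearChar

set_option autoImplicit false
open Cfsg

namespace Cfsg.Agent.S0865

open Cfsg.Agent.CharDeep.TransferExt Cfsg.Agent.CharDeep.LinearChar

/-- A linear character trivial on a normal subgroup of finite index, killed by an exponent
coprime to the index, is trivial. -/
theorem eq_one_of_coprime {G : Type*} [Group G] (N : Subgroup G) [N.Normal]
    (ν : G →* ℂˣ) (h1 : ∀ n ∈ N, ν n = 1) (m : ℕ) (hm : ∀ g, ν g ^ m = 1)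
    (hcop : Nat.Coprime N.index m) (g : G) : ν g = 1 := by
  have h2 : ν g ^ N.index = 1 := by
    rw [← map_pow]
    exact h1 _ (Subgroup.pow_index_mem N g)
  have h3 : orderOf (ν g) ∣ 1 := by
    rw [← hcop]
    exact Nat.dvd_gcd (orderOf_dvd_of_pow_eq_one h2) (orderOf_dvd_of_pow_eq_one (hm g))
  exact orderOf_eq_one_iff.1 (Nat.dvd_one.1 h3)

/-- Let N be a normal subgroup of the finite group G and λ a character of N of degree 1, invariant under conjugation by G, whose order (under pointwise multiplication) is coprime to the index of N. Then there is a character μ of G of degree 1 restricting to λ with the same order as λ, and μ is the only degree-1 character of G restricting to λ whose order is coprime to the index of N. -/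
theorem result {G : Type*} [Group G] [Finite G] (N : Subgroup G) [hN : N.Normal] (lam : N → ℂ) (hlam : Cfsg.IsCharacter N lam ∧ lam 1 = 1) (hinv : ∀ (g : G) (n : N), lam ⟨g * n * g⁻¹, hN.conj_mem (n : G) n.2 g⟩ = lam n) (hcop : Nat.Coprime N.index (orderOf lam)) : ∃ μ : G → ℂ, (Cfsg.IsCharacter G μ ∧ μ 1 = 1 ∧ (∀ n : N, μ n = lam n) ∧ orderOf μ = orderOf lam) ∧ ∀ μ' : G → ℂ, Cfsg.IsCharacter G μ' ∧ μ' 1 = 1 → (∀ n : N, μ' n = lam n) → Nat.Coprime N.index (orderOf μ') → μ' = μ := by
  obtain ⟨f, hf⟩ := exists_hom_of_isCharacter hlam.1 hlam.2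
  have hm : ∀ n, f n ^ orderOf lam = 1 := by
    intro n
    have h1 : lam ^ orderOf lam = 1 := pow_orderOf_eq_one lam
    have h2 := congrFun h1 n
    apply Units.ext
    rw [Units.val_pow_eq_pow_val, ← hf n]
    simpa using h2
  obtain ⟨ψ, hψ1, hψ2⟩ := exists_extension_of_coprime N f
    (fun g n => Units.ext (by rw [← hf, ← hf]; exact hinv g n)) (orderOf lam) hm hcop
  have hres : ∀ n : N, (fun g => (ψ g : ℂ)) (n : G) = lam n := by
    intro n
    show (ψ (n : G) : ℂ) = lam n
    rw [hψ1 n, hf n]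
  have hord : orderOf (fun g => (ψ g : ℂ)) = orderOf lam := by
    apply Nat.dvd_antisymm
    · apply orderOf_dvd_of_pow_eq_one
      ext g
      show (ψ g : ℂ) ^ orderOf lam = 1
      rw [← Units.val_pow_eq_pow_val, hψ2 g, Units.val_one]
    · apply orderOf_dvd_of_pow_eq_one
      ext n
      have h1 := congrFun (pow_orderOf_eq_one (fun g => (ψ g : ℂ))) (n : G)
      have h2 : (fun g => (ψ g : ℂ)) (n : G) ^ orderOf (fun g => (ψ g : ℂ)) = 1 := h1
      rw [hres n] at h2
      exact h2
  refine ⟨fun g => (ψ g : ℂ), ⟨isCharacter_of_hom ψ, by simp, hres, hord⟩, ?_⟩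
  rintro μ' ⟨hμ', hμ'1⟩ hμ'res hμ'cop
  obtain ⟨f', hf'⟩ := exists_hom_of_isCharacter hμ' hμ'1
  have key : ∀ g, (f' / ψ) g = 1 := by
    apply eq_one_of_coprime N (f' / ψ) (m := orderOf μ' * orderOf lam)
    · intro n hn
      rw [MonoidHom.div_apply, div_eq_one]
      apply Units.ext
      rw [← hf', hμ'res ⟨n, hn⟩]
      exact (hres ⟨n, hn⟩).symm
    · intro g
      rw [MonoidHom.div_apply, div_pow, pow_mul, mul_comm, pow_mul, hψ2 g, one_pow, div_one]
      have h1 : (f' g) ^ orderOf μ' = 1 := by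
        apply Units.ext
        rw [Units.val_pow_eq_pow_val, ← hf']
        exact congrFun (pow_orderOf_eq_one μ') g
      rw [h1, one_pow]
    · exact Nat.Coprime.mul_right hμ'cop hcop
  ext g
  rw [hf']
  have := key g
  rw [MonoidHom.div_apply, div_eq_one] at this
  rw [this]

end Cfsg.Agent.S0865
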