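import Cfsg.Statements.S0866
import Cfsg.Agent.CharDeep.ProjExt

set_option autoImplicit false
open Cfsg

namespace Cfsg.Agent.S0866

open Cfsg.Agent.CharDeep Cfsg.Agent.CharDeep.IrrEquiv Cfsg.Agent.CharDeep.ProjExt

/-- Let N be a normal subgroup of the finite group G and ϑ an irreducible character of N, invariant under conjugation by G, of degree d coprime to the index of N. Then ϑ is the restriction of an irreducible character of G if and only if the determinantal character of ϑ is the restriction of a character of G of degree 1. -/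
theorem result {G : Type*} [Group G] [Finite G] (N : Subgroup G) [hN : N.Normal] (ϑ : N → ℂ) (hϑ : Cfsg.IsIrrCharacter N ϑ) (hinv : ∀ (g : G) (n : N), ϑ ⟨g * n * g⁻¹, hN.conj_mem (n : G) n.2 g⟩ = ϑ n) (d : ℕ) (hd : ϑ 1 = d) (hcop : Nat.Coprime N.index d) : (∃ χ : G → ℂ, Cfsg.IsIrrCharacter G χ ∧ (∀ n : N, χ n = ϑ n)) ↔ ∃ μ : G → ℂ, Cfsg.IsCharacter G μ ∧ μ 1 = 1 ∧ ∀ n : N, μ n = Cfsg.detChar ϑ n := by
  obtain ⟨k, ρ, hρ, hρϑ⟩ := hϑ
  have hdet := detChar_apply ρ hρ hρϑ ⟨k, ρ, hρϑ⟩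
  constructor
  · rintro ⟨χ, ⟨m, R, hR, hRχ⟩, hχϑ⟩
    refine ⟨fun g => (detHom R g : ℂ), LinearChar.isCharacter_of_hom _, by simp, fun n => ?_⟩
    show (detHom R (n : G) : ℂ) = _
    rw [hdet n, detHom_apply]
    exact (det_eq_of_character_eq ρ (R.comp N.subtype) hρ (by
      rw [hρϑ]
      ext n
      rw [← hχϑ n, ← hRχ]
      rfl) n).symm
  · rintro ⟨μ, hμ, hμ1, hμϑ⟩
    obtain ⟨f, hf⟩ := LinearChar.exists_hom_of_isCharacter hμ hμ1
    have hkd : Module.finrank ℂ (Fin k → ℂ) = d := by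
      rw [← hρϑ, Representation.char_one] at hd
      exact_mod_cast hd
    obtain ⟨R, hR, -⟩ := exists_extension_of_det ρ hρ (fun g n => by
      rw [hρϑ]
      exact hinv g n) (by rw [hkd]; exact hcop) f (fun n => by
      rw [← hf, hμϑ n, hdet n])
    refine ⟨R.character, ⟨k, R, ?_, rfl⟩, fun n => ?_⟩
    · apply LinearChar.isIrreducible_of_comp N.subtype R
      have : (R.comp N.subtype : Representation ℂ N (Fin k → ℂ)) = ρ := by
        ext1 n
        exact hR n
      rw [this]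
      exact hρ
    · rw [← hρϑ]
      show LinearMap.trace ℂ _ (R n) = LinearMap.trace ℂ _ (ρ n)
      rw [hR n]

end Cfsg.Agent.S0866
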