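import Cfsg.Statements.S0867
import Cfsg.Agent.CharactersDeep.ExtUnique
import Cfsg.Agent.CharactersDeep.ExtGroup
import Cfsg.Agent.CharDeep.LinearChar
import Cfsg.Agent.S0865

set_option autoImplicit false
open Cfsg

namespace Cfsg.Agent.S0867

open Cfsg.Agent.CharactersDeep.ExtUnique Cfsg.Agent.CharDeep.LinearChar
open Cfsg.Agent.CharactersDeep.ExtGroup

/-- Let N be a normal subgroup of the finite group G and ϑ an irreducible character of N of degree d, invariant under conjugation by G, such that the index of N is coprime to the product of d and the determinantal order of ϑ. Then there is an irreducible character χ of G restricting to ϑ whose determinantal order equals that of ϑ, and χ is the only irreducible character of G restricting to ϑ whose determinantal order is coprime to the index of N. -/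
theorem result {G : Type*} [Group G] [Finite G] (N : Subgroup G) [hN : N.Normal] (ϑ : N → ℂ) (hϑ : Cfsg.IsIrrCharacter N ϑ) (hinv : ∀ (g : G) (n : N), ϑ ⟨g * n * g⁻¹, hN.conj_mem (n : G) n.2 g⟩ = ϑ n) (d : ℕ) (hd : ϑ 1 = d) (hcop : Nat.Coprime N.index (Cfsg.detOrder ϑ * d)) : ∃ χ : G → ℂ, (Cfsg.IsIrrCharacter G χ ∧ (∀ n : N, χ n = ϑ n) ∧ Cfsg.detOrder χ = Cfsg.detOrder ϑ) ∧ ∀ χ' : G → ℂ, Cfsg.IsIrrCharacter G χ' → (∀ n : N, χ' n = ϑ n) → Nat.Coprime N.index (Cfsg.detOrder χ') → χ' = χ := by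
  have hcop1 : Nat.Coprime N.index (detOrder ϑ) := Nat.Coprime.coprime_mul_right_right hcop
  have hcop2 : Nat.Coprime N.index d := Nat.Coprime.coprime_mul_left_right hcop
  -- the determinantal character of ϑ
  obtain ⟨δ, hδ⟩ := exists_hom_detChar hϑ
  have hdetchar : IsCharacter N (detChar ϑ) ∧ detChar ϑ 1 = 1 := by
    have : detChar ϑ = fun n => (δ n : ℂ) := funext hδ
    rw [this]
    exact ⟨isCharacter_of_hom δ, by simp⟩
  have hdetinv : ∀ (g : G) (n : N),
      detChar ϑ ⟨g * n * g⁻¹, hN.conj_mem (n : G) n.2 g⟩ = detChar ϑ n := by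
    intro g n
    obtain ⟨a, ρ, hρ, rfl⟩ := hϑ
    let c : N →* N := (MulAut.conjNormal g : MulAut N).toMonoidHom
    have hc : ∀ n, c n = ⟨g * n * g⁻¹, hN.conj_mem (n : G) n.2 g⟩ := fun n => by
      apply Subtype.ext
      simp [c]
    obtain ⟨T, hT⟩ := exists_linearEquiv_of_character_eq ρ (ρ.comp c) hρ
      (funext fun n => by
        show ρ.character n = ρ.character (c n)
        rw [hc, hinv])
    rw [detChar_of_rep ρ hρ, ← hc]
    show LinearMap.det (ρ (c n)) = LinearMap.det (ρ n)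
    have e2 : ρ (c n) = T.conj (ρ n) := by
      refine LinearMap.ext fun v => ?_
      obtain ⟨w, rfl⟩ := T.surjective v
      have := hT n w
      simp only [LinearEquiv.conj_apply_apply, LinearEquiv.symm_apply_apply]
      rw [this]
      rfl
    rw [e2, LinearEquiv.conj_apply, LinearMap.comp_assoc]
    exact LinearMap.det_conj _ _
  obtain ⟨μ, ⟨hμ, hμ1, hμres, hμord⟩, hμuniq⟩ :=
    Cfsg.Agent.S0865.result N (detChar ϑ) hdetchar hdetinv hcop1
  obtain ⟨μ', hμ'⟩ := exists_hom_of_isCharacter hμ hμ1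
  -- existence of some extension
  obtain ⟨χ₀, hχ₀, hres₀⟩ := extends_of_local N ϑ hϑ hinv d hd (by
    intro p hp
    by_cases hpN : p ∣ N.index
    · right
      refine ⟨?_, μ, hμ, hμ1, hμres⟩
      rw [Nat.coprime_comm, hp.coprime_iff_not_dvd]
      intro h
      have := Nat.dvd_gcd hpN h
      rw [hcop2] at this
      exact hp.one_lt.ne' (Nat.dvd_one.1 this)
    · left
      refine ⟨N, le_rfl, ϑ, ?_, hϑ, fun n => rfl⟩
      rw [Nat.coprime_comm, hp.coprime_iff_not_dvd]
      exact hpN)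
  have hd₀ : χ₀ 1 = d := by
    have := hres₀ 1
    rw [hd] at this
    exact this
  obtain ⟨δ₀, hδ₀⟩ := exists_hom_detChar hχ₀
  -- the twist making the determinant equal to μ
  have hb := Nat.gcd_eq_gcd_ab N.index d
  rw [hcop2] at hb
  set a := Nat.gcdA N.index d
  set b := Nat.gcdB N.index d
  let ν : G →* ℂˣ :=
    { toFun := fun g => (μ' / δ₀) g ^ b
      map_one' := by rw [map_one, one_zpow]
      map_mul' := fun g h => by rw [map_mul, mul_zpow] }
  have hν : ∀ g, ν g = (μ' / δ₀) g ^ b := fun g => rfl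
  have hνres : ∀ n ∈ N, (μ' / δ₀) n = 1 := by
    intro n hn
    rw [MonoidHom.div_apply, div_eq_one]
    apply Units.ext
    rw [← hμ', ← hδ₀, hμres ⟨n, hn⟩]
    exact (detChar_restrict N hχ₀ hϑ hres₀ ⟨n, hn⟩).symm
  have hνidx : ∀ g, (μ' / δ₀) g ^ N.index = 1 := by
    intro g
    rw [← map_pow]
    exact hνres _ (Subgroup.pow_index_mem N g)
  have hνd : ∀ g, ν g ^ d = (μ' / δ₀) g := by
    intro g
    rw [hν, ← zpow_natCast, ← zpow_mul]
    have h1 : b * (d : ℤ) = 1 - N.index * a := by push_cast at hb; linarith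
    rw [h1, zpow_sub, zpow_one, zpow_mul, zpow_natCast, hνidx, one_zpow, inv_one, mul_one]
  have hχ : IsIrrCharacter G (fun g => χ₀ g * ν g) := isIrr_mul_hom hχ₀ ν
  have hχres : ∀ n : N, (fun g => χ₀ g * (ν g : ℂ)) (n : G) = ϑ n := by
    intro n
    show χ₀ n * ν n = ϑ n
    rw [hν, hνres _ n.2, hres₀]
    simp
  have hdetχ : detChar (fun g => χ₀ g * (ν g : ℂ)) = μ := by
    rw [detChar_mul_hom hχ₀ hd₀]
    funext g
    rw [← Units.val_pow_eq_pow_val, hνd, hδ₀, hμ', MonoidHom.div_apply, ← Units.val_mul]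
    congr 1
    rw [mul_div_cancel]
  refine ⟨fun g => χ₀ g * ν g, ⟨hχ, hχres, ?_⟩, ?_⟩
  · show orderOf (detChar (fun g => χ₀ g * (ν g : ℂ))) = orderOf (detChar ϑ)
    rw [hdetχ, hμord]
  · intro χ' hχ' hres' hcop'
    obtain ⟨β, hβ1, hβ2⟩ := exists_hom_mul_of_restrict_eq N ⟨_, hχ.choose_spec.choose, hχ.choose_spec.choose_spec.2⟩
      ⟨_, hχ'.choose_spec.choose, hχ'.choose_spec.choose_spec.2⟩ hϑ hχres hres'
    have hχ'eq : χ' = fun g => (fun g => χ₀ g * (ν g : ℂ)) g * β g := funext hβ2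
    have hχ1 : (fun g => χ₀ g * (ν g : ℂ)) 1 = d := by
      show χ₀ 1 * (ν 1 : ℂ) = d
      rw [map_one, Units.val_one, mul_one, hd₀]
    have hdet' : detChar χ' = fun g => μ g * (β g : ℂ) ^ d := by
      rw [hχ'eq, detChar_mul_hom hχ hχ1, hdetχ]
    obtain ⟨δ', hδ'⟩ := exists_hom_detChar hχ'
    have hdet'' : detChar χ' = μ := by
      apply hμuniq
      · have : detChar χ' = fun n => (δ' n : ℂ) := funext hδ'
        rw [this]
        exact ⟨isCharacter_of_hom δ', by simp⟩
      · intro n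
        exact detChar_restrict N hχ' hϑ hres' n
      · exact hcop'
    have hβd : ∀ g, β g ^ d = 1 := by
      intro g
      have h1 : μ g * (β g : ℂ) ^ d = μ g := (congrFun hdet' g).symm.trans (congrFun hdet'' g)
      rw [hμ', ← Units.val_pow_eq_pow_val, ← Units.val_mul, Units.val_inj] at h1
      exact mul_eq_left.1 h1
    have hβidx : ∀ g, β g ^ N.index = 1 := by
      intro g
      rw [← map_pow]
      exact hβ1 _ (Subgroup.pow_index_mem N g)
    rw [hχ'eq]
    funext g
    have h3 : orderOf (β g) ∣ 1 := by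
      rw [← hcop2]
      exact Nat.dvd_gcd (orderOf_dvd_of_pow_eq_one (hβidx g)) (orderOf_dvd_of_pow_eq_one (hβd g))
    have h4 : β g = 1 := orderOf_eq_one_iff.1 (Nat.dvd_one.1 h3)
    rw [h4, Units.val_one, mul_one]

end Cfsg.Agent.S0867
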