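import Cfsg.Statements.S0887
import Cfsg.Agent.CharactersDeep.Mult
import Cfsg.Agent.Characters.Core

set_option autoImplicit false
open Cfsg

namespace Cfsg.Agent.S0887

/-- Let N be a normal subgroup of the finite group G, χ an irreducible character of G and ϑ an irreducible character of N having nonzero inner product with the restriction of χ. If χ 1 = c and ϑ 1 = d as natural numbers, then d divides c and c / d divides the index of N. -/
theorem result {G : Type*} [Group G] [Fintype G] (N : Subgroup G) [N.Normal] [Fintype N] (χ : G → ℂ) (hχ : Cfsg.IsIrrCharacter G χ) (ϑ : N → ℂ) (hϑ : Cfsg.IsIrrCharacter N ϑ) (hcon : Cfsg.classInner (fun n : N => χ n) ϑ ≠ 0) (c d : ℕ) (hc : χ 1 = c) (hd : ϑ 1 = d) : d ∣ c ∧ c / d ∣ N.index := by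
  obtain ⟨a, σ, hσ, rfl⟩ := hχ
  obtain ⟨b, ρ, hρ, rfl⟩ := hϑ
  have hca : c = Module.finrank ℂ (Fin a → ℂ) := by
    have := hc.symm
    rw [Representation.char_one] at this
    exact_mod_cast this
  have hdb : d = Module.finrank ℂ (Fin b → ℂ) := by
    have := hd.symm
    rw [Representation.char_one] at this
    exact_mod_cast this
  rw [hca, hdb]
  refine CharactersDeep.Mult.degree_ratio ρ hρ σ hσ ?_
  by_contra hne
  push Not at hne
  apply hcon
  -- the inner product is zero: classInner (σ|N) ρ = finrank Hom
  have hinv : Invertible (Nat.card N : ℂ) :=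
    invertibleOfNonzero (Nat.cast_ne_zero.2 Nat.card_pos.ne')
  have h1 := Representation.card_inv_mul_sum_char_mul_char_eq_finrank ρ
    (σ.comp N.subtype : Representation ℂ N (Fin a → ℂ))
  rw [← (CharactersDeep.Mult.multEquiv ρ σ).finrank_eq] at h1
  have h2 : (CharactersDeep.Mult.mult ρ σ).toSubmodule = ⊥ := by
    rw [Submodule.eq_bot_iff]
    exact hne
  rw [h2, finrank_bot, Nat.cast_zero] at h1
  rw [← h1]
  unfold Cfsg.classInner
  congr 1
  refine Finset.sum_congr rfl fun n _ => ?_
  congr 1
  exact (Characters.Core.isCharacter_apply_inv ⟨b, ρ, rfl⟩ n).symm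

end Cfsg.Agent.S0887
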