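import Cfsg.Statements.S0890
import Cfsg.Agent.CharactersDeep.MaxInduced
import Cfsg.Agent.CharactersDeep.MaxSection

set_option autoImplicit false
open Cfsg

namespace Cfsg.Agent.S0890

open Cfsg.Agent.Characters.Core Cfsg.Agent.CharactersDeep.MaxInduced
  Cfsg.Agent.CharactersDeep.MaxSection

/-- Let L ≤ H < G with L normal in G, H a maximal subgroup and G / L solvable. Let ϑ be an irreducible character of H whose restriction to L is irreducible and whose induction χ to G is irreducible. Then there is a normal subgroup M of G containing L such that the restriction of χ to M is not a natural-number multiple of a single irreducible character of M. -/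
theorem result {G : Type*} [Group G] [Fintype G] (L H : Subgroup G) [L.Normal] (hLH : L ≤ H) (hmax : IsCoatom H) (hsolv : Group.IsSolvable (G ⧸ L)) (ϑ : H → ℂ) (hϑ : Cfsg.IsIrrCharacter H ϑ) (hϑL : Cfsg.IsIrrCharacter L (fun x : L => ϑ ⟨(x : G), hLH x.2⟩)) (hind : Cfsg.IsIrrCharacter G (Cfsg.indFun H ϑ)) : ∃ M : Subgroup G, M.Normal ∧ L ≤ M ∧ ¬ ∃ (φ : M → ℂ) (e : ℕ), Cfsg.IsIrrCharacter M φ ∧ (fun m : M => Cfsg.indFun H ϑ m) = (e : ℂ) • φ := by
  classical
  by_contra hcon
  push Not at hcon
  set K : Subgroup G := H.normalCore with hKdef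
  have hK : K.Normal := inferInstance
  have hKH : K ≤ H := H.normalCore_le
  have hLK : L ≤ K := Subgroup.normal_le_normalCore.2 hLH
  -- restriction to intermediate subgroups
  have hirrC : ∀ C : Subgroup G, ∀ (_ : L ≤ C) (hCH : C ≤ H),
      IsIrrCharacter C (fun c : C => ϑ ⟨c, hCH c.2⟩) := by
    intro C hLC hCH
    have h1 : IsCharacter C (fun c : C => ϑ ⟨c, hCH c.2⟩) :=
      isCharacter_comp (Subgroup.inclusion hCH) (isIrr_isCharacter hϑ)
    exact isIrr_of_comp (Subgroup.inclusion hLC) h1 hϑL
  have hsumC : ∀ C : Subgroup G, K ≤ C → C ≤ H →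
      sumSq C (extendByZero H ϑ) = Nat.card C := by
    intro C hKC hCH
    apply sumSq_of_irr
    have h1 : (fun x : C => extendByZero H ϑ x) = fun c : C => ϑ ⟨c, hCH c.2⟩ := by
      funext x
      exact extendByZero_of_mem H ϑ (hCH x.2)
    rw [h1]
    exact hirrC C (hLK.trans hKC) hCH
  -- invariance
  obtain ⟨φ, e, hφ, he⟩ := hcon K hK hLK
  have hinv := invariant_of_homogeneous K H hKH ϑ (hirrC K hLK hKH) φ hφ e he
  -- the sections
  have hsolvK : Group.IsSolvable (G ⧸ K) := by
    let f : G ⧸ L →* G ⧸ K := QuotientGroup.map L K (MonoidHom.id G) (by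
      rw [Subgroup.comap_id]; exact hLK)
    have hf : Function.Surjective f := by
      intro x
      obtain ⟨g, rfl⟩ := QuotientGroup.mk_surjective x
      exact ⟨(g : G ⧸ L), rfl⟩
    exact solvable_of_surjective hf
  obtain ⟨N, hN, hKN, hNK, hNH, hNinf, hcases⟩ := exists_section K H hKH hmax
    (fun X hX hXH => Subgroup.normal_le_normalCore.2 hXH) hsolvK
  rcases hcases with hNtop | ⟨M, hM, hNM, hcomm, hcop⟩
  · -- `N = ⊤`
    have h1 := sumSq_indFun N K H hNH hNinf ϑ hinv (hsumC K le_rfl hKH)
    rw [hNtop, sumSq_top_irr hind, Subgroup.card_top] at h1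
    have hG0 : (Nat.card G : ℝ) ≠ 0 := Nat.cast_ne_zero.2 Nat.card_pos.ne'
    have h2 : (H.index : ℝ) = 1 := by
      have : (1 : ℝ) * Nat.card G = H.index * Nat.card G := by rw [one_mul]; exact h1
      exact (mul_right_cancel₀ hG0 this).symm
    have h3 : H.index = 1 := by exact_mod_cast h2
    exact hmax.1 (Subgroup.index_eq_one.1 h3)
  · obtain ⟨η, f, hη, hf⟩ := hcon M hM (hLK.trans (hKN.trans hNM.le))
    have hMH : M ⊔ H = ⊤ := by
      rw [eq_top_iff, ← hNH]
      exact sup_le_sup_right hNM.le H
    let ϑ' : (H.subgroupOf M) → ℂ := fun j => ϑ ⟨(j : M), Subgroup.mem_subgroupOf.1 j.2⟩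
    have hres : indFun (H.subgroupOf M) ϑ' = (f : ℂ) • η := by
      rw [← hf]
      funext m
      exact (indFun_restrict M H hMH ϑ (isIrr_isClassFunction hϑ) m).symm
    have hext : ∀ x : M, extendByZero (H.subgroupOf M) ϑ' x = extendByZero H ϑ (x : G) := by
      intro x
      by_cases hx : (x : G) ∈ H
      · rw [extendByZero_of_mem H ϑ hx,
          extendByZero_of_mem (H.subgroupOf M) ϑ' (Subgroup.mem_subgroupOf.2 hx)]
      · rw [extendByZero_of_notMem H ϑ hx,
          extendByZero_of_notMem (H.subgroupOf M) ϑ' (fun h => hx (Subgroup.mem_subgroupOf.1 h))]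
    have hJn : (H.subgroupOf M).Normal := by
      refine normal_of_homogeneous (N.subgroupOf M) (K.subgroupOf M) (H.subgroupOf M)
        ?_ ?_ ?_ ?_ ϑ' ?_ ?_ η hη f hres
      · -- sup
        rw [eq_top_iff]
        intro m _
        have hm : (m : G) ∈ N ⊔ H := by rw [hNH]; exact Subgroup.mem_top _
        obtain ⟨z, hz, x, hx, hzx⟩ := Subgroup.mem_sup_of_normal_left.1 hm
        have hzM : z ∈ M := hNM.le hz
        have hxM : x ∈ M := by
          have := M.mul_mem (M.inv_mem hzM) m.2
          rwa [← hzx, inv_mul_cancel_left] at this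
        have : m = (⟨z, hzM⟩ : M) * ⟨x, hxM⟩ := Subtype.ext hzx.symm
        rw [this]
        exact Subgroup.mul_mem_sup (Subgroup.mem_subgroupOf.2 hz) (Subgroup.mem_subgroupOf.2 hx)
      · -- inf
        rw [← hNinf]
        rfl
      · -- commutators
        intro x y
        exact Subgroup.mem_subgroupOf.2 (hcomm x x.2 y y.2)
      · -- coprime
        have h1 : (H.subgroupOf M).index = H.index := by
          have h2 := card_mul_card_eq M (M ⊓ H) H hMH rfl
          have e1 : Nat.card (H.subgroupOf M) = Nat.card (M ⊓ H : Subgroup G) := by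
            rw [← Subgroup.inf_subgroupOf_left]
            exact Nat.card_congr (Subgroup.subgroupOfEquivOfLe inf_le_left).toEquiv
          have h3 := Subgroup.index_mul_card (H.subgroupOf M)
          have h4 := Subgroup.index_mul_card H
          rw [← e1, ← h3, ← h4] at h2
          have hpos : 0 < Nat.card (H.subgroupOf M) * Nat.card H :=
            Nat.mul_pos Nat.card_pos Nat.card_pos
          refine Nat.eq_of_mul_eq_mul_right hpos ?_
          linarith
        rw [h1]
        exact hcop
      · intro C hKC hCJ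
        have hCirr : IsIrrCharacter C (fun c : C => extendByZero (H.subgroupOf M) ϑ' c) := by
          have hCH : ∀ c : C, ((c : M) : G) ∈ H := fun c => Subgroup.mem_subgroupOf.1 (hCJ c.2)
          let ι : C →* H :=
            { toFun := fun c => ⟨((c : M) : G), hCH c⟩
              map_one' := rfl
              map_mul' := fun _ _ => rfl }
          have h1 : (fun c : C => extendByZero (H.subgroupOf M) ϑ' c) = ϑ ∘ ι := by
            funext c
            rw [hext]
            exact extendByZero_of_mem H ϑ (hCH c)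
          rw [h1]
          have hLM : ∀ x : L, (x : G) ∈ M := fun x => hNM.le (hKN (hLK x.2))
          let κ : L →* C :=
            { toFun := fun x => ⟨⟨(x : G), hLM x⟩, hKC (Subgroup.mem_subgroupOf.2 (hLK x.2))⟩
              map_one' := rfl
              map_mul' := fun _ _ => rfl }
          exact isIrr_of_comp κ (isCharacter_comp ι (isIrr_isCharacter hϑ)) hϑL
        exact sumSq_of_irr C _ hCirr
      · intro g k hk
        rw [hext, hext]
        exact hinv g k (Subgroup.mem_subgroupOf.1 hk)
    -- now `M ⊓ H` is normal in `G`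
    have hJ : (M ⊓ H).Normal := by
      refine normal_of_sup M H _ hMH ?_ ?_
      · rintro z hz j ⟨hj1, hj2⟩
        have h1 := hJn.conj_mem ⟨j, hj1⟩ (Subgroup.mem_subgroupOf.2 hj2) ⟨z, hz⟩
        exact ⟨M.mul_mem (M.mul_mem hz hj1) (M.inv_mem hz), Subgroup.mem_subgroupOf.1 h1⟩
      · rintro h hh j ⟨hj1, hj2⟩
        exact ⟨hM.conj_mem j hj1 h, H.mul_mem (H.mul_mem hh hj2) (H.inv_mem hh)⟩
    have hJK : M ⊓ H ≤ K := Subgroup.normal_le_normalCore.2 inf_le_right
    exact hNM.ne (le_antisymm hNM.le (le_of_inf_le N H M hNH hNM.le (hJK.trans hKN)))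

end Cfsg.Agent.S0890
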