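import Cfsg.Statements.S0891
import Cfsg.Agent.CharactersDeep.DoubleCover

set_option autoImplicit false
open Cfsg

namespace Cfsg.Agent.S0891

open Equiv Cfsg.Agent.CharactersDeep.DoubleCover
open scoped commutatorElement

/-- The double cover of the alternating group. -/
abbrev Gam (n : ℕ) : Subgroup (cover n) := (alternatingGroup (Fin n)).comap (proj n)

theorem finite_cover (n : ℕ) : Finite (cover n) := by
  have h1 : Finite (E n) := DFunLike.finite _
  exact inferInstance

theorem mul_t' {n : ℕ} {x : (E n)ˣ} {σ : Perm (Fin n)} (h : (x, σ) ∈ cover n)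
    (hσ : Perm.sign σ = 1) (i j i' j' : Fin n) (hi : σ i = i') (hj : σ j = j') :
    (x : E n) * t i j = t i' j' * x := by
  rw [mul_t h, hσ, one_smul, hi, hj]

theorem t_anticomm {n : ℕ} {i j k l : Fin n} (hij : i ≠ j) (hik : i ≠ k) (hil : i ≠ l)
    (hjk : j ≠ k) (hjl : j ≠ l) : (t i j : E n) * t k l = -(t k l * t i j) := by
  have h := mul_t (tu_mem_cover i j hij) k l
  rw [tu_val, Perm.sign_swap hij, swap_apply_of_ne_of_ne hik.symm hjk.symm,
    swap_apply_of_ne_of_ne hil.symm hjl.symm, neg_one_units_smul] at h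
  exact h

/-- For every n ≥ 4 there are a finite group Γ and a central element z of Γ of order 2 lying in the commutator subgroup of Γ such that the quotient of Γ by the (normal) subgroup generated by z is isomorphic to the alternating group on n letters. -/
theorem result (n : ℕ) (hn : 4 ≤ n) : ∃ (Γ : Type) (_ : Group Γ) (_ : Finite Γ) (z : Γ) (hz : z ∈ Subgroup.center Γ), orderOf z = 2 ∧ z ∈ commutator Γ ∧ ∃ _ : (Subgroup.zpowers z).Normal, Nonempty (Γ ⧸ Subgroup.zpowers z ≃* alternatingGroup (Fin n)) := by
  have hz1 : zz n ∈ Gam n := by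
    rw [Subgroup.mem_comap, proj_apply, zz_val]
    exact Subgroup.one_mem _
  have hfin := finite_cover n
  set z : Gam n := ⟨zz n, hz1⟩ with hzdef
  have hzz : z * z = 1 := Subtype.ext zz_mul_self
  have hzne : z ≠ 1 := fun h => zz_ne_one (congrArg Subtype.val h)
  have hzc : z ∈ Subgroup.center (Gam n) := by
    rw [Subgroup.mem_center_iff]
    intro g
    exact Subtype.ext (zz_comm _)
  have hord : orderOf z = 2 := orderOf_eq_prime (by rw [pow_two, hzz]) hzne
  have hnormal : (Subgroup.zpowers z).Normal := by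
    refine ⟨fun x hx g => ?_⟩
    have hxc : x ∈ Subgroup.center (Gam n) := by
      have : Subgroup.zpowers z ≤ Subgroup.center (Gam n) := by
        rw [Subgroup.zpowers_le]
        exact hzc
      exact this hx
    rw [(Subgroup.mem_center_iff.1 hxc g), mul_inv_cancel_right]
    exact hx
  refine ⟨Gam n, inferInstance, inferInstance, z, hzc, hord, ?_, hnormal, ?_⟩
  · -- the commutator
    obtain ⟨i0, i1, i2, i3, h01, h02, h03, h12, h13, h23⟩ : ∃ i0 i1 i2 i3 : Fin n,
        i0 ≠ i1 ∧ i0 ≠ i2 ∧ i0 ≠ i3 ∧ i1 ≠ i2 ∧ i1 ≠ i3 ∧ i2 ≠ i3 := by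
      refine ⟨⟨0, by omega⟩, ⟨1, by omega⟩, ⟨2, by omega⟩, ⟨3, by omega⟩, ?_, ?_, ?_, ?_, ?_, ?_⟩ <;>
        · intro h
          have := Fin.mk.inj_iff.1 h
          omega
    let p0 : cover n := ⟨_, tu_mem_cover i0 i1 h01⟩
    let p1 : cover n := ⟨_, tu_mem_cover i2 i3 h23⟩
    let q0 : cover n := ⟨_, tu_mem_cover i0 i2 h02⟩
    let q1 : cover n := ⟨_, tu_mem_cover i1 i3 h13⟩
    have hp : p0 * p1 ∈ Gam n := by
      rw [Subgroup.mem_comap, map_mul, Perm.mem_alternatingGroup, map_mul]
      change Perm.sign (swap i0 i1) * Perm.sign (swap i2 i3) = 1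
      rw [Perm.sign_swap h01, Perm.sign_swap h23]
      rfl
    have hq : q0 * q1 ∈ Gam n := by
      rw [Subgroup.mem_comap, map_mul, Perm.mem_alternatingGroup, map_mul]
      change Perm.sign (swap i0 i2) * Perm.sign (swap i1 i3) = 1
      rw [Perm.sign_swap h02, Perm.sign_swap h13]
      rfl
    have key : (p0 * p1) * (q0 * q1) = zz n * ((q0 * q1) * (p0 * p1)) := by
      refine Subtype.ext (Prod.ext (Units.ext ?_) ?_)
      · change (t i0 i1 * t i2 i3 : E n) * (t i0 i2 * t i1 i3) =
          -1 * ((t i0 i2 * t i1 i3) * (t i0 i1 * t i2 i3))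
        have e1 : (t i0 i1 * t i2 i3 : E n) * t i0 i2 = t i1 i3 * (t i0 i1 * t i2 i3) := by
          refine mul_t' (x := tu i0 i1 h01 * tu i2 i3 h23) (p0 * p1).2 ?_ _ _ _ _ ?_ ?_
          · change Perm.sign (swap i0 i1 * swap i2 i3) = 1
            rw [map_mul, Perm.sign_swap h01, Perm.sign_swap h23]
            rfl
          · change swap i0 i1 (swap i2 i3 i0) = i1
            rw [swap_apply_of_ne_of_ne h02 h03, swap_apply_left]
          · change swap i0 i1 (swap i2 i3 i2) = i3
            rw [swap_apply_left, swap_apply_of_ne_of_ne h03.symm h13.symm]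
        have e2 : (t i0 i1 * t i2 i3 : E n) * t i1 i3 = t i0 i2 * (t i0 i1 * t i2 i3) := by
          refine mul_t' (x := tu i0 i1 h01 * tu i2 i3 h23) (p0 * p1).2 ?_ _ _ _ _ ?_ ?_
          · change Perm.sign (swap i0 i1 * swap i2 i3) = 1
            rw [map_mul, Perm.sign_swap h01, Perm.sign_swap h23]
            rfl
          · change swap i0 i1 (swap i2 i3 i1) = i0
            rw [swap_apply_of_ne_of_ne h12 h13, swap_apply_right]
          · change swap i0 i1 (swap i2 i3 i3) = i2
            rw [swap_apply_right, swap_apply_of_ne_of_ne h02.symm h12.symm]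
        have e3 : (t i1 i3 : E n) * t i0 i2 = -(t i0 i2 * t i1 i3) :=
          t_anticomm h13 h01.symm h12 h03.symm h23.symm
        rw [← mul_assoc (t i0 i1 * t i2 i3 : E n), e1, mul_assoc (t i1 i3 : E n), e2, ← mul_assoc,
          e3, neg_mul, neg_mul, one_mul]
      · change swap i0 i1 * swap i2 i3 * (swap i0 i2 * swap i1 i3) =
          1 * (swap i0 i2 * swap i1 i3 * (swap i0 i1 * swap i2 i3))
        have hconj : ∀ (f : Perm (Fin n)) (a b : Fin n), f * swap a b = swap (f a) (f b) * f :=
          fun f a b => Equiv.mul_swap_eq_swap_mul f a b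
        have f1 : swap i0 i1 * swap i2 i3 * swap i0 i2 =
            swap i1 i3 * (swap i0 i1 * swap i2 i3) := by
          rw [hconj, Perm.mul_apply, Perm.mul_apply, swap_apply_of_ne_of_ne h02 h03,
            swap_apply_left, swap_apply_left, swap_apply_of_ne_of_ne h03.symm h13.symm]
        have f2 : swap i0 i1 * swap i2 i3 * swap i1 i3 =
            swap i0 i2 * (swap i0 i1 * swap i2 i3) := by
          rw [hconj, Perm.mul_apply, Perm.mul_apply, swap_apply_of_ne_of_ne h12 h13,
            swap_apply_right, swap_apply_right, swap_apply_of_ne_of_ne h02.symm h12.symm]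
        have f3 : swap i1 i3 * swap i0 i2 = swap i0 i2 * swap i1 i3 := by
          rw [hconj, swap_apply_of_ne_of_ne h01 h03, swap_apply_of_ne_of_ne h12.symm h23]
        rw [one_mul, ← mul_assoc (swap i0 i1 * swap i2 i3), f1, mul_assoc (swap i1 i3), f2,
          ← mul_assoc, f3, mul_assoc]
    have hcomm : z = ⁅(⟨p0 * p1, hp⟩ : Gam n), (⟨q0 * q1, hq⟩ : Gam n)⁆ := by
      refine Subtype.ext ?_
      rw [commutatorElement_def]
      change zz n = p0 * p1 * (q0 * q1) * (p0 * p1)⁻¹ * (q0 * q1)⁻¹
      rw [key]
      group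
    rw [hcomm]
    exact Subgroup.commutator_mem_commutator (Subgroup.mem_top _) (Subgroup.mem_top _)
  · -- the quotient
    let f : Gam n →* alternatingGroup (Fin n) := (proj n).subgroupComap (alternatingGroup (Fin n))
    have hf : Function.Surjective f :=
      (proj n).subgroupComap_surjective_of_surjective _ proj_surjective
    have hker : f.ker = Subgroup.zpowers z := by
      ext x
      rw [MonoidHom.mem_ker]
      constructor
      · intro h
        have h1 : proj n (x : cover n) = 1 := congrArg Subtype.val h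
        rcases eq_one_or_eq_zz_of_proj_eq_one h1 with h2 | h2
        · have : x = 1 := Subtype.ext h2
          rw [this]
          exact Subgroup.one_mem _
        · have : x = z := Subtype.ext h2
          rw [this]
          exact Subgroup.mem_zpowers z
      · intro h
        have : Subgroup.zpowers z ≤ f.ker := by
          rw [Subgroup.zpowers_le, MonoidHom.mem_ker]
          rfl
        exact this h
    exact ⟨(QuotientGroup.quotientMulEquivOfEq hker.symm).trans
      (QuotientGroup.quotientKerEquivOfSurjective f hf)⟩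

end Cfsg.Agent.S0891
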