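-- Proof of statement S0894: degrees of the irreducible characters of an extraspecial group.
import Cfsg.Statements.S0894
import Cfsg.Agent.CharactersDeep.Extraspecial

set_option autoImplicit false
open Cfsg

namespace Cfsg.Agent.S0894

open scoped ComplexConjugate
open Cfsg.Agent.CharactersDeep.Extraspecial Cfsg.Agent.Characters

/-- The sum of the squares of the degrees of the irreducible characters is the group order. -/
theorem sum_sq_degrees {G : Type*} [Group G] [Finite G] [Fintype (IrrCharacter G)] :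
    ∑ χ : IrrCharacter G, ((χ : G → ℂ) 1) ^ 2 = (Nat.card G : ℂ) := by
  classical
  have : Fintype G := Fintype.ofFinite G
  have hG : (Nat.card G : ℂ) ≠ 0 := by exact_mod_cast Nat.card_pos.ne'
  let f : G → ℂ := fun g => if g = 1 then 1 else 0
  have hf : IsClassFunction G f := by
    intro g h
    simp only [f]
    congr 1
    rw [eq_iff_iff]
    constructor
    · intro h1
      have h2 := congrArg (fun x => h⁻¹ * x * h) h1
      simpa [mul_assoc] using h2
    · rintro rfl
      simp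
  have hinner : ∀ ψ : G → ℂ, classInner f ψ = (Nat.card G : ℂ)⁻¹ * conj (ψ 1) := by
    intro ψ
    change (Nat.card G : ℂ)⁻¹ * ∑ g : G, f g * conj (ψ g) = _
    congr 1
    rw [Finset.sum_eq_single 1]
    · simp [f]
    · intro b _ hb
      simp [f, hb]
    · intro h
      exact absurd (Finset.mem_univ _) h
  have h1 := Core.classInner_eq_sum hf hf
  rw [hinner f] at h1
  have h2 : ∀ χ : IrrCharacter G, classInner f (χ : G → ℂ) * conj (classInner f (χ : G → ℂ)) =
      (Nat.card G : ℂ)⁻¹ * (Nat.card G : ℂ)⁻¹ * ((χ : G → ℂ) 1) ^ 2 := by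
    intro χ
    obtain ⟨m, -, hm⟩ := Core.isIrr_apply_one χ.2
    rw [hinner, hm]
    simp only [map_mul, map_inv₀, Complex.conj_natCast]
    ring
  rw [Finset.sum_congr rfl (fun χ _ => h2 χ), ← Finset.mul_sum] at h1
  have h3 : conj (f 1) = 1 := by simp [f]
  rw [h3, mul_one, mul_assoc] at h1
  have h4 : (1 : ℂ) = (Nat.card G : ℂ)⁻¹ * ∑ χ : IrrCharacter G, ((χ : G → ℂ) 1) ^ 2 := by
    have h5 : (Nat.card G : ℂ) * (Nat.card G : ℂ)⁻¹ = (Nat.card G : ℂ) * ((Nat.card G : ℂ)⁻¹ *
        ((Nat.card G : ℂ)⁻¹ * ∑ χ : IrrCharacter G, ((χ : G → ℂ) 1) ^ 2)) := by rw [← h1]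
    rwa [mul_inv_cancel₀ hG, mul_inv_cancel_left₀ hG] at h5
  field_simp at h4
  exact h4.symm

/-- Let P be an extraspecial p-group of order p ^ (2 * n + 1). Then every irreducible character of P has degree 1 or p ^ n, and exactly p - 1 of them have degree p ^ n. -/
theorem result {P : Type*} [Group P] [Finite P] (p n : ℕ) [Fact p.Prime] (hP : Cfsg.IsExtraspecial p P) (hcard : Nat.card P = p ^ (2 * n + 1)) : (∀ χ : Cfsg.IrrCharacter P, (χ : P → ℂ) 1 = 1 ∨ (χ : P → ℂ) 1 = (p : ℂ) ^ n) ∧ Nat.card {χ : Cfsg.IrrCharacter P // (χ : P → ℂ) 1 = (p : ℂ) ^ n} = p - 1 := by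
  classical
  have : Fintype P := Fintype.ofFinite P
  have hp : p.Prime := Fact.out
  have hp0 : (p : ℂ) ≠ 0 := by exact_mod_cast hp.ne_zero
  obtain ⟨⟨-, -, hcomm⟩, hcardZ⟩ := hP
  have hn : n ≠ 0 := by
    rintro rfl
    have h1 : Subgroup.center P = ⊤ := by
      apply Subgroup.eq_top_of_card_eq
      rw [hcardZ, hcard]
      simp
    have h2 : commutator P = ⊥ := (commutator_eq_bot_iff_center_eq_top P).2 h1
    rw [hcomm.symm.trans h2] at hcardZ
    rw [Subgroup.card_bot] at hcardZ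
    exact hp.one_lt.ne hcardZ
  have hdeg : ∀ χ : Cfsg.IrrCharacter P, (χ : P → ℂ) 1 = 1 ∨ (χ : P → ℂ) 1 = (p : ℂ) ^ n := by
    intro χ
    obtain ⟨c, hc, hc1⟩ := exists_central_hom χ.2
    by_cases h : c = 1
    · exact Or.inl (hc1 hcomm.le h)
    right
    have hcz : ∀ z : Subgroup.center P, z ≠ 1 → (c z : ℂ) ≠ 1 := by
      intro z hz h'
      exact hom_ne_one_of_prime_card hcardZ c h hz (Units.ext h')
    have hzero : ∀ x ∉ Subgroup.center P, (χ : P → ℂ) x = 0 := fun x hx =>
      eq_zero_of_notMem_center hcomm.le (Core.isIrr_isClassFunction χ.2) _ hcz hc hx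
    obtain ⟨m, hm0, hm⟩ := Core.isIrr_apply_one χ.2
    have hcen : ∀ z : Subgroup.center P, (χ : P → ℂ) z = (m : ℂ) * c z := by
      intro z
      have := hc 1 z
      rwa [one_mul, hm] at this
    have h1 := Core.classInner_irr_self χ.2
    rw [classInner_of_center (m : ℂ) c hzero hcen, hcard, hcardZ, Complex.conj_natCast] at h1
    push_cast at h1
    have h2 : (m : ℂ) * m = (p : ℂ) ^ n * (p : ℂ) ^ n := by
      field_simp at h1
      rw [pow_two] at h1
      have h3 : (p : ℂ) * ((m : ℂ) * m) = p * ((p : ℂ) ^ n * (p : ℂ) ^ n) := by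
        rw [h1]; ring
      exact mul_left_cancel₀ hp0 h3
    have h3 : m * m = p ^ n * p ^ n := by exact_mod_cast h2
    have h4 : m = p ^ n := Nat.mul_self_inj.1 h3
    rw [hm, h4]
    push_cast
    rfl
  refine ⟨hdeg, ?_⟩
  have hpn : (p : ℂ) ^ n ≠ 1 := by
    intro h
    have h1 : p ^ n = 1 := by exact_mod_cast h
    rw [Nat.pow_eq_one] at h1
    rcases h1 with h1 | h1
    · exact hp.one_lt.ne' h1
    · exact hn h1
  have : Finite (IrrCharacter P) := Core.finite_irr
  have : Fintype (IrrCharacter P) := Fintype.ofFinite _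
  have hsum := sum_sq_degrees (G := P)
  have hsplit : ∀ χ : IrrCharacter P, ((χ : P → ℂ) 1) ^ 2 =
      (if (χ : P → ℂ) 1 = 1 then 1 else 0) +
        (if (χ : P → ℂ) 1 = (p : ℂ) ^ n then (p : ℂ) ^ (2 * n) else 0) := by
    intro χ
    rcases hdeg χ with h | h
    · rw [h, if_pos rfl, if_neg (Ne.symm hpn)]
      simp
    · rw [h, if_neg hpn, if_pos rfl]
      ring
  rw [Finset.sum_congr rfl (fun χ _ => hsplit χ), Finset.sum_add_distrib, ← Finset.sum_filter,
    ← Finset.sum_filter, Finset.sum_const, Finset.sum_const] at hsum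
  have hN1 : (Finset.univ.filter fun χ : IrrCharacter P => (χ : P → ℂ) 1 = 1).card = p ^ (2 * n) := by
    rw [← Fintype.card_subtype, ← Nat.card_eq_fintype_card,
      ← Nat.card_congr (Linear.linearEquiv P), Linear.card_hom_eq_index_commutator, hcomm]
    have h1 := (Subgroup.center P).card_mul_index
    rw [hcardZ, hcard, pow_succ, mul_comm] at h1
    exact Nat.eq_of_mul_eq_mul_right hp.pos h1
  rw [Nat.card_eq_fintype_card, Fintype.card_subtype]
  rw [hN1, hcard] at hsum
  set N := (Finset.univ.filter fun χ : IrrCharacter P => (χ : P → ℂ) 1 = (p : ℂ) ^ n).card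
    with hN
  have h1 : p ^ (2 * n) + N * p ^ (2 * n) = p ^ (2 * n + 1) := by
    have h2 : ((p ^ (2 * n) + N * p ^ (2 * n) : ℕ) : ℂ) = ((p ^ (2 * n + 1) : ℕ) : ℂ) := by
      rw [← hsum]
      push_cast
      simp
    exact_mod_cast h2
  have h2 : (N + 1) * p ^ (2 * n) = p * p ^ (2 * n) := by
    rw [pow_succ] at h1
    linarith [h1]
  have h3 : N + 1 = p := Nat.eq_of_mul_eq_mul_right (pow_pos hp.pos _) h2
  omega

end Cfsg.Agent.S0894
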