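import Cfsg.Statements.S0902
import Cfsg.Agent.S0141
import Cfsg.Agent.Blocks.Local
import Cfsg.Agent.Blocks.GaloisConj

set_option autoImplicit false
open Cfsg

namespace Cfsg.Agent.S0902

/-- central characters are algebraic integers -/
theorem isIntegral_centralChar {G : Type*} [Group G] [Finite G] (χ : Cfsg.IrrCharacter G) (g : G) :
    IsIntegral ℤ (Cfsg.centralChar (χ : G → ℂ) g) := by
  obtain ⟨χ, n, ρ, hρ, rfl⟩ := χ
  have h := Cfsg.Agent.S0141.result ρ g
  have h1 : ρ.character 1 = (Module.finrank ℂ (Fin n → ℂ) : ℂ) := by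
    simp [Representation.character]
  unfold Cfsg.centralChar
  simp only [h1]
  exact h

/-- Galois action on central characters. -/
theorem exists_map_centralChar {G : Type*} [Group G] [Finite G] (χ : Cfsg.IrrCharacter G) (g : G)
    (σ : algebraicClosure ℚ ℂ →+* ℂ) {m : ℕ} (hm : m.Coprime (Nat.card G))
    (hσ : ∀ t : algebraicClosure ℚ ℂ, t ^ Nat.card G = 1 → σ t = (t : ℂ) ^ m) :
    ∃ c : algebraicClosure ℚ ℂ, (c : ℂ) = Cfsg.centralChar (χ : G → ℂ) g ∧
      σ c = Cfsg.centralChar (χ : G → ℂ) (g ^ m) := by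
  have hχ : Cfsg.IsCharacter G (χ : G → ℂ) := by
    obtain ⟨n, ρ, -, h⟩ := χ.2
    exact ⟨n, ρ, h⟩
  have hg : g ^ Nat.card G = 1 := pow_card_eq_one'
  obtain ⟨c, hc1, hc2⟩ := Cfsg.Agent.Blocks.GaloisConj.exists_map_character hχ
    Nat.card_pos.ne' hg σ m hσ
  obtain ⟨d, hd⟩ : ∃ d : ℕ, (χ : G → ℂ) 1 = d := by
    obtain ⟨n, ρ, -, h⟩ := χ.2
    refine ⟨n, ?_⟩
    rw [← h]
    simp [Representation.character]
  refine ⟨((Subgroup.centralizer ({g} : Set G)).index : algebraicClosure ℚ ℂ) * c / (d : _), ?_, ?_⟩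
  · unfold Cfsg.centralChar
    rw [hd, ← hc1]
    push_cast
    rfl
  · unfold Cfsg.centralChar
    rw [hd, Cfsg.Agent.Blocks.GaloisConj.centralizer_pow_eq hg hm, ← hc2, map_div₀, map_mul,
      map_natCast, map_natCast]

/-- If two irreducible characters of a finite group lie in the same block relative to one maximal ideal M of the algebraic integers containing the prime p, then at every element the difference of their central characters is an algebraic integer lying in every maximal ideal containing p; in particular they lie in the same block relative to any such ideal. -/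
theorem result {G : Type*} [Group G] [Finite G] (p : ℕ) [Fact p.Prime] (M : Ideal Cfsg.AlgInt) (hM : Cfsg.IsPModular p M) (χ ψ : Cfsg.IrrCharacter G) (h : Cfsg.SameBlock M (χ : G → ℂ) (ψ : G → ℂ)) (M' : Ideal Cfsg.AlgInt) (hM' : Cfsg.IsPModular p M') (g : G) : ∃ r : Cfsg.AlgInt, r ∈ M' ∧ (r : ℂ) = Cfsg.centralChar (χ : G → ℂ) g - Cfsg.centralChar (ψ : G → ℂ) g := by
  have hint : ∀ x : G, IsIntegral ℤ
      (Cfsg.centralChar (χ : G → ℂ) x - Cfsg.centralChar (ψ : G → ℂ) x) := fun x =>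
    (isIntegral_centralChar χ x).sub (isIntegral_centralChar ψ x)
  refine ⟨⟨_, hint g⟩, ?_, rfl⟩
  apply Cfsg.Agent.Blocks.GaloisConj.mem_of_forall_isConjRoot hM hM'
  intro w hw
  have hP : M.IsPrime := hM.2.1.isPrime
  obtain ⟨σ, hσ1, m, hm, hσ2⟩ := Cfsg.Agent.Blocks.GaloisConj.exists_embedding
    (n := Nat.card G) Nat.card_pos.ne' (IsIntegral.tower_top (hint g)) hw
  obtain ⟨c, hc1, hc2⟩ := exists_map_centralChar χ g σ hm hσ2
  obtain ⟨d, hd1, hd2⟩ := exists_map_centralChar ψ g σ hm hσ2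
  have hw' : w = Cfsg.centralChar (χ : G → ℂ) (g ^ m) - Cfsg.centralChar (ψ : G → ℂ) (g ^ m) := by
    rw [← hc2, ← hd2, ← map_sub, hσ1]
    push_cast
    rw [hc1, hd1]
  refine ⟨⟨_, hint (g ^ m)⟩, ?_, hw'.symm⟩
  rw [← Cfsg.Agent.Blocks.Local.memLocalIdeal_algInt_iff]
  exact h (g ^ m)

end Cfsg.Agent.S0902
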