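import Cfsg.Statements.S0905
import Cfsg.Agent.Blocks.ClassSumNilpotent
import Cfsg.Agent.Lib.Cores

set_option autoImplicit false
open Cfsg

namespace Cfsg.Agent.S0905

/-- Let F be a field of characteristic p and let g be an element of the finite group G no conjugate of which centralizes O_p(G). Then the class sum of g is a nilpotent element of the group algebra F[G]. -/
theorem result {G : Type*} [Group G] [Finite G] (p : ℕ) [Fact p.Prime] (F : Type*) [Field F] [CharP F p] (g : G) (hg : ∀ x : G, IsConj g x → x ∉ Subgroup.centralizer (Cfsg.pCore p G : Set G)) : IsNilpotent (∑ᶠ x ∈ ConjClasses.carrier (ConjClasses.mk g), MonoidAlgebra.single x (1 : F) : MonoidAlgebra F G) := by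
  classical
  have hfin : (ConjClasses.carrier (ConjClasses.mk g)).Finite := Set.toFinite _
  rw [finsum_mem_eq_finite_toFinset_sum _ hfin]
  have hmem : ∀ x, x ∈ hfin.toFinset ↔ IsConj g x := by
    intro x
    rw [hfin.mem_toFinset, ConjClasses.mem_carrier_iff_mk_eq, ConjClasses.mk_eq_mk_iff_isConj]
    exact isConj_comm
  have hconj : ∀ u x : G, x ∈ hfin.toFinset → u * x * u⁻¹ ∈ hfin.toFinset := by
    intro u x hx
    rw [hmem] at hx ⊢
    exact hx.trans (isConj_iff.2 ⟨u, rfl⟩)
  have := Cfsg.Agent.Lib.Cores.pCore_normal (G := G) p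
  refine Cfsg.Agent.Blocks.ClassSumNilpotent.isNilpotent_sum_single (Cfsg.pCore p G)
    (Cfsg.Agent.Lib.Cores.pCore_isPGroup p) hfin.toFinset (fun u _ x hx => hconj u x hx)
    (fun x hx => hg x ((hmem x).1 hx)) ?_
  intro h
  rw [Finset.sum_mul, Finset.mul_sum]
  refine Finset.sum_bij' (fun x _ => h⁻¹ * x * h) (fun x _ => h * x * h⁻¹) ?_ ?_ ?_ ?_ ?_
  · intro x hx
    simpa using hconj h⁻¹ x hx
  · intro x hx
    exact hconj h x hx
  · intro x _
    group
  · intro x _
    group
  · intro x _
    rw [MonoidAlgebra.single_mul_single, MonoidAlgebra.single_mul_single]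
    congr 1
    group

end Cfsg.Agent.S0905
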