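import Cfsg.Statements.S0912
import Cfsg.Agent.Blocks.CentralScalar

set_option autoImplicit false
open Cfsg

namespace Cfsg.Agent.S0912

/-- Let B be a block of the finite group G relative to a maximal ideal M of the algebraic integers containing the prime p. Every defect group of B contains the largest normal p-subgroup O_p(G). -/
theorem result {G : Type*} [Group G] [Finite G] (p : ℕ) [Fact p.Prime] (M : Ideal Cfsg.AlgInt) (hM : Cfsg.IsPModular p M) (B : Set (Cfsg.IrrCharacter G)) (hB : Cfsg.IsPBlock M B) (D : Subgroup G) (hD : Cfsg.IsDefectGroup p M B D) : Cfsg.pCore p G ≤ D := by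
  obtain ⟨_, hMax, hpM⟩ := hM
  have hMp : M.IsPrime := hMax.isPrime
  have h1M : (1 : Cfsg.AlgInt) ∉ M := fun h => hMp.ne_top ((Ideal.eq_top_iff_one M).mpr h)
  obtain ⟨χ, rfl⟩ := hB
  obtain ⟨g, ⟨_, _, hg⟩, P, rfl⟩ := hD
  have hχ : ¬ MemLocalIdeal M (centralChar (χ : G → ℂ) g) := by
    apply hg
    intro x
    refine ⟨0, 1, M.zero_mem, h1M, ?_⟩
    simp
  have hN : (pCore p G).Normal := Subgroup.sSup_normal _ (fun _ h => h.1)
  have hNp : IsPGroup p (pCore p G) := Sylow.sSup_of_normal _ (fun _ h => h.2) (fun _ h => h.1)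
  have hgC : g ∈ Subgroup.centralizer (pCore p G : Set G) := by
    by_contra hgC
    obtain ⟨n, c, hc, hpow⟩ := Blocks.CentralScalar.pow_centralChar_eq χ.2 (pCore p G) hNp g hgC
    apply hχ
    let a : AlgInt := ⟨centralChar (χ : G → ℂ) g, Blocks.CentralScalar.isIntegral_centralChar χ.2 g⟩
    have ha : a ^ n = (p : AlgInt) * ⟨c, hc⟩ := by
      apply Subtype.ext
      push_cast
      exact hpow
    have haM : a ∈ M := by
      apply hMp.mem_of_pow_mem n
      rw [ha]
      exact M.mul_mem_right _ hpM
    exact ⟨a, 1, haM, h1M, by simp [a]⟩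
  have hle : pCore p G ≤ Subgroup.centralizer ({g} : Set G) := by
    intro x hx
    rw [Subgroup.mem_centralizer_singleton_iff]
    exact Subgroup.mem_centralizer_iff.mp hgC x hx
  have hnorm : ((pCore p G).subgroupOf (Subgroup.centralizer ({g} : Set G))).Normal := inferInstance
  have hpg : IsPGroup p ((pCore p G).subgroupOf (Subgroup.centralizer ({g} : Set G))) :=
    hNp.comap_subtype
  have h1 := hpg.le_sylow_of_normal P
  calc pCore p G = ((pCore p G).subgroupOf (Subgroup.centralizer ({g} : Set G))).map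
        (Subgroup.centralizer ({g} : Set G)).subtype := by
        rw [Subgroup.subgroupOf_map_subtype, inf_eq_left.mpr hle]
    _ ≤ _ := Subgroup.map_mono h1

end Cfsg.Agent.S0912
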