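import Cfsg.Statements.S0917
import Cfsg.Agent.Blocks.Basic
import Cfsg.Agent.S0906
import Cfsg.Agent.S0911

set_option autoImplicit false
open Cfsg

namespace Cfsg.Agent.S0917

open Cfsg.Agent.Blocks.Local Cfsg.Agent.Blocks.Basic

/-- Let H be a subgroup of the finite group G, p a prime and M a maximal ideal of the algebraic integers containing p. If the block b of H induces the block B of G relative to M, then every defect group of b (a subgroup of H, viewed in G) is contained in some defect group of B. -/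
theorem result {G : Type*} [Group G] [Finite G] (p : ℕ) [Fact p.Prime] (M : Ideal Cfsg.AlgInt) (hM : Cfsg.IsPModular p M) (H : Subgroup G) (b : Set (Cfsg.IrrCharacter H)) (hb : Cfsg.IsPBlock M b) (B : Set (Cfsg.IrrCharacter G)) (hB : Cfsg.IsPBlock M B) (hind : Cfsg.IsInducedBlock M H b B) (D : Subgroup H) (hD : Cfsg.IsDefectGroup p M b D) : ∃ E : Subgroup G, Cfsg.IsDefectGroup p M B E ∧ D.map H.subtype ≤ E := by
  have hprime : M.IsPrime := isPrime_of_isPModular hM
  -- a defect class of `B`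
  obtain ⟨g, hg⟩ := Cfsg.Agent.S0906.result p M hM B hB
  obtain ⟨χ, hχ⟩ := isPBlock_nonempty hB
  obtain ⟨ξ, hξ⟩ := isPBlock_nonempty hb
  have h1 : ¬ MemLocalIdeal M (inducedCentralChar H (ξ : H → ℂ) g) := fun h =>
    hg.2.2 χ hχ ((memLocalIdeal_iff_of_sub (hind.2.2 ξ hξ χ hχ g)).1 h)
  obtain ⟨y, hgy, hy⟩ := exists_isConj_of_inducedCentralChar H ξ.2 h1
  -- min-max for `b`
  obtain ⟨x0, hx0, P, rfl⟩ := hD
  obtain ⟨x, Q, hxQ⟩ := (Cfsg.Agent.S0911.result p M hM b hb x0 hx0 P y).2 ⟨ξ, hξ, hy⟩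
  set D : Subgroup H := (P : Subgroup (Subgroup.centralizer ({x0} : Set H))).map
    (Subgroup.centralizer ({x0} : Set H)).subtype with hD
  -- the subgroup `D ^ x` centralizes `y`
  have h2 : D.map (MulAut.conj x).toMonoidHom ≤ Subgroup.centralizer ({y} : Set H) :=
    hxQ.trans (Subgroup.map_subtype_le _)
  have h3 : D ≤ Subgroup.centralizer ({x⁻¹ * y * x} : Set H) := by
    have h4 := Subgroup.map_mono (f := (MulAut.conj x⁻¹).toMonoidHom) h2
    rw [map_conj_map_conj, inv_mul_cancel, map_conj_one, ← centralizer_conj] at h4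
    simpa using h4
  have hDp : IsPGroup p D := P.2.map _
  have h5 : D.map H.subtype ≤
      Subgroup.centralizer ({((x⁻¹ * y * x : H) : G)} : Set G) := by
    rintro _ ⟨d, hd, rfl⟩
    have h6 := Subgroup.mem_centralizer_singleton_iff.1 (h3 hd)
    rw [Subgroup.mem_centralizer_singleton_iff]
    have h7 := congrArg (fun z : H => (z : G)) h6
    simpa using h7
  obtain ⟨E, hE, hDE⟩ := exists_isSylowCentralizer (hDp.map H.subtype) h5
  refine ⟨E, isDefectGroup_iff.2 ⟨_, ?_, hE⟩, hDE⟩
  refine isDefectClass_isConj (hgy.trans ?_) hg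
  exact isConj_iff.2 ⟨(x⁻¹ : G), by simp⟩

end Cfsg.Agent.S0917
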