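import Cfsg.Statements.S0958
import Mathlib
import Cfsg.Agent.S0906
import Cfsg.Agent.S0912
import Cfsg.Agent.S0913
import Cfsg.Agent.S0917
import Cfsg.Agent.S0918
import Cfsg.Agent.S0919
import Cfsg.Agent.Lib.Cores
import Cfsg.Agent.Blocks.BrauerTrunc
-- import your own Cfsg.Agent.* helpers here

set_option autoImplicit false
open Cfsg

namespace Cfsg.Agent.S0958

open Cfsg.Agent.Blocks.Basic Cfsg.Agent.Blocks.ConvCentral Cfsg.Agent.Blocks.BlockIdem
  Cfsg.Agent.Blocks.BrauerTrunc

/-- Let P be a p-subgroup of the finite group G and H a subgroup with P ⊔ C_G(P) ≤ H ≤ N_G(P); fix a maximal ideal M of the algebraic integers containing p. Then a block B of G is induced by some block of H if and only if some conjugate of P is contained in a defect group of B. -/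
theorem result {G : Type*} [Group G] [Finite G] (p : ℕ) [Fact p.Prime] (M : Ideal Cfsg.AlgInt) (hM : Cfsg.IsPModular p M) (P H : Subgroup G) (hP : IsPGroup p P) (hPH : P ⊔ Subgroup.centralizer (P : Set G) ≤ H) (hHN : H ≤ Subgroup.normalizer (P : Set G)) (B : Set (Cfsg.IrrCharacter G)) (hB : Cfsg.IsPBlock M B) : (∃ b : Set (Cfsg.IrrCharacter H), Cfsg.IsInducedBlock M H b B) ↔ ∃ D : Subgroup G, Cfsg.IsDefectGroup p M B D ∧ ∃ x : G, P.map (MulAut.conj x).toMonoidHom ≤ D := by
  classical
  have hprime : M.IsPrime := hM.2.1.isPrime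
  have hPH' : P ≤ H := le_sup_left.trans hPH
  have hCH : Subgroup.centralizer (P : Set G) ≤ H := le_sup_right.trans hPH
  constructor
  · rintro ⟨b, hind⟩
    have hb := hind.1
    obtain ⟨g, hg⟩ := Cfsg.Agent.S0906.result p M hM b hb
    obtain ⟨S⟩ : Nonempty (Sylow p (Subgroup.centralizer ({g} : Set H))) := inferInstance
    have hD : IsDefectGroup p M b ((S : Subgroup (Subgroup.centralizer ({g} : Set H))).map
      (Subgroup.centralizer ({g} : Set H)).subtype) := ⟨g, hg, S, rfl⟩
    set D : Subgroup H := (S : Subgroup (Subgroup.centralizer ({g} : Set H))).map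
      (Subgroup.centralizer ({g} : Set H)).subtype with hDdef
    have h1 := Cfsg.Agent.S0912.result p M hM b hb D hD
    have hnorm : (P.subgroupOf H).Normal := by
      rw [Subgroup.normal_subgroupOf_iff_le_normalizer hPH']
      exact hHN
    have h2 : P.subgroupOf H ≤ pCore p H :=
      Cfsg.Agent.Lib.Cores.le_pCore hnorm hP.comap_subtype
    obtain ⟨E, hE, hDE⟩ := Cfsg.Agent.S0917.result p M hM H b hb B hB hind D hD
    refine ⟨E, hE, 1, ?_⟩
    rw [map_conj_one]
    refine le_trans ?_ hDE
    have h3 : P.subgroupOf H ≤ D := h2.trans h1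
    have h4 := Subgroup.map_mono (f := H.subtype) h3
    rwa [Subgroup.subgroupOf_map_subtype, inf_eq_left.2 hPH'] at h4
  · rintro ⟨D, hD, x, hx⟩
    have : Fintype G := Fintype.ofFinite G
    have : Fintype H := Fintype.ofFinite H
    have hD' := isDefectGroup_conj hD x⁻¹
    have hPD' : P ≤ D.map (MulAut.conj x⁻¹).toMonoidHom := by
      have h1 := Subgroup.map_mono (f := (MulAut.conj x⁻¹).toMonoidHom) hx
      rwa [map_conj_map_conj, inv_mul_cancel, map_conj_one] at h1
    obtain ⟨g, hg, hgD⟩ := isDefectGroup_iff.1 hD'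
    have hgC : g ∈ Subgroup.centralizer (P : Set G) := by
      rw [Subgroup.mem_centralizer_iff]
      intro u hu
      have h1 := le_centralizer_of_isSylowCentralizer hgD (hPD' hu)
      exact Subgroup.mem_centralizer_singleton_iff.1 h1
    by_contra hcon
    push Not at hcon
    have he := isClassFunction_blockCoeff (G := G) B
    have heR : ∀ g, MemLocalRing M (blockCoeff B g) :=
      fun g => Cfsg.Agent.S0913.result p M hM B hB g
    have hzlin : ∀ ξ : IrrCharacter H,
        MemLocalIdeal M (lin (ξ : H → ℂ) (trunc P H (blockCoeff B)) / (ξ : H → ℂ) 1) := by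
      intro ξ
      have hb : IsPBlock M (blockOf M (ξ : H → ℂ)) := ⟨ξ, rfl⟩
      obtain ⟨B', hB'⟩ := Cfsg.Agent.S0919.result p M hM P H hP hPH' hCH hHN _ hb
      have hne : B' ≠ B := by
        rintro rfl
        exact hcon _ hB'
      obtain ⟨χ, hχ⟩ := isPBlock_nonempty hB'.2.1
      have h18 := (Cfsg.Agent.S0918.result p M hM P H hP hPH' hCH hHN _ hb B' hB'.2.1).1 hB' ξ
        (mem_blockOf_self ξ) χ hχ
      have h3 := memLocalIdeal_lin_trunc_sub hM P H he heR (irr_isClassFunction χ.2) h18
      have hχB : χ ∉ B := fun h => hne (isPBlock_eq_of_mem hB'.2.1 hB hχ h)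
      rw [lin_blockCoeff, if_neg hχB, zero_div, sub_zero] at h3
      exact h3
    have hidem : ∀ h : H, MemLocalIdeal M
        (conv (trunc P H (blockCoeff B)) (trunc P H (blockCoeff B)) h -
          trunc P H (blockCoeff B) h) := by
      intro h
      have h1 := memLocalIdeal_conv_trunc_sub hM P H hP hCH he he heR heR h
      rwa [conv_blockCoeff_self] at h1
    have hzR : ∀ h : H, MemLocalRing M (trunc P H (blockCoeff B) h) := by
      intro h
      by_cases hh : (h : G) ∈ Subgroup.centralizer (P : Set G)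
      · rw [trunc_of_mem _ hh]
        exact heR _
      · rw [trunc_of_notMem _ hh]
        exact Cfsg.Agent.Blocks.LocalRing.memLocalRing_zero hM
    have hfin := memLocalIdeal_of_idem hM (isClassFunction_trunc hHN he) hzR hidem hzlin
      ⟨g, hCH hgC⟩
    rw [trunc_of_mem _ (show ((⟨g, hCH hgC⟩ : H) : G) ∈ Subgroup.centralizer (P : Set G) from hgC)]
      at hfin
    exact hg.2.1 hfin

end Cfsg.Agent.S0958
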