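import Cfsg.Statements.S0920
import Mathlib
import Cfsg.Agent.S0141
import Cfsg.Agent.S0906
import Cfsg.Agent.S0908
import Cfsg.Agent.S0911
import Cfsg.Agent.S0912
import Cfsg.Agent.S0913
import Cfsg.Agent.S0916
import Cfsg.Agent.S0917
import Cfsg.Agent.S0918
import Cfsg.Agent.S0919
import Cfsg.Agent.S0958
import Cfsg.Agent.Characters.Core
import Cfsg.Agent.Blocks.Local
import Cfsg.Agent.Blocks.SylowIn
import Cfsg.Agent.Blocks.Induced

set_option autoImplicit false
open Cfsg

namespace Cfsg.Agent.S0920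

open scoped ComplexConjugate
open Cfsg.Agent.Blocks.Local Cfsg.Agent.Blocks.SylowIn

theorem irr_conj {G : Type*} [Group G] (χ : IrrCharacter G) (g h : G) :
    (χ : G → ℂ) (h * g * h⁻¹) = (χ : G → ℂ) g :=
  Cfsg.Agent.Blocks.Induced.isClassFunction_of_isIrrCharacter χ.2 g h

theorem irr_one_ne_zero {G : Type*} [Group G] (χ : IrrCharacter G) : (χ : G → ℂ) 1 ≠ 0 := by
  obtain ⟨n, hn, h⟩ := Cfsg.Agent.Characters.Core.isIrr_apply_one χ.2
  rw [h]
  exact_mod_cast hn.ne'

/-- The block idempotent has central character value one on the block, zero off it. -/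
theorem sum_blockCoeff_mul {G : Type*} [Group G] [Fintype G] (A : Set (IrrCharacter G))
    (ξ : IrrCharacter G) [Decidable (ξ ∈ A)] :
    (∑ g : G, blockCoeff A g * ((ξ : G → ℂ) g / (ξ : G → ℂ) 1)) =
      if ξ ∈ A then 1 else 0 := by
  classical
  have hfin : Finite (IrrCharacter G) := Cfsg.Agent.Characters.Core.finite_irr
  have h1 := irr_one_ne_zero ξ
  have key : ∀ χ : IrrCharacter G, (Nat.card G : ℂ)⁻¹ *
      ∑ g : G, (χ : G → ℂ) 1 * conj ((χ : G → ℂ) g) * ((ξ : G → ℂ) g / (ξ : G → ℂ) 1) =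
      if ξ = χ then 1 else 0 := by
    intro χ
    have h2 := Cfsg.Agent.Characters.Core.classInner_irr ξ.2 χ.2
    have h3 : (Nat.card G : ℂ)⁻¹ *
      ∑ g : G, (χ : G → ℂ) 1 * conj ((χ : G → ℂ) g) * ((ξ : G → ℂ) g / (ξ : G → ℂ) 1) =
      ((χ : G → ℂ) 1 / (ξ : G → ℂ) 1) * classInner (ξ : G → ℂ) (χ : G → ℂ) := by
      unfold classInner
      rw [Finset.mul_sum, Finset.mul_sum, Finset.mul_sum]
      refine Finset.sum_congr rfl fun g _ => ?_
      ring
    rw [h3, h2]
    by_cases h : ξ = χ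
    · subst h
      simp [h1]
    · have h' : ¬ ((ξ : G → ℂ) = (χ : G → ℂ)) := fun hh => h (Subtype.ext hh)
      simp [h, h']
  unfold blockCoeff
  set s := (Set.toFinite A).toFinset with hs
  have e1 : ∀ g : G, ∑ᶠ χ ∈ A, (χ : G → ℂ) 1 * conj ((χ : G → ℂ) g) =
      ∑ χ ∈ s, (χ : G → ℂ) 1 * conj ((χ : G → ℂ) g) := by
    intro g
    rw [finsum_mem_eq_finite_toFinset_sum _ (Set.toFinite A)]
  simp_rw [e1]
  calc ∑ g : G, ((Nat.card G : ℂ)⁻¹ * ∑ χ ∈ s, (χ : G → ℂ) 1 * conj ((χ : G → ℂ) g)) *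
          ((ξ : G → ℂ) g / (ξ : G → ℂ) 1)
      = ∑ g : G, ∑ χ ∈ s, (Nat.card G : ℂ)⁻¹ * ((χ : G → ℂ) 1 * conj ((χ : G → ℂ) g) *
          ((ξ : G → ℂ) g / (ξ : G → ℂ) 1)) := by
        refine Finset.sum_congr rfl fun g _ => ?_
        rw [Finset.mul_sum, Finset.sum_mul]
        refine Finset.sum_congr rfl fun χ _ => ?_
        ring
    _ = ∑ χ ∈ s, (Nat.card G : ℂ)⁻¹ * ∑ g : G, (χ : G → ℂ) 1 * conj ((χ : G → ℂ) g) *
          ((ξ : G → ℂ) g / (ξ : G → ℂ) 1) := by
        rw [Finset.sum_comm]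
        refine Finset.sum_congr rfl fun χ _ => ?_
        rw [Finset.mul_sum]
    _ = ∑ χ ∈ s, if ξ = χ then (1 : ℂ) else 0 := Finset.sum_congr rfl fun χ _ => key χ
    _ = if ξ ∈ A then 1 else 0 := by
        rw [Finset.sum_ite_eq]
        simp [hs]

theorem memLocalRing_centralChar {G : Type*} [Group G] [Finite G] {M : Ideal AlgInt}
    [M.IsPrime] (χ : IrrCharacter G) (g : G) :
    MemLocalRing M (centralChar (χ : G → ℂ) g) := by
  obtain ⟨χ, n, ρ, hρ, rfl⟩ := χ
  have h := Cfsg.Agent.S0141.result ρ g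
  rw [← Representation.char_one (ρ := ρ)] at h
  exact memLocalRing_of_isIntegral h

theorem isPBlock_nonempty {G : Type*} [Group G] {M : Ideal AlgInt} [M.IsPrime]
    {B : Set (IrrCharacter G)} (hB : IsPBlock M B) : B.Nonempty := by
  obtain ⟨χ, rfl⟩ := hB
  refine ⟨χ, fun g => ?_⟩
  rw [sub_self]
  exact memLocalIdeal_zero

theorem isPBlock_eq_of_mem {G : Type*} [Group G] {M : Ideal AlgInt} [M.IsPrime]
    {B B' : Set (IrrCharacter G)} (hB : IsPBlock M B) (hB' : IsPBlock M B')
    {χ : IrrCharacter G} (h : χ ∈ B) (h' : χ ∈ B') : B = B' := by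
  obtain ⟨ψ, rfl⟩ := hB
  obtain ⟨φ, rfl⟩ := hB'
  ext η
  constructor
  · intro hη g
    have h1 : MemLocalIdeal M _ := h g
    have h2 : MemLocalIdeal M _ := h' g
    have h3 : MemLocalIdeal M _ := hη g
    exact memLocalIdeal_sub_trans h2
      (memLocalIdeal_sub_trans (memLocalIdeal_sub_comm h1) h3)
  · intro hη g
    have h1 : MemLocalIdeal M _ := h g
    have h2 : MemLocalIdeal M _ := h' g
    have h3 : MemLocalIdeal M _ := hη g
    exact memLocalIdeal_sub_trans h1
      (memLocalIdeal_sub_trans (memLocalIdeal_sub_comm h2) h3)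

section group
variable {G : Type*} [Group G]

theorem map_centralizer_subtype (N : Subgroup G) (y : N) :
    (Subgroup.centralizer ({y} : Set N)).map N.subtype =
      Subgroup.centralizer ({(y : G)} : Set G) ⊓ N := by
  ext x
  simp only [Subgroup.mem_map, Subgroup.mem_centralizer_singleton_iff, Subgroup.coe_subtype,
    Subgroup.mem_inf]
  constructor
  · rintro ⟨z, hz, rfl⟩
    exact ⟨by exact_mod_cast congrArg (Subtype.val) hz, z.2⟩
  · rintro ⟨h1, h2⟩
    exact ⟨⟨x, h2⟩, Subtype.ext h1, rfl⟩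

theorem card_centralizer_inf (N : Subgroup G) (y : N) :
    Nat.card (Subgroup.centralizer ({(y : G)} : Set G) ⊓ N : Subgroup G) =
      Nat.card (Subgroup.centralizer ({y} : Set N)) := by
  rw [← map_centralizer_subtype, Subgroup.card_subtype]

/-- sum over a class of the values. -/
theorem finsum_class [Finite G] (χ : IrrCharacter G) (g : G) :
    ∑ᶠ h ∈ {h : G | IsConj g h}, (χ : G → ℂ) h / (χ : G → ℂ) 1 = centralChar (χ : G → ℂ) g := by
  have h1 : ∑ᶠ h ∈ {h : G | IsConj g h}, (χ : G → ℂ) h / (χ : G → ℂ) 1 =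
      ∑ᶠ h ∈ {h : G | IsConj g h}, (χ : G → ℂ) g / (χ : G → ℂ) 1 := by
    refine finsum_mem_congr rfl ?_
    intro h hh
    obtain ⟨c, hc⟩ := isConj_iff.mp hh
    rw [← hc, irr_conj]
  rw [h1, finsum_mem_eq_finite_toFinset_sum _ (Set.toFinite _), Finset.sum_const,
    ← Set.ncard_eq_toFinset_card _ (Set.toFinite _),
    Cfsg.Agent.Blocks.Induced.ncard_conj_eq_index, nsmul_eq_mul]
  unfold centralChar
  ring

/-- The central character of the induced block at a class with defect group `D`. -/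
theorem brauerCentralChar_eq [Finite G] {p : ℕ} [Fact p.Prime] (D N : Subgroup G)
    (hN : N = Subgroup.normalizer (D : Set G)) (hD : IsPGroup p D) (y : N)
    (hle : D.subgroupOf N ≤ Subgroup.centralizer ({y} : Set N))
    (hcard : Nat.card D = p ^ (Nat.card (Subgroup.centralizer
      ({y} : Set N))).factorization p) :
    (y : G) ∈ Subgroup.centralizer (D : Set G) ∧
    (∃ S : Sylow p (Subgroup.centralizer ({(y : G)} : Set G)),
      (S : Subgroup (Subgroup.centralizer ({(y : G)} : Set G))).map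
        (Subgroup.centralizer ({(y : G)} : Set G)).subtype = D) ∧
    ∀ ξ : IrrCharacter N,
      brauerCentralChar D N (ξ : _ → ℂ) (y : G) = centralChar (ξ : _ → ℂ) y := by
  have hDN : D ≤ N := hN ▸ Subgroup.le_normalizer
  have hyC : (y : G) ∈ Subgroup.centralizer (D : Set G) := by
    rw [Subgroup.mem_centralizer_iff]
    intro d hd
    have h1 := hle (show (⟨d, hDN hd⟩ : N) ∈ D.subgroupOf N from hd)
    rw [Subgroup.mem_centralizer_singleton_iff] at h1
    exact congrArg Subtype.val h1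
  have hS1 : ∃ S : Sylow p (Subgroup.centralizer ({(y : G)} : Set G) ⊓ N : Subgroup G),
      (S : Subgroup ↥(Subgroup.centralizer ({(y : G)} : Set G) ⊓ N)).map
        (Subgroup.centralizer ({(y : G)} : Set G) ⊓ N).subtype = D := by
    refine exists_sylow_map_eq_of_card ?_ ?_
    · refine le_inf ?_ hDN
      intro d hd
      rw [Subgroup.mem_centralizer_singleton_iff]
      exact (Subgroup.mem_centralizer_iff.mp hyC) d hd
    · rw [card_centralizer_inf, hcard]
  have h916 := Cfsg.Agent.S0916.result p D hD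
  rw [← hN] at h916
  have hS2 := h916.2 (y : G) hyC hS1
  refine ⟨hyC, hS2, fun ξ => ?_⟩
  rw [← finsum_class]
  unfold brauerCentralChar
  refine finsum_mem_congr ?_ fun _ _ => rfl
  ext h
  constructor
  · rintro ⟨h1, h2⟩
    obtain ⟨n, hn, hnh⟩ := (h916.1 (y : G) hS2).2 (y : G) (h : G) (IsConj.refl _) h1 hyC h2
    exact isConj_iff.mpr ⟨⟨n, hn⟩, Subtype.ext hnh⟩
  · intro h1
    obtain ⟨c, hc⟩ := isConj_iff.mp h1
    have hc' : (c : G) * (y : G) * (c : G)⁻¹ = (h : G) := by
      rw [← hc]; rfl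
    refine ⟨isConj_iff.mpr ⟨c, hc'⟩, ?_⟩
    rw [Subgroup.mem_centralizer_iff]
    intro d hd
    have hcN : (c : G)⁻¹ ∈ Subgroup.normalizer (D : Set G) := hN ▸ N.inv_mem c.2
    have hd' : (c : G)⁻¹ * d * c ∈ D := by
      have := (Subgroup.mem_normalizer_iff.mp hcN d).mp hd
      simpa using this
    have h3 := (Subgroup.mem_centralizer_iff.mp hyC) _ hd'
    rw [← hc']
    calc d * ((c : G) * y * (c : G)⁻¹) = c * (((c : G)⁻¹ * d * c) * y) * (c : G)⁻¹ := by group
      _ = c * (y * ((c : G)⁻¹ * d * c)) * (c : G)⁻¹ := by rw [h3]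
      _ = (c : G) * y * (c : G)⁻¹ * d := by group

theorem card_map_conj (D : Subgroup G) (x : G) :
    Nat.card (D.map (MulAut.conj x).toMonoidHom) = Nat.card D :=
  (Nat.card_congr (D.equivMapOfInjective _ (MulAut.conj x).injective).toEquiv).symm

theorem first_main [Finite G] (p : ℕ) [Fact p.Prime] (M : Ideal AlgInt) (hM : IsPModular p M)
    (D N : Subgroup G) (hN : N = Subgroup.normalizer (D : Set G)) (hD : IsPGroup p D)
    (b : Set (IrrCharacter N)) (hb : IsPBlock M b)
    (hdef : IsDefectGroup p M b (D.subgroupOf N)) :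
    ∃ B : Set (IrrCharacter G), IsPBlock M B ∧ IsDefectGroup p M B D ∧ IsInducedBlock M N b B := by
  have hP := isPrime_of_isPModular hM
  have hDN : D ≤ N := hN ▸ Subgroup.le_normalizer
  have hCN : Subgroup.centralizer (D : Set G) ≤ N :=
    hN ▸ Subgroup.centralizer_le_normalizer _
  have hNN : N ≤ Subgroup.normalizer (D : Set G) := hN.le
  obtain ⟨y, hy, S, hS⟩ := id hdef
  have hle : D.subgroupOf N ≤ Subgroup.centralizer ({y} : Set N) :=
    hS ▸ Subgroup.map_subtype_le _
  have hcard : Nat.card D = p ^ (Nat.card (Subgroup.centralizer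
      ({y} : Set N))).factorization p := by
    rw [← card_of_sylow_map_eq ⟨S, hS.symm⟩]
    exact (Nat.card_congr (Subgroup.subgroupOfEquivOfLe hDN).toEquiv).symm
  obtain ⟨hyC, hS2, hbr⟩ := brauerCentralChar_eq D N hN hD y hle hcard
  obtain ⟨B, hind⟩ := Cfsg.Agent.S0919.result p M hM D N hD hDN hCN hNN b hb
  have hB := hind.2.1
  refine ⟨B, hB, ?_, hind⟩
  obtain ⟨E, hE, hDE⟩ := Cfsg.Agent.S0917.result p M hM N b hb B hB hind _ hdef
  obtain ⟨g, hg, T, hT⟩ := id hE
  obtain ⟨ξ, hξ⟩ := isPBlock_nonempty hb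
  obtain ⟨χ, hχ⟩ := isPBlock_nonempty hB
  have h1 : ¬ MemLocalIdeal M (centralChar (χ : G → ℂ) (y : G)) := by
    have := (Cfsg.Agent.S0918.result p M hM D N hD hDN hCN hNN b hb B hB).mp hind ξ hξ χ hχ (y : G)
    rw [hbr] at this
    exact fun h => hy.2.2 ξ hξ ((memLocalIdeal_iff_of_sub this).2 h)
  obtain ⟨x, Q, hQ⟩ := (Cfsg.Agent.S0911.result p M hM B hB g hg T (y : G)).2 ⟨χ, hχ, h1⟩
  have hDE' : D ≤ E := by
    have h2 : (D.subgroupOf N).map N.subtype = D := by
      rw [Subgroup.subgroupOf_map_subtype]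
      exact inf_eq_left.mpr hDN
    rw [← h2]
    exact hDE
  have hcardE : Nat.card E ≤ Nat.card D := by
    rw [← hT] at hQ
    have h3 := Subgroup.card_le_of_le hQ
    rw [card_map_conj] at h3
    rw [card_of_sylow_map_eq hS2]
    rw [card_of_sylow_map_eq ⟨Q, rfl⟩] at h3
    exact h3
  have hEq : D = E := Subgroup.eq_of_le_of_card_ge hDE' hcardE
  rw [hEq]
  exact hE

theorem exists_block [Finite G] (p : ℕ) [Fact p.Prime] (M : Ideal AlgInt) (hM : IsPModular p M)
    (D N : Subgroup G) (hN : N = Subgroup.normalizer (D : Set G)) (hD : IsPGroup p D)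
    (B : Set (IrrCharacter G)) (hB : IsPBlock M B)
    (hdef : IsDefectGroup p M B D) :
    ∃ b : Set (IrrCharacter N), IsPBlock M b ∧ IsDefectGroup p M b (D.subgroupOf N) ∧
      IsInducedBlock M N b B := by
  have hP := isPrime_of_isPModular hM
  have hDN : D ≤ N := hN ▸ Subgroup.le_normalizer
  have hCN : Subgroup.centralizer (D : Set G) ≤ N :=
    hN ▸ Subgroup.centralizer_le_normalizer _
  have hNN : N ≤ Subgroup.normalizer (D : Set G) := hN.le
  obtain ⟨b, hind⟩ := (Cfsg.Agent.S0958.result p M hM D N hD (sup_le hDN hCN) hNN B hB).mpr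
    ⟨D, hdef, 1, by
      intro z hz
      obtain ⟨w, hw, rfl⟩ := hz
      simpa using hw⟩
  have hb := hind.1
  refine ⟨b, hb, ?_, hind⟩
  obtain ⟨y, hy⟩ := Cfsg.Agent.S0906.result p M hM b hb
  obtain ⟨S⟩ : Nonempty (Sylow p (Subgroup.centralizer ({y} : Set N))) := inferInstance
  have hDb : IsDefectGroup p M b ((S : Subgroup (Subgroup.centralizer ({y} : Set N))).map
      (Subgroup.centralizer ({y} : Set N)).subtype) := ⟨y, hy, S, rfl⟩
  have hnorm : (D.subgroupOf N).Normal := by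
    rw [Subgroup.normal_subgroupOf_iff_le_normalizer hDN]
    exact hNN
  have h1 : D.subgroupOf N ≤ ((S : Subgroup (Subgroup.centralizer ({y} : Set N))).map
      (Subgroup.centralizer ({y} : Set N)).subtype) := by
    refine le_trans ?_ (Cfsg.Agent.S0912.result p M hM b hb _ hDb)
    exact le_sSup ⟨hnorm, hD.comap_subtype⟩
  obtain ⟨E, hE, hle⟩ := Cfsg.Agent.S0917.result p M hM N b hb B hB hind _ hDb
  have h2 : Nat.card E = Nat.card D := by
    rw [Cfsg.Agent.S0908.result p M hM B hB E hE, Cfsg.Agent.S0908.result p M hM B hB D hdef]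
  have h3 := Subgroup.card_le_of_le hle
  rw [Subgroup.card_subtype, h2, ← Nat.card_congr (Subgroup.subgroupOfEquivOfLe hDN).toEquiv] at h3
  rw [Subgroup.eq_of_le_of_card_ge h1 h3]
  exact hDb

/-- key estimate for uniqueness -/
theorem term_mem [Finite G] (p : ℕ) [Fact p.Prime] (M : Ideal AlgInt) (hM : IsPModular p M)
    (D N : Subgroup G) (hN : N = Subgroup.normalizer (D : Set G)) (hD : IsPGroup p D)
    (B : Set (IrrCharacter G)) (hB : IsPBlock M B)
    (b b' : Set (IrrCharacter N)) (hb : IsPBlock M b) (hb' : IsPBlock M b')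
    (hdb : IsDefectGroup p M b (D.subgroupOf N)) (hdb' : IsDefectGroup p M b' (D.subgroupOf N))
    (hind : IsInducedBlock M N b B) (hind' : IsInducedBlock M N b' B)
    (ξ ξ' : IrrCharacter N) (hξ : ξ ∈ b) (hξ' : ξ' ∈ b') (y : N) :
    MemLocalIdeal M (blockCoeff b y * (centralChar (ξ : N → ℂ) y - centralChar (ξ' : N → ℂ) y)) := by
  have hP := isPrime_of_isPModular hM
  have hDN : D ≤ N := hN ▸ Subgroup.le_normalizer
  have hCN : Subgroup.centralizer (D : Set G) ≤ N :=
    hN ▸ Subgroup.centralizer_le_normalizer _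
  have hNN : N ≤ Subgroup.normalizer (D : Set G) := hN.le
  have hnorm : (D.subgroupOf N).Normal := by
    rw [Subgroup.normal_subgroupOf_iff_le_normalizer hDN]
    exact hNN
  have hconj : ∀ x : N, (D.subgroupOf N).map (MulAut.conj x).toMonoidHom = D.subgroupOf N :=
    fun x => Subgroup.Normal.map_conj_eq _ _
  have hcoeff := Cfsg.Agent.S0913.result p M hM b hb y
  by_cases h1 : MemLocalIdeal M (blockCoeff b y)
  · exact memLocalIdeal_mul_right h1
      (memLocalRing_sub (memLocalRing_centralChar ξ y) (memLocalRing_centralChar ξ' y))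
  obtain ⟨g, hg, S, hS⟩ := hdb
  obtain ⟨g', hg', S', hS'⟩ := hdb'
  refine memLocalIdeal_mul_left hcoeff ?_
  obtain ⟨x, Q, hQ⟩ := (Cfsg.Agent.S0911.result p M hM b hb g hg S y).1 hcoeff h1
  rw [← hS, hconj] at hQ
  by_cases h2 : MemLocalIdeal M (centralChar (ξ : N → ℂ) y) ∧
      MemLocalIdeal M (centralChar (ξ' : N → ℂ) y)
  · exact memLocalIdeal_sub h2.1 h2.2
  have h3 : ∃ Q' : Sylow p (Subgroup.centralizer ({y} : Set N)),
      D.subgroupOf N ≤ (Q' : Subgroup (Subgroup.centralizer ({y} : Set N))).map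
        (Subgroup.centralizer ({y} : Set N)).subtype := by
    rw [not_and_or] at h2
    rcases h2 with h2 | h2
    · obtain ⟨x', Q', hQ'⟩ := (Cfsg.Agent.S0911.result p M hM b hb g hg S y).2 ⟨ξ, hξ, h2⟩
      rw [← hS, hconj] at hQ'
      exact ⟨Q', hQ'⟩
    · obtain ⟨x', Q', hQ'⟩ := (Cfsg.Agent.S0911.result p M hM b' hb' g' hg' S' y).2 ⟨ξ', hξ', h2⟩
      rw [← hS', hconj] at hQ'
      exact ⟨Q', hQ'⟩
  obtain ⟨Q', hQ'⟩ := h3
  have hcard : Nat.card D = p ^ (Nat.card (Subgroup.centralizer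
      ({y} : Set N))).factorization p := by
    rw [← Nat.card_congr (Subgroup.subgroupOfEquivOfLe hDN).toEquiv]
    apply le_antisymm
    · rw [← card_of_sylow_map_eq ⟨Q', rfl⟩]
      exact Subgroup.card_le_of_le hQ'
    · rw [← card_of_sylow_map_eq ⟨Q, rfl⟩]
      exact Subgroup.card_le_of_le hQ
  have hle : D.subgroupOf N ≤ Subgroup.centralizer ({y} : Set N) :=
    hQ'.trans (Subgroup.map_subtype_le _)
  obtain ⟨hyC, hS2, hbr⟩ := brauerCentralChar_eq D N hN hD y hle hcard
  obtain ⟨χ, hχ⟩ := isPBlock_nonempty hB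
  have e1 := (Cfsg.Agent.S0918.result p M hM D N hD hDN hCN hNN b hb B hB).mp hind ξ hξ χ hχ (y : G)
  have e2 := (Cfsg.Agent.S0918.result p M hM D N hD hDN hCN hNN b' hb' B hB).mp hind'
    ξ' hξ' χ hχ (y : G)
  rw [hbr] at e1 e2
  exact memLocalIdeal_sub_trans e1 (memLocalIdeal_sub_comm e2)

theorem blockCoeff_conj (A : Set (IrrCharacter G)) (g h : G) :
    blockCoeff A (h * g * h⁻¹) = blockCoeff A g := by
  unfold blockCoeff
  congr 1
  refine finsum_mem_congr rfl fun χ _ => ?_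
  rw [irr_conj]

/-- A sum over the group of a product of a class function with values of characters, as a sum
over the classes. -/
theorem sum_eq_sum_class [Fintype G] [Fintype (ConjClasses G)] (a : G → ℂ)
    (ha : ∀ g h : G, a (h * g * h⁻¹) = a g) (ξ ξ' : IrrCharacter G) :
    ∑ g : G, a g * ((ξ : G → ℂ) g / (ξ : G → ℂ) 1 - (ξ' : G → ℂ) g / (ξ' : G → ℂ) 1) =
      ∑ c : ConjClasses G, a (Quotient.out c) *
        (centralChar (ξ : G → ℂ) (Quotient.out c) - centralChar (ξ' : G → ℂ) (Quotient.out c)) := by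
  classical
  rw [← Finset.sum_fiberwise (Finset.univ) (ConjClasses.mk : G → ConjClasses G)]
  refine Finset.sum_congr rfl fun c _ => ?_
  set r : G := Quotient.out c with hr
  have hrc : ConjClasses.mk r = c := Quotient.out_eq c
  have h1 : ∀ g ∈ (Finset.univ.filter fun g : G => ConjClasses.mk g = c),
      a g * ((ξ : G → ℂ) g / (ξ : G → ℂ) 1 - (ξ' : G → ℂ) g / (ξ' : G → ℂ) 1) =
      a r * ((ξ : G → ℂ) r / (ξ : G → ℂ) 1 - (ξ' : G → ℂ) r / (ξ' : G → ℂ) 1) := by
    intro g hg
    have h2 : ConjClasses.mk g = c := (Finset.mem_filter.1 hg).2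
    have h3 : IsConj r g := by
      rw [← ConjClasses.mk_eq_mk_iff_isConj, h2, hrc]
    obtain ⟨x, hx⟩ := isConj_iff.1 h3
    rw [← hx, ha, irr_conj, irr_conj]
  rw [Finset.sum_congr rfl h1, Finset.sum_const, nsmul_eq_mul]
  have hcard : (Finset.univ.filter fun g : G => ConjClasses.mk g = c).card =
      (Subgroup.centralizer ({r} : Set G)).index := by
    rw [← Cfsg.Agent.Blocks.Induced.ncard_conj_eq_index,
      Set.ncard_eq_toFinset_card _ (Set.toFinite _)]
    congr 1
    ext y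
    simp only [Finset.mem_filter, Set.Finite.mem_toFinset, Set.mem_ofPred_eq, Finset.mem_univ,
      true_and]
    rw [← hrc, ConjClasses.mk_eq_mk_iff_isConj]
    exact ⟨fun h => h.symm, fun h => h.symm⟩
  rw [hcard]
  unfold centralChar
  ring

theorem unique_block [Finite G] (p : ℕ) [Fact p.Prime] (M : Ideal AlgInt) (hM : IsPModular p M)
    (D N : Subgroup G) (hN : N = Subgroup.normalizer (D : Set G)) (hD : IsPGroup p D)
    (B : Set (IrrCharacter G)) (hB : IsPBlock M B)
    (b b' : Set (IrrCharacter N)) (hb : IsPBlock M b) (hb' : IsPBlock M b')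
    (hdb : IsDefectGroup p M b (D.subgroupOf N)) (hdb' : IsDefectGroup p M b' (D.subgroupOf N))
    (hind : IsInducedBlock M N b B) (hind' : IsInducedBlock M N b' B) : b = b' := by
  classical
  have hP := isPrime_of_isPModular hM
  obtain ⟨ξ, hξ⟩ := isPBlock_nonempty hb
  obtain ⟨ξ', hξ'⟩ := isPBlock_nonempty hb'
  by_cases h : ξ' ∈ b
  · exact isPBlock_eq_of_mem hb hb' h hξ'
  exfalso
  have : Fintype N := Fintype.ofFinite N
  have : Fintype (ConjClasses N) := Fintype.ofFinite _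
  have e1 := sum_blockCoeff_mul b ξ
  have e2 := sum_blockCoeff_mul b ξ'
  rw [if_pos hξ] at e1
  rw [if_neg h] at e2
  have e3 := sum_eq_sum_class (blockCoeff b) (blockCoeff_conj b) ξ ξ'
  have e4 : ∑ g : N, blockCoeff b g * ((ξ : N → ℂ) g / (ξ : N → ℂ) 1 -
      (ξ' : N → ℂ) g / (ξ' : N → ℂ) 1) = 1 := by
    simp_rw [mul_sub]
    rw [Finset.sum_sub_distrib, e1, e2, sub_zero]
  rw [e4] at e3
  apply not_memLocalIdeal_one (M := M)
  rw [e3]
  exact memLocalIdeal_sum fun c _ => term_mem p M hM D N hN hD B hB b b' hb hb' hdb hdb' hind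
    hind' ξ ξ' hξ hξ' _

end group

/-- Brauer's First Main Theorem. Let D be a p-subgroup of the finite group G with normalizer N, and fix a maximal ideal M of the algebraic integers containing p. Then (i) every block b of N having D as a defect group induces some block B of G having D as a defect group; (ii) every block of G with defect group D is induced by exactly one block of N with defect group D. -/
theorem result {G : Type*} [Group G] [Finite G] (p : ℕ) [Fact p.Prime] (M : Ideal Cfsg.AlgInt) (hM : Cfsg.IsPModular p M) (D : Subgroup G) (hD : IsPGroup p D) : (∀ b : Set (Cfsg.IrrCharacter (Subgroup.normalizer (D : Set G))), Cfsg.IsPBlock M b → Cfsg.IsDefectGroup p M b (D.subgroupOf (Subgroup.normalizer (D : Set G))) → ∃ B : Set (Cfsg.IrrCharacter G), Cfsg.IsPBlock M B ∧ Cfsg.IsDefectGroup p M B D ∧ Cfsg.IsInducedBlock M (Subgroup.normalizer (D : Set G)) b B) ∧ (∀ B : Set (Cfsg.IrrCharacter G), Cfsg.IsPBlock M B → Cfsg.IsDefectGroup p M B D → ∃! b : Set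 (Cfsg.IrrCharacter (Subgroup.normalizer (D : Set G))), Cfsg.IsPBlock M b ∧ Cfsg.IsDefectGroup p M b (D.subgroupOf (Subgroup.normalizer (D : Set G))) ∧ Cfsg.IsInducedBlock M (Subgroup.normalizer (D : Set G)) b B) := by
  refine ⟨fun b hb hdef => first_main p M hM D _ rfl hD b hb hdef, fun B hB hdef => ?_⟩
  obtain ⟨b, hb, hdb, hind⟩ := exists_block p M hM D _ rfl hD B hB hdef
  refine ⟨b, ⟨hb, hdb, hind⟩, fun b' hb' => ?_⟩
  exact unique_block p M hM D _ rfl hD B hB b' b hb'.1 hb hb'.2.1 hdb hb'.2.2 hind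

end Cfsg.Agent.S0920
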