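import Cfsg.Statements.S0924
import Cfsg.Agent.Blocks.ClassTwist
import Cfsg.Agent.Blocks.Basic
import Cfsg.Agent.S0906

set_option autoImplicit false
open Cfsg

namespace Cfsg.Agent.S0924

/-- Let χ be an irreducible character of the finite group G and g ∈ G, and fix a maximal ideal M of the algebraic integers containing the prime p. If the p-part of g is contained in no defect group of the block of χ, then χ g = 0. -/
theorem result {G : Type*} [Group G] [Finite G] (p : ℕ) [Fact p.Prime] (M : Ideal Cfsg.AlgInt) (hM : Cfsg.IsPModular p M) (χ : Cfsg.IrrCharacter G) (g x : G) (hx : Cfsg.IsPPart p g x) (hD : ∀ D : Subgroup G, Cfsg.IsDefectGroup p M (Cfsg.blockOf M (χ : G → ℂ)) D → x ∉ D) : (χ : G → ℂ) g = 0 := by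
  have hMp : M.IsPrime := hM.2.1.isPrime
  have hB : IsPBlock M (blockOf M (χ : G → ℂ)) := ⟨χ, rfl⟩
  obtain ⟨k, hk⟩ := Cfsg.Agent.S0906.result p M hM _ hB
  refine Cfsg.Agent.Blocks.ClassTwist.irr_apply_eq_zero_of_centralChar hM χ.2
    (hk.2.2 χ (Cfsg.Agent.Blocks.Basic.mem_blockOf_self χ)) hx ?_
  intro s hs hxs
  obtain ⟨y, hxy, hc, ⟨n, hn⟩, hy⟩ := hx
  have hpg : IsPGroup p (Subgroup.zpowers x) := by
    apply IsPGroup.of_card (n := n)
    rw [Nat.card_zpowers, hn]
  have hle : Subgroup.zpowers x ≤ Subgroup.centralizer ({s} : Set G) := by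
    rw [Subgroup.zpowers_le, Subgroup.mem_centralizer_singleton_iff]
    exact hxs
  obtain ⟨D, hD1, hD2⟩ := Cfsg.Agent.Blocks.Basic.exists_isSylowCentralizer hpg hle
  refine hD D ⟨s, Cfsg.Agent.Blocks.Basic.isDefectClass_isConj hs hk, hD1⟩ ?_
  exact hD2 (Subgroup.mem_zpowers x)

end Cfsg.Agent.S0924
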