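import Cfsg.Statements.S0926
import Cfsg.Agent.Blocks.HeightZeroSection
import Cfsg.Agent.Blocks.Basic
import Cfsg.Agent.S0907
import Cfsg.Agent.S0924
import Cfsg.Agent.S0911
import Cfsg.Agent.Blocks.SylowIn

set_option autoImplicit false
open Cfsg

namespace Cfsg.Agent.S0926

/-- Let B be a block of the finite group G with defect group D (relative to a maximal ideal M of the algebraic integers containing p), let χ ∈ B have height zero, and let x be a p-element. Then some conjugate of x lies in D if and only if χ does not vanish on the whole p-section of x (the elements whose p-part is conjugate to x). -/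
theorem result {G : Type*} [Group G] [Finite G] (p : ℕ) [Fact p.Prime] (M : Ideal Cfsg.AlgInt) (hM : Cfsg.IsPModular p M) (B : Set (Cfsg.IrrCharacter G)) (hB : Cfsg.IsPBlock M B) (D : Subgroup G) (hD : Cfsg.IsDefectGroup p M B D) (χ : Cfsg.IrrCharacter G) (hχ : χ ∈ B) (h0 : Cfsg.blockHeight p B (χ : G → ℂ) = 0) (x : G) (hx : ∃ k : ℕ, orderOf x = p ^ k) : (∃ g : G, g * x * g⁻¹ ∈ D) ↔ ∃ u : G, (∃ z : G, Cfsg.IsPPart p u z ∧ IsConj x z) ∧ (χ : G → ℂ) u ≠ 0 := by
  have hMp : M.IsPrime := Cfsg.Agent.Blocks.LocalRing.isPrime hM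
  have hvan : ∀ z : G, p ∣ orderOf z →
      ∑ᶠ χ ∈ B, (χ : G → ℂ) 1 * (starRingEnd ℂ) ((χ : G → ℂ) z) = 0 := by
    intro z hz
    refine Cfsg.Agent.S0907.result p M hM B hB 1 z ?_ hz
    rw [orderOf_one]
    exact fun h => (Fact.out : p.Prime).one_lt.ne' (Nat.dvd_one.1 h)
  constructor
  · rintro ⟨g, hg⟩
    obtain ⟨y, hy, P, rfl⟩ := hD
    obtain ⟨w, hw, hwg⟩ := hg
    have hwx : (w : G) = g * x * g⁻¹ := hwg
    have hwy : Commute (w : G) y := Subgroup.mem_centralizer_singleton_iff.1 w.2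
    have hword : ∃ k : ℕ, orderOf (w : G) = p ^ k := by
      obtain ⟨k, hk⟩ := hx
      refine ⟨k, ?_⟩
      rw [hwx, ← hk]
      exact orderOf_injective (MulAut.conj g).toMonoidHom (MulAut.conj g).injective x
    refine ⟨(w : G) * y, ⟨(w : G), ⟨y, rfl, hwy, hword, ?_⟩, ?_⟩, ?_⟩
    · exact Cfsg.Agent.Blocks.HeightZeroSection.not_dvd_orderOf hM hvan hy.2.1
    · exact isConj_iff.2 ⟨g, hwx.symm⟩
    · exact Cfsg.Agent.Blocks.LocalRing.ne_zero_of_not_memLocalIdeal hM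
        (Cfsg.Agent.Blocks.HeightZeroSection.not_memLocalIdeal_apply hM hvan hy hχ h0 hwy hword)
  · rintro ⟨u, ⟨z, hz, hxz⟩, hu⟩
    by_contra hcon
    push Not at hcon
    apply hu
    have hBχ : B = Cfsg.blockOf M (χ : G → ℂ) :=
      Cfsg.Agent.Blocks.Basic.isPBlock_eq_blockOf hB hχ
    refine Cfsg.Agent.S0924.result p M hM χ u z hz fun D' hD' hzD' => ?_
    rw [← hBχ] at hD'
    -- defect groups are conjugate
    obtain ⟨c, hc⟩ : ∃ c : G, D' ≤ D.map (MulAut.conj c).toMonoidHom := by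
      obtain ⟨y, hy, P, rfl⟩ := hD
      obtain ⟨y', hy', P', rfl⟩ := hD'
      obtain ⟨c, Q, hQ⟩ := (Cfsg.Agent.S0911.result p M hM B hB y hy P y').1 hy'.1 hy'.2.1
      obtain ⟨k, hk, hk'⟩ := Cfsg.Agent.Blocks.SylowIn.exists_conj_of_sylow_map_eq
        (p := p) (K := Subgroup.centralizer ({y'} : Set G)) ⟨Q, rfl⟩ ⟨P', rfl⟩
      refine ⟨k * c, ?_⟩
      rw [← hk', ← Cfsg.Agent.Blocks.Basic.map_conj_map_conj]
      exact Subgroup.map_mono hQ
    obtain ⟨d, hd, hdz⟩ := hc hzD'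
    obtain ⟨a, ha⟩ := isConj_iff.1 hxz
    refine hcon (c⁻¹ * a) ?_
    have h1 : c * d * c⁻¹ = z := hdz
    have h2 : c⁻¹ * a * x * (c⁻¹ * a)⁻¹ = d := by
      calc c⁻¹ * a * x * (c⁻¹ * a)⁻¹ = c⁻¹ * (a * x * a⁻¹) * c := by group
        _ = c⁻¹ * (c * d * c⁻¹) * c := by rw [ha, h1]
        _ = d := by group
    rw [h2]
    exact hd

end Cfsg.Agent.S0926
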