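import Cfsg.Statements.S0929
import Cfsg.Agent.S0911
import Cfsg.Agent.Blocks.BrauerLift

set_option autoImplicit false
open Cfsg

namespace Cfsg.Agent.S0929

/-- Let B be a block of the finite group G with defect group P (relative to a maximal ideal M of the algebraic integers containing p), and let g be an element at which the central character of some member of B is not in the local ideal at M. Then some conjugate x of g centralizes P and has its p-part in the centre of P. -/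
theorem result {G : Type*} [Group G] [Finite G] (p : ℕ) [Fact p.Prime] (M : Ideal Cfsg.AlgInt) (hM : Cfsg.IsPModular p M) (B : Set (Cfsg.IrrCharacter G)) (hB : Cfsg.IsPBlock M B) (P : Subgroup G) (hP : Cfsg.IsDefectGroup p M B P) (g : G) (hg : ∃ χ ∈ B, ¬ Cfsg.MemLocalIdeal M (Cfsg.centralChar (χ : G → ℂ) g)) : ∃ x : G, IsConj g x ∧ x ∈ Subgroup.centralizer (P : Set G) ∧ ∀ z : G, Cfsg.IsPPart p x z → z ∈ P ∧ ∀ w ∈ P, z * w = w * z := by
  obtain ⟨y, hy, S, rfl⟩ := hP
  obtain ⟨χ, hχB, hχg⟩ := hg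
  refine Cfsg.Agent.Blocks.BrauerLift.exists_isConj_pPart_mem hM χ.2 (hy.2.2 χ hχB) ⟨S, rfl⟩ ?_ hχg
  intro h hh
  obtain ⟨t, Q, hQ⟩ := (Cfsg.Agent.S0911.result p M hM B hB y hy S h).2 ⟨χ, hχB, hh⟩
  refine ⟨t⁻¹ * h * t, isConj_iff.2 ⟨t⁻¹, by group⟩, ?_⟩
  rw [Subgroup.mem_centralizer_iff]
  intro w hw
  have h1 : t * w * t⁻¹ ∈ Subgroup.centralizer ({h} : Set G) :=
    Subgroup.map_subtype_le _ (hQ ⟨w, hw, rfl⟩)
  rw [Subgroup.mem_centralizer_singleton_iff] at h1
  calc w * (t⁻¹ * h * t) = t⁻¹ * (t * w * t⁻¹ * h) * t := by group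
    _ = t⁻¹ * (h * (t * w * t⁻¹)) * t := by rw [h1]
    _ = t⁻¹ * h * t * w := by group

end Cfsg.Agent.S0929
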