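import Mathlib
import Cfsg.Statements.S0930
import Cfsg.Agent.S0907
import Cfsg.Agent.S0927
import Cfsg.Agent.S0929

set_option autoImplicit false
open Cfsg

namespace Cfsg.Agent.S0930

section localIdeal

variable {p : ℕ} {M : Ideal AlgInt}

theorem memLocalIdeal_zero (hM : IsPModular p M) : MemLocalIdeal M 0 :=
  ⟨0, 1, M.zero_mem, fun h => hM.2.1.ne_top (M.eq_top_of_isUnit_mem h isUnit_one), by simp⟩

theorem memLocalIdeal_add (hM : IsPModular p M) {z w : ℂ} (hz : MemLocalIdeal M z)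
    (hw : MemLocalIdeal M w) : MemLocalIdeal M (z + w) := by
  obtain ⟨a, b, ha, hb, rfl⟩ := hz
  obtain ⟨c, d, hc, hd, rfl⟩ := hw
  have hpr : M.IsPrime := hM.2.1.isPrime
  have hb0 : (b : ℂ) ≠ 0 := by
    intro h
    apply hb
    have : b = 0 := Subtype.ext h
    rw [this]; exact M.zero_mem
  have hd0 : (d : ℂ) ≠ 0 := by
    intro h
    apply hd
    have : d = 0 := Subtype.ext h
    rw [this]; exact M.zero_mem
  refine ⟨a * d + c * b, b * d, M.add_mem (M.mul_mem_right _ ha) (M.mul_mem_right _ hc), ?_, ?_⟩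
  · intro h
    rcases hpr.mem_or_mem h with h | h
    · exact hb h
    · exact hd h
  · push_cast
    field_simp

theorem memLocalIdeal_neg {z : ℂ} (hz : MemLocalIdeal M z) :
    MemLocalIdeal M (-z) := by
  obtain ⟨a, b, ha, hb, rfl⟩ := hz
  exact ⟨-a, b, M.neg_mem ha, hb, by push_cast; ring⟩

theorem memLocalIdeal_sum (hM : IsPModular p M) {ι : Type*} (s : Finset ι) (f : ι → ℂ)
    (h : ∀ i ∈ s, MemLocalIdeal M (f i)) : MemLocalIdeal M (∑ i ∈ s, f i) :=
  Finset.sum_induction f (MemLocalIdeal M) (fun _ _ => memLocalIdeal_add hM)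
    (memLocalIdeal_zero hM) h

end localIdeal

theorem index_centralizer {G : Type*} [Group G] [Finite G] (g : G) :
    (Subgroup.centralizer ({g} : Set G)).index = (ConjClasses.mk g).carrier.ncard := by
  rw [Subgroup.centralizer_eq_comap_stabilizer, ← ConjAct.orbit_eq_carrier_conjClasses,
    ← MulAction.index_stabilizer]
  exact Subgroup.index_comap_of_surjective _ (MulEquiv.surjective _)

theorem irr_conj {G : Type*} [Group G] {χ : G → ℂ} (hχ : IsIrrCharacter G χ) {g h : G}
    (hgh : IsConj g h) : χ g = χ h := by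
  obtain ⟨n, ρ, -, rfl⟩ := hχ
  obtain ⟨c, rfl⟩ := isConj_iff.1 hgh
  rw [Representation.char_conj]

theorem memLocalIdeal_inducedCentralChar {G : Type*} [Group G] [Finite G] {p : ℕ}
    {M : Ideal AlgInt} (hM : IsPModular p M) (H : Subgroup G) (ξ : IrrCharacter H) (g : G)
    (h : ∀ k : H, IsConj g (k : G) → MemLocalIdeal M (centralChar (ξ : H → ℂ) k)) :
    MemLocalIdeal M (inducedCentralChar H (ξ : H → ℂ) g) := by
  classical
  have := Fintype.ofFinite H
  have := Fintype.ofFinite (ConjClasses H)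
  have e1 : inducedCentralChar H (ξ : H → ℂ) g =
      ∑ C : ConjClasses H, ∑ k : H, if ConjClasses.mk k = C ∧ IsConj g (k : G) then
        (ξ : H → ℂ) k / (ξ : H → ℂ) 1 else 0 := by
    unfold inducedCentralChar
    rw [Finset.sum_comm, finsum_mem_def, finsum_eq_sum_of_fintype]
    refine Finset.sum_congr rfl fun k _ => ?_
    simp only [Set.indicator, Set.mem_ofPred_eq]
    by_cases hk : IsConj g (k : G)
    · simp [hk, -isConj_iff]
    · simp [hk, -isConj_iff]
  rw [e1]
  refine memLocalIdeal_sum hM _ _ fun C _ => ?_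
  obtain ⟨k, rfl⟩ := ConjClasses.exists_rep C
  by_cases hk : IsConj g (k : G)
  · have e2 : (∑ l : H, if ConjClasses.mk l = ConjClasses.mk k ∧ IsConj g (l : G) then
        (ξ : H → ℂ) l / (ξ : H → ℂ) 1 else 0) = centralChar (ξ : H → ℂ) k := by
      have e3 : ∀ l : H, (if ConjClasses.mk l = ConjClasses.mk k ∧ IsConj g (l : G) then
          (ξ : H → ℂ) l / (ξ : H → ℂ) 1 else 0) =
          if l ∈ (ConjClasses.mk k).carrier then (ξ : H → ℂ) k / (ξ : H → ℂ) 1 else 0 := by
        intro l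
        rw [ConjClasses.mem_carrier_iff_mk_eq]
        by_cases hl : ConjClasses.mk l = ConjClasses.mk k
        · have hlk : IsConj l k := ConjClasses.mk_eq_mk_iff_isConj.1 hl
          have hgl : IsConj g (l : G) := by
            refine hk.trans ?_
            obtain ⟨c, hc⟩ := isConj_iff.1 hlk.symm
            exact isConj_iff.2 ⟨c, by rw [← hc]; simp⟩
          simp [hl, hgl, irr_conj ξ.2 hlk, -isConj_iff]
        · simp [hl]
      rw [Finset.sum_congr rfl fun l _ => e3 l, ← Finset.sum_filter, Finset.sum_const,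
        nsmul_eq_mul]
      unfold centralChar
      rw [index_centralizer, Set.ncard_eq_toFinset_card']
      have : (ConjClasses.mk k).carrier.toFinset =
          Finset.univ.filter (fun l => l ∈ (ConjClasses.mk k).carrier) := by
        ext l; simp
      rw [this]
      ring
    rw [e2]
    exact h k hk
  · have e4 : (∑ l : H, if ConjClasses.mk l = ConjClasses.mk k ∧ IsConj g (l : G) then
        (ξ : H → ℂ) l / (ξ : H → ℂ) 1 else 0) = 0 := by
      refine Finset.sum_eq_zero fun l _ => ?_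
      rw [if_neg]
      rintro ⟨h1, h2⟩
      apply hk
      refine h2.trans ?_
      obtain ⟨c, hc⟩ := isConj_iff.1 (ConjClasses.mk_eq_mk_iff_isConj.1 h1)
      exact isConj_iff.2 ⟨c, by rw [← hc]; simp⟩
    rw [e4]
    exact memLocalIdeal_zero hM

/-- elements of a commuting product with coprime orders are powers of the product -/
theorem exists_pow_eq_left {G : Type*} [Group G] {x y : G} (hxy : Commute x y)
    (hco : (orderOf x).Coprime (orderOf y)) : ∃ k : ℕ, (x * y) ^ k = x := by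
  obtain ⟨k, hk1, hk2⟩ := Nat.chineseRemainder hco 1 0
  refine ⟨k, ?_⟩
  rw [hxy.mul_pow, (pow_eq_pow_iff_modEq (x := x) (n := k) (m := 1)).2 hk1,
    (pow_eq_pow_iff_modEq (x := y) (n := k) (m := 0)).2 hk2]
  simp

/-- Let H be a subgroup of the finite group G and fix a maximal ideal M of the algebraic integers containing the prime p. If the block b of H with defect group D induces the block B of G with defect group P, then every element of the centre of P is conjugate in G to an element of the centre of D. -/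
theorem result {G : Type*} [Group G] [Finite G] (p : ℕ) [Fact p.Prime] (M : Ideal Cfsg.AlgInt) (hM : Cfsg.IsPModular p M) (H : Subgroup G) (b : Set (Cfsg.IrrCharacter H)) (B : Set (Cfsg.IrrCharacter G)) (hind : Cfsg.IsInducedBlock M H b B) (D : Subgroup H) (hD : Cfsg.IsDefectGroup p M b D) (P : Subgroup G) (hP : Cfsg.IsDefectGroup p M B P) (x : G) (hx : x ∈ P) (hxc : ∀ w ∈ P, x * w = w * x) : ∃ g : G, g * x * g⁻¹ ∈ D.map H.subtype ∧ ∀ w ∈ D.map H.subtype, (g * x * g⁻¹) * w = w * (g * x * g⁻¹) := by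
  obtain ⟨hb, hB, hbB⟩ := hind
  obtain ⟨y, hy, S, rfl⟩ := hP
  -- y is p-regular
  have hyreg : ¬ p ∣ orderOf y := by
    intro hdvd
    have h0 := Cfsg.Agent.S0907.result p M hM B hB 1 y
      (by rw [orderOf_one]; exact (Fact.out : p.Prime).one_lt.ne' ∘ Nat.dvd_one.1) hdvd
    apply hy.2.1
    have : blockCoeff B y = 0 := by
      unfold blockCoeff
      rw [h0, mul_zero]
    rw [this]
    exact memLocalIdeal_zero hM
  obtain ⟨x', hx', rfl⟩ := hx
  have hxy : Commute (x' : G) y := ((Subgroup.mem_centralizer_iff.1 x'.2) y rfl).symm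
  have hcc := (Cfsg.Agent.S0927.result p M hM B hB y hy S x' hx').2 (by
    intro w hw
    have := hxc w ⟨w, hw, rfl⟩
    exact Subtype.ext this)
  -- the order of x is a power of p
  obtain ⟨j, hj⟩ : ∃ j : ℕ, orderOf (x' : G) = p ^ j := by
    obtain ⟨k, hk⟩ := (IsPGroup.iff_orderOf.1 S.isPGroup') ⟨x', hx'⟩
    refine ⟨k, ?_⟩
    rw [Subgroup.orderOf_mk] at hk
    rw [← hk, Subgroup.orderOf_coe]
  have hcop : (orderOf (x' : G)).Coprime (orderOf y) := by
    rw [hj]
    exact Nat.Coprime.pow_left _ (((Fact.out : p.Prime).coprime_iff_not_dvd).2 hyreg)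
  -- members of the blocks
  obtain ⟨ξ, hξ⟩ : ∃ ξ, ξ ∈ b := by
    obtain ⟨ξ, rfl⟩ := hb
    refine ⟨ξ, fun g => ?_⟩
    rw [sub_self]
    exact memLocalIdeal_zero hM
  obtain ⟨χ, hχ⟩ : ∃ χ, χ ∈ B := by
    obtain ⟨χ, rfl⟩ := hB
    refine ⟨χ, fun g => ?_⟩
    rw [sub_self]
    exact memLocalIdeal_zero hM
  have h1 := hbB ξ hξ χ hχ ((x' : G) * y)
  have h2 : ¬ MemLocalIdeal M (inducedCentralChar H (ξ : H → ℂ) ((x' : G) * y)) := by
    intro h3
    apply hcc χ hχ
    have := memLocalIdeal_add hM h3 (memLocalIdeal_neg h1)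
    rwa [neg_sub, add_sub_cancel] at this
  obtain ⟨k, hk, hk'⟩ : ∃ k : H, IsConj ((x' : G) * y) (k : G) ∧
      ¬ MemLocalIdeal M (centralChar (ξ : H → ℂ) k) := by
    by_contra hcon
    push Not at hcon
    exact h2 (memLocalIdeal_inducedCentralChar hM H ξ _ hcon)
  obtain ⟨l, hkl, hl1, hl2⟩ := Cfsg.Agent.S0929.result p M hM b hb D hD k ⟨ξ, hξ, hk'⟩
  have hxl : IsConj ((x' : G) * y) (l : G) := by
    refine hk.trans ?_
    obtain ⟨c, hc⟩ := isConj_iff.1 hkl
    exact isConj_iff.2 ⟨c, by rw [← hc]; simp⟩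
  obtain ⟨g, hg⟩ := isConj_iff.1 hxl
  obtain ⟨m, hm⟩ := exists_pow_eq_left hxy hcop
  obtain ⟨m', hm'⟩ := exists_pow_eq_left hxy.symm hcop.symm
  have hgx : g * (x' : G) * g⁻¹ = ((l ^ m : H) : G) := by
    rw [Subgroup.coe_pow, ← hg, conj_pow, hm]
  have hgy : g * y * g⁻¹ = ((l ^ m' : H) : G) := by
    rw [Subgroup.coe_pow, ← hg, conj_pow, hxy.eq, hm']
  have hpp : IsPPart p l (l ^ m) := by
    refine ⟨l ^ m', ?_, (Commute.refl l).pow_pow _ _, ⟨j, ?_⟩, ?_⟩
    · apply Subtype.ext
      rw [Subgroup.coe_mul, ← hgx, ← hgy, ← hg]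
      group
    · rw [← Subgroup.orderOf_coe, ← hgx, ← hj]
      exact (MulAut.conj g).orderOf_eq (x' : G)
    · rw [← Subgroup.orderOf_coe, ← hgy]
      have : orderOf (g * y * g⁻¹) = orderOf y := (MulAut.conj g).orderOf_eq y
      rwa [this]
  obtain ⟨hz1, hz2⟩ := hl2 _ hpp
  refine ⟨g, ?_, ?_⟩
  · change g * (x' : G) * g⁻¹ ∈ _
    rw [hgx]
    exact ⟨_, hz1, rfl⟩
  · rintro _ ⟨w, hw, rfl⟩
    change g * (x' : G) * g⁻¹ * w = w * (g * (x' : G) * g⁻¹)
    rw [hgx]
    have := hz2 w hw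
    exact congrArg Subtype.val this

end Cfsg.Agent.S0930
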