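import Cfsg.Statements.S0931
-- import your own Cfsg.Agent.* helpers here
import Mathlib
import Cfsg.Agent.S0906
import Cfsg.Agent.S0908
import Cfsg.Agent.S0917
import Cfsg.Agent.S0930

set_option autoImplicit false
open Cfsg

namespace Cfsg.Agent.S0931

/-- Every block has a defect group. -/
theorem exists_defectGroup {G : Type*} [Group G] [Finite G] (p : ℕ) [Fact p.Prime]
    (M : Ideal Cfsg.AlgInt) (hM : Cfsg.IsPModular p M) (B : Set (Cfsg.IrrCharacter G))
    (hB : Cfsg.IsPBlock M B) : ∃ D : Subgroup G, Cfsg.IsDefectGroup p M B D ∧ IsPGroup p D := by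
  obtain ⟨g, hg⟩ := Cfsg.Agent.S0906.result p M hM B hB
  obtain ⟨P⟩ := (inferInstance : Nonempty (Sylow p (Subgroup.centralizer ({g} : Set G))))
  refine ⟨_, ⟨g, hg, P, rfl⟩, ?_⟩
  exact P.isPGroup'.map _

/-- Let H be a subgroup of the finite group G and fix a maximal ideal M of the algebraic integers containing the prime p. If the block b of H induces the block B of G, then b has defect 0 if and only if B has defect 0. -/
theorem result {G : Type*} [Group G] [Finite G] (p : ℕ) [Fact p.Prime] (M : Ideal Cfsg.AlgInt) (hM : Cfsg.IsPModular p M) (H : Subgroup G) (b : Set (Cfsg.IrrCharacter H)) (B : Set (Cfsg.IrrCharacter G)) (hind : Cfsg.IsInducedBlock M H b B) : Cfsg.blockDefect p b = 0 ↔ Cfsg.blockDefect p B = 0 := by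
  have hp : p.Prime := Fact.out
  have hb : Cfsg.IsPBlock M b := hind.1
  have hB : Cfsg.IsPBlock M B := hind.2.1
  obtain ⟨D, hD, hDp⟩ := exists_defectGroup p M hM b hb
  obtain ⟨P, hP, hPp⟩ := exists_defectGroup p M hM B hB
  have cD := Cfsg.Agent.S0908.result p M hM b hb D hD
  have cP := Cfsg.Agent.S0908.result p M hM B hB P hP
  constructor
  · intro h0
    rw [h0, pow_zero] at cD
    have hDbot : D = ⊥ := Subgroup.eq_bot_of_card_eq D cD
    by_contra hne
    have hPnt : Nontrivial P := by
      rw [← Finite.one_lt_card_iff_nontrivial, cP]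
      exact Nat.one_lt_pow hne hp.one_lt
    have hc : Nontrivial (Subgroup.center P) := hPp.center_nontrivial
    obtain ⟨z, hz⟩ := exists_ne (1 : Subgroup.center P)
    obtain ⟨g, hg, -⟩ := Cfsg.Agent.S0930.result p M hM H b B hind D hD P hP ((z : P) : G)
      (z : P).2 (by
        intro w hw
        have := Subgroup.mem_center_iff.1 z.2 ⟨w, hw⟩
        have h2 := congrArg (Subtype.val) this
        simpa using h2.symm)
    rw [hDbot, Subgroup.map_bot, Subgroup.mem_bot] at hg
    apply hz
    have h1 : ((z : P) : G) = 1 := by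
      have : ((z : P) : G) = g⁻¹ * (g * ((z : P) : G) * g⁻¹) * g := by group
      rw [this, hg]
      group
    exact Subtype.ext (Subtype.ext h1)
  · intro h0
    obtain ⟨E, hE, hDE⟩ := Cfsg.Agent.S0917.result p M hM H b hb B hB hind D hD
    have cE := Cfsg.Agent.S0908.result p M hM B hB E hE
    rw [h0, pow_zero] at cE
    have hEbot : E = ⊥ := Subgroup.eq_bot_of_card_eq E cE
    rw [hEbot, le_bot_iff, Subgroup.map_eq_bot_iff, Subgroup.ker_subtype, le_bot_iff] at hDE
    rw [hDE, Subgroup.card_bot] at cD
    by_contra hne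
    have := Nat.one_lt_pow hne hp.one_lt
    omega

end Cfsg.Agent.S0931
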