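import Cfsg.Statements.S0934
-- import your own Cfsg.Agent.* helpers here
import Cfsg.Agent.Blocks.SepCentral
import Cfsg.Agent.Characters.Core
import Cfsg.Agent.S0150

set_option autoImplicit false
open Cfsg

namespace Cfsg.Agent.S0934

open Cfsg.Agent.Blocks.Induced Cfsg.Agent.Blocks.ConvCentral Cfsg.Agent.Blocks.SepCentral

/-- Let H be a subgroup of the finite group G and fix a maximal ideal M of the algebraic integers containing the prime p. If the block b of H induces the block B of G and ξ ∈ b, then there is χ ∈ B whose restriction to H has nonzero inner product with ξ. -/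
theorem result {G : Type*} [Group G] [Fintype G] (p : ℕ) [Fact p.Prime] (M : Ideal Cfsg.AlgInt) (hM : Cfsg.IsPModular p M) (H : Subgroup G) [Fintype H] (b : Set (Cfsg.IrrCharacter H)) (B : Set (Cfsg.IrrCharacter G)) (hind : Cfsg.IsInducedBlock M H b B) (ξ : Cfsg.IrrCharacter H) (hξ : ξ ∈ b) : ∃ χ ∈ B, Cfsg.classInner (fun h : H => (χ : G → ℂ) h) (ξ : H → ℂ) ≠ 0 := by
  classical
  have hP : M.IsPrime := hM.2.1.isPrime
  obtain ⟨hb, ⟨χ₀, hχ₀⟩, hcong⟩ := hind
  by_contra hcon
  push Not at hcon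
  have hfin : Finite (IrrCharacter G) := Cfsg.Agent.Characters.Core.finite_irr
  have : Fintype (IrrCharacter G) := Fintype.ofFinite _
  have hχ₀B : χ₀ ∈ B := by
    rw [hχ₀]
    exact sameBlock_refl hP _
  -- a central element which separates
  obtain ⟨f, hf, hfi, hf0, hfM⟩ := exists_separating hP χ₀.2
    (Finset.univ.filter fun χ : IrrCharacter G => ¬ SameBlock M (χ₀ : G → ℂ) (χ : G → ℂ))
    (fun χ hχ => (Finset.mem_filter.1 hχ).2)
  have hcl : IsClassFunction G (indFun H (ξ : H → ℂ)) :=
    Cfsg.Agent.S0150.indFun_isClassFunction H _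
  -- the central element kills the induced character
  have h1 : lin (indFun H (ξ : H → ℂ)) f = 0 := by
    have h2 := Cfsg.Agent.Characters.Core.classFunction_eq_sum hcl
    rw [h2, lin_def]
    have h3 : ∀ g : G, f g * (∑ χ : IrrCharacter G,
        classInner (indFun H (ξ : H → ℂ)) (χ : G → ℂ) • (χ : G → ℂ)) g =
        ∑ χ : IrrCharacter G, classInner (indFun H (ξ : H → ℂ)) (χ : G → ℂ) *
          (f g * (χ : G → ℂ) g) := by
      intro g
      rw [Finset.sum_apply, Finset.mul_sum]
      refine Finset.sum_congr rfl fun χ _ => ?_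
      rw [Pi.smul_apply, smul_eq_mul]
      ring
    rw [Finset.sum_congr rfl fun g _ => h3 g, Finset.sum_comm]
    refine Finset.sum_eq_zero fun χ _ => ?_
    rw [← Finset.mul_sum]
    by_cases hχ : SameBlock M (χ₀ : G → ℂ) (χ : G → ℂ)
    · have hχB : χ ∈ B := by rw [hχ₀]; exact hχ
      have h4 := hcon χ hχB
      have h5 : classInner (indFun H (ξ : H → ℂ)) (χ : G → ℂ) =
          classInner (ξ : H → ℂ) (fun x : H => (χ : G → ℂ) x) :=
        Cfsg.Agent.S0150.classInner_indFun H _ _ (isClassFunction_of_isIrrCharacter χ.2)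
      rw [h5, ← Cfsg.Agent.Characters.Core.classInner_conj_symm, h4, map_zero, zero_mul]
    · have h4 := hf0 χ (Finset.mem_filter.2 ⟨Finset.mem_univ _, hχ⟩)
      rw [lin_def] at h4
      rw [h4, mul_zero]
  obtain ⟨s, hs⟩ := exists_reps G
  have h2 := hs _ _ hcl hf
  rw [h1, zero_div] at h2
  have h3 := hs _ _ (isClassFunction_of_isIrrCharacter χ₀.2) hf
  apply hfM
  rw [h3, ← sub_zero (∑ g ∈ s, f g * centralChar (χ₀ : G → ℂ) g), h2,
    ← Finset.sum_sub_distrib]
  refine memLocalIdeal_sum hP _ _ fun g _ => ?_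
  rw [← mul_sub]
  refine memLocalIdeal_intMul (hfi g) ?_
  rw [centralChar_indFun, ← neg_sub]
  exact memLocalIdeal_neg (hcong ξ hξ χ₀ hχ₀B g)

end Cfsg.Agent.S0934
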