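import Cfsg.Statements.S0951
import Mathlib
import Cfsg.Agent.S0201
import Cfsg.Agent.S0907
import Cfsg.Agent.S0941
import Cfsg.Agent.S0948
import Cfsg.Agent.Blocks.SectionSum
import Cfsg.Agent.Blocks.SectionCount
import Cfsg.Agent.Blocks.QuaternionCount
import Cfsg.Agent.Blocks.QuaternionQuot
import Cfsg.Agent.Blocks.Deflate
import Cfsg.Agent.Blocks.PRegular
import Cfsg.Agent.Characters.Core
import Cfsg.Agent.Characters.Central

set_option autoImplicit false
open Cfsg

namespace Cfsg.Agent.S0951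

open scoped ComplexConjugate
open Cfsg.Agent.Blocks

/-- The trivial character as an irreducible character. -/
def oneIrr (G : Type*) [Group G] : IrrCharacter G := ⟨fun _ => 1, Characters.Core.isIrr_one⟩

theorem isPBlock_principal (M : Ideal AlgInt) (G : Type*) [Group G] :
    IsPBlock M (principalBlock M G) := ⟨oneIrr G, rfl⟩

/-- A central element of order two acts by a sign. -/
theorem central_sign {G : Type*} [Group G] [Finite G] (χ : IrrCharacter G) {z : G}
    (hz : z ∈ Subgroup.center G) (hz2 : z ^ 2 = 1) :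
    (∀ g : G, (χ : G → ℂ) (z * g) = (χ : G → ℂ) g) ∨
      (∀ g : G, (χ : G → ℂ) (z * g) = -(χ : G → ℂ) g) := by
  obtain ⟨χ, n, ρ, hρ, rfl⟩ := χ
  obtain ⟨c, hc⟩ := Characters.Central.exists_smul_of_comm ρ hρ (ρ z) (fun g => by
    rw [← map_mul, ← map_mul, Subgroup.mem_center_iff.1 hz g])
  have h1 : ∀ g : G, ρ.character (z * g) = c * ρ.character g := by
    intro g
    change LinearMap.trace ℂ _ (ρ (z * g)) = c * LinearMap.trace ℂ _ (ρ g)
    rw [map_mul, hc, smul_mul_assoc, one_mul, map_smul, smul_eq_mul]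
  have h2 : ρ.character 1 ≠ 0 := Characters.Central.char_one_ne_zero ρ hρ
  have h3 : c * c = 1 := by
    have h4 : ρ.character (z * (z * 1)) = c * (c * ρ.character 1) := by rw [h1, h1]
    rw [← mul_assoc, ← pow_two, hz2, one_mul, ← mul_assoc] at h4
    have h5 : (c * c - 1) * ρ.character 1 = 0 := by rw [sub_mul, ← h4]; ring
    rcases mul_eq_zero.1 h5 with h6 | h6
    · exact sub_eq_zero.1 h6
    · exact absurd h6 h2
  rcases mul_self_eq_one_iff.1 h3 with h4 | h4
  · left
    intro g
    change ρ.character (z * g) = ρ.character g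
    rw [h1, h4, one_mul]
  · right
    intro g
    change ρ.character (z * g) = -ρ.character g
    rw [h1, h4, neg_one_mul]

/-- Inflation of irreducible characters. -/
def infl {G : Type*} [Group G] (N : Subgroup G) [N.Normal] (ψ : IrrCharacter (G ⧸ N)) :
    IrrCharacter G :=
  ⟨(ψ : G ⧸ N → ℂ) ∘ QuotientGroup.mk' N,
    Characters.Core.isIrr_comp (QuotientGroup.mk' N) (QuotientGroup.mk'_surjective N) ψ.2⟩

theorem infl_apply {G : Type*} [Group G] (N : Subgroup G) [N.Normal] (ψ : IrrCharacter (G ⧸ N))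
    (g : G) : (infl N ψ : G → ℂ) g = (ψ : G ⧸ N → ℂ) (QuotientGroup.mk g) := rfl

theorem infl_injective {G : Type*} [Group G] (N : Subgroup G) [N.Normal] :
    Function.Injective (infl N) := by
  intro ψ ψ' h
  apply Subtype.ext
  funext x
  obtain ⟨g, rfl⟩ := QuotientGroup.mk_surjective x
  rw [← infl_apply, h, infl_apply]

/-- The members of the principal block on which the central involution acts trivially are the
inflated members of the principal block of the quotient. -/
theorem infl_image {G : Type*} [Group G] [Finite G] (M : Ideal AlgInt) (hM : IsPModular 2 M)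
    (hZ : Nat.card (Subgroup.center G) = 2) {z : G} (hz : z ∈ Subgroup.center G)
    (hzu : ∀ w ∈ Subgroup.center G, w = 1 ∨ w = z) :
    {χ : IrrCharacter G | χ ∈ principalBlock M G ∧ (χ : G → ℂ) z = (χ : G → ℂ) 1} =
      infl (Subgroup.center G) '' (principalBlock M (G ⧸ Subgroup.center G)) := by
  have hPG : IsPGroup 2 (Subgroup.center G) := IsPGroup.of_card (n := 1) (by rw [hZ, pow_one])
  have hCi : ∃ k : ℕ, (Subgroup.centralizer (Subgroup.center G : Set G)).index = 2 ^ k := by
    refine ⟨0, ?_⟩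
    rw [pow_zero, Subgroup.index_eq_one, eq_top_iff]
    intro g _
    rw [Subgroup.mem_centralizer_iff]
    intro w hw
    exact (Subgroup.mem_center_iff.1 hw g).symm
  have h941 := (Cfsg.Agent.S0941.result 2 M hM (Subgroup.center G) hPG hCi).1
  have hmem : ∀ ψ : IrrCharacter (G ⧸ Subgroup.center G),
      ψ ∈ principalBlock M (G ⧸ Subgroup.center G) ↔
        infl (Subgroup.center G) ψ ∈ principalBlock M G := fun ψ => h941 (oneIrr _) ψ
  ext χ
  constructor
  · rintro ⟨h1, h2⟩
    classical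
    have : Fintype (Subgroup.center G) := Fintype.ofFinite _
    have hsum : ∑ n : Subgroup.center G, (χ : G → ℂ) n ≠ 0 := by
      have h3 : ∀ n : Subgroup.center G, (χ : G → ℂ) n = (χ : G → ℂ) 1 := by
        intro n
        rcases hzu n n.2 with h | h
        · rw [h]
        · rw [h, h2]
      rw [Finset.sum_congr rfl fun n _ => h3 n, Finset.sum_const, nsmul_eq_mul]
      obtain ⟨d, hd, h4⟩ := Characters.Core.isIrr_apply_one χ.2
      rw [h4]
      have h5 : 0 < Finset.univ.card (α := Subgroup.center G) := Finset.card_pos.2 ⟨1, Finset.mem_univ _⟩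
      exact mul_ne_zero (by exact_mod_cast h5.ne') (by exact_mod_cast hd.ne')
    obtain ⟨ψ, hψ⟩ := Deflate.exists_deflation (Subgroup.center G) (χ : G → ℂ) χ.2 hsum
    have hχ : infl (Subgroup.center G) ψ = χ := Subtype.ext hψ.symm
    refine ⟨ψ, (hmem ψ).2 ?_, hχ⟩
    rw [hχ]
    exact h1
  · rintro ⟨ψ, hψ, rfl⟩
    refine ⟨(hmem ψ).1 hψ, ?_⟩
    rw [infl_apply, infl_apply, (QuotientGroup.eq_one_iff z).2 hz]
    rfl

/-- The order of `z * y` is even for `y` of odd order. -/
theorem two_dvd_orderOf {G : Type*} [Group G] {z y : G} (hz : z ∈ Subgroup.center G) (hz1 : z ≠ 1)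
    (hz2 : z ^ 2 = 1) (hy : ¬ 2 ∣ orderOf y) : 2 ∣ orderOf (z * y) := by
  have hzo : orderOf z = 2 := orderOf_eq_prime hz2 hz1
  have hcomm : Commute z y := (Subgroup.mem_center_iff.1 hz y).symm
  have hcop : (orderOf z).Coprime (orderOf y) := by
    rw [hzo]
    exact (Nat.Prime.coprime_iff_not_dvd Nat.prime_two).2 hy
  rw [hcomm.orderOf_mul_eq_mul_orderOf_of_coprime hcop, hzo]
  exact dvd_mul_right 2 _

/-- The pointwise sums over the principal blocks of `G` and `G / Z`. -/
theorem sum_regular {G : Type*} [Group G] [Finite G] (M : Ideal AlgInt) (hM : IsPModular 2 M)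
    (hZ : Nat.card (Subgroup.center G) = 2) {z : G} (hz : z ∈ Subgroup.center G) (hz1 : z ≠ 1)
    (hz2 : z ^ 2 = 1) (hzu : ∀ w ∈ Subgroup.center G, w = 1 ∨ w = z) (y : G)
    (hy : ¬ 2 ∣ orderOf y) :
    (∑ᶠ χ ∈ principalBlock M G, ‖(χ : G → ℂ) y‖ ^ 2) =
      2 * ∑ᶠ ψ ∈ principalBlock M (G ⧸ Subgroup.center G),
        ‖(ψ : G ⧸ Subgroup.center G → ℂ) (QuotientGroup.mk y)‖ ^ 2 := by
  classical
  have hfin : Finite (IrrCharacter G) := Characters.Core.finite_irr
  have hfin' : Finite (IrrCharacter (G ⧸ Subgroup.center G)) := Characters.Core.finite_irr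
  -- the right-hand side as a sum over the members with `z` acting trivially
  have e1 : ∑ᶠ ψ ∈ principalBlock M (G ⧸ Subgroup.center G),
        ‖(ψ : G ⧸ Subgroup.center G → ℂ) (QuotientGroup.mk y)‖ ^ 2 =
      ∑ᶠ χ ∈ {χ : IrrCharacter G | χ ∈ principalBlock M G ∧ (χ : G → ℂ) z = (χ : G → ℂ) 1},
        ‖(χ : G → ℂ) y‖ ^ 2 := by
    rw [infl_image M hM hZ hz hzu, finsum_mem_image (infl_injective _).injOn]
    rfl
  have hB := isPBlock_principal M G
  have h907 := Cfsg.Agent.S0907.result 2 M hM (principalBlock M G) hB y (z * y) hy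
    (two_dvd_orderOf hz hz1 hz2 hy)
  rw [e1, finsum_mem_eq_finite_toFinset_sum _ (Set.toFinite _),
    finsum_mem_eq_finite_toFinset_sum _ (Set.toFinite _)]
  rw [finsum_mem_eq_finite_toFinset_sum _ (Set.toFinite _)] at h907
  set s := (Set.toFinite (principalBlock M G)).toFinset with hs
  have hs' : (Set.toFinite {χ : IrrCharacter G | χ ∈ principalBlock M G ∧
      (χ : G → ℂ) z = (χ : G → ℂ) 1}).toFinset =
      s.filter (fun χ : IrrCharacter G => (χ : G → ℂ) z = (χ : G → ℂ) 1) := by
    ext χ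
    simp [hs]
  rw [hs', Finset.sum_filter]
  have h1 : ∀ χ : IrrCharacter G, (χ : G → ℂ) 1 ≠ 0 := by
    intro χ
    obtain ⟨d, hd, h4⟩ := Characters.Core.isIrr_apply_one χ.2
    rw [h4]
    exact_mod_cast hd.ne'
  -- the signed sum vanishes
  have h2 : ∑ χ ∈ s, (if (χ : G → ℂ) z = (χ : G → ℂ) 1 then (1 : ℝ) else -1) *
      ‖(χ : G → ℂ) y‖ ^ 2 = 0 := by
    have h3 : ((∑ χ ∈ s, (if (χ : G → ℂ) z = (χ : G → ℂ) 1 then (1 : ℝ) else -1) *
      ‖(χ : G → ℂ) y‖ ^ 2 : ℝ) : ℂ) = 0 := by
      rw [← h907]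
      push_cast
      refine Finset.sum_congr rfl fun χ _ => ?_
      have h4 : (χ : G → ℂ) y * conj ((χ : G → ℂ) y) = ((‖(χ : G → ℂ) y‖ ^ 2 : ℝ) : ℂ) := by
        rw [Complex.mul_conj, Complex.normSq_eq_norm_sq]
      rcases central_sign χ hz hz2 with h5 | h5
      · have h6 : (χ : G → ℂ) z = (χ : G → ℂ) 1 := by
          have := h5 1
          rwa [mul_one] at this
        rw [if_pos h6, h5, h4]
        push_cast
        ring
      · have h6 : ¬ (χ : G → ℂ) z = (χ : G → ℂ) 1 := by
          have := h5 1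
          rw [mul_one] at this
          intro h7
          rw [h7] at this
          have h8 : (2 : ℂ) * (χ : G → ℂ) 1 = 0 := by linear_combination this
          rcases mul_eq_zero.1 h8 with h9 | h9
          · norm_num at h9
          · exact h1 χ h9
        rw [if_neg h6, h5, map_neg, mul_neg, h4]
        push_cast
        ring
    exact_mod_cast h3
  have h3 : ∑ χ ∈ s, ‖(χ : G → ℂ) y‖ ^ 2 = ∑ χ ∈ s, ‖(χ : G → ℂ) y‖ ^ 2 +
      ∑ χ ∈ s, (if (χ : G → ℂ) z = (χ : G → ℂ) 1 then (1 : ℝ) else -1) *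
      ‖(χ : G → ℂ) y‖ ^ 2 := by rw [h2, add_zero]
  rw [h3, Finset.mul_sum, ← Finset.sum_add_distrib]
  refine Finset.sum_congr rfl fun χ _ => ?_
  split_ifs <;> ring

/-- The sum over the odd order elements of `G` equals that over those of the quotient. -/
theorem sum_bij_quot {G : Type*} [Group G] [Fintype G] [Fintype (G ⧸ Subgroup.center G)]
    [DecidablePred fun y : G => ¬ 2 ∣ orderOf y]
    [DecidablePred fun y : G ⧸ Subgroup.center G => ¬ 2 ∣ orderOf y]
    {z : G} (hz : z ∈ Subgroup.center G) (hz1 : z ≠ 1)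
    (hz2 : z ^ 2 = 1) (hzu : ∀ w ∈ Subgroup.center G, w = 1 ∨ w = z)
    (F : G ⧸ Subgroup.center G → ℝ) :
    ∑ y ∈ Finset.univ.filter (fun y : G => ¬ 2 ∣ orderOf y), F (QuotientGroup.mk y) =
      ∑ y ∈ Finset.univ.filter (fun y : G ⧸ Subgroup.center G => ¬ 2 ∣ orderOf y), F y := by
  refine Finset.sum_bij (fun y _ => QuotientGroup.mk y) ?_ ?_ ?_ ?_
  · intro y hy
    refine Finset.mem_filter.2 ⟨Finset.mem_univ _, fun h => (Finset.mem_filter.1 hy).2 ?_⟩
    exact h.trans (orderOf_map_dvd (QuotientGroup.mk' (Subgroup.center G)) y)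
  · intro y hy y' hy' h
    have h1 : y⁻¹ * y' ∈ Subgroup.center G := QuotientGroup.eq.1 h
    rcases hzu _ h1 with h2 | h2
    · exact inv_mul_eq_one.1 h2
    · exfalso
      have h3 : y' = z * y := by
        rw [← Subgroup.mem_center_iff.1 hz y, ← h2]
        group
      have h4 := two_dvd_orderOf hz hz1 hz2 (Finset.mem_filter.1 hy).2
      rw [← h3] at h4
      exact (Finset.mem_filter.1 hy').2 h4
  · intro x hx
    obtain ⟨g, hg, hgx⟩ := PRegular.exists_isPRegular_lift G 2 (Subgroup.center G)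
      (x := x) (Finset.mem_filter.1 hx).2
    exact ⟨g, Finset.mem_filter.2 ⟨Finset.mem_univ _, hg⟩, hgx⟩
  · intro _ _
    rfl

open scoped Classical in
/-- The principal block of a group with Klein four Sylow 2-subgroups: regular part. -/
theorem sum_regular_klein {Q : Type*} [Group Q] [Fintype Q] (M : Ideal AlgInt)
    (hM : IsPModular 2 M) (t : Q) (ht : orderOf t = 2)
    (hone : ∀ s t : Q, orderOf s = 2 → orderOf t = 2 → IsConj s t)
    (htwo : ∀ x : Q, (∃ k : ℕ, orderOf x = 2 ^ k) ↔ x = 1 ∨ orderOf x = 2)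
    (hidx : ∀ x : Q, orderOf x = 2 →
      ∃ k : ℕ, (pPrimeCore 2 (Subgroup.centralizer ({x} : Set Q))).index = 2 ^ k)
    (hcard : Nat.card (principalBlock M Q) = 4) :
    ∑ y ∈ Finset.univ.filter (fun y : Q => ¬ 2 ∣ orderOf y),
      (∑ᶠ χ ∈ principalBlock M Q, ‖(χ : Q → ℂ) y‖ ^ 2) = 3 * (Nat.card Q : ℝ) := by
  have h1 := SectionSum.card_mul_card (principalBlock M Q)
  rw [SectionSum.sum_eq_sum_sections 2, hcard] at h1
  have hfil : Finset.univ.filter (fun x : Q => ∃ k : ℕ, orderOf x = 2 ^ k) =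
      insert 1 (Finset.univ.filter (fun x : Q => orderOf x = 2)) := by
    ext x
    simp only [Finset.mem_filter, Finset.mem_univ, true_and, Finset.mem_insert]
    exact htwo x
  have hnot : (1 : Q) ∉ Finset.univ.filter (fun x : Q => orderOf x = 2) := by
    simp
  rw [hfil, Finset.sum_insert hnot] at h1
  have h2 : ∀ x ∈ Finset.univ.filter (fun x : Q => orderOf x = 2),
      ∑ y ∈ Finset.univ.filter (fun y : Q => Commute x y ∧ ¬ 2 ∣ orderOf y),
        (∑ᶠ χ ∈ principalBlock M Q, ‖(χ : Q → ℂ) (x * y)‖ ^ 2) =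
      (Nat.card (Subgroup.centralizer ({x} : Set Q)) : ℝ) := by
    intro x hx
    have hx2 := (Finset.mem_filter.1 hx).2
    refine SectionCount.sum_principal 2 M hM x ((htwo x).2 (Or.inr hx2)) ?_ (hidx x hx2)
    rintro rfl
    rw [orderOf_one] at hx2
    norm_num at hx2
  rw [Finset.sum_congr rfl h2] at h1
  rw [SectionCount.sum_card_centralizer _ t (fun y => by
    simp only [Finset.mem_filter, Finset.mem_univ, true_and]
    constructor
    · intro hy
      exact hone t y ht hy
    · intro hc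
      obtain ⟨c, hc⟩ := isConj_iff.1 hc
      rw [← hc, ← ht]
      exact orderOf_injective (MulAut.conj c).toMonoidHom (MulAut.conj c).injective t)] at h1
  have h3 : ∑ y ∈ Finset.univ.filter (fun y : Q => Commute 1 y ∧ ¬ 2 ∣ orderOf y),
        (∑ᶠ χ ∈ principalBlock M Q, ‖(χ : Q → ℂ) (1 * y)‖ ^ 2) =
      ∑ y ∈ Finset.univ.filter (fun y : Q => ¬ 2 ∣ orderOf y),
        (∑ᶠ χ ∈ principalBlock M Q, ‖(χ : Q → ℂ) y‖ ^ 2) := by
    refine Finset.sum_congr ?_ fun y _ => ?_
    · ext y
      simp only [Finset.mem_filter, Finset.mem_univ, true_and]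
      exact ⟨fun h => h.2, fun h => ⟨Commute.one_left y, h⟩⟩
    · rw [one_mul]
  rw [h3] at h1
  push_cast at h1
  linarith

/-- The four characters of the principal 2-block of a group with Klein four Sylow 2-subgroups. -/
theorem card_klein {Q : Type*} [Group Q] [Finite Q] (M : Ideal AlgInt)
    (hM : IsPModular 2 M) (P : Sylow 2 Q) (hP : IsKleinFour (P : Subgroup Q)) (t : Q)
    (ht : orderOf t = 2)
    (hone : ∀ s t : Q, orderOf s = 2 → orderOf t = 2 → IsConj s t) :
    Nat.card (principalBlock M Q) = 4 := by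
  obtain ⟨ζ₂, ζ₃, ζ₄, ε, hε, h2, h3, h23, h24, h34, hB, hz, -⟩ :=
    Cfsg.Agent.S0948.result M hM P hP hone
  have h4 : (ζ₄ : Q → ℂ) ≠ (fun _ => 1) := by
    intro h
    have h5 := (hz t ht).2.2
    rw [h] at h5
    norm_num at h5
  have hB' : principalBlock M Q = {oneIrr Q, ζ₂, ζ₃, ζ₄} := by
    rw [hB]
    ext χ
    simp only [Set.mem_ofPred_eq, Set.mem_insert_iff, Set.mem_singleton_iff]
    constructor
    · rintro (h | h | h | h)
      · left; exact Subtype.ext h
      · right; left; exact h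
      · right; right; left; exact h
      · right; right; right; exact h
    · rintro (h | h | h | h)
      · left; rw [h]; rfl
      · right; left; exact h
      · right; right; left; exact h
      · right; right; right; exact h
  have e2 : oneIrr Q ≠ ζ₂ := fun h => h2 (by rw [← h]; rfl)
  have e3 : oneIrr Q ≠ ζ₃ := fun h => h3 (by rw [← h]; rfl)
  have e4 : oneIrr Q ≠ ζ₄ := fun h => h4 (by rw [← h]; rfl)
  rw [hB', Nat.card_coe_set_eq, Set.ncard_insert_of_notMem (by simp [e2, e3, e4]),
    Set.ncard_insert_of_notMem (by simp [h23, h24]), Set.ncard_insert_of_notMem (by simp [h34]),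
    Set.ncard_singleton]

theorem main {G : Type*} [Group G] [Finite G] (M : Ideal Cfsg.AlgInt) (hM : Cfsg.IsPModular 2 M)
    (S : Sylow 2 G) (e : (S : Subgroup G) ≃* QuaternionGroup 2)
    (hO : ∀ N : Subgroup G, N.Normal → Odd (Nat.card N) → N = ⊥)
    (hG : (S : Subgroup G) ≠ ⊤) : Nat.card (Cfsg.principalBlock M G) = 7 := by
  classical
  have hZ : Nat.card (Subgroup.center G) = 2 := Cfsg.Agent.S0201.result S 0 e hO
  obtain ⟨z, hz, hz1, hz2, hzu⟩ := QuaternionQuot.exists_central hZ
  have : Fintype G := Fintype.ofFinite G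
  have : Fintype (G ⧸ Subgroup.center G) := Fintype.ofFinite _
  have hK := QuaternionQuot.isKleinFour_barSylow S e hZ
  have hone := QuaternionQuot.isConj_of_involution S e hZ hO hG
  obtain ⟨t, ht⟩ : ∃ t : G ⧸ Subgroup.center G, orderOf t = 2 := by
    have h1 : 2 ∣ Nat.card (QuaternionQuot.barSylow S : Subgroup (G ⧸ Subgroup.center G)) := by
      rw [hK.card_four]; norm_num
    obtain ⟨t, ht⟩ := exists_prime_orderOf_dvd_card' 2 h1
    exact ⟨t, (Subgroup.orderOf_coe t).trans ht⟩
  have hcard := card_klein M hM (QuaternionQuot.barSylow S) hK t ht hone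
  have hreg := sum_regular_klein M hM t ht hone (QuaternionQuot.bar_two_element S e hZ)
    (QuaternionQuot.exists_index_bar S e hZ) hcard
  -- the group `G`
  have h1 := SectionSum.card_mul_card (principalBlock M G)
  rw [SectionSum.sum_eq_sum_sections 2] at h1
  have htwo := QuaternionQuot.two_element S e hz hz1 hz2
  have hfil : Finset.univ.filter (fun x : G => ∃ k : ℕ, orderOf x = 2 ^ k) =
      insert 1 (insert z (Finset.univ.filter (fun x : G => orderOf x = 4))) := by
    ext x
    simp only [Finset.mem_filter, Finset.mem_univ, true_and, Finset.mem_insert]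
    exact htwo x
  have hzo : orderOf z = 2 := orderOf_eq_prime hz2 hz1
  have hnot : (1 : G) ∉ insert z (Finset.univ.filter (fun x : G => orderOf x = 4)) := by
    simp [Ne.symm hz1]
  have hnot2 : z ∉ Finset.univ.filter (fun x : G => orderOf x = 4) := by
    simp [hzo]
  rw [hfil, Finset.sum_insert hnot, Finset.sum_insert hnot2] at h1
  -- elements of order four
  obtain ⟨u, hu⟩ : ∃ u : G, orderOf u = 4 := by
    have h2 : ∃ q : QuaternionGroup 2, q ^ 2 ≠ 1 := by decide
    obtain ⟨q, hq⟩ := h2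
    refine ⟨((e.symm q : (S : Subgroup G)) : G), ?_⟩
    rw [Subgroup.orderOf_coe, MulEquiv.orderOf_eq]
    exact orderOf_eq_prime_pow (p := 2) (n := 1) (by simpa using hq)
      (by simpa using QuaternionCount.q8_pow_four q)
  have h4 : ∑ x ∈ Finset.univ.filter (fun x : G => orderOf x = 4),
      ∑ y ∈ Finset.univ.filter (fun y : G => Commute x y ∧ ¬ 2 ∣ orderOf y),
        (∑ᶠ χ ∈ principalBlock M G, ‖(χ : G → ℂ) (x * y)‖ ^ 2) = (Nat.card G : ℝ) := by
    have h5 : ∀ x ∈ Finset.univ.filter (fun x : G => orderOf x = 4),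
        ∑ y ∈ Finset.univ.filter (fun y : G => Commute x y ∧ ¬ 2 ∣ orderOf y),
          (∑ᶠ χ ∈ principalBlock M G, ‖(χ : G → ℂ) (x * y)‖ ^ 2) =
        (Nat.card (Subgroup.centralizer ({x} : Set G)) : ℝ) := by
      intro x hx
      have hx4 := (Finset.mem_filter.1 hx).2
      refine SectionCount.sum_principal 2 M hM x ((htwo x).2 (Or.inr (Or.inr hx4))) ?_
        (QuaternionCount.exists_index_of_orderOf_four S e x hx4)
      rintro rfl
      rw [orderOf_one] at hx4
      norm_num at hx4
    rw [Finset.sum_congr rfl h5]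
    refine SectionCount.sum_card_centralizer _ u (fun y => ?_)
    simp only [Finset.mem_filter, Finset.mem_univ, true_and]
    constructor
    · intro hy
      exact QuaternionCount.isConj_of_orderOf_four S e hO hG u y hu hy
    · intro hc
      obtain ⟨c, hc⟩ := isConj_iff.1 hc
      rw [← hc, ← hu]
      exact orderOf_injective (MulAut.conj c).toMonoidHom (MulAut.conj c).injective u
  rw [h4] at h1
  -- regular elements
  have h5 : ∑ y ∈ Finset.univ.filter (fun y : G => ¬ 2 ∣ orderOf y),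
      (∑ᶠ χ ∈ principalBlock M G, ‖(χ : G → ℂ) y‖ ^ 2) = 3 * (Nat.card G : ℝ) := by
    have h6 : ∀ y ∈ Finset.univ.filter (fun y : G => ¬ 2 ∣ orderOf y),
        (∑ᶠ χ ∈ principalBlock M G, ‖(χ : G → ℂ) y‖ ^ 2) =
        2 * ∑ᶠ ψ ∈ principalBlock M (G ⧸ Subgroup.center G),
          ‖(ψ : G ⧸ Subgroup.center G → ℂ) (QuotientGroup.mk y)‖ ^ 2 := by
      intro y hy
      exact sum_regular M hM hZ hz hz1 hz2 hzu y (Finset.mem_filter.1 hy).2
    have h7 := sum_bij_quot hz hz1 hz2 hzu (fun w : G ⧸ Subgroup.center G =>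
      ∑ᶠ ψ ∈ principalBlock M (G ⧸ Subgroup.center G),
          ‖(ψ : G ⧸ Subgroup.center G → ℂ) w‖ ^ 2)
    rw [Finset.sum_congr rfl h6, ← Finset.mul_sum, h7, hreg,
      QuaternionQuot.card_G hZ]
    push_cast
    ring
  have h6 : ∑ y ∈ Finset.univ.filter (fun y : G => Commute 1 y ∧ ¬ 2 ∣ orderOf y),
        (∑ᶠ χ ∈ principalBlock M G, ‖(χ : G → ℂ) (1 * y)‖ ^ 2) = 3 * (Nat.card G : ℝ) := by
    rw [← h5]
    refine Finset.sum_congr ?_ fun y _ => ?_
    · ext y
      simp only [Finset.mem_filter, Finset.mem_univ, true_and]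
      exact ⟨fun h => h.2, fun h => ⟨Commute.one_left y, h⟩⟩
    · rw [one_mul]
  have h7 : ∑ y ∈ Finset.univ.filter (fun y : G => Commute z y ∧ ¬ 2 ∣ orderOf y),
        (∑ᶠ χ ∈ principalBlock M G, ‖(χ : G → ℂ) (z * y)‖ ^ 2) = 3 * (Nat.card G : ℝ) := by
    rw [← h5]
    refine Finset.sum_congr ?_ fun y _ => ?_
    · ext y
      simp only [Finset.mem_filter, Finset.mem_univ, true_and]
      exact ⟨fun h => h.2, fun h => ⟨(Subgroup.mem_center_iff.1 hz y).symm, h⟩⟩
    · refine finsum_mem_congr rfl fun χ _ => ?_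
      rcases central_sign χ hz hz2 with h8 | h8
      · rw [h8]
      · rw [h8, norm_neg]
  rw [h6, h7] at h1
  have hG0 : (Nat.card G : ℝ) ≠ 0 := by exact_mod_cast Nat.card_pos.ne'
  have h8 : (Nat.card (principalBlock M G) : ℝ) = 7 := by
    have h9 : ((Nat.card (principalBlock M G) : ℝ) - 7) * (Nat.card G : ℝ) = 0 := by
      linear_combination h1
    rcases mul_eq_zero.1 h9 with h10 | h10
    · linarith
    · exact absurd h10 hG0
  exact_mod_cast h8

/-- Let S be a Sylow 2-subgroup of the finite group G isomorphic to the quaternion group of order 8. Suppose G has no nontrivial normal subgroup of odd order and G ≠ S. Then, relative to any maximal ideal M of the algebraic integers containing 2, the principal block of G consists of exactly 7 irreducible characters. -/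
theorem result {G : Type*} [Group G] [Finite G] (M : Ideal Cfsg.AlgInt) (hM : Cfsg.IsPModular 2 M) (S : Sylow 2 G) (e : (S : Subgroup G) ≃* QuaternionGroup 2) (hO : ∀ N : Subgroup G, N.Normal → Odd (Nat.card N) → N = ⊥) (hG : (S : Subgroup G) ≠ ⊤) : Nat.card (Cfsg.principalBlock M G) = 7 := by
  exact main M hM S e hO hG

end Cfsg.Agent.S0951
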