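import Cfsg.Statements.S0953
import Cfsg.Agent.Blocks.FullDefect
import Cfsg.Agent.S0135
import Cfsg.Agent.S0906
import Cfsg.Agent.S0908
import Cfsg.Agent.S0913
import Cfsg.Agent.S0916

set_option autoImplicit false
open Cfsg

namespace Cfsg.Agent.S0953

open Cfsg.Agent.Blocks.Local Cfsg.Agent.Blocks.Basic Cfsg.Agent.Blocks.FullDefect

variable {G : Type*} [Group G] [Finite G] {p : ℕ} [Fact p.Prime] {M : Ideal AlgInt}

/-- The degree of an irreducible character divides the order of the group. -/
theorem charDegree_dvd_card (χ : IrrCharacter G) : charDegree (χ : G → ℂ) ∣ Nat.card G := by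
  have : Fintype G := Fintype.ofFinite G
  obtain ⟨χ, n, ρ, hρ, rfl⟩ := χ
  have h1 := Cfsg.Agent.S0135.result ρ
  rw [charDegree_of_eq (n := Module.finrank ℂ (Fin n → ℂ)) (Representation.char_one (ρ := ρ))]
  exact h1

/-- A block with a Sylow subgroup as defect group has a character of degree prime to `p`. -/
theorem exists_degree_of_isDefectGroup (hM : IsPModular p M) (P : Sylow p G)
    {B : Set (IrrCharacter G)} (hB : IsPBlock M B) (hD : IsDefectGroup p M B (P : Subgroup G)) :
    ∃ χ ∈ B, ¬ p ∣ charDegree (χ : G → ℂ) := by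
  have := isPrime_of_isPModular hM
  have hp : p.Prime := Fact.out
  have h1 := Cfsg.Agent.S0908.result p M hM B hB _ hD
  rw [P.card_eq_multiplicity, blockDefect_def] at h1
  have h2 := Nat.pow_right_injective hp.two_le h1
  obtain ⟨χ₀, hχ₀⟩ := isPBlock_nonempty hB
  by_cases h0 : (Nat.card G).factorization p = 0
  · refine ⟨χ₀, hχ₀, fun h => ?_⟩
    have h3 : p ∣ Nat.card G := h.trans (charDegree_dvd_card χ₀)
    have := hp.factorization_pos_of_dvd Nat.card_pos.ne' h3
    omega
  · have hne : ((fun χ : IrrCharacter G => (charDegree (χ : G → ℂ)).factorization p) '' B).Nonempty :=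
      ⟨_, χ₀, hχ₀, rfl⟩
    obtain ⟨χ, hχ, hχ2⟩ := Nat.sInf_mem hne
    refine ⟨χ, hχ, fun h => ?_⟩
    have h4 := hp.factorization_pos_of_dvd (charDegree_pos χ.2).ne' h
    have h5 : (charDegree (χ : G → ℂ)).factorization p = _ := hχ2
    omega

/-- A block with a character of degree prime to `p` has every Sylow subgroup as defect group. -/
theorem isDefectGroup_of_degree (hM : IsPModular p M) (P : Sylow p G)
    {B : Set (IrrCharacter G)} (hB : IsPBlock M B) {χ : IrrCharacter G} (hχ : χ ∈ B)
    (hdeg : ¬ p ∣ charDegree (χ : G → ℂ)) : IsDefectGroup p M B (P : Subgroup G) := by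
  have := isPrime_of_isPModular hM
  obtain ⟨g, hg⟩ := Cfsg.Agent.S0906.result p M hM B hB
  have h1 : ¬ p ∣ (Subgroup.centralizer ({g} : Set G)).index := by
    intro h
    apply hg.2.2 χ hχ
    rw [centralChar_def, mul_div_assoc]
    exact memLocalIdeal_mul_right ((memLocalIdeal_natCast_iff hM _).2 h)
      (memLocalRing_div_one hM χ hdeg g)
  obtain ⟨x, hx⟩ := exists_conj_mem_centralizer P h1
  rw [isDefectGroup_iff]
  exact ⟨x * g * x⁻¹, isDefectClass_isConj (isConj_iff.2 ⟨x, rfl⟩) hg,
    isSylowCentralizer_of_mem P hx⟩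

/-- Let P be a Sylow p-subgroup of the finite group G with normalizer N, and fix a maximal ideal M of the algebraic integers containing p. The number of blocks of G having P as a defect group equals the number of conjugacy classes of N consisting of elements of order prime to p that centralize P. -/
theorem result {G : Type*} [Group G] [Finite G] (p : ℕ) [Fact p.Prime] (M : Ideal Cfsg.AlgInt) (hM : Cfsg.IsPModular p M) (P : Sylow p G) : Nat.card {B : Set (Cfsg.IrrCharacter G) // Cfsg.IsPBlock M B ∧ Cfsg.IsDefectGroup p M B (P : Subgroup G)} = Nat.card {C : ConjClasses (Subgroup.normalizer ((P : Subgroup G) : Set G)) // ∀ n : Subgroup.normalizer ((P : Subgroup G) : Set G), ConjClasses.mk n = C → ¬ p ∣ orderOf n ∧ (n : G) ∈ Subgroup.centralizer ((P : Subgroup G) : Set G)} := by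
  classical
  have := isPrime_of_isPModular hM
  have : Finite (IrrCharacter G) := Cfsg.Agent.Characters.Core.finite_irr
  set X := {B : Set (Cfsg.IrrCharacter G) // Cfsg.IsPBlock M B ∧ Cfsg.IsDefectGroup p M B (P : Subgroup G)} with hX
  set Y := {C : ConjClasses (Subgroup.normalizer ((P : Subgroup G) : Set G)) // ∀ n : Subgroup.normalizer ((P : Subgroup G) : Set G), ConjClasses.mk n = C → ¬ p ∣ orderOf n ∧ (n : G) ∈ Subgroup.centralizer ((P : Subgroup G) : Set G)} with hY
  have : Fintype X := Fintype.ofFinite X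
  have : Fintype Y := Fintype.ofFinite Y
  have hex : ∀ B : X, ∃ χ ∈ B.1, ¬ p ∣ charDegree (χ : G → ℂ) := fun B =>
    exists_degree_of_isDefectGroup hM P B.2.1 B.2.2
  choose χ hχ hdeg using hex
  have hrep : ∀ C : Y, ∃ n : Subgroup.normalizer ((P : Subgroup G) : Set G),
      ConjClasses.mk n = C.1 := fun C => ConjClasses.exists_rep C.1
  choose n hn using hrep
  have hreg : ∀ C : Y, ¬ p ∣ orderOf ((n C : Subgroup.normalizer ((P : Subgroup G) : Set G)) : G) :=
    fun C => by
      rw [Subgroup.orderOf_coe]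
      exact (C.2 (n C) (hn C)).1
  have hcen : ∀ C : Y, ((n C : Subgroup.normalizer ((P : Subgroup G) : Set G)) : G) ∈
      Subgroup.centralizer ((P : Subgroup G) : Set G) := fun C => (C.2 (n C) (hn C)).2
  have hrow : LinearIndependent (ResField M) (fun (B : X) (C : Y) =>
      redC M ((χ B : G → ℂ) (n C) / (χ B : G → ℂ) 1)) := by
    refine linearIndependent_rows hM P (fun B hB g => Cfsg.Agent.S0913.result p M hM B hB g) χ
      hdeg ?_ (fun C => ((n C : Subgroup.normalizer ((P : Subgroup G) : Set G)) : G)) ?_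
    · intro B B' h
      exact Subtype.ext (isPBlock_eq_of_sameBlock B.2.1 B'.2.1 (hχ B) (hχ B') h)
    · intro y hy hyp
      have hyN : y ∈ Subgroup.normalizer ((P : Subgroup G) : Set G) :=
        Subgroup.centralizer_le_normalizer _ hy
      have hY' : ∀ m : Subgroup.normalizer ((P : Subgroup G) : Set G),
          ConjClasses.mk m = ConjClasses.mk (⟨y, hyN⟩ : Subgroup.normalizer ((P : Subgroup G) : Set G)) →
          ¬ p ∣ orderOf m ∧ (m : G) ∈ Subgroup.centralizer ((P : Subgroup G) : Set G) := by
        intro m hm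
        rw [ConjClasses.mk_eq_mk_iff_isConj] at hm
        obtain ⟨c, hc⟩ := isConj_iff.1 hm.symm
        have hc' : (c : G) * y * (c : G)⁻¹ = (m : G) := by
          rw [← hc]; rfl
        constructor
        · rw [← Subgroup.orderOf_coe, ← hc']
          have := orderOf_injective (MulAut.conj (c : G)).toMonoidHom
            (MulAut.conj (c : G)).injective y
          have h2 : orderOf ((c : G) * y * (c : G)⁻¹) = orderOf y := by simpa using this
          rw [h2]
          exact hyp
        · rw [← hc', Subgroup.mem_centralizer_iff]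
          intro d hd
          have hcN : (c : G)⁻¹ ∈ Subgroup.normalizer ((P : Subgroup G) : Set G) :=
            Subgroup.inv_mem _ c.2
          have hd' : (c : G)⁻¹ * d * c ∈ ((P : Subgroup G) : Set G) := by
            have := (Subgroup.mem_normalizer_iff.mp hcN d).mp hd
            rwa [inv_inv] at this
          have h3 := (Subgroup.mem_centralizer_iff.mp hy) _ hd'
          calc d * ((c : G) * y * (c : G)⁻¹) = c * (((c : G)⁻¹ * d * c) * y) * (c : G)⁻¹ := by group
            _ = c * (y * ((c : G)⁻¹ * d * c)) * (c : G)⁻¹ := by rw [h3]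
            _ = (c : G) * y * (c : G)⁻¹ * d := by group
      refine ⟨⟨ConjClasses.mk ⟨y, hyN⟩, hY'⟩, ?_⟩
      have h4 := hn ⟨ConjClasses.mk ⟨y, hyN⟩, hY'⟩
      rw [ConjClasses.mk_eq_mk_iff_isConj] at h4
      obtain ⟨c, hc⟩ := isConj_iff.1 h4.symm
      exact isConj_iff.2 ⟨(c : G), by rw [← hc]; rfl⟩
  have hcol : LinearIndependent (ResField M) (fun (C : Y) (B : X) =>
      redC M ((χ B : G → ℂ) (n C) / (χ B : G → ℂ) 1)) := by
    refine linearIndependent_cols hM P χ hdeg ?_
      (fun C => ((n C : Subgroup.normalizer ((P : Subgroup G) : Set G)) : G)) hcen hreg ?_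
    · intro ψ hψ
      refine ⟨⟨blockOf M (ψ : G → ℂ), isPBlock_blockOf ψ,
        isDefectGroup_of_degree hM P (isPBlock_blockOf ψ) (mem_blockOf_self ψ) hψ⟩, ?_⟩
      exact isPBlock_sameBlock (isPBlock_blockOf ψ) (mem_blockOf_self ψ)
        (hχ ⟨blockOf M (ψ : G → ℂ), isPBlock_blockOf ψ,
        isDefectGroup_of_degree hM P (isPBlock_blockOf ψ) (mem_blockOf_self ψ) hψ⟩)
    · intro C C' h
      apply Subtype.ext
      rw [← hn C, ← hn C', ConjClasses.mk_eq_mk_iff_isConj]
      have h916 := (Cfsg.Agent.S0916.result p (P : Subgroup G) P.2).1 (n C : G) (by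
        obtain ⟨S, hS⟩ := isSylowCentralizer_of_mem P (hcen C)
        exact ⟨S, hS.symm⟩)
      obtain ⟨m, hm, hmm⟩ := h916.2 _ _ (IsConj.refl _) h (hcen C) (hcen C')
      exact isConj_iff.2 ⟨⟨m, hm⟩, Subtype.ext hmm⟩
  have h1 := hrow.fintype_card_le_finrank
  have h2 := hcol.fintype_card_le_finrank
  rw [Module.finrank_fintype_fun_eq_card] at h1 h2
  rw [Nat.card_eq_fintype_card, Nat.card_eq_fintype_card]
  exact le_antisymm h1 h2

end Cfsg.Agent.S0953
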