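import Cfsg.Statements.S0966
-- import your own Cfsg.Agent.* helpers here
import Cfsg.Agent.Blocks.Over
import Cfsg.Agent.Blocks.PRegular

set_option autoImplicit false
open Cfsg

namespace Cfsg.Agent.S0966

/-- Let N be a normal subgroup of p-power index in the finite group G and b a block of N relative to a maximal ideal M of the algebraic integers containing p. Then there is exactly one block B of G containing a character whose restriction to N has a constituent in b. -/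
theorem result {G : Type*} [Group G] [Fintype G] (p : ℕ) [Fact p.Prime] (M : Ideal Cfsg.AlgInt) (hM : Cfsg.IsPModular p M) (N : Subgroup G) [N.Normal] [Fintype N] (hidx : ∃ k : ℕ, N.index = p ^ k) (b : Set (Cfsg.IrrCharacter N)) (hb : Cfsg.IsPBlock M b) : ∃! B : Set (Cfsg.IrrCharacter G), Cfsg.IsPBlock M B ∧ ∃ χ ∈ B, ∃ θ ∈ b, Cfsg.classInner (fun n : N => (χ : G → ℂ) n) (θ : N → ℂ) ≠ 0 := by
  classical
  have hMp : M.IsPrime := Cfsg.Agent.Blocks.Local.isPrime_of_isPModular hM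
  -- p-regular elements lie in `N`
  have hreg : ∀ g : G, IsPRegular p g → g ∈ N := by
    intro g hg
    obtain ⟨k, hk⟩ := hidx
    have h1 : orderOf (g : G ⧸ N) ∣ p ^ k := by
      rw [← hk, Subgroup.index_eq_card]
      exact orderOf_dvd_natCard _
    have h2 : orderOf (g : G ⧸ N) ∣ orderOf g := orderOf_map_dvd (QuotientGroup.mk' N) g
    have h3 : Nat.Coprime (orderOf g) (p ^ k) :=
      Nat.Coprime.pow_right k (((Nat.Prime.coprime_iff_not_dvd Fact.out).2 hg).symm)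
    have h4 : orderOf (g : G ⧸ N) = 1 := Nat.eq_one_of_dvd_coprimes h3 h2 h1
    rw [orderOf_eq_one_iff] at h4
    exact (QuotientGroup.eq_one_iff g).1 h4
  -- existence
  obtain ⟨θ₀, hθ₀⟩ := Cfsg.Agent.Blocks.Basic.isPBlock_nonempty hb
  obtain ⟨χ₀, hχ₀⟩ := Cfsg.Agent.Blocks.Over.exists_over N θ₀
  refine ⟨blockOf M (χ₀ : G → ℂ), ⟨⟨χ₀, rfl⟩, χ₀,
    Cfsg.Agent.Blocks.Basic.mem_blockOf_self χ₀, θ₀, hθ₀, hχ₀⟩, ?_⟩
  rintro B ⟨hB, χ, hχ, θ, hθ, hover⟩
  -- uniqueness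
  have hsame : SameBlock M (χ₀ : G → ℂ) (χ : G → ℂ) := by
    rw [Cfsg.Agent.Blocks.PRegular.sameBlock_iff_of_isPRegular hM]
    intro g hg
    have hgN := hreg g hg
    have e1 := Cfsg.Agent.Blocks.Over.centralChar_eq_of_over N χ₀.2 θ₀.2 hχ₀ ⟨g, hgN⟩
    have e2 := Cfsg.Agent.Blocks.Over.centralChar_eq_of_over N χ.2 θ.2 hover ⟨g, hgN⟩
    rw [e1, e2]
    exact Cfsg.Agent.Blocks.Induced.memLocalIdeal_induced_sub hMp N θ₀ θ
      (Cfsg.Agent.Blocks.Basic.isPBlock_sameBlock hb hθ₀ hθ) g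
  exact Cfsg.Agent.Blocks.Basic.isPBlock_eq_of_sameBlock hB
    (Cfsg.Agent.Blocks.Basic.isPBlock_blockOf χ₀) hχ
    (Cfsg.Agent.Blocks.Basic.mem_blockOf_self χ₀)
    (Cfsg.Agent.Blocks.Basic.sameBlock_symm hsame)

end Cfsg.Agent.S0966
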