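import Cfsg.Statements.S0956
import Mathlib
import Cfsg.Agent.S0906
import Cfsg.Agent.S0907
import Cfsg.Agent.S0908
import Cfsg.Agent.S0912
import Cfsg.Agent.S0917
import Cfsg.Agent.S0958
import Cfsg.Agent.Lib.Cores
import Cfsg.Agent.Blocks.GreenCore
import Cfsg.Agent.Blocks.GreenReduce
-- import your own Cfsg.Agent.* helpers here

set_option autoImplicit false
open Cfsg

namespace Cfsg.Agent.S0956

open Cfsg.Agent.Blocks.Basic

/-- Let D be a defect group of a block of the finite group G (relative to a maximal ideal M of the algebraic integers containing the prime p) and P a Sylow p-subgroup containing D. Then there is an element x of order prime to p such that D is a Sylow p-subgroup of the centralizer of x and D = P ∩ x P x⁻¹. -/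
theorem result {G : Type*} [Group G] [Finite G] (p : ℕ) [Fact p.Prime] (M : Ideal Cfsg.AlgInt) (hM : Cfsg.IsPModular p M) (B : Set (Cfsg.IrrCharacter G)) (hB : Cfsg.IsPBlock M B) (D : Subgroup G) (hD : Cfsg.IsDefectGroup p M B D) (P : Sylow p G) (hDP : D ≤ P) : ∃ x : G, ¬ p ∣ orderOf x ∧ (∃ S : Sylow p (Subgroup.centralizer ({x} : Set G)), (S : Subgroup (Subgroup.centralizer ({x} : Set G))).map (Subgroup.centralizer ({x} : Set G)).subtype = D) ∧ (P : Subgroup G) ⊓ (P : Subgroup G).map (MulAut.conj x).toMonoidHom = D := by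
  classical
  have hprime : M.IsPrime := hM.2.1.isPrime
  have hDp : IsPGroup p D := isPGroup_of_isDefectGroup hD
  let N : Subgroup G := Subgroup.normalizer (D : Set G)
  refine Cfsg.Agent.Blocks.GreenReduce.reduce p D P hDP fun (S : Sylow p N) => ?_
  have hDN : D ≤ N := Subgroup.le_normalizer
  have hCN : Subgroup.centralizer (D : Set G) ≤ N := Subgroup.centralizer_le_normalizer _
  -- a block of `N` inducing `B`
  obtain ⟨b, hb⟩ := (Cfsg.Agent.S0958.result p M hM D N hDp (sup_le hDN hCN) le_rfl B hB).2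
    ⟨D, hD, 1, by rw [map_conj_one]⟩
  obtain ⟨g, hg⟩ := Cfsg.Agent.S0906.result p M hM b hb.1
  obtain ⟨T0⟩ : Nonempty (Sylow p (Subgroup.centralizer ({g} : Set N))) := inferInstance
  set E : Subgroup N := (T0 : Subgroup (Subgroup.centralizer ({g} : Set N))).map
    (Subgroup.centralizer ({g} : Set N)).subtype with hE
  have hEdef : IsDefectGroup p M b E := ⟨g, hg, T0, rfl⟩
  have hDNn : (D.subgroupOf N).Normal := Subgroup.normal_in_normalizer
  have hDNp : IsPGroup p (D.subgroupOf N) := hDp.comap_subtype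
  have hDcore : D.subgroupOf N ≤ pCore p N := Cfsg.Agent.Lib.Cores.le_pCore hDNn hDNp
  have hDE : D.subgroupOf N ≤ E := hDcore.trans (Cfsg.Agent.S0912.result p M hM b hb.1 E hEdef)
  obtain ⟨D', hD', hED'⟩ := Cfsg.Agent.S0917.result p M hM N b hb.1 B hB hb E hEdef
  have hcardD : Nat.card (D.subgroupOf N) = Nat.card D :=
    Nat.card_congr (Subgroup.subgroupOfEquivOfLe hDN).toEquiv
  have hEq : D.subgroupOf N = E := by
    refine Subgroup.eq_of_le_of_card_ge hDE ?_
    rw [hcardD, Cfsg.Agent.S0908.result p M hM B hB D hD,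
      ← Cfsg.Agent.S0908.result p M hM B hB D' hD']
    refine le_trans (le_of_eq ?_) (Subgroup.card_le_of_le hED')
    exact (Subgroup.card_map_of_injective N.subtype_injective).symm
  -- `g` is `p`-regular
  have hgreg : ¬ p ∣ orderOf g := by
    intro hdvd
    apply hg.2.1
    have h0 := Cfsg.Agent.S0907.result p M hM b hb.1 1 g
      (by rw [orderOf_one]; exact fun h => hM.1.one_lt.ne' (Nat.dvd_one.1 h)) hdvd
    rw [blockCoeff_def, h0, mul_zero]
    exact Cfsg.Agent.Blocks.Local.memLocalIdeal_zero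
  have : Fintype N := Fintype.ofFinite N
  have hsyl : IsSylowCentralizer p g E := ⟨T0, rfl⟩
  obtain ⟨u, hgu, hQC, hQcard⟩ := Cfsg.Agent.Blocks.GreenCore.exists_green hM hb.1 hg hsyl S
  have hcoreS : ∀ T : Sylow p N, D.subgroupOf N ≤ (T : Subgroup N) := fun T =>
    hDcore.trans (Cfsg.Agent.Lib.Cores.pCore_le_sylow T)
  have hDQ : D.subgroupOf N ≤
      (S : Subgroup N) ⊓ (S : Subgroup N).map (MulAut.conj u).toMonoidHom := by
    refine le_inf (hcoreS S) ?_
    intro d hd
    rw [Subgroup.mem_map_equiv, MulAut.conj_symm_apply]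
    apply hcoreS S
    have h1 := hDNn.conj_mem d hd u⁻¹
    simpa using h1
  have hQeq : (S : Subgroup N) ⊓ (S : Subgroup N).map (MulAut.conj u).toMonoidHom =
      D.subgroupOf N := by
    refine (Subgroup.eq_of_le_of_card_ge hDQ ?_).symm
    rw [hQcard, hEq]
  refine ⟨u, ?_, ?_, hQeq⟩
  · rw [Cfsg.Agent.Blocks.HeightZero.orderOf_eq_of_isConj hgu]
    exact hgreg
  · refine Cfsg.Agent.Blocks.SylowIn.exists_sylow_map_eq_of_card (hQeq ▸ hQC) ?_
    rw [Cfsg.Agent.Blocks.SylowIn.card_centralizer_of_isConj hgu, hEq]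
    exact Cfsg.Agent.Blocks.SylowIn.card_of_sylow_map_eq ⟨T0, rfl⟩

end Cfsg.Agent.S0956
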