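import Cfsg.Statements.S0959
import Cfsg.Agent.S0911
-- import your own Cfsg.Agent.* helpers here

set_option autoImplicit false
open Cfsg

namespace Cfsg.Agent.S0959

/-- `P ^ (x * y) = (P ^ y) ^ x` as images under conjugation. -/
theorem map_conj_mul {G : Type*} [Group G] (P : Subgroup G) (x y : G) :
    P.map (MulAut.conj (x * y)).toMonoidHom =
      (P.map (MulAut.conj y).toMonoidHom).map (MulAut.conj x).toMonoidHom := by
  rw [Subgroup.map_map]
  congr 1
  ext z
  simp [mul_assoc]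

/-- a p-subgroup contained in a subgroup `C` is `C`-conjugate into any given Sylow subgroup of `C`. -/
theorem conj_le_sylow_map {G : Type*} [Group G] [Finite G] {p : ℕ} [Fact p.Prime]
    (C P : Subgroup G) (hP : IsPGroup p P) (hPC : P ≤ C) (Q : Sylow p C) :
    ∃ x : G, P.map (MulAut.conj x).toMonoidHom ≤ (Q : Subgroup C).map C.subtype := by
  have hP' : IsPGroup p (P.subgroupOf C) := hP.comap_subtype
  obtain ⟨Q', hQ'⟩ := hP'.exists_le_sylow
  obtain ⟨k, hk⟩ := MulAction.exists_smul_eq C Q' Q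
  refine ⟨k, ?_⟩
  rintro y ⟨z, hz, rfl⟩
  have hz' : (⟨z, hPC hz⟩ : C) ∈ (Q' : Subgroup C) := hQ' hz
  refine ⟨k * ⟨z, hPC hz⟩ * k⁻¹, ?_, ?_⟩
  · rw [← hk, Sylow.smul_def]
    exact ⟨⟨z, hPC hz⟩, hz', rfl⟩
  · rfl

/-- Let B be a block of the finite group G with defect group D (relative to a maximal ideal M of the algebraic integers containing the prime p), and let P be a p-subgroup. Then there is an element g whose idempotent coefficient for B is a local integer outside the local ideal at M and which has a conjugate centralizing P, if and only if some conjugate of P is contained in D. -/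
theorem result {G : Type*} [Group G] [Finite G] (p : ℕ) [Fact p.Prime] (M : Ideal Cfsg.AlgInt) (hM : Cfsg.IsPModular p M) (B : Set (Cfsg.IrrCharacter G)) (hB : Cfsg.IsPBlock M B) (D : Subgroup G) (hD : Cfsg.IsDefectGroup p M B D) (P : Subgroup G) (hP : IsPGroup p P) : (∃ g : G, Cfsg.MemLocalRing M (Cfsg.blockCoeff B g) ∧ ¬ Cfsg.MemLocalIdeal M (Cfsg.blockCoeff B g) ∧ ∃ c : G, IsConj g c ∧ c ∈ Subgroup.centralizer (P : Set G)) ↔ ∃ x : G, P.map (MulAut.conj x).toMonoidHom ≤ D := by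
  obtain ⟨g, hg, P₀, rfl⟩ := hD
  constructor
  · rintro ⟨h, hh1, hh2, c, hhc, hcP⟩
    obtain ⟨x, Q, hxQ⟩ := (Cfsg.Agent.S0911.result p M hM B hB g hg P₀ h).1 hh1 hh2
    obtain ⟨y, hy⟩ := isConj_iff.mp hhc
    -- `P ^ (y⁻¹)` centralizes `h`
    have hle : P.map (MulAut.conj y⁻¹).toMonoidHom ≤ Subgroup.centralizer ({h} : Set G) := by
      rintro _ ⟨z, hz, rfl⟩
      rw [Subgroup.mem_centralizer_singleton_iff]
      have hc : z * c = c * z := Subgroup.mem_centralizer_iff.mp hcP z hz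
      simp only [MulEquiv.toMonoidHom_eq_coe, MonoidHom.coe_coe, MulAut.conj_apply]
      have hh : h = y⁻¹ * c * y := by rw [← hy]; group
      rw [hh]
      calc y⁻¹ * z * y⁻¹⁻¹ * (y⁻¹ * c * y) = y⁻¹ * (z * c) * y := by group
        _ = y⁻¹ * (c * z) * y := by rw [hc]
        _ = y⁻¹ * c * y * (y⁻¹ * z * y⁻¹⁻¹) := by group
    obtain ⟨k, hk⟩ := conj_le_sylow_map _ _ (hP.map _) hle Q
    refine ⟨x⁻¹ * (k * y⁻¹), ?_⟩
    rw [map_conj_mul, map_conj_mul]
    have h1 := Subgroup.map_mono (f := (MulAut.conj x⁻¹).toMonoidHom) (hk.trans hxQ)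
    refine h1.trans ?_
    rw [← map_conj_mul, inv_mul_cancel]
    rintro _ ⟨z, hz, rfl⟩
    have h2 : (MulAut.conj (1 : G)).toMonoidHom z = z := by simp
    rw [h2]
    exact hz
  · rintro ⟨x, hx⟩
    refine ⟨g, hg.1, hg.2.1, x⁻¹ * g * x, ?_, ?_⟩
    · exact isConj_iff.mpr ⟨x⁻¹, by group⟩
    · rw [Subgroup.mem_centralizer_iff]
      intro z hz
      have h1 : (MulAut.conj x).toMonoidHom z ∈ Subgroup.centralizer ({g} : Set G) :=
        Subgroup.map_subtype_le _ (hx ⟨z, hz, rfl⟩)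
      rw [Subgroup.mem_centralizer_singleton_iff] at h1
      simp only [MulEquiv.toMonoidHom_eq_coe, MonoidHom.coe_coe, MulAut.conj_apply] at h1
      calc z * (x⁻¹ * g * x) = x⁻¹ * ((x * z * x⁻¹) * g) * x := by group
        _ = x⁻¹ * (g * (x * z * x⁻¹)) * x := by rw [h1]
        _ = x⁻¹ * g * x * z := by group

end Cfsg.Agent.S0959
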