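import Cfsg.Statements.S0965
import Cfsg.Agent.Blocks.Covering
import Cfsg.Agent.Blocks.OsimaUnion
import Cfsg.Agent.S0963

set_option autoImplicit false
open Cfsg

namespace Cfsg.Agent.S0965

open scoped ComplexConjugate
open Cfsg.Agent.Blocks.Induced Cfsg.Agent.Characters.Core Cfsg.Agent.Blocks.Covering
  Cfsg.Agent.Blocks.OsimaUnion

/-- Let N be a normal subgroup of the finite group G and let B, b be blocks of G and of N relative to a maximal ideal M of the algebraic integers containing the prime p. Then some χ ∈ B has a constituent in b on restriction to N if and only if, for all χ ∈ B, θ ∈ b and n ∈ N, the central character of χ at n is congruent modulo the local ideal at M to the sum of θ m / θ 1 over the elements m ∈ N conjugate in G to n. -/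
theorem result {G : Type*} [Group G] [Fintype G] (p : ℕ) [Fact p.Prime] (M : Ideal Cfsg.AlgInt) (hM : Cfsg.IsPModular p M) (N : Subgroup G) [N.Normal] [Fintype N] (B : Set (Cfsg.IrrCharacter G)) (hB : Cfsg.IsPBlock M B) (b : Set (Cfsg.IrrCharacter N)) (hb : Cfsg.IsPBlock M b) : (∃ χ ∈ B, ∃ θ ∈ b, Cfsg.classInner (fun n : N => (χ : G → ℂ) n) (θ : N → ℂ) ≠ 0) ↔ ∀ χ ∈ B, ∀ θ ∈ b, ∀ n : N, Cfsg.MemLocalIdeal M (Cfsg.centralChar (χ : G → ℂ) (n : G) - Cfsg.inducedCentralChar N (θ : N → ℂ) (n : G)) := by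
  classical
  have hMp : M.IsPrime := hM.2.1.isPrime
  constructor
  · rintro ⟨χ, hχ, θ, hθ, h⟩ χ' hχ' θ' hθ' n
    have h1 := (Cfsg.Agent.S0963.result N χ θ).1 h n
    have h2 := sameBlock_of_mem hMp hB hχ' hχ (n : G)
    have h3 := memLocalIdeal_induced_sub hMp N θ θ' (sameBlock_of_mem hMp hb hθ hθ') (n : G)
    have h4 := memLocalIdeal_add hMp h2 h3
    rwa [h1, sub_add_sub_cancel] at h4
  · intro H
    have := finite_irr (G := N)
    have : Fintype (IrrCharacter N) := Fintype.ofFinite _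
    obtain ⟨χ, hχ⟩ : ∃ χ, χ ∈ B := by
      obtain ⟨χ, rfl⟩ := hB
      exact ⟨χ, sameBlock_refl hMp _⟩
    obtain ⟨θ, hθ⟩ : ∃ θ, θ ∈ b := by
      obtain ⟨θ, rfl⟩ := hb
      exact ⟨θ, sameBlock_refl hMp _⟩
    let S : Set (IrrCharacter N) := {θ' | ∃ g : G, conjIrr N g θ' ∈ b}
    have hθS : θ ∈ S := ⟨1, by rw [conjIrr_one]; exact hθ⟩
    have hSconj : ∀ (g : G) (θ' : IrrCharacter N), θ' ∈ S → conjIrr N g θ' ∈ S := by
      rintro g θ' ⟨x, hx⟩
      refine ⟨g⁻¹ * x, ?_⟩
      rw [conjIrr_conjIrr, mul_inv_cancel_left]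
      exact hx
    have hSblock : ∀ χ ∈ S, ∀ ψ : IrrCharacter N, SameBlock M (χ : N → ℂ) (ψ : N → ℂ) → ψ ∈ S := by
      rintro χ ⟨x, hx⟩ ψ hψ
      exact ⟨x, mem_of_sameBlock hMp hb hx (sameBlock_conjIrr N x hψ)⟩
    have hcoeff : ∀ n : N, blockCoeff S n =
        (Nat.card N : ℂ)⁻¹ * ∑ ψ ∈ S.toFinset, (ψ : N → ℂ) 1 * conj ((ψ : N → ℂ) n) := by
      intro n
      unfold blockCoeff
      rw [finsum_mem_eq_toFinset_sum]
    have hFinv : ∀ (g : G) (n : N), blockCoeff S (MulAut.conjNormal g n) = blockCoeff S n := by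
      intro g n
      rw [hcoeff, hcoeff]
      congr 1
      refine Finset.sum_bij' (fun ψ _ => conjIrr N g ψ) (fun ψ _ => conjIrr N g⁻¹ ψ) ?_ ?_ ?_ ?_ ?_
      · intro ψ hψ
        rw [Set.mem_toFinset] at hψ ⊢
        exact hSconj _ _ hψ
      · intro ψ hψ
        rw [Set.mem_toFinset] at hψ ⊢
        exact hSconj _ _ hψ
      · intro ψ _
        rw [conjIrr_conjIrr, mul_inv_cancel, conjIrr_one]
      · intro ψ _
        rw [conjIrr_conjIrr, inv_mul_cancel, conjIrr_one]
      · intro ψ _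
        rw [conjIrr_at_one, conjIrr_apply]
    obtain ⟨s, hs⟩ := sum_invariant N (fun n => blockCoeff S n) hFinv
    -- the value of the central character of `θ`
    have hω : ∀ t : N → ℂ, ∀ d : ℂ, ∑ n : N, blockCoeff S n * (t n / d) =
        ∑ ψ ∈ S.toFinset, (ψ : N → ℂ) 1 / d * classInner t (ψ : N → ℂ) := by
      intro t d
      simp only [hcoeff, classInner, Finset.mul_sum, Finset.sum_mul]
      rw [Finset.sum_comm]
      refine Finset.sum_congr rfl fun ψ _ => Finset.sum_congr rfl fun n _ => ?_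
      ring
    have hθ1 : (θ : N → ℂ) 1 ≠ 0 := by
      obtain ⟨m, hm, h⟩ := isIrr_apply_one θ.2
      rw [h]
      exact_mod_cast hm.ne'
    have h1 : ∑ n : N, blockCoeff S n * ((θ : N → ℂ) n / (θ : N → ℂ) 1) = 1 := by
      rw [hω, Finset.sum_eq_single θ]
      · rw [classInner_irr_self θ.2, div_self hθ1, mul_one]
      · intro ψ _ hne
        rw [classInner_irr_ne θ.2 ψ.2 (fun h => hne (Subtype.ext h.symm)), mul_zero]
      · intro h
        rw [Set.mem_toFinset] at h
        exact absurd hθS h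
    have h2 : ∑ n : N, blockCoeff S n * ((χ : G → ℂ) n / (χ : G → ℂ) 1) ≠ 0 := by
      intro h0
      have h3 : MemLocalIdeal M (∑ r ∈ s, blockCoeff S r *
          (centralChar (χ : G → ℂ) (r : G) - inducedCentralChar N (θ : N → ℂ) (r : G))) :=
        memLocalIdeal_sum hMp _ _ fun r _ =>
          memLocalIdeal_mul_left hMp (memLocalRing_blockCoeff_union p hM S hSblock r)
            (H χ hχ θ hθ r)
      have h4 : ∑ r ∈ s, blockCoeff S r *
          (centralChar (χ : G → ℂ) (r : G) - inducedCentralChar N (θ : N → ℂ) (r : G)) = -1 := by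
        rw [← h1, hs (fun n => (θ : N → ℂ) n / (θ : N → ℂ) 1)]
        rw [hs (fun n => (χ : G → ℂ) n / (χ : G → ℂ) 1)] at h0
        rw [← zero_sub, ← h0, ← Finset.sum_sub_distrib]
        refine Finset.sum_congr rfl fun r _ => ?_
        rw [mul_sub]
        congr 2
        -- the class of `r` lies in `N`
        have h5 : ∑ᶠ h ∈ {h : N | IsConj (r : G) (h : G)}, (χ : G → ℂ) h / (χ : G → ℂ) 1 =
            ∑ᶠ h ∈ {h : N | IsConj (r : G) (h : G)}, (χ : G → ℂ) r / (χ : G → ℂ) 1 := by
          refine finsum_mem_congr rfl fun h hh => ?_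
          obtain ⟨x, hx⟩ := isConj_iff.1 hh
          rw [← hx, isClassFunction_of_isIrrCharacter χ.2]
        rw [h5, finsum_mem_eq_finite_toFinset_sum _ (Set.toFinite _), Finset.sum_const,
          nsmul_eq_mul, ← Set.ncard_eq_toFinset_card]
        unfold centralChar
        rw [← ncard_conj_eq_index]
        have h6 : Set.ncard {y : G | IsConj (r : G) y} = Set.ncard {h : N | IsConj (r : G) (h : G)} := by
          rw [← Set.ncard_image_of_injective _ (Subtype.val_injective (p := fun x => x ∈ N))]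
          congr 1
          ext y
          constructor
          · intro hy
            obtain ⟨x, hx⟩ := isConj_iff.1 hy
            exact ⟨⟨y, hx ▸ Subgroup.Normal.conj_mem inferInstance _ r.2 x⟩, hy, rfl⟩
          · rintro ⟨z, hz, rfl⟩
            exact hz
        rw [h6]
        ring
      rw [h4] at h3
      have := memLocalIdeal_neg h3
      rw [neg_neg] at this
      exact not_memLocalIdeal_one this
    rw [hω] at h2
    obtain ⟨ψ, hψ, hne⟩ := Finset.exists_ne_zero_of_sum_ne_zero h2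
    rw [Set.mem_toFinset] at hψ
    obtain ⟨g, hg⟩ := hψ
    refine ⟨χ, hχ, _, hg, ?_⟩
    have h7 : classInner (fun n : N => (χ : G → ℂ) n) (conjIrr N g ψ : N → ℂ) =
        classInner (fun n : N => (χ : G → ℂ) n) (ψ : N → ℂ) := by
      unfold classInner
      congr 1
      refine Fintype.sum_equiv (MulAut.conjNormal (H := N) g).toEquiv _ _ fun n => ?_
      rw [conjIrr_apply]
      change (χ : G → ℂ) n * _ = (χ : G → ℂ) ((MulAut.conjNormal (H := N) g n : N) : G) * _
      rw [MulAut.conjNormal_apply, isClassFunction_of_isIrrCharacter χ.2]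
      rfl
    rw [h7]
    exact right_ne_zero_of_mul hne

end Cfsg.Agent.S0965
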