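import Cfsg.Statements.S0967
-- import your own Cfsg.Agent.* helpers here
import Cfsg.Agent.Blocks.InvSum
import Cfsg.Agent.Blocks.Deflate

set_option autoImplicit false
open Cfsg

namespace Cfsg.Agent.S0967

open Cfsg.Agent.Blocks.Local Cfsg.Agent.Blocks.InvSum Cfsg.Agent.Blocks.Deflate
open Cfsg.Agent.Blocks.Induced (isClassFunction_of_isIrrCharacter)

theorem isClassFunction_comp {G H : Type*} [Group G] [Group H] (f : G →* H) {χ : H → ℂ}
    (hχ : IsClassFunction H χ) : IsClassFunction G (fun g => χ (f g)) := by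
  intro g h
  show χ (f (h * g * h⁻¹)) = χ (f g)
  rw [map_mul, map_mul, map_inv, hχ]

/-- sum over the preimage of a finite set under `G → G ⧸ N`. -/
theorem sum_preimage {G : Type*} [Group G] [Fintype G] (N : Subgroup G) [N.Normal]
    (T : Finset (G ⧸ N)) (S : Finset G) (hS : ∀ g, g ∈ S ↔ (g : G ⧸ N) ∈ T) (F : G ⧸ N → ℂ) :
    ∑ s ∈ S, F (s : G ⧸ N) = (Nat.card N : ℂ) * ∑ t ∈ T, F t := by
  classical
  rw [← Finset.sum_fiberwise_of_maps_to (s := S) (t := T)
      (g := (QuotientGroup.mk : G → G ⧸ N)) (fun x hx => (hS x).1 hx) (fun h => F (h : G ⧸ N)),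
    Finset.mul_sum]
  refine Finset.sum_congr rfl fun t ht => ?_
  rw [Finset.sum_congr rfl (g := fun _ => F t) (fun y hy => by
    rw [(Finset.mem_filter.1 hy).2]), Finset.sum_const, nsmul_eq_mul]
  congr 2
  obtain ⟨g, rfl⟩ := QuotientGroup.mk_surjective t
  have := Fintype.ofFinite N
  have e : S.filter (fun i : G => (QuotientGroup.mk i : G ⧸ N) = (QuotientGroup.mk g : G ⧸ N)) =
      (Finset.univ.image (fun n : N => g * (n : G)) : Finset G) := by
    ext i
    simp only [Finset.mem_filter, Finset.mem_image, Finset.mem_univ, true_and]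
    constructor
    · rintro ⟨_, h⟩
      exact ⟨⟨g⁻¹ * i, QuotientGroup.eq.1 h.symm⟩, by simp⟩
    · rintro ⟨n, rfl⟩
      have : ((g * (n : G) : G) : G ⧸ N) = (g : G ⧸ N) :=
        (QuotientGroup.eq.2 (by simp)).symm
      exact ⟨(hS _).2 (by rw [this]; exact ht), this⟩
  rw [e, Finset.card_image_of_injective _ (fun a b h => Subtype.ext (mul_left_cancel h)),
    Finset.card_univ, Nat.card_eq_fintype_card]

/-- Let N be a normal subgroup of the finite group G of order prime to p and fix a maximal ideal M of the algebraic integers containing p. If χ is an irreducible character of G ⧸ N and ψ lies in the block of its inflation χ ∘ (quotient map), then ψ is itself inflated from an irreducible character ψ' of G ⧸ N lying in the block of χ. (Over a normal p'-subgroup, blocks of the quotient are whole blocks of G.) -/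
theorem result {G : Type*} [Group G] [Finite G] (p : ℕ) [Fact p.Prime] (M : Ideal Cfsg.AlgInt) (hM : Cfsg.IsPModular p M) (N : Subgroup G) [N.Normal] (hN : ¬ p ∣ Nat.card N) (χ : Cfsg.IrrCharacter (G ⧸ N)) (ψ : Cfsg.IrrCharacter G) (hψ : ψ ∈ Cfsg.blockOf M ((χ : G ⧸ N → ℂ) ∘ QuotientGroup.mk)) : ∃ ψ' : Cfsg.IrrCharacter (G ⧸ N), (ψ : G → ℂ) = (ψ' : G ⧸ N → ℂ) ∘ QuotientGroup.mk ∧ Cfsg.SameBlock M (χ : G ⧸ N → ℂ) (ψ' : G ⧸ N → ℂ) := by
  classical
  have := Fintype.ofFinite G
  have := Fintype.ofFinite (G ⧸ N)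
  have := Fintype.ofFinite N
  have hMp : M.IsPrime := isPrime_of_isPModular hM
  have hblock : SameBlock M ((χ : G ⧸ N → ℂ) ∘ QuotientGroup.mk) (ψ : G → ℂ) := hψ
  have hcχ : IsClassFunction G ((χ : G ⧸ N → ℂ) ∘ QuotientGroup.mk) :=
    isClassFunction_comp (QuotientGroup.mk' N) (isClassFunction_of_isIrrCharacter χ.2)
  have hcψ : IsClassFunction G (ψ : G → ℂ) := isClassFunction_of_isIrrCharacter ψ.2
  have hχ1 : (χ : G ⧸ N → ℂ) 1 ≠ 0 := Cfsg.Agent.Characters.Central.irr_one_ne_zero χ.2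
  -- the preimage formula in the special case `T = {1}`
  have hsum : ∑ n : N, (ψ : G → ℂ) n ≠ 0 := by
    intro h0
    let S : Finset G := Finset.univ.filter fun g => g ∈ N
    have hS : ∀ x y : G, IsConj x y → x ∈ S → y ∈ S := by
      intro x y hxy hx
      obtain ⟨c, rfl⟩ := isConj_iff.1 hxy
      have hx' : x ∈ N := by simpa [S] using hx
      simpa [S] using ‹N.Normal›.conj_mem x hx' c
    have key := memLocalIdeal_sum_sub hcχ hcψ hblock S hS
    have e1 : ∑ s ∈ S, ((χ : G ⧸ N → ℂ) ∘ QuotientGroup.mk) s /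
        ((χ : G ⧸ N → ℂ) ∘ QuotientGroup.mk) (1 : G) = (Nat.card N : ℂ) := by
      rw [Finset.sum_congr rfl (g := fun _ => (1 : ℂ))]
      · rw [Finset.sum_const, nsmul_eq_mul, mul_one, Nat.card_eq_fintype_card,
          Fintype.card_subtype]
      · intro x hx
        have hx' : x ∈ N := by simpa [S] using hx
        have : (QuotientGroup.mk x : G ⧸ N) = QuotientGroup.mk 1 := by
          rw [QuotientGroup.mk_one]
          exact (QuotientGroup.eq_one_iff x).2 hx'
        simp only [Function.comp]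
        rw [this]
        exact div_self hχ1
    have e2 : ∑ s ∈ S, (ψ : G → ℂ) s / (ψ : G → ℂ) 1 = 0 := by
      rw [← Finset.sum_div]
      have : ∑ s ∈ S, (ψ : G → ℂ) s = ∑ n : N, (ψ : G → ℂ) n := by
        refine Finset.sum_subtype _ (by simp [S]) _
      rw [this, h0, zero_div]
    rw [e1, e2, sub_zero, memLocalIdeal_natCast_iff hM] at key
    exact hN key
  obtain ⟨ψ', hψ'⟩ := exists_deflation N (ψ : G → ℂ) ψ.2 hsum
  refine ⟨ψ', hψ', ?_⟩
  intro q
  let T : Finset (G ⧸ N) := Finset.univ.filter fun t => IsConj q t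
  let S : Finset G := Finset.univ.filter fun g => (g : G ⧸ N) ∈ T
  have hS : ∀ x y : G, IsConj x y → x ∈ S → y ∈ S := by
    intro x y hxy hx
    obtain ⟨c, rfl⟩ := isConj_iff.1 hxy
    have hx' : IsConj q (x : G ⧸ N) := by simpa [S, T] using hx
    have : IsConj q ((c * x * c⁻¹ : G) : G ⧸ N) := hx'.trans (isConj_iff.2 ⟨(c : G ⧸ N), rfl⟩)
    simpa [S, T] using this
  have key := memLocalIdeal_sum_sub hcχ hcψ hblock S hS
  have hT : ∀ θ : IrrCharacter (G ⧸ N),
      ∑ t ∈ T, (θ : G ⧸ N → ℂ) t / (θ : G ⧸ N → ℂ) 1 = centralChar (θ : G ⧸ N → ℂ) q :=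
    fun θ => sum_class_eq_centralChar (isClassFunction_of_isIrrCharacter θ.2) q T (by simp [T])
  have hpre : ∀ θ : IrrCharacter (G ⧸ N),
      ∑ s ∈ S, ((θ : G ⧸ N → ℂ) ∘ QuotientGroup.mk) s /
        ((θ : G ⧸ N → ℂ) ∘ QuotientGroup.mk) (1 : G) =
      (Nat.card N : ℂ) * centralChar (θ : G ⧸ N → ℂ) q := by
    intro θ
    rw [← hT θ]
    exact sum_preimage N T S (by simp [S]) (fun t => (θ : G ⧸ N → ℂ) t / (θ : G ⧸ N → ℂ) 1)
  rw [hψ', hpre χ, hpre ψ', ← mul_sub] at key
  have hcard : (Nat.card N : ℂ) ≠ 0 := by exact_mod_cast Nat.card_pos.ne'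
  have h2 := memLocalIdeal_mul_left (memLocalRing_inv_natCast hM hN) key
  rwa [← mul_assoc, inv_mul_cancel₀ hcard, one_mul] at h2

end Cfsg.Agent.S0967
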