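import Cfsg.Statements.S0968
-- import your own Cfsg.Agent.* helpers here
import Cfsg.Agent.Blocks.CentralProduct
import Cfsg.Agent.S0907

set_option autoImplicit false
open Cfsg

namespace Cfsg.Agent.S0968

open Cfsg.Agent.Blocks.CentralProduct Cfsg.Agent.Characters.Core Cfsg.Agent.Blocks.LocalRing
open scoped ComplexConjugate

universe u

/-- The index of the centralizer of `g` and of a Sylow subgroup `P` of this centralizer have the same `p`-part. -/
theorem factorization_index {G : Type u} [Group G] [Finite G] (p : ℕ) [Fact p.Prime] (g : G)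
    (Q : Sylow p (Subgroup.centralizer ({g} : Set G))) (P : Subgroup G)
    (hPQ : P = (Q : Subgroup (Subgroup.centralizer ({g} : Set G))).map
      (Subgroup.centralizer ({g} : Set G)).subtype) :
    P.index.factorization p = (Subgroup.centralizer ({g} : Set G)).index.factorization p := by
  have hle : P ≤ Subgroup.centralizer ({g} : Set G) := by
    rw [hPQ]; exact Subgroup.map_subtype_le _
  have h1 := Subgroup.relIndex_mul_index hle
  have h2 : P.relIndex (Subgroup.centralizer ({g} : Set G)) =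
      (Q : Subgroup (Subgroup.centralizer ({g} : Set G))).index := by
    unfold Subgroup.relIndex
    congr 1
    rw [hPQ, Subgroup.subgroupOf, Subgroup.comap_map_eq_self_of_injective
      (Subgroup.subtype_injective _)]
  have h3 : ¬ p ∣ (Q : Subgroup (Subgroup.centralizer ({g} : Set G))).index := Q.not_dvd_index
  rw [← h1, h2, Nat.factorization_mul Subgroup.index_ne_zero_of_finite
    Subgroup.index_ne_zero_of_finite, Finsupp.add_apply,
    Nat.factorization_eq_zero_of_not_dvd h3, zero_add]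

theorem sameBlock_of_mem {G : Type u} [Group G] {p : ℕ} {M : Ideal AlgInt} (hM : IsPModular p M)
    {B : Set (IrrCharacter G)} (hB : IsPBlock M B) {χ χ' : IrrCharacter G} (h : χ ∈ B)
    (h' : χ' ∈ B) : SameBlock M (χ : G → ℂ) (χ' : G → ℂ) := by
  obtain ⟨χ₀, rfl⟩ := hB
  intro g
  have h1 : MemLocalIdeal M (centralChar (χ₀ : G → ℂ) g - centralChar (χ : G → ℂ) g) := h g
  have h2 : MemLocalIdeal M (centralChar (χ₀ : G → ℂ) g - centralChar (χ' : G → ℂ) g) := h' g
  have := memLocalIdeal_sub hM h2 h1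
  have e : centralChar (χ₀ : G → ℂ) g - centralChar (χ' : G → ℂ) g -
    (centralChar (χ₀ : G → ℂ) g - centralChar (χ : G → ℂ) g) =
    centralChar (χ : G → ℂ) g - centralChar (χ' : G → ℂ) g := by ring
  rwa [e] at this

/-- Degrees in a block with defect group `P`, where `G = P * C_G(P)`. -/
theorem factorization_le {G : Type u} [Group G] [Finite G] (p : ℕ) [Fact p.Prime]
    {M : Ideal AlgInt} (hM : IsPModular p M) (P : Subgroup G)
    {B : Set (IrrCharacter G)} (hD : IsDefectGroup p M B P) {χ : IrrCharacter G} (hχ : χ ∈ B)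
    {ξ : P → ℂ} {ψ : Subgroup.centralizer (P : Set G) → ℂ} (hξ : IsIrrCharacter P ξ)
    (hψ : IsIrrCharacter (Subgroup.centralizer (P : Set G)) ψ)
    (hf : IsFactor P (χ : G → ℂ) ξ ψ) :
    P.index.factorization p ≤ (charDegree ψ).factorization p := by
  obtain ⟨g, hg, Q, hPQ⟩ := hD
  by_contra hlt
  push Not at hlt
  rw [factorization_index p g Q P hPQ] at hlt
  obtain ⟨n, hn0, hn⟩ := isIrr_apply_one hψ
  rw [charDegree_eq hn] at hlt
  have hgC : g ∈ Subgroup.centralizer (P : Set G) := by
    rw [Subgroup.mem_centralizer_iff]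
    intro u hu
    have hu' : u ∈ Subgroup.centralizer ({g} : Set G) := by
      have : P ≤ Subgroup.centralizer ({g} : Set G) := by
        rw [hPQ]; exact Subgroup.map_subtype_le _
      exact this hu
    exact (Subgroup.mem_centralizer_iff.1 hu' g rfl).symm
  refine hg.2.2 χ hχ ?_
  have h1 : centralChar (χ : G → ℂ) g =
      (((Subgroup.centralizer ({g} : Set G)).index : ℂ) / n) * ψ ⟨g, hgC⟩ := by
    unfold centralChar
    have e1 := hf.apply_coe ⟨g, hgC⟩
    simp only at e1
    rw [e1, hf.apply_one, hn]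
    have := irr_apply_one_ne_zero hξ
    have hn' : (n : ℂ) ≠ 0 := by exact_mod_cast hn0.ne'
    field_simp
  rw [h1]
  exact memLocalIdeal_mul_right hM (memLocalIdeal_natDiv hM hn0.ne' hlt)
    (memLocalRing_of_isIntegral hM (isIntegral_irr hψ _))

/-- Let P be a p-subgroup of the finite group G with P ⊔ C_G(P) = G, and let B be a block with defect group P relative to a maximal ideal M of the algebraic integers containing p. Then there is exactly one θ ∈ B with θ x = θ 1 for all x ∈ P; for this θ the exponent of p in θ(1) equals the exponent of p in the index of P; and the number of members of B equals the number of conjugacy classes of P. -/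
theorem result {G : Type*} [Group G] [Finite G] (p : ℕ) [Fact p.Prime] (M : Ideal Cfsg.AlgInt) (hM : Cfsg.IsPModular p M) (P : Subgroup G) (hP : IsPGroup p P) (hG : P ⊔ Subgroup.centralizer (P : Set G) = ⊤) (B : Set (Cfsg.IrrCharacter G)) (hB : Cfsg.IsPBlock M B) (hD : Cfsg.IsDefectGroup p M B P) : (∃! θ : Cfsg.IrrCharacter G, θ ∈ B ∧ ∀ x ∈ P, (θ : G → ℂ) x = (θ : G → ℂ) 1) ∧ (∀ θ ∈ B, (∀ x ∈ P, (θ : G → ℂ) x = (θ : G → ℂ) 1) → (Cfsg.charDegree (θ : G → ℂ)).factorization p = P.index.factorization p) ∧ Nat.card B = Nat.card (ConjClasses P) := by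
  classical
  have := Fintype.ofFinite G
  have := Fintype.ofFinite P
  have hfinI : Finite (IrrCharacter G) := finite_irr
  have := Fintype.ofFinite (IrrCharacter G)
  have hpp : p.Prime := Fact.out
  -- choose the factorisations
  have hex : ∀ χ : IrrCharacter G, ∃ (ξ : P → ℂ) (ψ : Subgroup.centralizer (P : Set G) → ℂ),
      IsIrrCharacter P ξ ∧ IsIrrCharacter (Subgroup.centralizer (P : Set G)) ψ ∧
        IsFactor P (χ : G → ℂ) ξ ψ := fun χ => exists_factor hG χ.2
  choose ξ ψ hξ hψ hf using hex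
  have hdeg : ∀ χ ∈ B, P.index.factorization p ≤ (charDegree (ψ χ)).factorization p :=
    fun χ hχ => factorization_le p hM P hD hχ (hξ χ) (hψ χ) (hf χ)
  have hidx0 : P.index ≠ 0 := Subgroup.index_ne_zero_of_finite
  -- injectivity
  have hinj : ∀ χ ∈ B, ∀ χ' ∈ B, ξ χ = ξ χ' → χ = χ' := by
    intro χ hχ χ' hχ' hEq
    by_contra hne
    have hne' : (χ : G → ℂ) ≠ (χ' : G → ℂ) := fun h => hne (Subtype.ext h)
    have h0 := classInner_irr_ne χ.2 χ'.2 hne'
    have hf1 : IsFactor P (χ : G → ℂ) (ξ χ') (ψ χ) := by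
      rw [← hEq]; exact hf χ
    rw [classInner_eq_regT hP hG χ.2 (hξ χ') (hψ χ) hf1 (hf χ') (hdeg χ hχ)] at h0
    have h1 := classInner_irr_self χ'.2
    rw [classInner_eq_regT hP hG χ'.2 (hξ χ') (hψ χ') (hf χ') (hf χ') (hdeg χ' hχ')] at h1
    have hT0 : regT p (χ : G → ℂ) (χ' : G → ℂ) (ξ χ') = 0 := by
      rcases mul_eq_zero.1 h0 with h | h
      · exfalso
        obtain ⟨n, hn0, hn⟩ := isIrr_apply_one (hψ χ)
        rw [charDegree_eq hn, div_eq_zero_iff] at h
        rcases h with h | h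
        · exact hn0.ne' (by exact_mod_cast h)
        · exact hidx0 (by exact_mod_cast h)
      · exact h
    have h2 := regT_congr hP hG hM χ.2 χ'.2 χ'.2 (hξ χ') (hψ χ') (hf χ')
      (sameBlock_of_mem hM hB hχ hχ')
    rw [hT0, zero_sub] at h2
    have h3 := memLocalIdeal_neg_iff.1 h2
    have h4 := memLocalIdeal_mul_left hM (memLocalRing_natDiv hM hidx0 (hdeg χ' hχ')) h3
    rw [h1] at h4
    exact not_memLocalIdeal_one hM h4
  -- the exact degree
  have hdeg2 : ∀ χ ∈ B, (charDegree (ψ χ)).factorization p = P.index.factorization p := by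
    intro χ hχ
    refine le_antisymm ?_ (hdeg χ hχ)
    by_contra hlt
    push Not at hlt
    have h1 := classInner_irr_self χ.2
    rw [classInner_eq_regT hP hG χ.2 (hξ χ) (hψ χ) (hf χ) (hf χ) (hdeg χ hχ)] at h1
    have h2 := memLocalIdeal_mul_right hM (memLocalIdeal_natDiv hM hidx0 hlt)
      (memLocalRing_of_isIntegral hM
        (isIntegral_regT (p := p) hP hG χ.2 χ.2 (hξ χ) (hψ χ) (hf χ)))
    rw [h1] at h2
    exact not_memLocalIdeal_one hM h2
  -- surjectivity
  have hsurj : ∀ η : P → ℂ, IsIrrCharacter P η → ∃ χ ∈ B, ξ χ = η := by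
    intro η hη
    by_contra hno
    push Not at hno
    have hweak : ∀ u : P, u ≠ 1 →
        ∑ χ ∈ B.toFinset, (χ : G → ℂ) 1 * conj ((χ : G → ℂ) u) = 0 := by
      intro u hu
      have h1 : ¬ p ∣ orderOf (1 : G) := by
        rw [orderOf_one]
        exact hpp.one_lt.ne' ∘ Nat.dvd_one.1
      have h2 : p ∣ orderOf (u : G) := by
        obtain ⟨k, hk⟩ := (IsPGroup.iff_orderOf.1 hP) u
        rw [Subgroup.orderOf_coe, hk]
        rcases Nat.eq_zero_or_pos k with h0 | h0
        · exfalso
          rw [h0, pow_zero] at hk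
          exact hu (orderOf_eq_one_iff.1 hk)
        · exact dvd_pow_self p h0.ne'
      have h3 := Cfsg.Agent.S0907.result p M hM B hB 1 (u : G) h1 h2
      rw [finsum_mem_eq_toFinset_sum] at h3
      exact h3
    have hsum : ∑ u : P, (∑ χ ∈ B.toFinset, (χ : G → ℂ) 1 * conj ((χ : G → ℂ) u)) * η u = 0 := by
      have e1 : ∀ u : P, (∑ χ ∈ B.toFinset, (χ : G → ℂ) 1 * conj ((χ : G → ℂ) u)) * η u =
          ∑ χ ∈ B.toFinset, ((χ : G → ℂ) 1 * conj (ψ χ 1)) * (η u * conj (ξ χ u)) := by
        intro u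
        rw [Finset.sum_mul]
        refine Finset.sum_congr rfl fun χ _ => ?_
        rw [(hf χ).apply_left u, map_mul]
        ring
      rw [Finset.sum_congr rfl fun u _ => e1 u, Finset.sum_comm]
      refine Finset.sum_eq_zero fun χ hχ => ?_
      rw [← Finset.mul_sum]
      have hne : η ≠ ξ χ := fun h => hno χ (by simpa using hχ) h.symm
      have e2 := classInner_irr_ne hη (hξ χ) hne
      unfold classInner at e2
      have hP0 : (Nat.card P : ℂ) ≠ 0 := by
        have : Nat.card P ≠ 0 := Nat.card_pos.ne'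
        exact_mod_cast this
      have e3 := (mul_eq_zero.1 e2).resolve_left (inv_ne_zero hP0)
      rw [e3, mul_zero]
    rw [Finset.sum_eq_single (1 : P) (fun u _ hu => by rw [hweak u hu, zero_mul])
      (fun h => absurd (Finset.mem_univ _) h)] at hsum
    have hη1 := irr_apply_one_ne_zero hη
    have hs := (mul_eq_zero.1 hsum).resolve_right hη1
    have hs' : ∑ χ ∈ B.toFinset, Complex.normSq ((χ : G → ℂ) 1) = 0 := by
      have : ((∑ χ ∈ B.toFinset, Complex.normSq ((χ : G → ℂ) 1) : ℝ) : ℂ) = 0 := by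
        push_cast
        simp_rw [← Complex.mul_conj]
        exact hs
      exact_mod_cast this
    obtain ⟨χ₀, hχ₀⟩ := hB
    have hmem : χ₀ ∈ B := by
      rw [hχ₀]
      intro g
      rw [sub_self]
      exact memLocalIdeal_zero hM
    have := (Finset.sum_eq_zero_iff_of_nonneg fun χ _ => Complex.normSq_nonneg _).1 hs' χ₀
      (by simpa using hmem)
    exact irr_apply_one_ne_zero χ₀.2 (Complex.normSq_eq_zero.1 this)
  -- characters with `P` in the kernel
  have hker : ∀ χ : IrrCharacter G, (∀ x ∈ P, (χ : G → ℂ) x = (χ : G → ℂ) 1) → ξ χ = 1 := by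
    intro χ hx
    have h1 : ∀ u : P, ξ χ u = ξ χ 1 := by
      intro u
      have h2 := hx u u.2
      rw [(hf χ).apply_left u, (hf χ).apply_one] at h2
      exact mul_right_cancel₀ (irr_apply_one_ne_zero (hψ χ)) h2
    obtain ⟨d, hd0, hd⟩ := isIrr_apply_one (hξ χ)
    have h3 := classInner_irr_self (hξ χ)
    unfold classInner at h3
    have hP0 : (Nat.card P : ℂ) ≠ 0 := by
      have : Nat.card P ≠ 0 := Nat.card_pos.ne'
      exact_mod_cast this
    rw [Finset.sum_congr rfl (fun u _ => by rw [h1 u, hd, Complex.conj_natCast]), Finset.sum_const,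
      Finset.card_univ, ← Nat.card_eq_fintype_card, nsmul_eq_mul, ← mul_assoc,
      inv_mul_cancel₀ hP0, one_mul] at h3
    have h4 : d * d = 1 := by exact_mod_cast h3
    have h5 : d = 1 := Nat.eq_one_of_mul_eq_one_left h4
    funext u
    rw [h1 u, hd, h5]
    simp
  refine ⟨?_, ?_, ?_⟩
  · obtain ⟨θ, hθ, hθ1⟩ := hsurj 1 isIrr_one
    refine ⟨θ, ⟨hθ, ?_⟩, ?_⟩
    · intro x hx
      have h1 := (hf θ).apply_left ⟨x, hx⟩
      have h2 := (hf θ).apply_one
      rw [hθ1] at h1 h2
      simp only [Pi.one_apply] at h1 h2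
      rw [h1, h2]
    · rintro θ' ⟨hθ', hk⟩
      exact hinj _ hθ' _ hθ (by rw [hker θ' hk, hθ1])
  · intro θ hθ hk
    have h1 := hker θ hk
    have h2 := (hf θ).apply_one
    rw [h1] at h2
    simp only [Pi.one_apply, one_mul] at h2
    obtain ⟨n, hn0, hn⟩ := isIrr_apply_one (hψ θ)
    rw [hn] at h2
    rw [charDegree_eq h2, ← charDegree_eq hn]
    exact hdeg2 θ hθ
  · rw [← card_irr (G := P)]
    refine Nat.card_congr (Equiv.ofBijective (fun χ : B => (⟨ξ χ, hξ χ⟩ : IrrCharacter P)) ⟨?_, ?_⟩)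
    · intro χ χ' h
      have h1 : ξ (χ : IrrCharacter G) = ξ (χ' : IrrCharacter G) := congrArg Subtype.val h
      exact Subtype.ext (hinj _ χ.2 _ χ'.2 h1)
    · rintro ⟨η, hη⟩
      obtain ⟨χ, hχ, h⟩ := hsurj η hη
      exact ⟨⟨χ, hχ⟩, Subtype.ext h⟩

end Cfsg.Agent.S0968
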