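import Cfsg.Statements.S0969
-- import your own Cfsg.Agent.* helpers here
import Cfsg.Agent.Blocks.CentralProduct
import Cfsg.Agent.S0906
import Cfsg.Agent.S0911

set_option autoImplicit false
open Cfsg

namespace Cfsg.Agent.S0969

open Cfsg.Agent.Blocks.CentralProduct Cfsg.Agent.Characters.Core Cfsg.Agent.Blocks.LocalRing
open scoped ComplexConjugate

universe u

/-- For `D` central, the `D`-part of an irreducible character has degree one. -/
theorem xi_one {G : Type u} [Group G] [Finite G] {D : Subgroup G}
    (hDZ : D ≤ Subgroup.center G) {χ : G → ℂ} (hχ : IsIrrCharacter G χ)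
    {ξ : D → ℂ} {ψ : Subgroup.centralizer (D : Set G) → ℂ}
    (hξ : IsIrrCharacter D ξ) (hψ : IsIrrCharacter (Subgroup.centralizer (D : Set G)) ψ)
    (hf : IsFactor D χ ξ ψ) : ξ 1 = 1 := by
  classical
  have := Fintype.ofFinite G
  have := Fintype.ofFinite (Subgroup.centralizer (D : Set G))
  have hmem : ∀ g : G, g ∈ Subgroup.centralizer (D : Set G) := by
    intro g
    rw [Subgroup.mem_centralizer_iff]
    intro d hd
    exact (Subgroup.mem_center_iff.1 (hDZ hd) g).symm
  obtain ⟨d, hd0, hd⟩ := isIrr_apply_one hξ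
  have h1 := classInner_irr_self hχ
  have h2 := classInner_irr_self hψ
  unfold classInner at h1 h2
  have hcard : Nat.card (Subgroup.centralizer (D : Set G)) = Nat.card G :=
    Nat.card_congr (Equiv.ofBijective (fun c => (c : G))
      ⟨Subtype.val_injective, fun g => ⟨⟨g, hmem g⟩, rfl⟩⟩)
  have hG0 : (Nat.card G : ℂ) ≠ 0 := by
    have : Nat.card G ≠ 0 := Nat.card_pos.ne'
    exact_mod_cast this
  have h3 : ∑ g : G, χ g * conj (χ g) =
      ∑ c : Subgroup.centralizer (D : Set G), (d : ℂ) ^ 2 * (ψ c * conj (ψ c)) := by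
    symm
    refine Fintype.sum_bijective (fun c : Subgroup.centralizer (D : Set G) => (c : G))
      ⟨Subtype.val_injective, fun g => ⟨⟨g, hmem g⟩, rfl⟩⟩ _ _ fun c => ?_
    rw [hf.apply_coe c, hd, map_mul, Complex.conj_natCast]
    ring
  rw [h3, ← Finset.mul_sum] at h1
  rw [hcard] at h2
  have h4 : (d : ℂ) ^ 2 = 1 := by
    rw [mul_left_comm, h2, mul_one] at h1
    exact h1
  have h5 : d ^ 2 = 1 := by exact_mod_cast h4
  have h6 : d = 1 := by
    rcases Nat.pow_eq_one.1 h5 with h | h
    · exact h
    · omega
  rw [hd, h6, Nat.cast_one]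

/-- The `p`-part of `u * y`, `u ∈ D` central `p`-element and `y` `p`-regular, is `u`. -/
theorem pPart_eq {G : Type u} [Group G] [Finite G] {p : ℕ} [Fact p.Prime] {D : Subgroup G}
    (hD : IsPGroup p D) (hDZ : D ≤ Subgroup.center G) {g x u y : G} (hx : IsPPart p g x)
    (hu : u ∈ D) (hy : ¬ p ∣ orderOf y) (hg : g = u * y) : x = u := by
  have hpp : p.Prime := Fact.out
  obtain ⟨y', hxy', hc, ⟨k, hk⟩, hy'⟩ := hx
  have hucen : ∀ z : G, Commute u z := fun z => (Subgroup.mem_center_iff.1 (hDZ hu) z).symm
  obtain ⟨j, hj⟩ := (IsPGroup.iff_orderOf.1 hD) ⟨u, hu⟩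
  rw [← Subgroup.orderOf_coe] at hj
  change orderOf u = p ^ j at hj
  -- `x * y' = u * y`
  have h1 : x * y' = u * y := hxy'.trans hg
  have hy_eq : y = u⁻¹ * (x * y') := by rw [h1]; group
  have hyy' : Commute y y' := by
    rw [hy_eq]
    exact ((hucen y').inv_left).mul_left (hc.mul_left (Commute.refl y'))
  have hz : u⁻¹ * x = y * y'⁻¹ := by rw [hy_eq]; group
  have hz1 : (u⁻¹ * x) ^ (p ^ j * p ^ k) = 1 := by
    rw [((hucen x).inv_left).mul_pow, pow_mul, inv_pow, ← hj, pow_orderOf_eq_one, inv_one, one_pow,
      one_mul, mul_comm, pow_mul, ← hk, pow_orderOf_eq_one, one_pow]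
  have hz2 : (u⁻¹ * x) ^ (orderOf y * orderOf y') = 1 := by
    rw [hz, hyy'.inv_right.mul_pow, pow_mul, pow_orderOf_eq_one, one_pow, one_mul, mul_comm,
      pow_mul, inv_pow, pow_orderOf_eq_one, inv_one, one_pow]
  have hcop : Nat.Coprime (p ^ j * p ^ k) (orderOf y * orderOf y') := by
    rw [← pow_add]
    exact Nat.Coprime.pow_left _ (((Nat.Prime.coprime_iff_not_dvd hpp).2 hy).mul_right
      ((Nat.Prime.coprime_iff_not_dvd hpp).2 hy'))
  have h3 : orderOf (u⁻¹ * x) = 1 :=
    Nat.eq_one_of_dvd_coprimes hcop (orderOf_dvd_of_pow_eq_one hz1) (orderOf_dvd_of_pow_eq_one hz2)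
  have h4 := orderOf_eq_one_iff.1 h3
  exact (inv_mul_eq_one.1 h4).symm

/-- Let D be a central p-subgroup of the finite group G and χ an irreducible character with the exponent of p in χ(1) equal to the exponent of p in the index of D; fix a maximal ideal M of the algebraic integers containing p. Then D is a defect group of the block of χ, and χ g = 0 whenever the p-part of g does not lie in D. -/
theorem result {G : Type*} [Group G] [Finite G] (p : ℕ) [Fact p.Prime] (M : Ideal Cfsg.AlgInt) (hM : Cfsg.IsPModular p M) (D : Subgroup G) (hD : IsPGroup p D) (hDZ : D ≤ Subgroup.center G) (χ : Cfsg.IrrCharacter G) (hdeg : (Cfsg.charDegree (χ : G → ℂ)).factorization p = D.index.factorization p) : Cfsg.IsDefectGroup p M (Cfsg.blockOf M (χ : G → ℂ)) D ∧ ∀ g x : G, Cfsg.IsPPart p g x → x ∉ D → (χ : G → ℂ) g = 0 := by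
  classical
  have := Fintype.ofFinite G
  have hpp : p.Prime := Fact.out
  have hG : D ⊔ Subgroup.centralizer (D : Set G) = ⊤ := by
    have : Subgroup.centralizer (D : Set G) = ⊤ := by
      rw [eq_top_iff]
      intro g _
      rw [Subgroup.mem_centralizer_iff]
      intro d hd
      exact (Subgroup.mem_center_iff.1 (hDZ hd) g).symm
    rw [this, sup_top_eq]
  obtain ⟨ξ, ψ, hξ, hψ, hf⟩ := exists_factor hG χ.2
  have hξ1 := xi_one hDZ χ.2 hξ hψ hf
  obtain ⟨n, hn0, hn⟩ := isIrr_apply_one hψ
  have hχ1 : (χ : G → ℂ) 1 = n := by rw [hf.apply_one, hξ1, hn, one_mul]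
  have hdegχ : n.factorization p = D.index.factorization p := by
    rw [← hdeg, charDegree_eq hχ1]
  have hdeg' : D.index.factorization p ≤ (charDegree ψ).factorization p := by
    rw [charDegree_eq hn, hdegχ]
  have hidx0 : D.index ≠ 0 := Subgroup.index_ne_zero_of_finite
  refine ⟨?_, ?_⟩
  swap
  · intro g x hx hxD
    refine vanish hD hG χ.2 hξ hψ hf hdeg' ?_
    rintro ⟨u, hu, y, hy, hg⟩
    exact hxD (pPart_eq hD hDZ hx hu hy hg ▸ hu)
  -- a regular element with nonzero central character and centralizer of minimal `p`-part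
  have hkey : ∃ c : G, ¬ MemLocalIdeal M (centralChar (χ : G → ℂ) c) ∧
      (Nat.card (Subgroup.centralizer ({c} : Set G))).factorization p =
        (Nat.card D).factorization p := by
    by_contra hno
    push Not at hno
    have hT : regT p (χ : G → ℂ) (χ : G → ℂ) ξ ∈ idealSub hM := by
      refine regT_mem hD hG _ χ.2 χ.2 hξ hf ?_
      intro c hc
      rw [mem_idealSub]
      by_contra hnot
      have hω := memLocalRing_of_isIntegral hM (isIntegral_centralChar χ.2 (c : G))
      have hψc := memLocalRing_of_isIntegral hM (isIntegral_conj (isIntegral_irr hψ c))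
      have h1 : ¬ MemLocalIdeal M (centralChar (χ : G → ℂ) c) := fun h =>
        hnot (memLocalIdeal_mul_right hM h hψc)
      have h2 : ¬ MemLocalIdeal M (conj (ψ c)) := fun h => hnot (memLocalIdeal_mul_left hM hω h)
      have h3 := hno c h1
      -- conj (ψ c) = ω(c⁻¹) * (χ 1 / index)
      have hinv : Subgroup.centralizer ({(c : G)⁻¹} : Set G) =
          Subgroup.centralizer ({(c : G)} : Set G) := by
        ext z
        rw [Subgroup.mem_centralizer_singleton_iff, Subgroup.mem_centralizer_singleton_iff]
        constructor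
        · intro h
          have : Commute z (c : G)⁻¹ := h
          have h' := this.inv_right
          rw [inv_inv] at h'
          exact h'
        · intro h
          exact (Commute.inv_right (show Commute z (c : G) from h))
      set i := (Subgroup.centralizer ({(c : G)} : Set G)).index with hi
      have hi0 : i ≠ 0 := Subgroup.index_ne_zero_of_finite
      have hi0' : (i : ℂ) ≠ 0 := by exact_mod_cast hi0
      have hn0' : (n : ℂ) ≠ 0 := by exact_mod_cast hn0.ne'
      have h4 : conj (ψ c) = ((n : ℂ) / i) * centralChar (χ : G → ℂ) (c : G)⁻¹ := by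
        unfold centralChar
        rw [hinv, isCharacter_apply_inv (isIrr_isCharacter χ.2), hf.apply_coe c, hξ1, one_mul, hχ1,
          ← hi]
        field_simp
      rw [h4] at h2
      -- the `p`-part of `C(c)`
      have hDle : D ≤ Subgroup.centralizer ({(c : G)} : Set G) := by
        intro d hd
        rw [Subgroup.mem_centralizer_singleton_iff]
        exact (Subgroup.mem_center_iff.1 (hDZ hd) (c : G)).symm
      have h5 : D.relIndex (Subgroup.centralizer ({(c : G)} : Set G)) * i = D.index :=
        Subgroup.relIndex_mul_index hDle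
      have h6 : Nat.card D * D.relIndex (Subgroup.centralizer ({(c : G)} : Set G)) =
          Nat.card (Subgroup.centralizer ({(c : G)} : Set G)) := by
        rw [Subgroup.relIndex, ← Nat.card_congr (Subgroup.subgroupOfEquivOfLe hDle).toEquiv]
        exact Subgroup.card_mul_index _
      have hrel0 : D.relIndex (Subgroup.centralizer ({(c : G)} : Set G)) ≠ 0 := by
        intro h
        rw [h, zero_mul] at h5
        exact hidx0 h5.symm
      have h7 : (D.relIndex (Subgroup.centralizer ({(c : G)} : Set G))).factorization p ≠ 0 := by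
        intro h
        apply h3
        rw [← h6, Nat.factorization_mul Nat.card_pos.ne' hrel0, Finsupp.add_apply, h, add_zero]
      have h8 : i.factorization p < n.factorization p := by
        rw [hdegχ, ← h5, Nat.factorization_mul hrel0 hi0, Finsupp.add_apply]
        omega
      exact h2 (memLocalIdeal_mul_right hM (memLocalIdeal_natDiv hM hi0 h8)
        (memLocalRing_of_isIntegral hM (isIntegral_centralChar χ.2 _)))
    have h1 := classInner_irr_self χ.2
    rw [classInner_eq_regT hD hG χ.2 hξ hψ hf hf hdeg'] at h1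
    have h2 := memLocalIdeal_mul_left hM (memLocalRing_natDiv hM hidx0 hdeg') hT
    rw [h1] at h2
    exact not_memLocalIdeal_one hM h2
  obtain ⟨c, hc1, hc2⟩ := hkey
  have hBlk : IsPBlock M (blockOf M (χ : G → ℂ)) := ⟨χ, rfl⟩
  obtain ⟨g, hg⟩ := Cfsg.Agent.S0906.result p M hM _ hBlk
  let Q : Sylow p (Subgroup.centralizer ({g} : Set G)) := default
  have hmemχ : χ ∈ blockOf M (χ : G → ℂ) := by
    intro z
    rw [sub_self]
    exact memLocalIdeal_zero hM
  obtain ⟨x, Q', hQ'⟩ := (Cfsg.Agent.S0911.result p M hM _ hBlk g hg Q c).2 ⟨χ, hmemχ, hc1⟩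
  refine ⟨g, hg, Q, ?_⟩
  have hDleC : D ≤ Subgroup.centralizer ({g} : Set G) := by
    intro d hd
    rw [Subgroup.mem_centralizer_singleton_iff]
    exact (Subgroup.mem_center_iff.1 (hDZ hd) g).symm
  -- `D ≤ Q`
  have hDQ : D ≤ (Q : Subgroup (Subgroup.centralizer ({g} : Set G))).map
      (Subgroup.centralizer ({g} : Set G)).subtype := by
    have hN : (D.subgroupOf (Subgroup.centralizer ({g} : Set G))).Normal := by
      have : D.Normal := by
        refine ⟨fun d hd z => ?_⟩
        have := Subgroup.mem_center_iff.1 (hDZ hd) z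
        rw [this, mul_inv_cancel_right]
        exact hd
      exact Subgroup.Normal.subgroupOf this _
    have hle : D.subgroupOf (Subgroup.centralizer ({g} : Set G)) ≤ Q := by
      have h1 : IsPGroup p (D.subgroupOf (Subgroup.centralizer ({g} : Set G))) :=
        hD.comap_subtype
      have h2 : IsPGroup p (D.subgroupOf (Subgroup.centralizer ({g} : Set G)) ⊔
          (Q : Subgroup (Subgroup.centralizer ({g} : Set G))) : Subgroup _) :=
        h1.to_sup_of_normal_left Q.isPGroup'
      have h3 := Q.is_maximal' h2 le_sup_right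
      rw [← h3]
      exact le_sup_left
    intro d hd
    exact ⟨⟨d, hDleC hd⟩, hle (by rw [Subgroup.mem_subgroupOf]; exact hd), rfl⟩
  -- orders
  have hcardQ : Nat.card ((Q : Subgroup (Subgroup.centralizer ({g} : Set G))).map
      (Subgroup.centralizer ({g} : Set G)).subtype) ≤ Nat.card D := by
    have e1 : Nat.card (((Q : Subgroup (Subgroup.centralizer ({g} : Set G))).map
        (Subgroup.centralizer ({g} : Set G)).subtype).map (MulAut.conj x).toMonoidHom) =
        Nat.card ((Q : Subgroup (Subgroup.centralizer ({g} : Set G))).map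
          (Subgroup.centralizer ({g} : Set G)).subtype) :=
      Subgroup.card_map_of_injective (MulAut.conj x).injective
    rw [← e1]
    have e2 : Nat.card ((Q' : Subgroup (Subgroup.centralizer ({c} : Set G))).map
          (Subgroup.centralizer ({c} : Set G)).subtype) = Nat.card D := by
      rw [Subgroup.card_map_of_injective (Subgroup.subtype_injective _)]
      have e3 := Q'.card_eq_multiplicity
      rw [e3, hc2]
      obtain ⟨k, hk⟩ := (IsPGroup.iff_card).1 hD
      rw [hk, hpp.factorization_pow, Finsupp.single_eq_same]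
    rw [← e2]
    exact Nat.card_le_card_of_injective _ (Subgroup.inclusion_injective hQ')
  exact Subgroup.eq_of_le_of_card_ge hDQ hcardQ

end Cfsg.Agent.S0969
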