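import Cfsg.Statements.S0970
import Cfsg.Agent.Blocks.Fong
import Cfsg.Agent.Blocks.FongGroup
import Cfsg.Agent.Blocks.Basic
import Cfsg.Agent.Blocks.ConvCentral
import Cfsg.Agent.S0908
import Cfsg.Agent.S0911
import Cfsg.Agent.S0913
import Cfsg.Agent.S0964
import Cfsg.Agent.S0965

set_option autoImplicit false
open Cfsg

namespace Cfsg.Agent.S0970

open Cfsg.Agent.Blocks.Fong Cfsg.Agent.Blocks.FongGroup

/-- Let N be a normal subgroup of the finite group G and fix a maximal ideal M of the algebraic integers containing the prime p. Let b be a block of N that is invariant under conjugation by G, and B a block of G covering b (some χ ∈ B has a constituent in b) whose defect is at least that of every block covering b. If P is a defect group of B, then p does not divide the index of P ⊔ N, the subgroup P ∩ N of N is a defect group of b, and the defect of B equals the defect of b plus the exponent of p in the index of N. -/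
theorem result {G : Type*} [Group G] [Fintype G] (p : ℕ) [Fact p.Prime] (M : Ideal Cfsg.AlgInt) (hM : Cfsg.IsPModular p M) (N : Subgroup G) [hN : N.Normal] [Fintype N] (b : Set (Cfsg.IrrCharacter N)) (hb : Cfsg.IsPBlock M b) (hinv : ∀ g : G, ∀ θ ∈ b, ∀ θ' : Cfsg.IrrCharacter N, (∀ n : N, (θ' : N → ℂ) n = (θ : N → ℂ) ⟨g * n * g⁻¹, hN.conj_mem n n.2 g⟩) → θ' ∈ b) (B : Set (Cfsg.IrrCharacter G)) (hB : Cfsg.IsPBlock M B) (hcov : ∃ χ ∈ B, ∃ θ ∈ b, Cfsg.classInner (fun n : N => (χ : G → ℂ) n) (θ : N → ℂ) ≠ 0) (hmax : ∀ B' : Set (Cfsg.IrrCharacter G), Cfsg.IsPBlock M B' → (∃ χ ∈ B', ∃ θ ∈ b, Cfsg.classInner (fun n : N => (χ : G → ℂ) n) (θ : N → ℂ) ≠ 0) → Cfsg.blockDefect p B' ≤ Cfsg.blockDefect p B) (P : Subgroup G) (hP : Cfsg.IsDefectGroup p M B P) : ¬ p ∣ (P ⊔ N).index ∧ Cfsg.IsDefectGroup p M b ((P ⊓ N).subgroupOf N) ∧ Cfsg.blockDefect p B = Cfsg.blockDefect p b + N.index.factorization p := by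
  classical
  have hp : p.Prime := Fact.out
  have hMp : M.IsPrime := hM.2.1.isPrime
  have hintG : ∀ (χ : IrrCharacter G) (y : G), MemLocalRing M (centralChar (χ : G → ℂ) y) :=
    fun χ y => lring_coe hMp ⟨_, Cfsg.Agent.Blocks.ConvCentral.isIntegral_centralChar χ.2 y⟩
  have hintN : ∀ (θ : IrrCharacter N) (y : N), MemLocalRing M (centralChar (θ : N → ℂ) y) :=
    fun θ y => lring_coe hMp ⟨_, Cfsg.Agent.Blocks.ConvCentral.isIntegral_centralChar θ.2 y⟩
  have hinv' : ∀ (g : G) (θ : IrrCharacter N), θ ∈ b → cj N g θ ∈ b :=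
    fun g θ hθ => hinv g θ hθ (cj N g θ) (fun n => rfl)
  -- every constituent of a character over `b` lies in `b`
  have hcl : ∀ χ ∈ lyingOver N b, ∀ ψ : IrrCharacter N,
      classInner (fun n : N => (χ : G → ℂ) n) (ψ : N → ℂ) ≠ 0 → ψ ∈ b := by
    rintro χ ⟨θ, hθ, hne⟩ ψ hψ
    obtain ⟨g, θ', hθ', h⟩ := Cfsg.Agent.S0964.result p M hM N (blockOf M (χ : G → ℂ)) ⟨χ, rfl⟩ b
      hb χ (mem_blockOf_self hMp χ) θ hθ hne χ (mem_blockOf_self hMp χ) ψ hψ
    exact hinv g θ' hθ' ψ h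
  have hun : ∀ χ ∈ lyingOver N b, blockOf M (χ : G → ℂ) ⊆ lyingOver N b := by
    rintro χ ⟨θ, hθ, hne⟩ χ' hχ'
    obtain ⟨ψ, hψ⟩ := exists_constituent N χ'
    obtain ⟨g, θ', hθ', h⟩ := Cfsg.Agent.S0964.result p M hM N (blockOf M (χ : G → ℂ)) ⟨χ, rfl⟩ b
      hb χ (mem_blockOf_self hMp χ) θ hθ hne χ' hχ' ψ hψ
    exact ⟨ψ, hinv g θ' hθ' ψ h, hψ⟩
  obtain ⟨χ₀, hχ₀B, θ₀, hθ₀, hne₀⟩ := hcov
  have hχ₀ : χ₀ ∈ lyingOver N b := ⟨θ₀, hθ₀, hne₀⟩
  have hχ₀1 : (χ₀ : G → ℂ) 1 ≠ 0 := by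
    obtain ⟨m, hm, h⟩ := Characters.Core.isIrr_apply_one χ₀.2
    rw [h]
    exact_mod_cast hm.ne'
  obtain ⟨x, hx⟩ := exists_unit_term hMp (blockCoeff_isClassFunction (lyingOver N b))
    (Characters.Core.isIrr_isClassFunction χ₀.2) hχ₀1
    (by rw [sum_blockCoeff_mul, if_pos hχ₀])
  have hxN : x ∈ N := by
    by_contra hxN
    apply hx
    rw [blockCoeff_lyingOver N b hinv' hcl, dif_neg hxN, zero_mul]
    exact lideal_zero hMp
  have hcoef : ∀ (y : G) (hy : y ∈ N), blockCoeff (lyingOver N b) y = blockCoeff b ⟨y, hy⟩ :=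
    fun y hy => by rw [blockCoeff_lyingOver N b hinv' hcl, dif_pos hy]
  have hx1 : ¬ MemLocalIdeal M (blockCoeff (lyingOver N b) x) :=
    fun h => hx (lideal_mul_right hMp h (hintG χ₀ x))
  have hx2 : ¬ MemLocalIdeal M (centralChar (χ₀ : G → ℂ) x) := fun h => hx
    (lideal_mul_left hMp
      (by rw [hcoef x hxN]; exact Cfsg.Agent.S0913.result p M hM b hb ⟨x, hxN⟩) h)
  -- a block `B'` over `b` having the class of `x` as a defect class
  obtain ⟨χ₁, hχ₁, hB'⟩ := exists_block_of_blockCoeff hMp (lyingOver N b) hun x hx1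
  have hcovB' : ∃ χ ∈ blockOf M (χ₁ : G → ℂ), ∃ θ ∈ b,
      classInner (fun n : N => (χ : G → ℂ) n) (θ : N → ℂ) ≠ 0 :=
    ⟨χ₁, mem_blockOf_self hMp χ₁, hχ₁⟩
  have hB'P : IsPBlock M (blockOf M (χ₁ : G → ℂ)) := ⟨χ₁, rfl⟩
  have hle := hmax _ hB'P hcovB'
  have key0 : ∀ n : N, MemLocalIdeal M (centralChar (χ₀ : G → ℂ) (n : G) -
      inducedCentralChar N (θ₀ : N → ℂ) (n : G)) := fun n =>
    (Cfsg.Agent.S0965.result p M hM N B hB b hb).1 ⟨χ₀, hχ₀B, θ₀, hθ₀, hne₀⟩ χ₀ hχ₀B θ₀ hθ₀ n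
  have hind : ¬ MemLocalIdeal M (inducedCentralChar N (θ₀ : N → ℂ) x) := by
    intro h
    apply hx2
    have := lideal_add hMp (key0 ⟨x, hxN⟩) h
    rwa [sub_add_cancel] at this
  have hdef : IsDefectClass M (blockOf M (χ₁ : G → ℂ)) x := by
    refine ⟨Cfsg.Agent.S0913.result p M hM _ hB'P x, hB', ?_⟩
    intro χ hχ hmem
    have h1 := (Cfsg.Agent.S0965.result p M hM N _ hB'P b hb).1 hcovB' χ hχ θ₀ hθ₀ ⟨x, hxN⟩
    apply hind
    have := lideal_sub hMp hmem h1
    rwa [sub_sub_cancel] at this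
  -- compare the defect groups
  have hcardP := Cfsg.Agent.S0908.result p M hM B hB P hP
  obtain ⟨g₀, hg₀, P₀, hP₀⟩ := hP
  obtain ⟨y, Q, hQ⟩ := (Cfsg.Agent.S0911.result p M hM B hB g₀ hg₀ P₀ x).2 ⟨χ₀, hχ₀B, hx2⟩
  rw [← hP₀] at hQ
  have hcardQ := Cfsg.Agent.S0908.result p M hM _ hB'P _ ⟨x, hdef, Q, rfl⟩
  have hcardPy : Nat.card (P.map (MulAut.conj y).toMonoidHom) = Nat.card P :=
    (Nat.card_congr (P.equivMapOfInjective _ (MulAut.conj y).injective).toEquiv).symm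
  have hPQ : P.map (MulAut.conj y).toMonoidHom =
      (Q : Subgroup (Subgroup.centralizer ({x} : Set G))).map
        (Subgroup.centralizer ({x} : Set G)).subtype := by
    apply Subgroup.eq_of_le_of_card_ge hQ
    rw [hcardQ, hcardPy, hcardP]
    exact Nat.pow_le_pow_right hp.pos hle
  -- move `x` so that `P` itself is a Sylow subgroup of its centralizer
  obtain ⟨x', hx'⟩ : ∃ x' : N, (x' : G) = y⁻¹ * x * y := by
    refine ⟨⟨y⁻¹ * x * y, ?_⟩, rfl⟩
    have := hN.conj_mem x hxN y⁻¹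
    rwa [inv_inv] at this
  have hconj : IsConj x (x' : G) := by
    rw [hx']
    exact isConj_iff.2 ⟨y⁻¹, by rw [inv_inv]⟩
  have hPx' : ∃ S : Sylow p (Subgroup.centralizer ({(x' : G)} : Set G)),
      (S : Subgroup (Subgroup.centralizer ({(x' : G)} : Set G))).map
        (Subgroup.centralizer ({(x' : G)} : Set G)).subtype = P := by
    have h1 := Cfsg.Agent.Blocks.Basic.isSylowCentralizer_conj (p := p) (g := x)
      (D := P.map (MulAut.conj y).toMonoidHom) ⟨Q, hPQ⟩ y⁻¹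
    rw [Cfsg.Agent.Blocks.Basic.map_conj_map_conj, inv_mul_cancel,
      Cfsg.Agent.Blocks.Basic.map_conj_one, inv_inv, ← hx'] at h1
    obtain ⟨S, hS⟩ := h1
    exact ⟨S, hS.symm⟩
  have hx2' : ¬ MemLocalIdeal M (centralChar (χ₀ : G → ℂ) (x' : G)) := by
    rw [← classFun_of_isConj (centralChar_isClassFunction
      (Characters.Core.isIrr_isClassFunction χ₀.2)) hconj]
    exact hx2
  have hind' : ¬ MemLocalIdeal M (inducedCentralChar N (θ₀ : N → ℂ) (x' : G)) := by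
    intro h
    apply hx2'
    have := lideal_add hMp (key0 x') h
    rwa [sub_add_cancel] at this
  obtain ⟨t, ht1, ht2⟩ := induced_eq_mul hMp N (Characters.Core.isIrr_isClassFunction θ₀.2) x'
    (by
      intro g
      rw [← centralChar_comp_equiv (MulAut.conjNormal g) (θ₀ : N → ℂ) x']
      exact sameBlock_of_mem hMp hb (hinv' g θ₀ hθ₀) hθ₀ x')
  have hnt : ¬ MemLocalIdeal M ((t : ℂ) * centralChar (θ₀ : N → ℂ) x') := by
    intro h
    apply hind'
    have := lideal_add hMp ht1 h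
    rwa [sub_add_cancel] at this
  have hpt : ¬ p ∣ t := fun h =>
    hnt (lideal_mul_right hMp (lideal_natCast_of_dvd hM h) (hintN θ₀ x'))
  have hθx' : ¬ MemLocalIdeal M (centralChar (θ₀ : N → ℂ) x') := by
    intro h
    apply hnt
    refine lideal_mul_left hMp ?_ h
    have := lring_coe hMp ((t : AlgInt))
    simpa using this
  obtain ⟨hres1, hres3⟩ := index_arith N x' P hPx' t ht2 hpt
  obtain ⟨S, hS⟩ := sylow_inf_normal N x' P hPx'
  have hcoefx' : ¬ MemLocalIdeal M (blockCoeff b x') := by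
    have h1 : blockCoeff b x' = blockCoeff (lyingOver N b) x := by
      rw [classFun_of_isConj (blockCoeff_isClassFunction (lyingOver N b)) hconj, hcoef _ x'.2]
    rw [h1]
    exact hx1
  have hres2 : IsDefectGroup p M b ((P ⊓ N).subgroupOf N) := by
    refine ⟨x', ⟨Cfsg.Agent.S0913.result p M hM b hb x', hcoefx', ?_⟩, S, hS.symm⟩
    intro θ hθ hmem
    apply hθx'
    have := lideal_add hMp (sameBlock_of_mem hMp hb hθ₀ hθ x') hmem
    rwa [sub_add_cancel] at this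
  refine ⟨hres1, hres2, ?_⟩
  have hcardb := Cfsg.Agent.S0908.result p M hM b hb _ hres2
  rw [hcardP, hcardb, factorization_card_pow hp, factorization_card_pow hp] at hres3
  exact hres3

end Cfsg.Agent.S0970
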