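import Cfsg.Statements.S0971
import Cfsg.Agent.Blocks.Fong
import Cfsg.Agent.Blocks.Over
import Cfsg.Agent.Blocks.CentralScalar

set_option autoImplicit false
open Cfsg

namespace Cfsg.Agent.S0971

open Cfsg.Agent.Blocks.Fong

/-- The central characters vanish modulo `M` outside the centralizer of a normal `p`-subgroup. -/
theorem memLocalIdeal_centralChar_of_notMem {G : Type*} [Group G] [Finite G] {p : ℕ}
    [Fact p.Prime] {M : Ideal AlgInt} (hM : IsPModular p M) (Q : Subgroup G) [Q.Normal]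
    (hQ : IsPGroup p Q) {χ : G → ℂ} (hχ : IsIrrCharacter G χ) {g : G}
    (hg : g ∉ Subgroup.centralizer (Q : Set G)) : MemLocalIdeal M (centralChar χ g) := by
  have hMp : M.IsPrime := hM.2.1.isPrime
  obtain ⟨n, c, hc, hpow⟩ := Blocks.CentralScalar.pow_centralChar_eq hχ Q hQ g hg
  let a : AlgInt := ⟨centralChar χ g, Blocks.CentralScalar.isIntegral_centralChar hχ g⟩
  have ha : a ^ n = (p : AlgInt) * ⟨c, hc⟩ := by
    apply Subtype.ext
    push_cast
    exact hpow
  have haM : a ∈ M := by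
    apply hMp.mem_of_pow_mem n
    rw [ha]
    exact M.mul_mem_right _ hM.2.2
  exact (lideal_coe_iff hMp (a := a)).2 haM

/-- Let Q be a normal p-subgroup of the finite group G, let N = Q ⊔ C_G(Q) (a normal subgroup) and let b be a block of N relative to a maximal ideal M of the algebraic integers containing p. Then b induces some block of G, and every block B of G containing a character whose restriction to N has a constituent in b is induced by b. -/
theorem result {G : Type*} [Group G] [Fintype G] (p : ℕ) [Fact p.Prime] (M : Ideal Cfsg.AlgInt) (hM : Cfsg.IsPModular p M) (Q : Subgroup G) [Q.Normal] (hQ : IsPGroup p Q) [Fintype ↥(Q ⊔ Subgroup.centralizer (Q : Set G))] (b : Set (Cfsg.IrrCharacter ↥(Q ⊔ Subgroup.centralizer (Q : Set G)))) (hb : Cfsg.IsPBlock M b) : Cfsg.InducedBlockDefined M (Q ⊔ Subgroup.centralizer (Q : Set G)) b ∧ ∀ B : Set (Cfsg.IrrCharacter G), Cfsg.IsPBlock M B → (∃ χ ∈ B, ∃ θ ∈ b, Cfsg.classInner (fun n : ↥(Q ⊔ Subgroup.centralizer (Q : Set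 G)) => (χ : G → ℂ) n) (θ : ↥(Q ⊔ Subgroup.centralizer (Q : Set G)) → ℂ) ≠ 0) → Cfsg.IsInducedBlock M (Q ⊔ Subgroup.centralizer (Q : Set G)) b B := by
  classical
  have hMp : M.IsPrime := hM.2.1.isPrime
  have hCn : (Subgroup.centralizer (Q : Set G)).Normal := Subgroup.normal_centralizer
  have hNn : (Q ⊔ Subgroup.centralizer (Q : Set G)).Normal := Subgroup.sup_normal _ _
  have main : ∀ B : Set (Cfsg.IrrCharacter G), Cfsg.IsPBlock M B → (∃ χ ∈ B, ∃ θ ∈ b, Cfsg.classInner (fun n : ↥(Q ⊔ Subgroup.centralizer (Q : Set G)) => (χ : G → ℂ) n) (θ : ↥(Q ⊔ Subgroup.centralizer (Q : Set G)) → ℂ) ≠ 0) → Cfsg.IsInducedBlock M (Q ⊔ Subgroup.centralizer (Q : Set G)) b B := by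
    rintro B hB ⟨χ, hχ, θ, hθ, hne⟩
    refine ⟨hb, hB, fun ξ hξ χ' hχ' g => ?_⟩
    by_cases hg : g ∈ Q ⊔ Subgroup.centralizer (Q : Set G)
    · have h1 := Blocks.Over.centralChar_eq_of_over _ χ.2 θ.2 hne ⟨g, hg⟩
      have h2 := induced_congr hMp (Q ⊔ Subgroup.centralizer (Q : Set G))
        (Characters.Core.isIrr_isClassFunction ξ.2) (Characters.Core.isIrr_isClassFunction θ.2)
        (sameBlock_of_mem hMp hb hξ hθ) g
      have h3 : MemLocalIdeal M (centralChar (χ : G → ℂ) g - centralChar (χ' : G → ℂ) g) :=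
        sameBlock_of_mem hMp hB hχ hχ' g
      rw [h1] at h3
      have h4 := lideal_add hMp h2 h3
      rwa [sub_add_sub_cancel] at h4
    · have h1 : inducedCentralChar (Q ⊔ Subgroup.centralizer (Q : Set G))
          (ξ : ↥(Q ⊔ Subgroup.centralizer (Q : Set G)) → ℂ) g = 0 := by
        have h2 : {h : ↥(Q ⊔ Subgroup.centralizer (Q : Set G)) | IsConj g (h : G)} = ∅ := by
          ext h
          simp only [Set.mem_ofPred_eq, Set.mem_empty_iff_false, iff_false]
          intro hc
          apply hg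
          obtain ⟨c, hc⟩ := isConj_iff.1 hc.symm
          rw [← hc]
          exact hNn.conj_mem _ h.2 c
        unfold inducedCentralChar
        rw [h2, finsum_mem_empty]
      have h3 : g ∉ Subgroup.centralizer (Q : Set G) := fun h =>
        hg (Subgroup.mem_sup_right h)
      rw [h1, zero_sub]
      exact lideal_neg (memLocalIdeal_centralChar_of_notMem hM Q hQ χ'.2 h3)
  refine ⟨?_, main⟩
  obtain ⟨θ₀, rfl⟩ := hb
  obtain ⟨χ, hχ⟩ := Blocks.Over.exists_over (Q ⊔ Subgroup.centralizer (Q : Set G)) θ₀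
  exact ⟨blockOf M (χ : G → ℂ), main _ ⟨χ, rfl⟩
    ⟨χ, mem_blockOf_self hMp χ, θ₀, mem_blockOf_self hMp θ₀, hχ⟩⟩

end Cfsg.Agent.S0971
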