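import Mathlib
import Cfsg.Statements.S0972
import Cfsg.Agent.Blocks.ReynoldsAux
import Cfsg.Agent.S0169
import Cfsg.Agent.S0907
import Cfsg.Agent.S0908
-- import your own Cfsg.Agent.* helpers here

set_option autoImplicit false
open Cfsg

namespace Cfsg.Agent.S0972

open scoped ComplexConjugate
open Cfsg.Agent.Characters.Core Cfsg.Agent.Blocks.Local Cfsg.Agent.Blocks.ReynoldsAux

/-- If `K` is a nontrivial normal `p`-subgroup, some member of the block `B` has a zero sum
over `K` (that is, `K` is not in its kernel). -/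
theorem exists_sum_eq_zero {G : Type*} [Group G] [Finite G] (p : ℕ) [Fact p.Prime]
    (M : Ideal Cfsg.AlgInt) (hM : Cfsg.IsPModular p M) (B : Set (Cfsg.IrrCharacter G))
    (hB : Cfsg.IsPBlock M B) (K : Subgroup G) [K.Normal] [Fintype K] (hK : IsPGroup p K)
    (hK1 : K ≠ ⊥) : ∃ χ ∈ B, ∑ x : K, (χ : G → ℂ) x = 0 := by
  classical
  have := finite_irr (G := G)
  have := Fintype.ofFinite (IrrCharacter G)
  by_contra hcon
  push Not at hcon
  have hfull : ∀ χ ∈ B, ∑ x : K, (χ : G → ℂ) x = (Nat.card K : ℂ) * (χ : G → ℂ) 1 := by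
    intro χ hχ
    rcases sum_normal_eq_zero_or χ.2 K with h | h
    · exact absurd h (hcon χ hχ)
    · exact h
  -- the sum over the block
  set S : ℂ := ∑ᶠ χ ∈ B, (χ : G → ℂ) 1 * conj ((χ : G → ℂ) 1) with hS
  have hfin : ∀ F : IrrCharacter G → ℂ,
      ∑ᶠ χ ∈ B, F χ = ∑ χ ∈ Finset.univ.filter (· ∈ B), F χ := by
    intro F
    rw [finsum_mem_eq_sum_filter F B (Set.toFinite _)]
    refine Finset.sum_subset ?_ ?_
    · intro χ hχ
      simp only [Finset.mem_filter] at hχ
      simp [hχ.2]
    · intro χ hχ hχ'
      simp only [Finset.mem_filter, Finset.mem_univ, true_and] at hχ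
      simp only [Finset.mem_filter, hχ, and_true, Set.Finite.mem_toFinset, Function.mem_support,
        not_not] at hχ'
      exact hχ'
  have h1 : ∑ x : K, ∑ᶠ χ ∈ B, (χ : G → ℂ) 1 * conj ((χ : G → ℂ) (x : G)) = S := by
    rw [Finset.sum_eq_single (1 : K)]
    · rfl
    · intro x _ hx
      refine Cfsg.Agent.S0907.result p M hM B hB 1 (x : G) ?_ ?_
      · rw [orderOf_one]
        exact Nat.Prime.not_dvd_one Fact.out
      · obtain ⟨k, hk⟩ := (IsPGroup.iff_orderOf.1 hK) x
        rw [Subgroup.orderOf_coe, hk]
        refine dvd_pow_self p ?_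
        rintro rfl
        rw [pow_zero, orderOf_eq_one_iff] at hk
        exact hx hk
    · intro h
      exact absurd (Finset.mem_univ _) h
  have h2 : ∑ x : K, ∑ᶠ χ ∈ B, (χ : G → ℂ) 1 * conj ((χ : G → ℂ) (x : G)) =
      (Nat.card K : ℂ) * S := by
    simp only [hS, hfin]
    rw [Finset.sum_comm, Finset.mul_sum]
    refine Finset.sum_congr rfl fun χ hχ => ?_
    have hχB : χ ∈ B := (Finset.mem_filter.1 hχ).2
    rw [← Finset.mul_sum, ← map_sum, hfull χ hχB, map_mul, Complex.conj_natCast]
    ring
  have hSne : S ≠ 0 := by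
    obtain ⟨χ₀, hχ₀⟩ := hB
    have hmem : χ₀ ∈ B := by
      rw [hχ₀]
      intro g
      rw [sub_self]
      have : M.IsPrime := isPrime_of_isPModular hM
      exact memLocalIdeal_zero
    choose d hd hd' using fun χ : IrrCharacter G => isIrr_apply_one χ.2
    have hSn : S = ((∑ χ ∈ Finset.univ.filter (· ∈ B), d χ * d χ : ℕ) : ℂ) := by
      rw [hS, hfin]
      push_cast
      refine Finset.sum_congr rfl fun χ _ => ?_
      rw [hd' χ, Complex.conj_natCast]
    rw [hSn]
    have hpos : 0 < ∑ χ ∈ Finset.univ.filter (· ∈ B), d χ * d χ := by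
      refine Finset.sum_pos (fun χ _ => Nat.mul_pos (hd χ) (hd χ)) ⟨χ₀, ?_⟩
      simp [hmem]
    exact_mod_cast hpos.ne'
  rw [h1] at h2
  have h3 : (Nat.card K : ℂ) = 1 := by
    have h4 : 1 * S = (Nat.card K : ℂ) * S := by rw [one_mul]; exact h2
    exact (mul_right_cancel₀ hSne h4).symm
  have h5 : Nat.card K = 1 := by exact_mod_cast h3
  exact hK1 (Subgroup.card_eq_one.1 h5)

/-- Let B be a block of the finite group G (relative to a maximal ideal M of the algebraic integers containing the prime p) with a defect group P that is normal in G. Then P is commutative if and only if every member of B has height zero. -/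
theorem result {G : Type*} [Group G] [Finite G] (p : ℕ) [Fact p.Prime] (M : Ideal Cfsg.AlgInt) (hM : Cfsg.IsPModular p M) (B : Set (Cfsg.IrrCharacter G)) (hB : Cfsg.IsPBlock M B) (P : Subgroup G) [P.Normal] (hP : Cfsg.IsDefectGroup p M B P) : (∀ a ∈ P, ∀ c ∈ P, a * c = c * a) ↔ ∀ χ ∈ B, Cfsg.blockHeight p B (χ : G → ℂ) = 0 := by
  classical
  have hpp : p.Prime := Fact.out
  have hprime : M.IsPrime := isPrime_of_isPModular hM
  have hcard := Cfsg.Agent.S0908.result p M hM B hB P hP
  set s : ℕ := sInf ((fun ψ : IrrCharacter G => (charDegree (ψ : G → ℂ)).factorization p) '' B)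
    with hs
  have hdefect : blockDefect p B = (Nat.card G).factorization p - s := rfl
  have hheight : ∀ χ : G → ℂ, blockHeight p B χ = (charDegree χ).factorization p - s :=
    fun χ => rfl
  have hvP : (Nat.card P).factorization p = (Nat.card G).factorization p - s := by
    rw [hcard, hdefect, hpp.factorization_pow, Finsupp.single_eq_same]
  have hGcard : Nat.card G ≠ 0 := Nat.card_pos.ne'
  have hPcard : Nat.card P ≠ 0 := Nat.card_pos.ne'
  have hPidx : P.index ≠ 0 := Subgroup.index_ne_zero_of_finite
  have hvidx : (Nat.card P).factorization p + P.index.factorization p =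
      (Nat.card G).factorization p := by
    rw [← Finsupp.add_apply, ← Nat.factorization_mul hPcard hPidx, Subgroup.card_mul_index]
  constructor
  · intro hab χ hχ
    rw [hheight]
    obtain ⟨n, ρ, hρ, hρχ⟩ := χ.2
    have hdvd : charDegree (χ : G → ℂ) ∣ P.index := by
      have h1 := Cfsg.Agent.S0169.result ρ P hab
      have h2 : (χ : G → ℂ) 1 = (Module.finrank ℂ (Fin n → ℂ) : ℂ) := by
        rw [← hρχ, Representation.char_one]
      rw [charDegree_eq h2]
      exact h1
    have hle : (charDegree (χ : G → ℂ)).factorization p ≤ P.index.factorization p := by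
      have h3 : charDegree (χ : G → ℂ) ≠ 0 := fun h0 => by
        rw [h0, zero_dvd_iff] at hdvd
        exact hPidx hdvd
      exact (Nat.factorization_le_iff_dvd h3 hPidx).2 hdvd p
    omega
  · intro hht
    by_contra hnab
    push Not at hnab
    obtain ⟨a, ha, c, hc, hac⟩ := hnab
    obtain ⟨g, ⟨hg1, hg2, hg3⟩, Q, hQ⟩ := hP
    -- `P` is a `p`-group centralising `g`
    have hPp : IsPGroup p P := by
      rw [hQ]
      exact Q.2.map _
    have hPcent : ∀ x ∈ P, x ∈ Subgroup.centralizer ({g} : Set G) := by
      intro x hx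
      rw [hQ] at hx
      obtain ⟨y, -, rfl⟩ := hx
      exact y.2
    have hcardPQ : Nat.card P = Nat.card Q := by
      rw [hQ]
      exact Nat.card_congr (Subgroup.equivMapOfInjective _ _
        (Subgroup.subtype_injective _)).toEquiv.symm
    have hvQ : (Nat.card P).factorization p =
        (Nat.card (Subgroup.centralizer ({g} : Set G))).factorization p := by
      rw [hcardPQ, Q.card_eq_multiplicity, hpp.factorization_pow, Finsupp.single_eq_same]
    clear hcardPQ hQ Q
    -- the derived group
    have hcomm : commutator P ≠ ⊥ := by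
      intro h0
      rw [commutator_def, Subgroup.commutator_eq_bot_iff_le_centralizer] at h0
      have h1 := Subgroup.mem_centralizer_iff.1 (h0 (Subgroup.mem_top (⟨a, ha⟩ : P)))
        (⟨c, hc⟩ : P) (Subgroup.mem_top _)
      exact hac (congrArg Subtype.val h1).symm
    set K : Subgroup G := (commutator P).map P.subtype with hKdef
    have hKeq : K = ⁅P, P⁆ := by rw [hKdef, Subgroup.map_subtype_commutator]
    have hKn : K.Normal := by rw [hKeq]; infer_instance
    have hKP : K ≤ P := by rw [hKdef]; exact Subgroup.map_subtype_le _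
    have hKp : IsPGroup p K := hPp.to_le hKP
    have hK1 : K ≠ ⊥ := by
      rw [hKdef, Ne, Subgroup.map_eq_bot_iff_of_injective _ (Subgroup.subtype_injective _)]
      exact hcomm
    have := Fintype.ofFinite K
    have := Fintype.ofFinite (commutator P)
    obtain ⟨χ, hχ, hsum⟩ := exists_sum_eq_zero p M hM B hB K hKp hK1
    -- move to the centraliser of `g`
    set C : Subgroup G := Subgroup.centralizer ({g} : Set G) with hC
    have hgC : g ∈ C := by
      rw [hC, Subgroup.mem_centralizer_singleton_iff]
    let f : P →* C := Subgroup.inclusion hPcent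
    have hsum' : ∑ x : commutator P, ((χ : G → ℂ) ∘ C.subtype) (f x) = 0 := by
      rw [← hsum]
      refine Fintype.sum_equiv ((commutator P).equivMapOfInjective P.subtype
        (Subgroup.subtype_injective _)).toEquiv _ _ fun x => ?_
      rfl
    obtain ⟨z, hz, hzg⟩ := exists_dvd_value (p := p) (P := P) hPp f ⟨g, hgC⟩
      (fun c => by
        have h7 : (c : G) ∈ Subgroup.centralizer ({g} : Set G) := c.2
        rw [Subgroup.mem_centralizer_singleton_iff] at h7
        exact Subtype.ext h7.symm)
      (isCharacter_comp C.subtype (isIrr_isCharacter χ.2)) hsum'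
    refine hg3 χ hχ ?_
    have hdeg : ((charDegree (χ : G → ℂ) : ℕ) : ℂ) = (χ : G → ℂ) 1 :=
      coe_charDegree (isIrr_isCharacter χ.2)
    have hdeg0 : charDegree (χ : G → ℂ) ≠ 0 := by
      intro h0
      rw [h0, Nat.cast_zero] at hdeg
      exact Cfsg.Agent.Characters.Central.irr_one_ne_zero χ.2 hdeg.symm
    have hCidx : C.index ≠ 0 := Subgroup.index_ne_zero_of_finite
    have hCcard : Nat.card C ≠ 0 := Nat.card_pos.ne'
    -- valuations
    have hvC : (Nat.card C).factorization p + C.index.factorization p =
        (Nat.card G).factorization p := by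
      rw [← Finsupp.add_apply, ← Nat.factorization_mul hCcard hCidx, Subgroup.card_mul_index]
    have hP1 : 1 ≤ (Nat.card P).factorization p := by
      obtain ⟨k, hk⟩ := (IsPGroup.iff_card (p := p) (G := P)).1 hPp
      rw [hk, hpp.factorization_pow, Finsupp.single_eq_same]
      rcases Nat.eq_zero_or_pos k with h0 | h0
      · exfalso
        subst h0
        rw [pow_zero] at hk
        have hPbot : P = ⊥ := Subgroup.card_eq_one.1 hk
        apply hac
        have ha' : a = 1 := by rw [hPbot] at ha; exact Subgroup.mem_bot.1 ha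
        have hc' : c = 1 := by rw [hPbot] at hc; exact Subgroup.mem_bot.1 hc
        rw [ha', hc']
      · exact h0
    have hheight0 := hht χ hχ
    rw [hheight] at hheight0
    have hval : (charDegree (χ : G → ℂ)).factorization p ≤ C.index.factorization p := by
      omega
    have hloc := memLocalRing_natCast_div hM hdeg0 hval
    have e : centralChar (χ : G → ℂ) g =
        ((p : ℂ) * z) * ((C.index : ℂ) / ((charDegree (χ : G → ℂ) : ℕ) : ℂ)) := by
      change (C.index : ℂ) * (χ : G → ℂ) g / (χ : G → ℂ) 1 = _
      have hzg' : (χ : G → ℂ) g = (p : ℂ) * z := hzg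
      rw [hdeg, hzg']
      ring
    rw [e]
    exact memLocalIdeal_mul_right
      (memLocalIdeal_mul_right (memLocalIdeal_p hM) (memLocalRing_of_isIntegral hz)) hloc

end Cfsg.Agent.S0972
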