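import Mathlib
import Cfsg.Statements.S0973
import Cfsg.Agent.Blocks.ExtendedFMT
import Cfsg.Agent.Lib.Cores
import Cfsg.Agent.S0906
import Cfsg.Agent.S0908
import Cfsg.Agent.S0912
import Cfsg.Agent.S0917
import Cfsg.Agent.S0918
import Cfsg.Agent.S0958
-- import your own Cfsg.Agent.* helpers here

set_option autoImplicit false
open Cfsg

namespace Cfsg.Agent.S0973

open Cfsg.Agent.Blocks.Local Cfsg.Agent.Blocks.ExtendedFMT Cfsg.Agent.Blocks

/-- Let B be a block of the finite group G with defect group P (relative to a maximal ideal M of the algebraic integers containing p), and let L = P ⊔ C_G(P). Then (i) some block b of L with defect group P (viewed in L) induces B, and (ii) if b and b' are blocks of L both inducing B, there is n ∈ N_G(P) carrying b to b': for every θ ∈ b there is θ' ∈ b' with θ' x = θ (n x n⁻¹) for all x ∈ L. -/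
theorem result {G : Type*} [Group G] [Finite G] (p : ℕ) [Fact p.Prime] (M : Ideal Cfsg.AlgInt) (hM : Cfsg.IsPModular p M) (B : Set (Cfsg.IrrCharacter G)) (hB : Cfsg.IsPBlock M B) (P : Subgroup G) (hP : Cfsg.IsDefectGroup p M B P) : (∃ b : Set (Cfsg.IrrCharacter ↥(P ⊔ Subgroup.centralizer (P : Set G))), Cfsg.IsDefectGroup p M b (P.subgroupOf (P ⊔ Subgroup.centralizer (P : Set G))) ∧ Cfsg.IsInducedBlock M (P ⊔ Subgroup.centralizer (P : Set G)) b B) ∧ ∀ b b' : Set (Cfsg.IrrCharacter ↥(P ⊔ Subgroup.centralizer (P : Set G))), Cfsg.IsInducedBlock M (P ⊔ Subgroup.centralizer (P : Set G)) b B → Cfsg.IsInducedBlock M (P ⊔ Subgroup.centralizer (P : Set G)) b' B → ∃ n ∈ Subgroup.normalizer (P : Set G), ∀ θ ∈ b, ∃ θ' ∈ b', ∀ x : ↥(P ⊔ Subgroup.centralizer (P : Set G)), ∀ hx : n * (x : G) * n⁻¹ ∈ P ⊔ Subgroup.centralizer (P : Set G), (θ' : ↥(P ⊔ Subgroup.centralizer (P : Set G)) → ℂ) x = (θ : ↥(P ⊔ Subgroup.centralizer (P : Set G)) → ℂ) ⟨n * (x : G) * n⁻¹, hx⟩ := by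
  have hprime : M.IsPrime := isPrime_of_isPModular hM
  obtain ⟨g, ⟨hg1, hg2, hg3⟩, Q, hQ⟩ := id hP
  have hPp : IsPGroup p P := by
    rw [hQ]
    exact Q.2.map _
  have hLN := L_le_normalizer P
  constructor
  · -- existence
    obtain ⟨b, hbB⟩ := (Cfsg.Agent.S0958.result p M hM P (P ⊔ Subgroup.centralizer (P : Set G)) hPp
      le_rfl hLN B hB).2 ⟨P, hP, 1, by rw [Basic.map_conj_one]⟩
    have hb : IsPBlock M b := hbB.1
    refine ⟨b, ?_, hbB⟩
    obtain ⟨h, hh⟩ := Cfsg.Agent.S0906.result p M hM b hb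
    obtain ⟨S⟩ : Nonempty (Sylow p (Subgroup.centralizer
      ({h} : Set ↥(P ⊔ Subgroup.centralizer (P : Set G))))) := inferInstance
    have hD : IsDefectGroup p M b ((S : Subgroup (Subgroup.centralizer
        ({h} : Set ↥(P ⊔ Subgroup.centralizer (P : Set G))))).map
        (Subgroup.centralizer ({h} : Set ↥(P ⊔ Subgroup.centralizer (P : Set G)))).subtype) :=
      ⟨h, hh, S, rfl⟩
    set D := (S : Subgroup (Subgroup.centralizer
        ({h} : Set ↥(P ⊔ Subgroup.centralizer (P : Set G))))).map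
        (Subgroup.centralizer ({h} : Set ↥(P ⊔ Subgroup.centralizer (P : Set G)))).subtype
    -- `D` contains `P`
    have hPn : (P.subgroupOf (P ⊔ Subgroup.centralizer (P : Set G))).Normal :=
      Subgroup.normal_subgroupOf_of_le_normalizer hLN
    have hPD : P.subgroupOf (P ⊔ Subgroup.centralizer (P : Set G)) ≤ D :=
      (Cfsg.Agent.Lib.Cores.le_pCore hPn hPp.comap_subtype).trans
        (Cfsg.Agent.S0912.result p M hM b hb D hD)
    -- and is not bigger
    obtain ⟨E, hE, hDE⟩ := Cfsg.Agent.S0917.result p M hM _ b hb B hB hbB D hD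
    have h1 : Nat.card E = Nat.card P := by
      rw [Cfsg.Agent.S0908.result p M hM B hB E hE, Cfsg.Agent.S0908.result p M hM B hB P hP]
    have h2 : Nat.card D ≤ Nat.card P := by
      rw [← h1]
      have h3 : Nat.card (D.map (P ⊔ Subgroup.centralizer (P : Set G)).subtype) ≤ Nat.card E :=
        Nat.card_le_card_of_injective (Subgroup.inclusion hDE)
          (Subgroup.inclusion_injective hDE)
      rwa [Nat.card_congr (D.equivMapOfInjective _
        (Subgroup.subtype_injective _)).toEquiv.symm] at h3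
    have h4 : Nat.card (P.subgroupOf (P ⊔ Subgroup.centralizer (P : Set G))) = Nat.card P :=
      Nat.card_congr (Subgroup.subgroupOfEquivOfLe le_sup_left).toEquiv
    rw [Subgroup.eq_of_le_of_card_ge hPD (by rw [h4]; exact h2)]
    exact hD
  · -- uniqueness up to conjugacy
    intro b b' hb hb'
    have hbr := (Cfsg.Agent.S0918.result p M hM P (P ⊔ Subgroup.centralizer (P : Set G)) hPp
      le_sup_left le_sup_right hLN b hb.1 B hB).1 hb
    have hbr' := (Cfsg.Agent.S0918.result p M hM P (P ⊔ Subgroup.centralizer (P : Set G)) hPp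
      le_sup_left le_sup_right hLN b' hb'.1 B hB).1 hb'
    obtain ⟨ξ, hξ⟩ := Basic.isPBlock_nonempty hb.1
    obtain ⟨ξ', hξ'⟩ := Basic.isPBlock_nonempty hb'.1
    obtain ⟨χ, hχ⟩ := Basic.isPBlock_nonempty hB
    obtain ⟨n, hn⟩ := mem_orbitSet_of_brauer_congr hM P hPp g ⟨Q, hQ.symm⟩ hb'.1 ξ' ξ hξ'
      (fun c => by
        have := memLocalIdeal_sub (hbr' ξ' hξ' χ hχ c) (hbr ξ hξ χ hχ c)
        rwa [sub_sub_sub_cancel_right] at this)
      (fun h => hg3 χ hχ ((memLocalIdeal_iff_of_sub (hbr' ξ' hξ' χ hχ g)).1 h))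
    refine ⟨n, n.2, fun θ hθ => ?_⟩
    refine ⟨compIrr (conjN P n) θ, ?_, fun x hx => rfl⟩
    exact Basic.isPBlock_mem_of_sameBlock hb'.1 hn
      (sameBlock_compIrr _ (Basic.isPBlock_sameBlock hb.1 hξ hθ))

end Cfsg.Agent.S0973
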