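import Cfsg.Statements.S0974
-- import your own Cfsg.Agent.* helpers here
import Cfsg.Agent.SmallSimple.Parity
import Cfsg.Agent.SmallSimple.TwoGroup64
import Cfsg.Agent.SmallSimple.SylowCount

set_option autoImplicit false
open Cfsg

namespace Cfsg.Agent.S0974

open Subgroup Cfsg.Agent.SmallSimple

/-- the order of a Sylow subgroup from the exact power of `p` -/
theorem card_sylow_eq {G : Type*} [Group G] [Finite G] {p k : ℕ} [hp : Fact p.Prime]
    (P : Sylow p G) (h1 : p ^ k ∣ Nat.card G) (h2 : ¬ p ^ (k + 1) ∣ Nat.card G) :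
    Nat.card P = p ^ k := by
  rw [P.card_eq_multiplicity]
  have h3 := (hp.out.pow_dvd_iff_le_factorization Nat.card_pos.ne').1 h1
  have h4 : ¬ k + 1 ≤ (Nat.card G).factorization p := fun h =>
    h2 ((hp.out.pow_dvd_iff_le_factorization Nat.card_pos.ne').2 h)
  have : (Nat.card G).factorization p = k := by omega
  rw [this]

/-- If `P` has prime order `p` and a nonidentity element `x` of `P` lies in `H`, then `P ≤ H`. -/
theorem le_of_prime_card {G : Type*} [Group G] {P H : Subgroup G} {p : ℕ} (hp : p.Prime)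
    (hP : Nat.card P = p) {x : G} (hx : x ∈ P) (hx1 : x ≠ 1) (hxH : x ∈ H) : P ≤ H := by
  have hfin : Finite P := Nat.finite_of_card_ne_zero (by rw [hP]; exact hp.ne_zero)
  have h1 : zpowers x ≤ P := by rw [zpowers_le]; exact hx
  have h2 : Nat.card (zpowers x) ∣ p := hP ▸ card_dvd_of_le h1
  have h3 : Nat.card (zpowers x) ≠ 1 := by
    rw [Nat.card_zpowers, Ne, orderOf_eq_one_iff]
    exact hx1
  have h4 : Nat.card (zpowers x) = p := ((Nat.dvd_prime hp).mp h2).resolve_left h3
  have h5 : zpowers x = P := eq_of_le_of_card_ge h1 (by rw [h4, hP])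
  rw [← h5, zpowers_le]
  exact hxH

/-- No finite simple group has order 3648 = 2^6 * 3 * 19. -/
theorem result {G : Type*} [Group G] [Finite G] [IsSimpleGroup G] : Nat.card G ≠ 3648 := by
  intro hG
  classical
  have hnc : ¬ ∀ a b : G, a * b = b * a := by
    intro h
    let _ : CommGroup G := { (inferInstance : Group G) with mul_comm := h }
    have h1 : (Nat.card G).Prime := IsSimpleGroup.prime_card
    rw [hG] at h1
    revert h1; norm_num
  have h19 : Fact (Nat.Prime 19) := ⟨by norm_num⟩
  have h2 : Fact (Nat.Prime 2) := ⟨Nat.prime_two⟩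
  -- Sylow 19-subgroups
  obtain ⟨P⟩ : Nonempty (Sylow 19 G) := inferInstance
  have hPcard : Nat.card P = 19 := by
    have := card_sylow_eq (k := 1) P (by rw [hG]; norm_num) (by rw [hG]; norm_num)
    rw [this]; norm_num
  have hPidx : (P : Subgroup G).index = 192 := by
    have h3 := (P : Subgroup G).card_mul_index
    rw [hPcard, hG] at h3
    omega
  have hn19 : Nat.card (Sylow 19 G) = 96 := by
    have h3 : Nat.card (Sylow 19 G) ≡ 1 [MOD 19] := card_sylow_modEq_one 19 G
    have h4 : Nat.card (Sylow 19 G) ∣ 192 := hPidx ▸ P.card_dvd_index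
    have h5 : Nat.card (Sylow 19 G) ≠ 1 :=
      SylowCount.card_sylow_ne_one (by rw [hG]; norm_num) (by rw [hG]; norm_num)
    generalize Nat.card (Sylow 19 G) = n at h3 h4 h5
    have h6 : n ∈ Nat.divisors 192 := Nat.mem_divisors.mpr ⟨h4, by norm_num⟩
    have h7 : ∀ m ∈ Nat.divisors 192, m % 19 = 1 % 19 → m ≠ 1 → m = 96 := by decide +kernel
    exact h7 n h6 h3 h5
  set NP : Subgroup G := normalizer (P : Set G) with hNP
  have hNPcard : Nat.card NP = 38 := by
    have h3 := NP.card_mul_index
    rw [← P.card_eq_index_normalizer, hn19, hG] at h3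
    omega
  have hPN : (P : Subgroup G) ≤ NP := le_normalizer
  -- an involution normalizing P
  obtain ⟨t', ht'⟩ := exists_prime_orderOf_dvd_card' (G := NP) 2 (by rw [hNPcard]; norm_num)
  obtain ⟨t, htN⟩ := t'
  have hto : orderOf t = 2 := by
    rw [← ht']
    exact (orderOf_mk t htN).symm
  have ht2 : t ^ 2 = 1 := by rw [← hto]; exact pow_orderOf_eq_one t
  have htP : ∀ p ∈ (P : Subgroup G), t * p * t⁻¹ ∈ (P : Subgroup G) := by
    intro p hp
    exact (mem_normalizer_iff.mp htN p).mp hp
  have htC : ∀ p ∈ (P : Subgroup G), t * p = p * t → p = 1 := by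
    intro p hp hpt
    by_contra hp1
    have h3 : (P : Subgroup G) ≤ centralizer {t} := by
      refine le_of_prime_card h19.out hPcard hp hp1 ?_
      rw [mem_centralizer_singleton_iff]
      exact hpt.symm
    have h4 : t ∈ centralizer (P : Set G) := by
      rw [mem_centralizer_iff]
      intro x hx
      exact mem_centralizer_singleton_iff.mp (h3 hx)
    have h5 : (P : Subgroup G) ≤ centralizer (P : Set G) := by
      have hcyc : IsCyclic P := isCyclic_of_prime_card hPcard
      intro x hx
      rw [mem_centralizer_iff]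
      intro y hy
      have := hcyc.isMulCommutative.is_comm.comm (⟨y, hy⟩ : P) ⟨x, hx⟩
      exact congrArg Subtype.val this
    have h6 : NP ≤ centralizer (P : Set G) := by
      have h7 : 19 ∣ Nat.card (NP ⊓ centralizer (P : Set G) : Subgroup G) := by
        have := card_dvd_of_le (le_inf hPN h5)
        rwa [hPcard] at this
      have h8 : 2 ∣ Nat.card (NP ⊓ centralizer (P : Set G) : Subgroup G) := by
        have h9 : zpowers t ≤ NP ⊓ centralizer (P : Set G) := by
          rw [zpowers_le]; exact ⟨htN, h4⟩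
        have := card_dvd_of_le h9
        rwa [Nat.card_zpowers, hto] at this
      have h9 : 38 ∣ Nat.card (NP ⊓ centralizer (P : Set G) : Subgroup G) := by
        have := Nat.Coprime.mul_dvd_of_dvd_of_dvd (by norm_num) h7 h8
        exact this
      have h10 : NP ⊓ centralizer (P : Set G) = NP := by
        refine eq_of_le_of_card_ge inf_le_left ?_
        rw [hNPcard]
        exact Nat.le_of_dvd Nat.card_pos h9
      rw [← h10]
      exact inf_le_right
    have h7 := Burnside.card_eq_of_normalizer_le_centralizer (by rw [hG]; norm_num) P h6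
    rw [hG] at h7
    omega
  -- Sylow 2-subgroups
  have hn2 : Nat.card (Sylow 2 G) = 19 ∨ Nat.card (Sylow 2 G) = 57 := by
    obtain ⟨Q⟩ : Nonempty (Sylow 2 G) := inferInstance
    have hQcard : Nat.card Q = 64 := by
      have := card_sylow_eq (k := 6) Q (by rw [hG]; norm_num) (by rw [hG]; norm_num)
      rw [this]; norm_num
    have hQidx : (Q : Subgroup G).index = 57 := by
      have h3 := (Q : Subgroup G).card_mul_index
      rw [hQcard, hG] at h3
      omega
    have h4 : Nat.card (Sylow 2 G) ∣ 57 := hQidx ▸ Q.card_dvd_index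
    have h5 : Nat.card (Sylow 2 G) ≠ 1 :=
      SylowCount.card_sylow_ne_one (by rw [hG]; norm_num) (by rw [hG]; norm_num)
    have h5' : Nat.card (Sylow 2 G) ≠ 3 := by
      intro h
      have := SylowCount.card_dvd_factorial_card_sylow (G := G) (p := 2)
        (by rw [hG]; norm_num) (by rw [hG]; norm_num)
      rw [hG, h] at this
      revert this; decide
    generalize Nat.card (Sylow 2 G) = n at h4 h5 h5'
    have h6 : n ∈ Nat.divisors 57 := Nat.mem_divisors.mpr ⟨h4, by norm_num⟩
    have h7 : ∀ m ∈ Nat.divisors 57, m ≠ 1 → m ≠ 3 → m = 19 ∨ m = 57 := by decide +kernel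
    exact h7 n h6 h5 h5'
  have hcardN2 : ∀ Q : Sylow 2 G, Nat.card (normalizer (Q : Set G)) * Nat.card (Sylow 2 G) = 3648 := by
    intro Q
    have h3 := (normalizer (Q : Set G)).card_mul_index
    rwa [← Q.card_eq_index_normalizer, hG] at h3
  have hfree : ∀ Q : Sylow 2 G, ∀ p ∈ (P : Subgroup G), p • Q = Q → p = 1 := by
    intro Q p hp hpQ
    by_contra hp1
    have h3 : p ∈ normalizer (Q : Set G) := Sylow.smul_eq_iff_mem_normalizer.mp hpQ
    have h4 : (P : Subgroup G) ≤ normalizer (Q : Set G) :=
      le_of_prime_card h19.out hPcard hp hp1 h3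
    have h5 := card_dvd_of_le h4
    rw [hPcard] at h5
    have h6 := hcardN2 Q
    rcases hn2 with h | h
    · rw [h] at h6
      have : Nat.card (normalizer (Q : Set G)) = 192 := by omega
      rw [this] at h5
      revert h5; decide
    · rw [h] at h6
      have : Nat.card (normalizer (Q : Set G)) = 64 := by omega
      rw [this] at h5
      revert h5; decide
  have hfix2 : 19 * Nat.card {x : Sylow 2 G // t • x = x} ≤ Nat.card (Sylow 2 G) := by
    have h3 := Parity.card_mul_card_fixed_le (X := Sylow 2 G) (P : Subgroup G) t htP htC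
    have h4 : Nat.card {x : Sylow 2 G // t • x = x ∧ ∀ p ∈ (P : Subgroup G), p • x = x → p = 1} =
        Nat.card {x : Sylow 2 G // t • x = x} :=
      Nat.card_congr (Equiv.subtypeEquivRight fun x => ⟨fun h => h.1, fun h => ⟨h, hfree x⟩⟩)
    have h5 : Nat.card {x : Sylow 2 G // ∀ p ∈ (P : Subgroup G), p • x = x → p = 1} =
        Nat.card (Sylow 2 G) :=
      Nat.card_congr (Equiv.subtypeUnivEquiv hfree)
    rw [h4, h5, hPcard] at h3
    exact h3
  obtain ⟨k, hk⟩ := Parity.card_modEq_four (G := G) (X := Sylow 2 G) (by rw [hG]; norm_num) t ht2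
  have hn57 : Nat.card (Sylow 2 G) = 57 := by
    rcases hn2 with h | h
    · exfalso; omega
    · exact h
  have hfix1 : Nat.card {x : Sylow 2 G // t • x = x} = 1 := by omega
  obtain ⟨hsub, ⟨Q, htQ⟩⟩ := Nat.card_eq_one_iff_unique.mp hfix1
  have hQcard : Nat.card Q = 64 := by
    have := card_sylow_eq (k := 6) Q (by rw [hG]; norm_num) (by rw [hG]; norm_num)
    rw [this]; norm_num
  have hNQ : normalizer (Q : Set G) = (Q : Subgroup G) := by
    symm
    refine eq_of_le_of_card_ge le_normalizer ?_
    have := hcardN2 Q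
    rw [hn57] at this
    rw [hQcard]
    omega
  have htQ' : t ∈ (Q : Subgroup G) := by
    rw [← hNQ]
    exact Sylow.smul_eq_iff_mem_normalizer.mp htQ
  have huniq : ∀ g : G, g⁻¹ * t * g ∈ (Q : Subgroup G) → g ∈ (Q : Subgroup G) := by
    intro g hg
    have h3 : t • (g • Q) = g • Q := by
      have h4 : (g⁻¹ * t * g) • Q = Q := by
        rw [Sylow.smul_eq_iff_mem_normalizer]
        exact le_normalizer hg
      rw [mul_smul, mul_smul, inv_smul_eq_iff] at h4
      exact h4
    have h4 : (⟨g • Q, h3⟩ : {x : Sylow 2 G // t • x = x}) = ⟨Q, htQ⟩ := Subsingleton.elim _ _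
    have h5 : g • Q = Q := congrArg Subtype.val h4
    rw [← hNQ]
    exact Sylow.smul_eq_iff_mem_normalizer.mp h5
  have hcomm := Parity.mem_commutator_of_unique_fixed hnc (Q : Subgroup G) t ht2 htQ' huniq
  have hidx := TwoGroup64.index_centralizer_le_four (S := (Q : Subgroup G)) hQcard
    ⟨t, htQ'⟩ hcomm (Subtype.ext ht2)
  have hge : 16 ≤ Nat.card (centralizer ({t} : Set G)) := by
    have h3 := (centralizer ({⟨t, htQ'⟩} : Set (Q : Subgroup G))).card_mul_index
    rw [hQcard] at h3
    have h4 : 16 ≤ Nat.card (centralizer ({⟨t, htQ'⟩} : Set (Q : Subgroup G))) := by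
      by_contra hlt
      push Not at hlt
      have : Nat.card (centralizer ({⟨t, htQ'⟩} : Set (Q : Subgroup G))) *
        (centralizer ({⟨t, htQ'⟩} : Set (Q : Subgroup G))).index ≤ 15 * 4 :=
        Nat.mul_le_mul (by omega) hidx
      omega
    refine h4.trans ?_
    refine Nat.card_le_card_of_injective
      (fun c : centralizer ({⟨t, htQ'⟩} : Set (Q : Subgroup G)) =>
        (⟨((c : (Q : Subgroup G)) : G), ?_⟩ : centralizer ({t} : Set G))) ?_
    · rw [mem_centralizer_singleton_iff]
      exact congrArg Subtype.val (mem_centralizer_singleton_iff.mp c.2)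
    · intro a b hab
      apply Subtype.ext
      apply Subtype.ext
      exact congrArg (fun z : centralizer ({t} : Set G) => (z : G)) hab
  -- the action on the Sylow 19-subgroups
  have hfree19 : ∀ x : Sylow 19 G, x ≠ P ↔ ∀ p ∈ (P : Subgroup G), p • x = x → p = 1 := by
    intro x
    constructor
    · intro hx p hp hpx
      by_contra hp1
      apply hx
      have h3 : (P : Subgroup G) ≤ normalizer (x : Set G) :=
        le_of_prime_card h19.out hPcard hp hp1 (Sylow.smul_eq_iff_mem_normalizer.mp hpx)
      have h4 : x ∈ MulAction.fixedPoints (P : Subgroup G) (Sylow 19 G) :=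
        (Subgroup.sylow_mem_fixedPoints_iff (P : Subgroup G)).mpr h3
      have h5 := (P.isPGroup'.sylow_mem_fixedPoints_iff).mp h4
      exact Sylow.ext (P.3 x.2 h5)
    · rintro h rfl
      have h3 : (x : Subgroup G) ≠ ⊥ := by
        intro hb
        have h4 : Nat.card (x : Subgroup G) = 19 := hPcard
        rw [hb, card_bot] at h4
        omega
      have h4 : Nontrivial (x : Subgroup G) := (nontrivial_iff_ne_bot _).mpr h3
      obtain ⟨⟨p, hp⟩, hp1⟩ := exists_ne (1 : (x : Subgroup G))
      exact hp1 (Subtype.ext (h p hp (Sylow.smul_eq_iff_mem_normalizer.mpr (le_normalizer hp))))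
  have hcompl : Nat.card {x : Sylow 19 G // x ≠ P} = 95 := by
    have h3 : Nat.card (Sylow 19 G) = Nat.card {x : Sylow 19 G // x = P} +
        Nat.card {x : Sylow 19 G // x ≠ P} := by
      rw [← Nat.card_sum]
      exact Nat.card_congr (Equiv.sumCompl (fun x : Sylow 19 G => x = P)).symm
    have h4 : Nat.card {x : Sylow 19 G // x = P} = 1 := by
      rw [Nat.card_eq_one_iff_unique]
      exact ⟨⟨fun a b => Subtype.ext (a.2.trans b.2.symm)⟩, ⟨⟨P, rfl⟩⟩⟩
    omega
  have htPP : t • P = P := Sylow.smul_eq_iff_mem_normalizer.mpr htN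
  have hfix19 : Nat.card {x : Sylow 19 G // t • x = x} ≤ 6 := by
    have h3 := Parity.card_mul_card_fixed_le (X := Sylow 19 G) (P : Subgroup G) t htP htC
    have h4 : Nat.card {x : Sylow 19 G // ∀ p ∈ (P : Subgroup G), p • x = x → p = 1} = 95 := by
      rw [← hcompl]
      exact Nat.card_congr (Equiv.subtypeEquivRight fun x => (hfree19 x).symm)
    rw [h4, hPcard] at h3
    have h5 : Nat.card {x : Sylow 19 G // t • x = x} =
        Nat.card {y : {x : Sylow 19 G // t • x = x} // (y : Sylow 19 G) = P} +
        Nat.card {y : {x : Sylow 19 G // t • x = x} // ¬ (y : Sylow 19 G) = P} := by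
      rw [← Nat.card_sum]
      exact Nat.card_congr (Equiv.sumCompl
        (fun y : {x : Sylow 19 G // t • x = x} => (y : Sylow 19 G) = P)).symm
    have h6 : Nat.card {y : {x : Sylow 19 G // t • x = x} // (y : Sylow 19 G) = P} = 1 := by
      rw [Nat.card_eq_one_iff_unique]
      exact ⟨⟨fun a b => Subtype.ext (Subtype.ext (a.2.trans b.2.symm))⟩, ⟨⟨⟨P, htPP⟩, rfl⟩⟩⟩
    have h7 : Nat.card {y : {x : Sylow 19 G // t • x = x} // ¬ (y : Sylow 19 G) = P} ≤
        Nat.card {x : Sylow 19 G // t • x = x ∧ ∀ p ∈ (P : Subgroup G), p • x = x → p = 1} := by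
      refine Nat.card_le_card_of_injective
        (fun y => ⟨((y : {x : Sylow 19 G // t • x = x}) : Sylow 19 G), y.1.2,
          (hfree19 _).mp y.2⟩) ?_
      intro a b hab
      apply Subtype.ext
      apply Subtype.ext
      exact congrArg (fun z : {x : Sylow 19 G //
        t • x = x ∧ ∀ p ∈ (P : Subgroup G), p • x = x → p = 1} => (z : Sylow 19 G)) hab
    omega
  -- the centralizer of t acts on the fixed points
  set C : Subgroup G := centralizer {t} with hC
  have hCN : Nat.card (C ⊓ NP : Subgroup G) ≤ 2 := by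
    have h3 : Nat.card (C ⊓ NP : Subgroup G) ∣ 38 := hNPcard ▸ card_dvd_of_le inf_le_right
    have h4 : ¬ 19 ∣ Nat.card (C ⊓ NP : Subgroup G) := by
      intro h
      obtain ⟨x, hx⟩ := exists_prime_orderOf_dvd_card' (G := (C ⊓ NP : Subgroup G)) 19 h
      have hxo : orderOf (x : G) = 19 := by rw [orderOf_coe, hx]
      have hxC : (x : G) ∈ C := x.2.1
      have hxN : (x : G) ∈ NP := x.2.2
      have hxP : (x : G) ∈ (P : Subgroup G) := by
        have h5 : IsPGroup 19 (zpowers (x : G)) := by
          apply IsPGroup.of_card (n := 1)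
          rw [Nat.card_zpowers, hxo, pow_one]
        have h6 := h5.inf_normalizer_sylow P
        have h7 : (x : G) ∈ zpowers (x : G) ⊓ normalizer (P : Set G) :=
          ⟨mem_zpowers _, hxN⟩
        rw [h6] at h7
        exact h7.2
      have h5 := htC x hxP (mem_centralizer_singleton_iff.mp hxC).symm
      rw [h5, orderOf_one] at hxo
      omega
    generalize Nat.card (C ⊓ NP : Subgroup G) = n at h3 h4
    have h6 : n ∈ Nat.divisors 38 := Nat.mem_divisors.mpr ⟨h3, by norm_num⟩
    have h7 : ∀ m ∈ Nat.divisors 38, ¬ 19 ∣ m → m ≤ 2 := by decide +kernel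
    exact h7 n h6 h4
  have hle : Nat.card C ≤ 12 := by
    have h3 : Nat.card (MulAction.orbit C P) * Nat.card (MulAction.stabilizer C P) =
        Nat.card C := by
      rw [← Nat.card_prod]
      exact Nat.card_congr (MulAction.orbitProdStabilizerEquivGroup C P)
    have h4 : Nat.card (MulAction.orbit C P) ≤ 6 := by
      refine le_trans ?_ hfix19
      refine Nat.card_le_card_of_injective
        (fun y => ⟨(y : Sylow 19 G), ?_⟩) ?_
      · obtain ⟨⟨c, hc⟩, hcy⟩ := y.2
        have h5 : c • P = (y : Sylow 19 G) := hcy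
        have h6 : c * t = t * c := mem_centralizer_singleton_iff.mp hc
        rw [← h5, ← mul_smul, ← h6, mul_smul, htPP]
      · intro a b hab
        apply Subtype.ext
        exact congrArg (fun z : {x : Sylow 19 G // t • x = x} => (z : Sylow 19 G)) hab
    have h5 : Nat.card (MulAction.stabilizer C P) ≤ 2 := by
      refine le_trans ?_ hCN
      refine Nat.card_le_card_of_injective
        (fun c => (⟨((c : C) : G), c.1.2, ?_⟩ : (C ⊓ NP : Subgroup G))) ?_
      · exact Sylow.smul_eq_iff_mem_normalizer.mp c.2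
      · intro a b hab
        apply Subtype.ext
        apply Subtype.ext
        exact congrArg (fun z : (C ⊓ NP : Subgroup G) => (z : G)) hab
    rw [← h3]
    exact (Nat.mul_le_mul h4 h5).trans (by norm_num)
  omega

end Cfsg.Agent.S0974
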