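import Cfsg.Statements.S0975
import Cfsg.Agent.SmallSimple.DihedralNormSylow

set_option autoImplicit false
open Cfsg

namespace Cfsg.Agent.S0975

/-- No finite simple group has order 3744 = 2^5 * 3^2 * 13. -/
theorem result {G : Type*} [Group G] [Finite G] [IsSimpleGroup G] : Nat.card G ≠ 3744 := by
  intro hG
  have hp : Fact (Nat.Prime 13) := ⟨by norm_num⟩
  obtain ⟨P⟩ : Nonempty (Sylow 13 G) := inferInstance
  have hP : Nat.card P = 13 :=
    Cfsg.Agent.SmallSimple.DihedralNormSylow.card_sylow_eq (m := 288) (by rw [hG]) (by norm_num) P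
  have h1 : Nat.card (Sylow 13 G) ∣ 288 := by
    have h := P.card_dvd_index
    have h2 := (P : Subgroup G).card_mul_index
    rw [hG, hP] at h2
    have h3 : (P : Subgroup G).index = 288 := by omega
    rwa [h3] at h
  have h2 : Nat.card (Sylow 13 G) ≡ 1 [MOD 13] := card_sylow_modEq_one 13 G
  have h3 : Nat.card (Sylow 13 G) ≠ 1 :=
    Cfsg.Agent.SmallSimple.SylowCount.card_sylow_ne_one (by rw [hG]; norm_num) (by rw [hG]; norm_num)
  have h4 : Nat.card (Sylow 13 G) = 144 := by
    have hle : Nat.card (Sylow 13 G) ≤ 288 := Nat.le_of_dvd (by norm_num) h1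
    generalize Nat.card (Sylow 13 G) = n at *
    clear hG hP P
    unfold Nat.ModEq at h2
    obtain ⟨c, hc⟩ : ∃ c, n = 13 * c + 1 := ⟨n / 13, by omega⟩
    have hc22 : c ≤ 22 := by omega
    subst hc
    interval_cases c <;> simp_all
  have h5 := Cfsg.Agent.SmallSimple.DihedralNormSylow.card_le (p := 13) (by norm_num) P hP
    (by rw [h4, hG]) (k := 5) (m := 117) (by rw [hG]; norm_num) (by decide)
  rw [hG, h4] at h5
  norm_num at h5

end Cfsg.Agent.S0975
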