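import Cfsg.Statements.S0978
import Cfsg.Agent.SmallSimple.Order5040C
import Cfsg.Agent.SmallSimple.Order5040E
import Cfsg.Agent.SmallSimple.Order5040N5

set_option autoImplicit false
open Cfsg

namespace Cfsg.Agent.S0978

open Subgroup
open Cfsg.Agent.SmallSimple.Order5040 Cfsg.Agent.SmallSimple.Order5040B
open Cfsg.Agent.SmallSimple.Order5040C Cfsg.Agent.SmallSimple.Order5040E

/-- No finite simple group has order 5040 = 2^4 * 3^2 * 5 * 7. -/
theorem result {G : Type*} [Group G] [Finite G] [IsSimpleGroup G] : Nat.card G ≠ 5040 := by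
  intro hG
  have := fact7
  have := fact5
  have := fact3
  have hn5 : Nat.card (Sylow 5 G) = 126 := by
    rcases n5_mem hG with h | h | h | h | h | h | h
    · exact absurd h (n5_ne_6 hG)
    · exact absurd h (n5_ne_16 hG)
    · exact absurd h (Cfsg.Agent.SmallSimple.Order5040N5.n5_ne_21 hG (card_normalizer7 hG))
    · exact absurd h (n5_ne_36 hG)
    · exact absurd h (n5_ne_56 hG)
    · exact h
    · exact absurd h (n5_ne_336 hG)
  have h40 : ∀ P : Sylow 5 G, Nat.card (normalizer (P : Set G)) = 40 := by
    intro P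
    have := card_normalizer_mul P hn5 hG
    omega
  have h7 : ∀ P : Sylow 7 G, Nat.card (centralizer (P : Set G)) = 7 := by
    intro P
    have hN := card_normalizer7 hG P
    obtain ⟨e, he1, he2, he3⟩ := automizer (by rw [hG]; norm_num) P (card_sylow7 hG P)
    have he4 : e ≤ 6 := Nat.le_of_dvd (by norm_num) he1
    have h14 := card_centralizer7_ne_14 hG P
    have h21 : Nat.card (centralizer (P : Set G)) ≠ 21 := by
      intro h
      have h3 : 3 ∣ Nat.card (centralizer (P : Set G)) := by rw [h]; norm_num
      obtain ⟨⟨y, hyC⟩, hy⟩ := exists_prime_orderOf_dvd_card' 3 h3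
      rw [Subgroup.orderOf_mk] at hy
      refine Cfsg.Agent.SmallSimple.Order5040N5.false_of_mem_centralizer7 hG P hN hy hyC ?_
      intro Q hQ
      have h4 := Sylow.smul_eq_iff_mem_normalizer.1 hQ
      have h5 := orderOf_dvd_natCard (⟨y, h4⟩ : normalizer ((Q : Subgroup G) : Set G))
      rw [Subgroup.orderOf_mk, hy] at h5
      have h6 := h5.trans (dvd_of_eq (h40 Q))
      norm_num at h6
    rw [he3] at hN
    norm_num at he1
    interval_cases e <;> omega
  obtain ⟨P⟩ : Nonempty (Sylow 5 G) := inferInstance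
  exact final hG h7 P (h40 P)

end Cfsg.Agent.S0978
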