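import Cfsg.Statements.S0979
-- import your own Cfsg.Agent.* helpers here
import Cfsg.Agent.SmallSimple.SylowCount
import Cfsg.Agent.SmallSimple.Burnside
import Cfsg.Agent.SmallSimple.SylowPrimeCount
import Cfsg.Agent.SmallSimple.PrimeCoherenceArith

set_option autoImplicit false
open Cfsg

namespace Cfsg.Agent.S0979

open Subgroup Cfsg.Agent.SmallSimple

/-- the order of a Sylow subgroup from the exact power of `p` -/
theorem card_sylow_eq {G : Type*} [Group G] [Finite G] {p k : ℕ} [hp : Fact p.Prime]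
    (P : Sylow p G) (h1 : p ^ k ∣ Nat.card G) (h2 : ¬ p ^ (k + 1) ∣ Nat.card G) :
    Nat.card P = p ^ k := by
  rw [P.card_eq_multiplicity]
  have h3 := (hp.out.pow_dvd_iff_le_factorization Nat.card_pos.ne').1 h1
  have h4 : ¬ k + 1 ≤ (Nat.card G).factorization p := fun h =>
    h2 ((hp.out.pow_dvd_iff_le_factorization Nat.card_pos.ne').2 h)
  have : (Nat.card G).factorization p = k := by omega
  rw [this]

/-- If `|N_G(P)| = q p` with `q` prime, `P` of prime order `p` and `G` simple of order different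
from `p`, then `P` is self-centralizing. -/
theorem centralizer_eq {G : Type*} [Group G] [Finite G] [IsSimpleGroup G] {p q : ℕ}
    [hp : Fact p.Prime] (hq : q.Prime) (P : Sylow p G) (hdvd : p ∣ Nat.card G)
    (hP : Nat.card P = p) (hGp : Nat.card G ≠ p)
    (hN : Nat.card (normalizer (P : Set G)) = q * p) :
    centralizer ((P : Subgroup G) : Set G) = (P : Subgroup G) := by
  have hPC : (P : Subgroup G) ≤ centralizer ((P : Subgroup G) : Set G) := by
    have hcyc : IsCyclic P := isCyclic_of_prime_card hP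
    intro x hx
    rw [mem_centralizer_iff]
    intro y hy
    have := hcyc.isMulCommutative.is_comm.comm (⟨y, hy⟩ : P) ⟨x, hx⟩
    exact congrArg Subtype.val this
  have hCN : centralizer ((P : Subgroup G) : Set G) ≤ normalizer (P : Set G) :=
    SylowPrimeCount.centralizer_le_normalizer' (P : Subgroup G)
  obtain ⟨a, ha⟩ := card_dvd_of_le hPC
  obtain ⟨b, hb⟩ := card_dvd_of_le hCN
  rw [hP] at ha
  rw [hN, ha] at hb
  have hab : q = a * b := by
    have h1 : p * q = p * (a * b) := by rw [mul_comm p q, hb]; ring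
    exact Nat.eq_of_mul_eq_mul_left hp.out.pos h1
  rcases (Nat.dvd_prime hq).mp ⟨b, hab⟩ with h1 | h1
  · symm
    refine eq_of_le_of_card_ge hPC ?_
    rw [ha, h1, mul_one]
    exact hP.ge
  · exfalso
    have h2 : centralizer ((P : Subgroup G) : Set G) = normalizer (P : Set G) := by
      refine eq_of_le_of_card_ge hCN ?_
      rw [ha, h1, hN, mul_comm]
    have h7 := Burnside.card_eq_of_normalizer_le_centralizer hdvd P (le_of_eq h2.symm)
    exact hGp h7

/-- No finite simple group has order 5472 = 2^5 * 3^2 * 19. -/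
theorem result {G : Type*} [Group G] [Finite G] [IsSimpleGroup G] : Nat.card G ≠ 5472 := by
  intro hG
  classical
  have h19 : Fact (Nat.Prime 19) := ⟨by norm_num⟩
  -- Sylow 19-subgroups
  obtain ⟨P⟩ : Nonempty (Sylow 19 G) := inferInstance
  have hPcard : Nat.card P = 19 := by
    have := card_sylow_eq (k := 1) P (by rw [hG]; norm_num) (by rw [hG]; norm_num)
    rw [this]; norm_num
  have hPidx : (P : Subgroup G).index = 288 := by
    have h3 := (P : Subgroup G).card_mul_index
    rw [hPcard, hG] at h3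
    omega
  have hn19 : Nat.card (Sylow 19 G) = 96 := by
    have h3 : Nat.card (Sylow 19 G) ≡ 1 [MOD 19] := card_sylow_modEq_one 19 G
    have h4 : Nat.card (Sylow 19 G) ∣ 288 := hPidx ▸ P.card_dvd_index
    have h5 : Nat.card (Sylow 19 G) ≠ 1 :=
      SylowCount.card_sylow_ne_one (by rw [hG]; norm_num) (by rw [hG]; norm_num)
    generalize Nat.card (Sylow 19 G) = n at h3 h4 h5
    have h6 : n ∈ Nat.divisors 288 := Nat.mem_divisors.mpr ⟨h4, by norm_num⟩
    have h7 : ∀ m ∈ Nat.divisors 288, m % 19 = 1 % 19 → m ≠ 1 → m = 96 := by decide +kernel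
    exact h7 n h6 h3 h5
  have hNPcard : Nat.card (normalizer (P : Set G)) = 3 * 19 := by
    have h3 := (normalizer (P : Set G)).card_mul_index
    rw [← P.card_eq_index_normalizer, hn19, hG] at h3
    omega
  have hC := centralizer_eq (q := 3) (by norm_num) P (by rw [hG]; norm_num) hPcard
    (by rw [hG]; norm_num) hNPcard
  obtain ⟨d, f, s, c, n, hd, hf, hfe, hc0, hn2, hndvd, hnc, hcc, hrel, hsq⟩ :=
    PrimeCoherenceArith.degrees (by rw [hG]; norm_num) (p := 19) (e := 3) (t := 6) h19.out hPcard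
      hC hNPcard (by norm_num) (by norm_num)
  -- `c χ = ±1` for `χ ∈ s`
  have hc1 : ∀ χ ∈ s, c χ = 1 ∨ c χ = -1 := by
    intro χ hχ
    have h1 : c χ ^ 2 ≤ ∑ χ ∈ s, c χ ^ 2 :=
      Finset.single_le_sum (f := fun χ => c χ ^ 2) (fun _ _ => sq_nonneg _) hχ
    have h2 : c χ ^ 2 ≤ 2 := by push_cast at hcc; linarith
    have h3 := hc0 χ hχ
    have h4 : c χ ≤ 1 := by nlinarith
    have h5 : -1 ≤ c χ := by nlinarith
    omega
  -- hence `c χ = -1` and the degree is `18`
  have hdeg : ∀ χ ∈ s, c χ * n χ = -18 * c χ ^ 2 := by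
    intro χ hχ
    have h1 : n χ ^ 2 < 5472 := by
      have h2 : n χ ^ 2 ≤ ∑ χ ∈ s, n χ ^ 2 :=
        Finset.single_le_sum (f := fun χ => n χ ^ 2) (fun _ _ => Nat.zero_le _) hχ
      rw [hG] at hsq
      omega
    have h2 := hn2 χ hχ
    have h3 := hndvd χ hχ
    have h4 := hnc χ hχ
    rw [hG] at h3
    have h5 : ∀ m ∈ Nat.divisors 5472, 2 ≤ m → m ^ 2 < 5472 → (m % 19 ≠ 1 ∧ (m % 19 = 18 → m = 18)) := by
      decide +kernel
    have h6 := h5 (n χ) (Nat.mem_divisors.mpr ⟨h3, by norm_num⟩) h2 h1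
    rcases hc1 χ hχ with h7 | h7
    · exfalso
      rw [h7] at h4
      apply h6.1
      unfold Int.ModEq at h4
      push_cast at h4
      omega
    · rw [h7] at h4 ⊢
      have h8 : n χ % 19 = 18 := by
        unfold Int.ModEq at h4
        push_cast at h4
        omega
      rw [h6.2 h8]
      norm_num
  rw [Finset.sum_congr rfl hdeg, ← Finset.mul_sum] at hrel
  have h1 : ∑ χ ∈ s, c χ ^ 2 = 2 := by push_cast at hcc; linarith
  rw [h1] at hrel
  have h2 : f = 35 := by
    rcases hd with hd | hd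
    · rw [hd] at hrel; omega
    · rw [hd] at hrel; omega
  rw [h2, hG] at hf
  revert hf
  norm_num

end Cfsg.Agent.S0979
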