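import Cfsg.Statements.S0980
import Cfsg.Agent.S0904
import Cfsg.Agent.SmallSimple.BurnsideNC
import Cfsg.Agent.SmallSimple.DihedralNormalizerSimple

set_option autoImplicit false
open Cfsg

namespace Cfsg.Agent.S0980

/-- No finite simple group has order 5760 = 2^7 * 3^2 * 5. -/
theorem result {G : Type*} [Group G] [Finite G] [IsSimpleGroup G] : Nat.card G ≠ 5760 := by
  intro hG
  have : Fact (Nat.Prime 5) := ⟨by norm_num⟩
  obtain ⟨P⟩ : Nonempty (Sylow 5 G) := inferInstance
  have hC : Subgroup.centralizer (P : Set G) = (P : Subgroup G) :=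
    Cfsg.Agent.S0904.result 2 3 5 7 2 Nat.prime_two Nat.prime_three (by norm_num) (by norm_num)
      (by norm_num) (by rw [hG]; norm_num) P
  have hfac : (5760 : ℕ).factorization 5 = 1 := by
    rw [show (5760 : ℕ) = 5 ^ 1 * 1152 by norm_num,
      Nat.factorization_mul (by norm_num) (by norm_num), Finsupp.add_apply,
      Nat.factorization_eq_zero_of_not_dvd (by norm_num : ¬ 5 ∣ 1152),
      Nat.Prime.factorization_pow (by norm_num)]
    simp
  have hP : Nat.card P = 5 := by
    rw [P.card_eq_multiplicity, hG, hfac, pow_one]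
  obtain ⟨e, he1, he2, -, he4, he5, -⟩ :=
    Cfsg.Agent.SmallSimple.BurnsideNC.exists_automizer_of_card_eq_prime (by rw [hG]; norm_num) P hP
  have hmod : Nat.card (Sylow 5 G) ≡ 1 [MOD 5] := card_sylow_modEq_one 5 G
  rw [hC] at he4
  have hP' : Nat.card (P : Subgroup G) = 5 := hP
  rw [hP'] at he4
  rw [he4, hG] at he5
  have he : e = 2 := by
    have h4 : e ≤ 4 := Nat.le_of_dvd (by norm_num) he1
    interval_cases e
    · omega
    · omega
    · rfl
    · omega
    · exfalso
      have : Nat.card (Sylow 5 G) = 288 := by omega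
      rw [this] at hmod
      exact absurd hmod (by decide)
  subst he
  have key := Cfsg.Agent.SmallSimple.DihedralNormalizerSimple.two_part_sq_lt 5 (by norm_num) P hP hC
    (by rw [he4])
  have hfac2 : (5760 : ℕ).factorization 2 = 7 := by
    rw [show (5760 : ℕ) = 2 ^ 7 * 45 by norm_num,
      Nat.factorization_mul (by norm_num) (by norm_num), Finsupp.add_apply,
      Nat.factorization_eq_zero_of_not_dvd (by norm_num : ¬ 2 ∣ 45),
      Nat.Prime.factorization_pow (by norm_num)]
    simp
  rw [hG, hfac2] at key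
  norm_num at key

end Cfsg.Agent.S0980
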