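import Cfsg.Statements.S0981
import Cfsg.Agent.SmallSimple.Order4080
import Cfsg.Agent.LieClassical.FieldTransfer
import Cfsg.Agent.S1230

set_option autoImplicit false
open Cfsg

namespace Cfsg.Agent.S0981

/-- A simple group of order 4080 is isomorphic to the projective special linear group of dimension 2 over the field with 16 elements. -/
theorem result {G : Type*} [Group G] [Finite G] [IsSimpleGroup G] (h : Nat.card G = 4080) {F : Type*} [Field F] [Fintype F] (hF : Fintype.card F = 16) : Nonempty (G ≃* Matrix.ProjectiveSpecialLinearGroup (Fin 2) F) := by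
  have f2 : Fact (Nat.Prime 2) := ⟨by norm_num⟩
  obtain ⟨T⟩ : Nonempty (Sylow 2 G) := inferInstance
  have hT : Nat.card (T : Subgroup G) = 16 :=
    Cfsg.Agent.SmallSimple.SylowPrimeInvol.card_sylow_of_card_eq T (k := 4) (m := 255)
      (by rw [h]; norm_num) (by norm_num)
  have hT2 : ∀ x : (T : Subgroup G), x ^ 2 = 1 := by
    intro x
    apply Subtype.ext
    apply (Cfsg.Agent.SmallSimple.Order4080.two_elements h).1
    have := Subgroup.orderOf_dvd_natCard (T : Subgroup G) x.2
    rw [hT] at this
    exact orderOf_dvd_iff_pow_eq_one.1 this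
  obtain ⟨K, _, _, hK, ⟨e⟩⟩ := Cfsg.Agent.S1230.result T (by
      intro hc
      obtain ⟨g, hg⟩ := hc.exists_generator
      have h1 : orderOf g = 16 := by
        rw [← hT]
        exact orderOf_eq_card_of_forall_mem_zpowers hg
      have h2 := orderOf_dvd_of_pow_eq_one (hT2 g)
      rw [h1] at h2
      norm_num at h2)
    (by
      intro hn
      rcases hn.eq_bot_or_eq_top with h1 | h1
      · rw [h1, Subgroup.card_bot] at hT
        norm_num at hT
      · rw [h1, Subgroup.card_top, h] at hT
        norm_num at hT)
    (fun t ht => Cfsg.Agent.SmallSimple.Order4080.centralizer_involution h t ht)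
  have hKF : Fintype.card K = Fintype.card F := by
    rw [hK, hF]
    exact hT
  exact ⟨e.trans (Cfsg.Agent.LieClassical.FieldTransfer.pslCongr
    (FiniteField.ringEquivOfCardEq hKF))⟩

end Cfsg.Agent.S0981
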