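import Cfsg.Statements.S0982
import Cfsg.Agent.SmallSimple.PrimeOrderData
import Cfsg.Agent.SmallSimple.PSL2Recog

set_option autoImplicit false
open Cfsg

namespace Cfsg.Agent.S0982

/-- A simple group of order 6072 is isomorphic to the projective special linear group of dimension 2 over the field with 23 elements. -/
theorem result {G : Type*} [Group G] [Finite G] [IsSimpleGroup G] (h : Nat.card G = 6072) {F : Type*} [Field F] [Fintype F] (hF : Fintype.card F = 23) : Nonempty (G ≃* Matrix.ProjectiveSpecialLinearGroup (Fin 2) F) := by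
  have f23 : Fact (Nat.Prime 23) := ⟨by norm_num⟩
  obtain ⟨h1, h2, h3, -⟩ := Cfsg.Agent.SmallSimple.PrimeOrderData.card_sylow_prop (G := G)
    (p := 23) (m := 264) (by rw [h]) (by norm_num) (by norm_num)
  have key : ∀ n ∈ Nat.divisors 264, n % 23 = 1 → n ≠ 1 → n = 24 := by decide +kernel
  have h4 := key _ (Nat.mem_divisors.2 ⟨h1, by norm_num⟩) h2 h3
  exact Cfsg.Agent.SmallSimple.PSL2Recog.psl2_of_simple_card (p := 23) (by norm_num)
    (by rw [h]) h4 hF

end Cfsg.Agent.S0982
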