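import Cfsg.Statements.S1009
import Mathlib

set_option autoImplicit false
open Cfsg

namespace Cfsg.Agent.S1009

/-- Brodkey's Theorem: if a finite group has abelian Sylow p-subgroups, then there are two Sylow p-subgroups whose intersection equals the intersection of all Sylow p-subgroups. -/
theorem result {G : Type*} [Group G] [Finite G] (p : ℕ) [Fact p.Prime] (hab : ∀ P : Sylow p G, IsMulCommutative ↥(P : Subgroup G)) : ∃ P Q : Sylow p G, (P : Subgroup G) ⊓ (Q : Subgroup G) = ⨅ R : Sylow p G, (R : Subgroup G) := by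
  classical
  obtain ⟨⟨P, Q⟩, hmin⟩ := Finite.exists_min
    (fun x : Sylow p G × Sylow p G => Nat.card (((x.1 : Subgroup G) ⊓ (x.2 : Subgroup G) : Subgroup G)))
  refine ⟨P, Q, le_antisymm (le_iInf fun R => ?_) (le_inf (iInf_le _ P) (iInf_le _ Q))⟩
  set D : Subgroup G := (P : Subgroup G) ⊓ (Q : Subgroup G) with hD
  set C : Subgroup G := Subgroup.centralizer (D : Set G) with hC
  have key : ∀ S : Sylow p G, D ≤ S → (S : Subgroup G) ≤ C := by
    intro S hDS x hx
    rw [hC, Subgroup.mem_centralizer_iff]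
    intro d hd
    have := hab S
    have h := this.is_comm.comm ⟨d, hDS hd⟩ ⟨x, hx⟩
    exact congrArg Subtype.val h
  have hPC := key P inf_le_left
  have hQC := key Q inf_le_right
  -- the Sylow subgroup of C containing R ⊓ C
  have hR : IsPGroup p ((R : Subgroup G).subgroupOf C) :=
    R.2.comap_of_injective C.subtype C.subtype_injective
  obtain ⟨T, hT⟩ := hR.exists_le_sylow
  obtain ⟨c, hc⟩ := MulAction.exists_smul_eq C (P.subtype hPC) T
  -- the conjugate of Q
  have hcD : ∀ d ∈ D, (c : G) * d * (c : G)⁻¹ = d := by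
    intro d hd
    have := Subgroup.mem_centralizer_iff.1 c.2 d hd
    rw [← this, mul_inv_cancel_right]
  have h1 : (R : Subgroup G) ⊓ ((((c : G) • Q : Sylow p G)) : Subgroup G) ≤ D := by
    intro x hx
    obtain ⟨hxR, hxQ⟩ := Subgroup.mem_inf.1 hx
    have hxQ' : (c : G)⁻¹ * x * (c : G) ∈ (Q : Subgroup G) := by
      rw [Sylow.coe_subgroup_smul, Subgroup.mem_pointwise_smul_iff_inv_smul_mem] at hxQ
      simpa using hxQ
    have hxC : x ∈ C := by
      have := C.mul_mem (C.mul_mem c.2 (hQC hxQ')) (C.inv_mem c.2)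
      simpa [mul_assoc] using this
    have hxT : (⟨x, hxC⟩ : C) ∈ T := hT (by simpa [Subgroup.mem_subgroupOf] using hxR)
    rw [← hc] at hxT
    have hxP' : (c : G)⁻¹ * x * (c : G) ∈ (P : Subgroup G) := by
      have h2 : (⟨x, hxC⟩ : C) ∈ ((c • (P.subtype hPC) : Sylow p C) : Subgroup C) := hxT
      rw [Sylow.coe_subgroup_smul, Subgroup.mem_pointwise_smul_iff_inv_smul_mem] at h2
      simpa [Subgroup.mem_subgroupOf] using h2
    have h3 := hcD _ (Subgroup.mem_inf.2 ⟨hxP', hxQ'⟩)
    have h4 : x = (c : G)⁻¹ * x * (c : G) := by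
      rw [← h3]; group
    rw [h4]
    exact Subgroup.mem_inf.2 ⟨hxP', hxQ'⟩
  have h5 := hmin (R, (c : G) • Q)
  have h6 : (R : Subgroup G) ⊓ ((((c : G) • Q : Sylow p G)) : Subgroup G) = D :=
    Subgroup.eq_of_le_of_card_ge h1 h5
  rw [← h6]
  exact inf_le_left

end Cfsg.Agent.S1009
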