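import Cfsg.Statements.S0983
import Cfsg.Agent.SmallSimple.SieveRange
import Cfsg.Agent.SmallSimple.OrdersA
import Cfsg.Agent.SmallSimple.Order3960
import Cfsg.Agent.SmallSimple.Order4200
import Cfsg.Agent.SmallSimple.Order4536
import Cfsg.Agent.SmallSimple.Order4680
import Cfsg.Agent.SmallSimple.Order4800
import Cfsg.Agent.SmallSimple.Order4928
import Cfsg.Agent.SmallSimple.Order4960
import Cfsg.Agent.SmallSimple.Order5148
import Cfsg.Agent.SmallSimple.Order5400
import Cfsg.Agent.SmallSimple.Order5460
import Cfsg.Agent.SmallSimple.Order5724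
import Cfsg.Agent.SmallSimple.Order5940
import Cfsg.Agent.S0144
import Cfsg.Agent.S0974
import Cfsg.Agent.S0975
import Cfsg.Agent.S0976
import Cfsg.Agent.S0977
import Cfsg.Agent.S0978
import Cfsg.Agent.S0979
import Cfsg.Agent.S0980

set_option autoImplicit false
open Cfsg

namespace Cfsg.Agent.S0983

/-- A non-abelian finite simple group of order greater than 3640 and at most 6232 has order 4080, 5616, 6048 or 6072. -/
theorem result {G : Type*} [Group G] [Finite G] [IsSimpleGroup G] (hG : ¬ IsMulCommutative G) (h1 : 3640 < Nat.card G) (h2 : Nat.card G ≤ 6232) : Nat.card G = 4080 ∨ Nat.card G = 5616 ∨ Nat.card G = 6048 ∨ Nat.card G = 6072 := by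
  have h5184 : Nat.card G ≠ 5184 := by
    intro h
    have hs : Group.IsSolvable G := Cfsg.Agent.S0144.result 2 3 6 4 Nat.prime_two Nat.prime_three
      (by rw [h]; norm_num)
    apply hG
    exact ⟨⟨IsSimpleGroup.comm_iff_isSolvable.mpr hs⟩⟩
  rcases Cfsg.Agent.SmallSimple.SieveRange.survivors hG h1 h2 with h | h
  · simp only [List.mem_cons, List.mem_nil_iff, or_false] at h
    rcases h with h | h | h | h | h | h | h | h | h | h | h | h | h | h | h
    · exact absurd h Cfsg.Agent.S0974.result
    · exact (Cfsg.Agent.SmallSimple.OrdersA.not_simple_3696 h).elim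
    · exact absurd h Cfsg.Agent.S0975.result
    · exact (Cfsg.Agent.SmallSimple.OrdersA.not_simple_3780 h).elim
    · exact (Cfsg.Agent.SmallSimple.Order3960.not_simple_3960 h).elim
    · exact absurd h Cfsg.Agent.S0976.result
    · exact Or.inl h
    · exact (Cfsg.Agent.SmallSimple.Order4200.not_simple_4200 h).elim
    · exact absurd h Cfsg.Agent.S0977.result
    · exact (Cfsg.Agent.SmallSimple.OrdersA.not_simple_4400 h).elim
    · exact (Cfsg.Agent.SmallSimple.Order4536.not_simple_4536 h).elim
    · exact (Cfsg.Agent.SmallSimple.OrdersA.not_simple_4620 h).elim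
    · exact (Cfsg.Agent.SmallSimple.Order4680.not_simple_4680 h).elim
    · exact (Cfsg.Agent.SmallSimple.Order4800.not_simple_4800 h).elim
    · exact (Cfsg.Agent.SmallSimple.Order4928.not_simple_4928 h).elim
  · simp only [List.mem_cons, List.mem_nil_iff, or_false] at h
    rcases h with h | h | h | h | h | h | h | h | h | h | h | h | h | h | h | h | h
    · exact (Cfsg.Agent.SmallSimple.Order4960.not_simple_4960 h).elim
    · exact absurd h Cfsg.Agent.S0978.result
    · exact (Cfsg.Agent.SmallSimple.OrdersA.not_simple_5104 h).elim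
    · exact (Cfsg.Agent.SmallSimple.Order5148.not_simple_5148 h).elim
    · exact absurd h h5184
    · exact (Cfsg.Agent.SmallSimple.OrdersA.not_simple_5376 h).elim
    · exact (Cfsg.Agent.SmallSimple.Order5400.not_simple_5400 h).elim
    · exact (Cfsg.Agent.SmallSimple.Order5460.not_simple_5460 h).elim
    · exact absurd h Cfsg.Agent.S0979.result
    · exact (Cfsg.Agent.SmallSimple.OrdersA.not_simple_5600 h).elim
    · exact Or.inr (Or.inl h)
    · exact (Cfsg.Agent.SmallSimple.Order5724.not_simple_5724 h).elim
    · exact absurd h Cfsg.Agent.S0980.result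
    · exact (Cfsg.Agent.SmallSimple.OrdersA.not_simple_5880 h).elim
    · exact (Cfsg.Agent.SmallSimple.Order5940.not_simple_5940 h).elim
    · exact Or.inr (Or.inr (Or.inl h))
    · exact Or.inr (Or.inr (Or.inr h))

end Cfsg.Agent.S0983
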