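import Cfsg.Statements.S0994
import Mathlib

set_option autoImplicit false
open Cfsg

namespace Cfsg.Agent.S0994

/-- No finite simple group has order 1188 = 2^2 * 3^3 * 11. -/
theorem result {G : Type*} [Group G] [Finite G] [IsSimpleGroup G] : Nat.card G ≠ 1188 := by
  intro hG
  haveI : Fact (Nat.Prime 11) := ⟨by norm_num⟩
  obtain ⟨P⟩ : Nonempty (Sylow 11 G) := inferInstance
  have hPcard : Nat.card P = 11 := by
    have h1 := P.card_eq_multiplicity
    rw [hG] at h1
    have h2 : (1188 : ℕ) = 11 ^ 1 * 108 := by norm_num
    have h3 : (1188 : ℕ).factorization 11 = 1 := by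
      rw [h2, Nat.factorization_mul (by norm_num) (by norm_num)]
      simp only [pow_one, Finsupp.coe_add, Pi.add_apply]
      rw [Nat.Prime.factorization_self (by norm_num),
        Nat.factorization_eq_zero_of_not_dvd (by norm_num)]
    rw [h3] at h1
    simpa using h1
  have hidx : (P : Subgroup G).index = 108 := by
    have h1 := (P : Subgroup G).card_mul_index
    rw [hPcard, hG] at h1
    omega
  have hPbot : (P : Subgroup G) ≠ ⊥ := by
    intro h
    have : Nat.card (P : Subgroup G) = 1 := by rw [h]; exact Subgroup.card_bot
    omega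
  have hPtop : (P : Subgroup G) ≠ ⊤ := by
    intro h
    have : (P : Subgroup G).index = 1 := by rw [h]; exact Subgroup.index_top
    omega
  have hnn : ¬ (P : Subgroup G).Normal := by
    intro h
    rcases h.eq_bot_or_eq_top with h | h
    · exact hPbot h
    · exact hPtop h
  -- index of the normalizer
  have hn : Nat.card (Sylow 11 G) = (Subgroup.normalizer ((P : Subgroup G) : Set G)).index :=
    P.card_eq_index_normalizer
  have hmod := card_sylow_modEq_one 11 G
  have hdvd := P.card_dvd_index
  rw [hidx] at hdvd
  have hne1 : Nat.card (Sylow 11 G) ≠ 1 := by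
    intro h
    rw [hn, Subgroup.index_eq_one] at h
    exact hnn (Subgroup.normalizer_eq_top_iff.mp h)
  have hn12 : Nat.card (Sylow 11 G) = 12 := by
    have hle : Nat.card (Sylow 11 G) ≤ 108 := Nat.le_of_dvd (by norm_num) hdvd
    generalize Nat.card (Sylow 11 G) = n at *
    clear hn
    unfold Nat.ModEq at hmod
    interval_cases n <;> omega
  have hN : Nat.card (Subgroup.normalizer ((P : Subgroup G) : Set G)) = 99 := by
    have h1 := (Subgroup.normalizer ((P : Subgroup G) : Set G)).card_mul_index
    rw [← hn, hn12, hG] at h1
    omega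
  have hcyc : IsCyclic (P : Subgroup G) := isCyclic_of_prime_card hPcard
  have hle : Subgroup.normalizer ((P : Subgroup G) : Set G) ≤ Subgroup.centralizer ((P : Subgroup G) : Set G) := by
    have key := Subgroup.card_dvd_of_injective _ (QuotientGroup.kerLift_injective (P : Subgroup G).normalizerMonoidHom)
    rw [Subgroup.normalizerMonoidHom_ker, ← Subgroup.index, ← Subgroup.relIndex, hcyc.card_mulAut] at key
    have h10 : Nat.totient (Nat.card (P : Subgroup G)) = 10 := by
      rw [hPcard]; decide
    rw [h10] at key
    have key2 : (Subgroup.centralizer ((P : Subgroup G) : Set G)).relIndex (Subgroup.normalizer ((P : Subgroup G) : Set G)) ∣ 99 := by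
      rw [← hN]; exact Subgroup.relIndex_dvd_card _ _
    refine Subgroup.relIndex_eq_one.mp ?_
    exact Nat.eq_one_of_dvd_coprimes (by norm_num) key key2
  have hcomp := MonoidHom.ker_transferSylow_isComplement' P hle
  rcases (MonoidHom.normal_ker (MonoidHom.transferSylow P hle)).eq_bot_or_eq_top with h | h
  · rw [h] at hcomp
    have := Subgroup.isComplement'_bot_left.mp hcomp
    exact hPtop this
  · rw [h] at hcomp
    have := Subgroup.isComplement'_top_left.mp hcomp
    exact hPbot this

end Cfsg.Agent.S0994
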