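import Cfsg.Statements.S0996
import Cfsg.Agent.SmallSimple.BrauerTypesFinal
import Cfsg.Agent.SmallSimple.TheoremBCor

set_option autoImplicit false
open Cfsg

namespace Cfsg.Agent.S0996

open Cfsg.Agent.SmallSimple.BrauerTypes Cfsg.Agent.SmallSimple.BrauerTypesBasic
  Cfsg.Agent.SmallSimple.BrauerTypesSetup Cfsg.Agent.SmallSimple.BrauerTypesFinal in
/-- Let G be a finite perfect group containing an element z of prime order p whose centralizer is the cyclic group it generates, and suppose the number 1 + n * p of Sylow p-subgroups satisfies n < (p + 3) / 2. Then p > 3 and G is isomorphic to the projective special linear group of dimension 2 over the field with p elements, or p - 1 is a power of 2 and G is isomorphic to that group over the field with p - 1 elements. -/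
theorem result {G : Type*} [Group G] [Finite G] (hperf : commutator G = ⊤) (p : ℕ) [Fact p.Prime] (z : G) (hz : orderOf z = p) (hC : Subgroup.centralizer ({z} : Set G) = Subgroup.zpowers z) (hn : 2 * Nat.card (Sylow p G) < (p + 1) * (p + 2)) : (∃ (F : Type) (_ : Field F) (_ : Fintype F), Fintype.card F = p ∧ 3 < p ∧ Nonempty (G ≃* Matrix.ProjectiveSpecialLinearGroup (Fin 2) F)) ∨ (∃ (m : ℕ) (F : Type) (_ : Field F) (_ : Fintype F), Fintype.card F = 2 ^ m ∧ p = 2 ^ m + 1 ∧ 3 < p ∧ Nonempty (G ≃* Matrix.ProjectiveSpecialLinearGroup (Fin 2) F)) := by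
  obtain ⟨P, n, e, t, -, hcP, hcent, he, hnS, hp2, H⟩ := setup hperf hz hC hn
  obtain ⟨NE, X, ε, d, S, h1, h2, h3, h4, h5, ⟨χ₁, h6, h6', h6''⟩, h7, h8, -, h9, h10⟩ :=
    Cfsg.Agent.SmallSimple.TheoremBCor.theoremB_selfCent p hp2 P hcP hcent e t he H.het
  have htriv : χ₁ = triv G := Subtype.ext h6'
  rw [htriv] at h6 h6''
  exact final hperf hz hC P hcP hcent hnS H
    { NE := NE, X := X, ε := ε, d := d, S := S, disj := h1, card_NE := h2, card_X := h3,
      ε_eq := h4, d_eq := h5, one_mem := ⟨h6, h6''⟩, val_NE := h7,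
      card_S := fun Θ hΘ => (h8 Θ hΘ).1
      one_notMem_S := fun Θ hΘ => (h8 Θ hΘ).2.1
      val_X := fun Θ hΘ => (h8 Θ hΘ).2.2
      rel := h9
      val_rest := fun χ hχ hχ' => (h10 χ hχ hχ').1 }

end Cfsg.Agent.S0996
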