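import Cfsg.Statements.S0999
import Cfsg.Agent.S0996
import Cfsg.Agent.Blocks.ExistsModular
import Cfsg.Agent.SmallSimple.TheoremB
import Cfsg.Agent.SmallSimple.LargePrime
import Cfsg.Agent.SmallSimple.EvenOrder

set_option autoImplicit false
open Cfsg

namespace Cfsg.Agent.S0999

open Cfsg.Agent.SmallSimple in
/-- Let G be a non-cyclic finite simple group and p a prime divisor of its order with p^3 > |G|. Then p > 3 and G is isomorphic to the projective special linear group of dimension 2 over the field with p elements, or p - 1 is a power of 2 and G is isomorphic to that group over the field with p - 1 elements. -/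
theorem result {G : Type*} [Group G] [Finite G] [IsSimpleGroup G] (hG : ¬ IsCyclic G) (p : ℕ) (hp : p.Prime) (hdvd : p ∣ Nat.card G) (hbig : Nat.card G < p ^ 3) : (∃ (F : Type) (_ : Field F) (_ : Fintype F), Fintype.card F = p ∧ 3 < p ∧ Nonempty (G ≃* Matrix.ProjectiveSpecialLinearGroup (Fin 2) F)) ∨ (∃ (m : ℕ) (F : Type) (_ : Field F) (_ : Fintype F), Fintype.card F = 2 ^ m ∧ p = 2 ^ m + 1 ∧ 3 < p ∧ Nonempty (G ≃* Matrix.ProjectiveSpecialLinearGroup (Fin 2) F)) := by
  have hpF : Fact p.Prime := ⟨hp⟩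
  have hG' : ¬ IsMulCommutative G := by
    intro h
    apply hG
    let _ : CommGroup G := { ‹Group G› with mul_comm := h.is_comm.comm }
    exact IsSimpleGroup.isCyclic
  have hsq := LargePrime.not_sq_dvd hG' hdvd hbig
  have hp2 : p ≠ 2 := by
    rintro rfl
    exact hsq (EvenOrder.four_dvd_card hG' hdvd)
  obtain ⟨P⟩ : Nonempty (Sylow p G) := inferInstance
  have hP : Nat.card P = p := PrimeLocal.card_of_not_sq_dvd hdvd hsq P
  obtain ⟨e, K, hloc⟩ := PrimeLocal.exists_local hG' hdvd hsq P
  obtain ⟨t, ht⟩ := hloc.dvd_pred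
  obtain ⟨M, hM⟩ := Blocks.ExistsModular.exists_isPModular hp
  obtain ⟨NE, X, ε, d, S, -, -, hNE, hX, hε, hd, h1, hval, hexc, -, hrel⟩ :=
    TheoremB.theoremB p hp2 M hM P hP e t (LargePrime.relIndex_eq hloc hp.pos) ht.symm
  have hK := LargePrime.card_K_eq_one hG' hP hloc hbig ht.symm hNE hX hε hd h1 hval hexc hrel
  obtain ⟨z, hz, hC, hn⟩ := LargePrime.exists_selfCent hP hloc hbig hK
  exact S0996.result (LargePrime.commutator_eq_top hG') p z hz hC hn

end Cfsg.Agent.S0999
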