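import Cfsg.Statements.S1007
import Cfsg.Agent.SmallSimple.Simple168Max

set_option autoImplicit false
open Cfsg

namespace Cfsg.Agent.S1007

/-- Let G be a simple group of order 168 and T a Sylow 2-subgroup. Then T contains exactly two subgroups that are Klein four-groups; they are not conjugate in G; and the normalizer of every Klein four-subgroup of G is isomorphic to the symmetric group of degree 4. -/
theorem result {G : Type*} [Group G] [Finite G] [IsSimpleGroup G] (h : Nat.card G = 168) (T : Sylow 2 G) : Nat.card {U : Subgroup G // U ≤ (T : Subgroup G) ∧ IsKleinFour ↥U} = 2 ∧ (∀ U W : Subgroup G, U ≤ (T : Subgroup G) → W ≤ (T : Subgroup G) → IsKleinFour ↥U → IsKleinFour ↥W → U ≠ W → ∀ g : G, U.map (MulAut.conj g).toMonoidHom ≠ W) ∧ ∀ U : Subgroup G, IsKleinFour ↥U → Nonempty (↥(Subgroup.normalizer (U : Set G)) ≃* Equiv.Perm (Fin 4)) := by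
  refine ⟨?_, ?_, ?_⟩
  · obtain ⟨U₁, U₂, hne, h1, h2, h3, h4, h5⟩ :=
      Cfsg.Agent.SmallSimple.Simple168Klein.exists_pair h T
    rw [Nat.card_eq_two_iff]
    refine ⟨⟨U₁, h1, h3⟩, ⟨U₂, h2, h4⟩, fun h0 => hne (congrArg Subtype.val h0), ?_⟩
    rw [Set.eq_univ_iff_forall]
    rintro ⟨U, hUT, hU⟩
    rcases h5 U hUT hU with h6 | h6
    · left
      exact Subtype.ext h6
    · right
      exact Subtype.ext h6
  · intro U W hUT hWT hU hW hUW g
    exact Cfsg.Agent.SmallSimple.Simple168Klein.not_conj h T hUT hWT hU hW hUW g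
  · intro U hU
    exact Cfsg.Agent.SmallSimple.Simple168Max.iso_perm_of_card h _
      (Cfsg.Agent.SmallSimple.Simple168Klein.card_normalizer h hU)

end Cfsg.Agent.S1007
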