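import Cfsg.Statements.S1013
import Mathlib

set_option autoImplicit false
open Cfsg

namespace Cfsg.Agent.S1013

open MulAction

/-- A nontrivial normal subgroup of a faithful transitive group of prime degree `p` has order divisible by `p`. -/
theorem dvd_card_normal {H α : Type*} [Group H] [MulAction H α] [FaithfulSMul H α] [Finite H]
    [MulAction.IsPretransitive H α] (p : ℕ) (hp : p.Prime) (hα : Nat.card α = p)
    (N : Subgroup H) [N.Normal] (hN : N ≠ ⊥) : p ∣ Nat.card N := by
  have : MulAction.IsPreprimitive H α := MulAction.IsPreprimitive.of_prime_card (hα ▸ hp)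
  have : Nonempty α := by
    rcases isEmpty_or_nonempty α with h | h
    · exfalso
      rw [Nat.card_of_isEmpty] at hα
      exact hp.pos.ne hα
    · exact h
  have hfix : fixedPoints N α ≠ Set.univ := by
    intro h
    apply hN
    rw [eq_bot_iff]
    intro n hn
    rw [Subgroup.mem_bot]
    apply FaithfulSMul.eq_of_smul_eq_smul (α := α)
    intro a
    have : a ∈ fixedPoints N α := h ▸ Set.mem_univ a
    rw [one_smul]
    exact this ⟨n, hn⟩
  have : MulAction.IsPretransitive N α :=
    MulAction.IsQuasiPreprimitive.isPretransitive_of_normal hfix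
  obtain ⟨a⟩ := ‹Nonempty α›
  have := MulAction.index_stabilizer_of_transitive N a
  rw [hα] at this
  rw [← this]
  exact Subgroup.index_dvd_card _

/-- Let G be a transitive permutation group of prime degree p having more than one Sylow p-subgroup, and suppose a Sylow p-subgroup P has prime index in its normalizer. Then G is simple. -/
theorem result {α : Type*} [Fintype α] [DecidableEq α] {p : ℕ} [Fact p.Prime] (hα : Fintype.card α = p) (G : Subgroup (Equiv.Perm α)) [MulAction.IsPretransitive ↥G α] (P : Sylow p ↥G) (hn : 1 < Nat.card (Sylow p ↥G)) (ht : (((P : Subgroup ↥G).subgroupOf (Subgroup.normalizer ((P : Subgroup ↥G) : Set ↥G))).index).Prime) : IsSimpleGroup ↥G := by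
  classical
  have hp : p.Prime := Fact.out
  have hα' : Nat.card α = p := by rw [Nat.card_eq_fintype_card, hα]
  -- p ^ 2 does not divide |G|
  have hGdvd : Nat.card G ∣ p.factorial := by
    have h1 := Subgroup.card_subgroup_dvd_card G
    rwa [Nat.card_perm, hα'] at h1
  have hp2 : ¬ (p ^ 2 ∣ Nat.card G) := by
    intro h
    have h2 : p ^ 2 ∣ p.factorial := h.trans hGdvd
    obtain ⟨k, hk⟩ : ∃ k, p = k + 1 := ⟨p - 1, (Nat.succ_pred_eq_of_pos hp.pos).symm⟩
    have h3 : p.factorial = p * k.factorial := by
      conv_lhs => rw [hk, Nat.factorial_succ, ← hk]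
    rw [h3, pow_two] at h2
    have h4 : p ∣ k.factorial := Nat.dvd_of_mul_dvd_mul_left hp.pos h2
    have h5 := (hp.dvd_factorial).1 h4
    omega
  -- the order of P
  obtain ⟨k, hk⟩ := P.2.exists_card_eq
  have hnontriv : Nontrivial G := by
    rcases subsingleton_or_nontrivial G with h | h
    · exfalso
      have : Subsingleton (Sylow p G) := by
        refine ⟨fun A B => ?_⟩
        apply Sylow.ext
        ext x
        have : x = 1 := Subsingleton.elim _ _
        rw [this]
        exact iff_of_true (one_mem _) (one_mem _)
      rw [Nat.card_unique] at hn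
      exact absurd hn (lt_irrefl _)
    · exact h
  -- if N is a nontrivial normal subgroup, it contains P
  have key : ∀ N : Subgroup G, N.Normal → N ≠ ⊥ → (P : Subgroup G) ≤ N := by
    intro N hN hNb
    have := hN
    have h1 := dvd_card_normal (H := G) (α := α) p hp hα' N hNb
    have h2 : ¬ p ∣ N.index := by
      intro h
      apply hp2
      rw [← Subgroup.card_mul_index N, pow_two]
      exact mul_dvd_mul h1 h
    intro g hg
    have h3 : g ^ N.index ∈ N := Subgroup.pow_index_mem N g
    have h4 : ∃ n : ℕ, orderOf g = p ^ n := by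
      obtain ⟨n, hn⟩ := P.2 ⟨g, hg⟩
      have : g ^ p ^ n = 1 := by
        have := congrArg Subtype.val hn
        simpa using this
      obtain ⟨m, _, hm⟩ := (Nat.dvd_prime_pow hp).1 (orderOf_dvd_of_pow_eq_one this)
      exact ⟨m, hm⟩
    obtain ⟨n, hn⟩ := h4
    have h5 : Nat.Coprime (orderOf g) N.index := by
      rw [hn]
      exact Nat.Coprime.pow_left _ ((Nat.Prime.coprime_iff_not_dvd hp).2 h2)
    have h6 : g ∈ Subgroup.zpowers (g ^ N.index) := by
      have := (powCoprime (G := Subgroup.zpowers g) (n := N.index)
        (by rw [Nat.card_zpowers]; exact h5)).surjective ⟨g, Subgroup.mem_zpowers g⟩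
      obtain ⟨⟨y, hy⟩, hy2⟩ := this
      have hy3 : y ^ N.index = g := by
        have := congrArg Subtype.val hy2
        simpa using this
      obtain ⟨j, rfl⟩ := Subgroup.mem_zpowers_iff.1 hy
      refine Subgroup.mem_zpowers_iff.2 ⟨j, ?_⟩
      calc (g ^ N.index) ^ j = (g ^ j) ^ N.index := by
            rw [← zpow_natCast, ← zpow_natCast, ← zpow_mul, ← zpow_mul, mul_comm]
        _ = g := hy3
    exact (Subgroup.zpowers_le.2 h3) h6
  have hPcard : Nat.card P = p := by
    have h1 : p ∣ Nat.card (P : Subgroup G) := by
      apply P.dvd_card_of_dvd_card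
      have := dvd_card_normal (H := G) (α := α) p hp hα' ⊤ (by
        intro h
        exact absurd h.symm bot_ne_top)
      rwa [Subgroup.card_top] at this
    have h2 : Nat.card P = p ^ k := hk
    have h3 : Nat.card P ∣ Nat.card G := Subgroup.card_subgroup_dvd_card _
    rcases k with _ | _ | k
    · rw [h2, pow_zero] at h1
      exact absurd (Nat.dvd_one.1 h1) hp.one_lt.ne'
    · rw [h2, zero_add, pow_one]
    · exfalso
      apply hp2
      refine dvd_trans ?_ h3
      rw [h2]
      exact pow_dvd_pow p (by omega)
  have hPcyc : IsCyclic P := isCyclic_of_prime_card hPcard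
  refine { hnontriv with eq_bot_or_eq_top_of_normal := ?_ }
  intro N hN
  by_cases hNb : N = ⊥
  · exact Or.inl hNb
  right
  have hPN : (P : Subgroup G) ≤ N := key N hN hNb
  have := hN
  have hfr : Subgroup.normalizer ((P : Subgroup G) : Set G) ⊔ N = ⊤ :=
    Sylow.normalizer_sup_eq_top' P hPN
  have hindex : (P : Subgroup G).relIndex (Subgroup.normalizer ((P : Subgroup G) : Set G)) = 
      (P : Subgroup G).relIndex (N ⊓ Subgroup.normalizer ((P : Subgroup G) : Set G)) * 
      (N ⊓ Subgroup.normalizer ((P : Subgroup G) : Set G)).relIndex (Subgroup.normalizer ((P : Subgroup G) : Set G)) := by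
    rw [Subgroup.relIndex_mul_relIndex]
    · exact le_inf hPN Subgroup.le_normalizer
    · exact inf_le_right
  have hdvd : (P : Subgroup G).relIndex (N ⊓ Subgroup.normalizer ((P : Subgroup G) : Set G)) ∣ 
      ((P : Subgroup G).subgroupOf (Subgroup.normalizer ((P : Subgroup G) : Set G))).index := by
    change _ ∣ (P : Subgroup G).relIndex (Subgroup.normalizer ((P : Subgroup G) : Set G))
    rw [hindex]
    exact dvd_mul_right _ _
  rcases (Nat.dvd_prime ht).1 hdvd with h1 | h1
  · -- N ⊓ N(P) ≤ P
    exfalso
    have hle : N ⊓ Subgroup.normalizer ((P : Subgroup G) : Set G) ≤ P := Subgroup.relIndex_eq_one.1 h1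
    let P' : Sylow p N := P.subtype hPN
    have hcomm : ∀ a ∈ (P : Subgroup G), ∀ b ∈ (P : Subgroup G), a * b = b * a := by
      intro a ha b hb
      have := hPcyc.isMulCommutative.is_comm.comm (⟨a, ha⟩ : P) ⟨b, hb⟩
      simpa using congrArg Subtype.val this
    have hP' : Subgroup.normalizer ((P' : Subgroup N) : Set N) ≤ Subgroup.centralizer (P' : Set N) := by
      intro x hx
      have hxP : (x : G) ∈ (P : Subgroup G) := by
        apply hle
        refine ⟨x.2, ?_⟩
        change (x : G) ∈ Subgroup.normalizer ((P : Subgroup G) : Set G)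
        rw [Subgroup.mem_normalizer_iff] at hx ⊢
        intro h
        constructor
        · intro hh
          have := (hx ⟨h, hPN hh⟩).1 (by
            change (⟨h, hPN hh⟩ : N) ∈ P.subgroupOf N
            rw [Subgroup.mem_subgroupOf]
            exact hh)
          change (x * (⟨h, hPN hh⟩ : N) * x⁻¹ : N) ∈ P.subgroupOf N at this
          rw [Subgroup.mem_subgroupOf] at this
          simpa using this
        · intro hh
          have hhN : h ∈ N := by
            have := hN.conj_mem _ (hPN hh) (x : G)⁻¹
            simpa [mul_assoc] using this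
          have := (hx ⟨h, hhN⟩).2 (by
            change (x * (⟨h, hhN⟩ : N) * x⁻¹ : N) ∈ P.subgroupOf N
            rw [Subgroup.mem_subgroupOf]
            simpa using hh)
          change (⟨h, hhN⟩ : N) ∈ P.subgroupOf N at this
          rw [Subgroup.mem_subgroupOf] at this
          exact this
      rw [Subgroup.mem_centralizer_iff]
      intro y hy
      have hyP : (y : G) ∈ (P : Subgroup G) := by
        change y ∈ P.subgroupOf N at hy
        rwa [Subgroup.mem_subgroupOf] at hy
      apply Subtype.ext
      simpa using hcomm _ hyP _ hxP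
    let K := (MonoidHom.transferSylow P' hP').ker
    have hK1 : ¬ p ∣ Nat.card K := MonoidHom.not_dvd_card_ker_transferSylow P' hP'
    have hK2 : Subgroup.IsComplement' K P' := MonoidHom.ker_transferSylow_isComplement' P' hP'
    -- N is transitive
    have : MulAction.IsPreprimitive G α := MulAction.IsPreprimitive.of_prime_card (hα' ▸ hp)
    have hfix : fixedPoints N α ≠ Set.univ := by
      intro h
      apply hNb
      rw [eq_bot_iff]
      intro n hn
      rw [Subgroup.mem_bot]
      apply FaithfulSMul.eq_of_smul_eq_smul (α := α)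
      intro a
      have : a ∈ fixedPoints N α := h ▸ Set.mem_univ a
      rw [one_smul]
      exact this ⟨n, hn⟩
    have : MulAction.IsPretransitive N α :=
      MulAction.IsQuasiPreprimitive.isPretransitive_of_normal hfix
    have : FaithfulSMul N α := by
      refine ⟨fun {a b} h => ?_⟩
      apply Subtype.ext
      apply FaithfulSMul.eq_of_smul_eq_smul (α := α)
      intro x
      exact h x
    have hK3 : K = ⊥ := by
      by_contra hK
      exact hK1 (dvd_card_normal (H := N) (α := α) p hp hα' K hK)
    rw [hK3] at hK2
    have hP'top : (P' : Subgroup N) = ⊤ := Subgroup.isComplement'_bot_left.1 hK2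
    have hPeq : (P : Subgroup G) = N := by
      apply le_antisymm hPN
      intro x hx
      have : (⟨x, hx⟩ : N) ∈ (P' : Subgroup N) := hP'top ▸ Subgroup.mem_top _
      change (⟨x, hx⟩ : N) ∈ P.subgroupOf N at this
      rwa [Subgroup.mem_subgroupOf] at this
    have : (P : Subgroup G).Normal := by rw [hPeq]; exact hN
    have := Sylow.unique_of_normal P this
    rw [Nat.card_unique] at hn
    exact absurd hn (lt_irrefl _)
  · -- N(P) ≤ N
    have h2 : (N ⊓ Subgroup.normalizer ((P : Subgroup G) : Set G)).relIndex (Subgroup.normalizer ((P : Subgroup G) : Set G)) = 1 := by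
      have h3 : (P : Subgroup G).relIndex (Subgroup.normalizer ((P : Subgroup G) : Set G)) ≠ 0 := ht.ne_zero
      have h4 : (P : Subgroup G).relIndex (N ⊓ Subgroup.normalizer ((P : Subgroup G) : Set G)) = 
        (P : Subgroup G).relIndex (Subgroup.normalizer ((P : Subgroup G) : Set G)) := h1
      rw [h4] at hindex
      exact (Nat.eq_of_mul_eq_mul_left (Nat.pos_of_ne_zero h3) (by rw [mul_one]; exact hindex)).symm
    have h5 := Subgroup.relIndex_eq_one.1 h2
    rw [eq_top_iff, ← hfr]
    exact sup_le (h5.trans inf_le_left) le_rfl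

end Cfsg.Agent.S1013
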