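import Cfsg.Statements.S1039
-- import your own Cfsg.Agent.* helpers here
import Cfsg.Agent.ChevalleyStructure.NPerm
import Cfsg.Agent.ChevalleyStructure.WeylReflect

set_option autoImplicit false
open Cfsg

namespace Cfsg.Agent.S1039

open Cfsg.Lie Cfsg.Agent.ChevalleyStructure.Elts Cfsg.Agent.ChevalleyStructure.NPerm
  Cfsg.Agent.ChevalleyStructure.WeylReflect

universe u

theorem inList_of_mem {p : Cfsg.Lie.ChevalleyDatum × (Σ n : ℕ, CoxeterMatrix (Fin n))}
    (hp : p ∈ [(Cfsg.Lie.chevG2, ⟨2, CoxeterMatrix.G₂⟩), (Cfsg.Lie.chevB2, ⟨2, CoxeterMatrix.B 2⟩), (Cfsg.Lie.chevD4, ⟨4, Cfsg.Lie.coxeterD4⟩), (Cfsg.Lie.chevF4, ⟨4, CoxeterMatrix.F₄⟩),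
      (Cfsg.Lie.chevE6, ⟨6, CoxeterMatrix.E₆⟩), (Cfsg.Lie.chevE7, ⟨7, CoxeterMatrix.E₇⟩), (Cfsg.Lie.chevE8, ⟨8, CoxeterMatrix.E₈⟩)]) :
    InList p.1 ∧ p.2.1 = p.1.rank := by
  simp only [List.mem_cons, List.not_mem_nil, or_false] at hp
  rcases hp with rfl | rfl | rfl | rfl | rfl | rfl | rfl <;>
    exact ⟨by simp only [InList, List.mem_cons, true_or, or_true], rfl⟩

/-- Gluing: a faithful action of the presented Coxeter group on the roots gives the homomorphism. -/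
theorem glue {F : Type u} [Field F] {D : ChevalleyDatum} (hD : InList D) {n : ℕ} {M : CoxeterMatrix (Fin n)}
    (hn : n = D.rank) (ψ : M.Group →* Equiv.Perm (Fin D.nroots)) (hψ : Function.Injective ψ)
    (hs : ∀ (i : Fin n) (x : Fin D.nroots), ((ψ (M.simple i) x : Fin D.nroots) : ℕ) = D.reflectRoot i x) :
    ∃ φ : ↥(D.monomialSubgroup F) →* M.Group, Function.Surjective φ ∧
      φ.ker = (D.diagonalSubgroup F).subgroupOf (D.monomialSubgroup F) ∧
      ∀ (i : Fin n) (g : ↥(D.monomialSubgroup F)),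
        ((g : GL D.Idx F) : Matrix D.Idx D.Idx F) = D.nMat F (D.simple i) 1 → φ g = M.simple i := by
  -- the images of the fundamental elements
  have himg : ∀ (i : Fin n) (g : ↥(D.monomialSubgroup F)),
      ((g : GL D.Idx F) : Matrix D.Idx D.Idx F) = D.nMat F (D.simple i) 1 → permHom hD F g = ψ (M.simple i) := by
    intro i g hg
    apply Equiv.ext
    intro x
    apply Fin.ext
    rw [hs, permHom_nG hD (hn ▸ i.2) g hg]
  have hrange : (permHom hD F).range = ψ.range := by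
    apply le_antisymm
    · rw [range_permHom hD F, Subgroup.closure_le]
      rintro _ ⟨i, rfl⟩
      have hi : (i : ℕ) < n := hn ▸ i.2
      exact ⟨M.simple ⟨i, hi⟩, (himg ⟨i, hi⟩ _ (coe_nG hD _ _)).symm⟩
    · rintro _ ⟨w, rfl⟩
      induction w using M.toCoxeterSystem.simple_induction with
      | simple i =>
        rw [CoxeterMatrix.toCoxeterSystem_simple]
        have hi : (i : ℕ) < D.rank := hn ▸ i.2
        exact ⟨⟨nG hD (D.simple i) 1, nG_simple_mem hD F hi⟩, himg i _ (coe_nG hD _ _)⟩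
      | one => rw [map_one]; exact Subgroup.one_mem _
      | mul a b ha hb => rw [map_mul]; exact Subgroup.mul_mem _ ha hb
  let e : M.Group ≃* ψ.range := MonoidHom.ofInjective hψ
  let π' : ↥(D.monomialSubgroup F) →* ψ.range :=
    (permHom hD F).codRestrict ψ.range (fun g => hrange ▸ ⟨g, rfl⟩)
  have hφ : ∀ (g : ↥(D.monomialSubgroup F)) (w : M.Group), permHom hD F g = ψ w →
      e.symm (π' g) = w := by
    intro g w h
    rw [MulEquiv.symm_apply_eq]
    exact Subtype.ext h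
  refine ⟨e.symm.toMonoidHom.comp π', ?_, ?_, ?_⟩
  · intro w
    have hw : ψ w ∈ (permHom hD F).range := hrange ▸ ⟨w, rfl⟩
    obtain ⟨g, hg⟩ := hw
    exact ⟨g, hφ g w hg⟩
  · rw [← ker_permHom hD F]
    ext g
    rw [MonoidHom.mem_ker, MonoidHom.mem_ker]
    constructor
    · intro h
      have h1 : e.symm (π' g) = 1 := h
      rw [MulEquiv.symm_apply_eq, map_one] at h1
      exact congrArg Subtype.val h1
    · intro h
      exact hφ g 1 (by rw [h, map_one])
  · intro i g hg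
    exact hφ g _ (himg i g hg)

/-- `N/H ≅ W`: there is a surjective homomorphism from `N` onto the Coxeter group of the type (Mathlib's Coxeter matrix G₂, B₂, F₄, E₆, E₇, E₈, nodes numbered as the fundamental roots) with kernel `H`, mapping each `n_{p_i}` to the `i`-th simple reflection. -/
theorem result {F : Type*} [Field F]
    (p : Cfsg.Lie.ChevalleyDatum × (Σ n : ℕ, CoxeterMatrix (Fin n)))
    (hp : p ∈ [(Cfsg.Lie.chevG2, ⟨2, CoxeterMatrix.G₂⟩), (Cfsg.Lie.chevB2, ⟨2, CoxeterMatrix.B 2⟩), (Cfsg.Lie.chevD4, ⟨4, Cfsg.Lie.coxeterD4⟩), (Cfsg.Lie.chevF4, ⟨4, CoxeterMatrix.F₄⟩),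
      (Cfsg.Lie.chevE6, ⟨6, CoxeterMatrix.E₆⟩), (Cfsg.Lie.chevE7, ⟨7, CoxeterMatrix.E₇⟩), (Cfsg.Lie.chevE8, ⟨8, CoxeterMatrix.E₈⟩)]) :
    ∃ φ : ↥(p.1.monomialSubgroup F) →* p.2.2.Group, Function.Surjective φ ∧
      φ.ker = (p.1.diagonalSubgroup F).subgroupOf (p.1.monomialSubgroup F) ∧
      ∀ (i : Fin p.2.1) (g : ↥(p.1.monomialSubgroup F)),
        ((g : GL p.1.Idx F) : Matrix p.1.Idx p.1.Idx F) = p.1.nMat F (p.1.simple i) 1 → φ g = p.2.2.simple i := by
  obtain ⟨hD, hn⟩ := inList_of_mem hp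
  obtain ⟨ψ, hψ, hs⟩ := (hasAction p hp).fin
  exact glue hD hn ψ hψ hs

end Cfsg.Agent.S1039
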