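import Cfsg.Statements.S1046
import Cfsg.Agent.S1032
import Cfsg.Agent.S1034
import Cfsg.Agent.S1036
import Cfsg.Agent.S1038
import Cfsg.Agent.S1100

set_option autoImplicit false
open Cfsg

namespace Cfsg.Agent.S1046

open Cfsg.Lie
open scoped Pointwise

/-- Conjugation of a root element by a product of simple torus elements is a root element of the same root. -/
theorem torus_word_conj {F : Type*} [Field F] (D : Cfsg.Lie.ChevalleyDatum) (hD : D ∈ [Cfsg.Lie.chevG2, Cfsg.Lie.chevB2, Cfsg.Lie.chevD4, Cfsg.Lie.chevF4, Cfsg.Lie.chevE6, Cfsg.Lie.chevE7, Cfsg.Lie.chevE8])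
    (c : ℕ → F) (hc : ∀ i < D.rank, c i ≠ 0) (s : ℕ) (hs : s < D.nroots) (l : List ℕ) (hl : ∀ i ∈ l, i < D.rank) (t : F) :
    ∃ t' : F, D.wordMat F (l.flatMap fun i => D.hWord (D.simple i) (c i)) * D.x F s t
      = D.x F s t' * D.wordMat F (l.flatMap fun i => D.hWord (D.simple i) (c i)) := by
  induction l generalizing t with
  | nil => exact ⟨t, by simp [ChevalleyDatum.wordMat]⟩
  | cons i l ih =>
    obtain ⟨t1, h1⟩ := ih (fun j hj => hl j (List.mem_cons_of_mem _ hj)) t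
    have hi : i < D.rank := hl i (List.mem_cons_self ..)
    have h2 := Cfsg.Agent.S1032.result D hD i s hi hs (c i) (hc i hi) t1
    refine ⟨c i ^ (D.cartan i s) * t1, ?_⟩
    have hsplit : D.wordMat F ((i :: l).flatMap fun i => D.hWord (D.simple i) (c i))
        = D.hMat F (D.simple i) (c i) * D.wordMat F (l.flatMap fun i => D.hWord (D.simple i) (c i)) := by
      simp only [List.flatMap_cons]
      unfold ChevalleyDatum.wordMat ChevalleyDatum.hMat ChevalleyDatum.wordMat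
      rw [List.map_append, List.prod_append]
    rw [hsplit, Matrix.mul_assoc, h1, ← Matrix.mul_assoc, h2, Matrix.mul_assoc]

/-- The diagonal subgroup normalises every root subgroup (on generators). -/
theorem torus_conj {F : Type*} [Field F] (D : Cfsg.Lie.ChevalleyDatum) (hD : D ∈ [Cfsg.Lie.chevG2, Cfsg.Lie.chevB2, Cfsg.Lie.chevD4, Cfsg.Lie.chevF4, Cfsg.Lie.chevE6, Cfsg.Lie.chevE7, Cfsg.Lie.chevE8])
    (h x : GL D.Idx F) (hh : h ∈ D.diagonalSubgroup F) (s : ℕ) (hs : s < D.nroots) (t : F)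
    (hx : (x : Matrix D.Idx D.Idx F) = D.x F s t) :
    ∃ t' : F, ((h * x * h⁻¹ : GL D.Idx F) : Matrix D.Idx D.Idx F) = D.x F s t' := by
  obtain ⟨c, hc, hw⟩ := Cfsg.Agent.S1034.result D hD h hh
  obtain ⟨t', ht'⟩ := torus_word_conj D hD c hc s hs (List.range D.rank)
    (fun i hi => List.mem_range.mp hi) t
  refine ⟨t', ?_⟩
  rw [← hw, ← hx] at ht'
  rw [Units.val_mul, Units.val_mul, ht', Matrix.mul_assoc, ← Units.val_mul, mul_inv_cancel,
    Units.val_one, Matrix.mul_one]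

/-- Conjugation by an element of `H` maps a closure of root elements, selected by root, to itself. -/
theorem torus_conj_closure {F : Type*} [Field F] (D : Cfsg.Lie.ChevalleyDatum) (hD : D ∈ [Cfsg.Lie.chevG2, Cfsg.Lie.chevB2, Cfsg.Lie.chevD4, Cfsg.Lie.chevF4, Cfsg.Lie.chevE6, Cfsg.Lie.chevE7, Cfsg.Lie.chevE8])
    (P : ℕ → Prop) (hP : ∀ r, P r → r < D.nroots) (h : GL D.Idx F) (hh : h ∈ D.diagonalSubgroup F) (u : GL D.Idx F)
    (hu : u ∈ Subgroup.closure {x : GL D.Idx F | ∃ (r : ℕ) (t : F), P r ∧ (x : Matrix D.Idx D.Idx F) = D.x F r t}) :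
    h * u * h⁻¹ ∈ Subgroup.closure {x : GL D.Idx F | ∃ (r : ℕ) (t : F), P r ∧ (x : Matrix D.Idx D.Idx F) = D.x F r t} := by
  have key : (Subgroup.closure {x : GL D.Idx F | ∃ (r : ℕ) (t : F), P r ∧ (x : Matrix D.Idx D.Idx F) = D.x F r t})
      ≤ (Subgroup.closure {x : GL D.Idx F | ∃ (r : ℕ) (t : F), P r ∧ (x : Matrix D.Idx D.Idx F) = D.x F r t}).comap
        (MulAut.conj h).toMonoidHom := by
    rw [Subgroup.closure_le]
    rintro x ⟨r, t, hr, hx⟩
    obtain ⟨t', ht'⟩ := torus_conj D hD h x hh r (hP r hr) t hx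
    exact Subgroup.subset_closure ⟨r, t', hr, ht'⟩
  exact key hu

/-- Two elements of `H` conjugate in the Chevalley group are conjugate by an element of `N`. -/
theorem result {F : Type*} [Field F] (D : Cfsg.Lie.ChevalleyDatum) (hD : D ∈ [Cfsg.Lie.chevG2, Cfsg.Lie.chevB2, Cfsg.Lie.chevD4, Cfsg.Lie.chevF4, Cfsg.Lie.chevE6, Cfsg.Lie.chevE7, Cfsg.Lie.chevE8]) (h₁ h₂ g : GL D.Idx F) (h1 : h₁ ∈ D.diagonalSubgroup F) (h2 : h₂ ∈ D.diagonalSubgroup F)
    (hg : g ∈ D.group F) (hc : g * h₁ * g⁻¹ = h₂) :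
    ∃ n ∈ D.monomialSubgroup F, n * h₁ * n⁻¹ = h₂ := by
  obtain ⟨hex, huniq⟩ := Cfsg.Agent.S1100.result (F := F) D hD
  obtain ⟨b, hb, n, hn, u, hu, rfl⟩ := hex g hg
  obtain ⟨hHU, hUH⟩ := Cfsg.Agent.S1036.result (F := F) D hD
  have hHN := Cfsg.Agent.S1038.result (F := F) D hD
  have hHleN : D.diagonalSubgroup F ≤ D.monomialSubgroup F := le_sup_left
  have hHleB : D.diagonalSubgroup F ≤ D.borelSubgroup F := le_sup_right
  -- `n h₁ n⁻¹ ∈ H`
  have h3 : n * h₁ * n⁻¹ ∈ D.diagonalSubgroup F := by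
    have := hHN.conj_mem ⟨h₁, hHleN h1⟩ (by simpa [Subgroup.mem_subgroupOf] using h1) ⟨n, hn⟩
    simpa [Subgroup.mem_subgroupOf] using this
  -- `h₁⁻¹ u h₁` is in the same closure
  have hu' : h₁⁻¹ * u * h₁ ∈ Subgroup.closure {x : GL D.Idx F | ∃ (r : ℕ) (t : F), D.IsPosRoot r ∧
            (D.rootSubgroup F r).map (MulAut.conj n).toMonoidHom ≤ D.negUnipotent F ∧ (x : Matrix D.Idx D.Idx F) = D.x F r t} := by
    have := torus_conj_closure D hD
      (fun r => D.IsPosRoot r ∧ (D.rootSubgroup F r).map (MulAut.conj n).toMonoidHom ≤ D.negUnipotent F)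
      (fun r hr => hr.1.1) h₁⁻¹ (inv_mem h1) u (by simpa only [and_assoc] using hu)
    rw [inv_inv] at this
    simpa only [and_assoc] using this
  have hb' : b * (n * h₁ * n⁻¹) ∈ D.borelSubgroup F := mul_mem hb (hHleB h3)
  have hb'' : h₂ * b ∈ D.borelSubgroup F := mul_mem (hHleB h2) hb
  have heq : b * (n * h₁ * n⁻¹) * n * (h₁⁻¹ * u * h₁) = (h₂ * b) * n * u := by
    rw [← hc]; group
  obtain ⟨-, hcons⟩ := huniq _ _ n n _ _ hb' hb'' hn hn hu' hu heq
  obtain ⟨hbb, -⟩ := hcons rfl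
  -- write `b = v h`
  have hbmem : b ∈ D.posUnipotent F ⊔ D.diagonalSubgroup F := hb
  have hsup : ((D.posUnipotent F ⊔ D.diagonalSubgroup F : Subgroup (GL D.Idx F)) : Set (GL D.Idx F))
      = (D.posUnipotent F : Set (GL D.Idx F)) * (D.diagonalSubgroup F : Set (GL D.Idx F)) :=
    Subgroup.coe_mul_of_right_le_normalizer_left _ _ hHU
  have hbmem' : b ∈ (D.posUnipotent F : Set (GL D.Idx F)) * (D.diagonalSubgroup F : Set (GL D.Idx F)) := by
    rw [← hsup]; exact hbmem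
  obtain ⟨v, hv, h, hh, rfl⟩ := Set.mem_mul.mp hbmem'
  refine ⟨h * n, mul_mem (hHleN hh) hn, ?_⟩
  have hv2 : h₂ * v * h₂⁻¹ ∈ D.posUnipotent F := by
    have := hHU h2
    exact (Subgroup.mem_normalizer_iff.mp this v).mp hv
  have e1 : h * (n * h₁ * n⁻¹) * h⁻¹ * h₂⁻¹ = v⁻¹ * (h₂ * v * h₂⁻¹) := by
    have : (n * h₁ * n⁻¹) = (v * h)⁻¹ * (h₂ * (v * h)) := by rw [← hbb]; group
    rw [this]; group
  have hU : h * (n * h₁ * n⁻¹) * h⁻¹ * h₂⁻¹ ∈ D.posUnipotent F := by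
    rw [e1]; exact mul_mem (inv_mem hv) hv2
  have hH : h * (n * h₁ * n⁻¹) * h⁻¹ * h₂⁻¹ ∈ D.diagonalSubgroup F :=
    mul_mem (mul_mem (mul_mem hh h3) (inv_mem hh)) (inv_mem h2)
  have hone : h * (n * h₁ * n⁻¹) * h⁻¹ * h₂⁻¹ = 1 := by
    have : h * (n * h₁ * n⁻¹) * h⁻¹ * h₂⁻¹ ∈ D.posUnipotent F ⊓ D.diagonalSubgroup F := ⟨hU, hH⟩
    rw [hUH] at this
    exact Subgroup.mem_bot.mp this
  have : h * (n * h₁ * n⁻¹) * h⁻¹ = h₂ := mul_inv_eq_one.mp hone
  rw [← this]; group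

end Cfsg.Agent.S1046
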