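import Cfsg.Statements.S1049
-- import your own Cfsg.Agent.* helpers here
import Cfsg.Agent.S0311
import Cfsg.Agent.S1023
import Cfsg.Agent.S1024
import Cfsg.Agent.S1031
import Cfsg.Agent.S1037
import Cfsg.Agent.S1042
import Cfsg.Agent.S1043
import Cfsg.Agent.S1048

set_option autoImplicit false
open Cfsg

namespace Cfsg.Agent.S1049

open Cfsg.Lie

/-- The list of data. -/
def data : List ChevalleyDatum := [chevG2, chevB2, chevD4, chevF4, chevE6, chevE7, chevE8]

/-- The table facts about fundamental roots used below. -/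
theorem table : ∀ D ∈ data, ∀ i < D.rank, D.simple i < D.nroots ∧ D.neg (D.simple i) < D.nroots ∧
    D.IsPosRoot (D.simple i) ∧ D.IsNegRoot (D.neg (D.simple i)) ∧ (D.coroot.getD (D.simple i) #[]).getD i 0 ≠ 0 := by
  intro D hD
  simp only [data, List.mem_cons, List.not_mem_nil, or_false] at hD
  rcases hD with rfl | rfl | rfl | rfl | rfl | rfl | rfl <;> decide +kernel

/-- `N_G(U_J) = P_J`: the normaliser of `U_J` inside the Chevalley group is the standard parabolic subgroup. -/
theorem result {F : Type*} [Field F] (D : Cfsg.Lie.ChevalleyDatum) (hD : D ∈ [Cfsg.Lie.chevG2, Cfsg.Lie.chevB2, Cfsg.Lie.chevD4, Cfsg.Lie.chevF4, Cfsg.Lie.chevE6, Cfsg.Lie.chevE7, Cfsg.Lie.chevE8]) (J : Set ℕ) (hJ : ∀ j ∈ J, j < D.rank) :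
    Subgroup.normalizer (D.unipotentRadical F J : Set (GL D.Idx F)) ⊓ D.group F = D.parabolicSubgroup F J := by
  have hT := table D hD
  obtain ⟨hBG, hNG, -⟩ := S1043.result (F := F) D hD
  obtain ⟨hPN, -, -⟩ := S1048.result (F := F) D hD J
  obtain ⟨hBV, -⟩ := S1037.result (F := F) D hD
  -- `P_J ≤ G`
  have hPG : D.parabolicSubgroup F J ≤ D.group F := by
    refine sup_le hBG (Subgroup.closure_le _ |>.2 ?_)
    rintro g ⟨j, -, hj, hg⟩
    refine hNG (Subgroup.mem_sup_right (Subgroup.subset_closure ⟨D.simple j, (hT j hj).1, hg⟩))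
  apply le_antisymm _ (le_inf hPN hPG)
  obtain ⟨P, hPB, -, hPS⟩ := S1042.result (F := F) D hD
  set Q : Subgroup (GL D.Idx F) := Subgroup.normalizer (D.unipotentRadical F J : Set (GL D.Idx F)) ⊓ D.group F with hQ
  have hBQ : D.borelSubgroup F ≤ Q := le_inf (le_trans le_sup_left hPN) hBG
  obtain ⟨K, hKS, hK⟩ := S0311.result P (Q.subgroupOf (D.group F)) (by
    rw [hPB]
    intro g hg
    rw [Subgroup.mem_subgroupOf] at hg ⊢
    exact hBQ hg)
  have key : Q.subgroupOf (D.group F) ≤ (D.parabolicSubgroup F J).subgroupOf (D.group F) := by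
    rw [hK]
    refine sup_le ?_ (Subgroup.closure_le _ |>.2 ?_)
    · rw [hPB]
      intro g hg
      rw [Subgroup.mem_subgroupOf] at hg ⊢
      exact le_sup_left (a := D.borelSubgroup F) hg
    · intro k hk
      have hkS := hKS hk
      rw [hPS] at hkS
      obtain ⟨i, hi, hki⟩ := hkS
      have hkQ : k ∈ Q.subgroupOf (D.group F) := by
        rw [hK]
        exact Subgroup.mem_sup_right (Subgroup.subset_closure hk)
      rw [Subgroup.mem_subgroupOf] at hkQ
      have hkN := hkQ.1
      obtain ⟨h1, h2, h3, h4, h5⟩ := hT i hi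
      by_cases hiJ : i ∈ J
      · exact Subgroup.mem_sup_right (Subgroup.subset_closure ⟨i, hiJ, hi, hki⟩)
      · exfalso
        -- the root element `x_p(1)`
        have hinv : ∀ r < D.nroots, ∀ t : F, ∃ g : GL D.Idx F, (g : Matrix D.Idx D.Idx F) = D.x F r t := by
          intro r hr t
          refine ⟨⟨D.x F r t, D.x F r (-t), ?_, ?_⟩, rfl⟩
          · rw [S1023.result D hD r hr, (S1024.result D hD r hr _).2 (add_neg_cancel t)]
          · rw [S1023.result D hD r hr, (S1024.result D hD r hr _).2 (neg_add_cancel t)]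
        obtain ⟨x, hx⟩ := hinv (D.simple i) h1 1
        have hxU : x ∈ D.unipotentRadical F J := by
          refine Subgroup.subset_closure ⟨D.simple i, 1, h3, ?_, hx⟩
          intro hsub
          exact h5 (hsub.2 i hi hiJ)
        have hyU : (k : GL D.Idx F) * x * (k : GL D.Idx F)⁻¹ ∈ D.unipotentRadical F J :=
          (Subgroup.mem_normalizer_iff.1 hkN x).1 hxU
        obtain ⟨η, hη, hconj⟩ := S1031.result (F := F) D hD i (D.simple i) hi h1
        have hrefl : D.reflectRoot i (D.simple i) = D.neg (D.simple i) := if_pos rfl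
        have hyx : (((k : GL D.Idx F) * x * (k : GL D.Idx F)⁻¹ : GL D.Idx F) : Matrix D.Idx D.Idx F)
            = D.x F (D.neg (D.simple i)) ((η : F) * 1) := by
          obtain ⟨y, hy⟩ := hinv (D.neg (D.simple i)) h2 ((η : F) * 1)
          rw [← hy]
          congr 1
          rw [mul_inv_eq_iff_eq_mul]
          apply Units.ext
          rw [Units.val_mul, Units.val_mul, hki, hx, hy, hconj 1, hrefl]
        set y : GL D.Idx F := (k : GL D.Idx F) * x * (k : GL D.Idx F)⁻¹ with hy
        have hyV : y ∈ D.negUnipotent F := Subgroup.subset_closure ⟨_, _, h4, hyx⟩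
        have hUB : D.unipotentRadical F J ≤ D.borelSubgroup F := by
          refine le_trans (Subgroup.closure_mono ?_) le_sup_left
          rintro g ⟨r, t, hr, -, hg⟩
          exact ⟨r, t, hr, hg⟩
        have hy1 : y = 1 := by
          have : y ∈ D.borelSubgroup F ⊓ D.negUnipotent F := ⟨hUB hyU, hyV⟩
          rw [hBV] at this
          exact Subgroup.mem_bot.1 this
        have hη0 : (η : F) * 1 = 0 := by
          rw [← S1024.result D hD _ h2, ← hyx, hy1]
          rfl
        rcases hη with rfl | rfl <;> simp at hη0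
  intro g hg
  exact key (x := ⟨g, hg.2⟩) hg

end Cfsg.Agent.S1049
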