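import Cfsg.Statements.S1060
import Cfsg.Agent.ChevalleyStructure.B2Sp4
import Cfsg.Agent.LieClassical.SympCount
import Cfsg.Agent.LieClassical.SympCenter

set_option autoImplicit false
open Cfsg

namespace Cfsg.Agent.S1060

/-- `gcd(2, q-1) · |B₂(q)| = q⁴ (q² - 1)(q⁴ - 1)`. -/
theorem result {F : Type*} [Field F] [Fintype F] {q : ℕ} (hq : Fintype.card F = q) : Nat.gcd 2 (q - 1) * Nat.card ↥(Cfsg.Lie.chevB2.group F) = q ^ 4 * (q ^ 2 - 1) * (q ^ 4 - 1) := by
  subst hq
  obtain ⟨e⟩ := Cfsg.Agent.ChevalleyStructure.B2Sp4.chevB2_equiv_PSp F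
  have h1 := Cfsg.Agent.LieClassical.SympCount.card_symplecticGroup (F := F) 2
  have h2 := Cfsg.Agent.LieClassical.SympCenter.card_center (F := F) (m := 2) (by norm_num)
  have h3 := Subgroup.card_eq_card_quotient_mul_card_subgroup (Subgroup.center (Matrix.symplecticGroup (Fin 2) F))
  rw [Nat.card_congr e.toEquiv, ← h2, mul_comm]
  change Nat.card (Matrix.symplecticGroup (Fin 2) F ⧸ Subgroup.center (Matrix.symplecticGroup (Fin 2) F)) *
    Nat.card (Subgroup.center (Matrix.symplecticGroup (Fin 2) F)) = _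
  rw [← h3, h1]
  simp [Finset.prod_range_succ, mul_assoc]

end Cfsg.Agent.S1060
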