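import Cfsg.Statements.S1078
import Cfsg.Agent.ChevalleyStructure.StCenter

set_option autoImplicit false
open Cfsg

namespace Cfsg.Agent.S1078

open Cfsg.Agent.ChevalleyStructure.StTorus Cfsg.Agent.ChevalleyStructure.StCenter

/-- If the Cartan matrix is invertible over the integers the centre is trivial. -/
theorem center_eq_bot_of_right_inverse {K : Type*} [Field K] (D : Cfsg.Lie.ChevalleyDatum)
    (hD : D ∈ [Cfsg.Lie.chevG2, Cfsg.Lie.chevF4, Cfsg.Lie.chevE6, Cfsg.Lie.chevE7, Cfsg.Lie.chevE8])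
    (B : Fin D.rank → Fin D.rank → ℤ)
    (hB : ∀ i k : Fin D.rank, ∑ j : Fin D.rank, D.cartan i (D.simple j) * B j k = if i = k then 1 else 0) :
    Subgroup.center (D.SteinbergGroup K) = ⊥ := by
  obtain ⟨hs, -, -⟩ := data D hD
  obtain ⟨Φ, -, hle, hiff⟩ := exists_Phi K D hD
  rw [eq_bot_iff]
  intro z hz
  obtain ⟨t, rfl⟩ := hle hz
  rw [hiff] at hz
  have ht : t = 1 := units_eq_one (fun i j : Fin D.rank => D.cartan i (D.simple j)) B hB t
    (fun j => hz (D.simple j) (hs j j.2))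
  rw [ht, map_one]
  exact Subgroup.mem_bot.mpr rfl

/-- For G₂, F₄, E₈ the presented group has trivial centre (the universal and adjoint groups coincide). -/
theorem result {K : Type*} [Field K] (D : Cfsg.Lie.ChevalleyDatum) (hD : D ∈ [Cfsg.Lie.chevG2, Cfsg.Lie.chevF4, Cfsg.Lie.chevE8]) :
    Subgroup.center (D.SteinbergGroup K) = ⊥ := by
  simp only [List.mem_cons, List.not_mem_nil, or_false] at hD
  rcases hD with rfl | rfl | rfl
  · exact center_eq_bot_of_right_inverse Cfsg.Lie.chevG2 (by simp) ![![2, 3], ![1, 2]] (by decide +kernel)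
  · exact center_eq_bot_of_right_inverse Cfsg.Lie.chevF4 (by simp)
      ![![2, 3, 4, 2], ![3, 6, 8, 4], ![2, 4, 6, 3], ![1, 2, 3, 2]] (by decide +kernel)
  · exact center_eq_bot_of_right_inverse Cfsg.Lie.chevE8 (by simp)
      ![![4, 5, 7, 10, 8, 6, 4, 2], ![5, 8, 10, 15, 12, 9, 6, 3], ![7, 10, 14, 20, 16, 12, 8, 4],
        ![10, 15, 20, 30, 24, 18, 12, 6], ![8, 12, 16, 24, 20, 15, 10, 5], ![6, 9, 12, 18, 15, 12, 8, 4],
        ![4, 6, 8, 12, 10, 8, 6, 3], ![2, 3, 4, 6, 5, 4, 3, 2]] (by decide +kernel)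

end Cfsg.Agent.S1078
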