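import Cfsg.Statements.S1079
import Cfsg.Agent.ChevalleyStructure.StCenter
import Cfsg.Agent.ChevalleyStructure.StEmbed

set_option autoImplicit false
open Cfsg

namespace Cfsg.Agent.S1079

open Cfsg.Lie Cfsg.Agent.ChevalleyStructure.StBasic Cfsg.Agent.ChevalleyStructure.StTorus
  Cfsg.Agent.ChevalleyStructure.StCenter Cfsg.Agent.ChevalleyStructure.StEmbed

/-- Extension of a family by `1`. -/
def extHom (M : Type*) [CommGroup M] (n n' : ℕ) : (Fin n → M) →* (Fin n' → M) where
  toFun t i := if h : (i : ℕ) < n then t ⟨i, h⟩ else 1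
  map_one' := by funext i; by_cases h : (i : ℕ) < n <;> simp [h]
  map_mul' a b := by funext i; by_cases h : (i : ℕ) < n <;> simp [h]

theorem extHom_apply_of_lt {M : Type*} [CommGroup M] {n n' : ℕ} (t : Fin n → M) (i : Fin n') (h : (i : ℕ) < n) :
    extHom M n n' t i = t ⟨i, h⟩ := dif_pos h

theorem extHom_apply_of_not_lt {M : Type*} [CommGroup M] {n n' : ℕ} (t : Fin n → M) (i : Fin n')
    (h : ¬ (i : ℕ) < n) : extHom M n n' t i = 1 := dif_neg h

theorem extHom_mulSingle {M : Type*} [CommGroup M] {n n' : ℕ} (hnn : n ≤ n') (i : Fin n) (x : M) :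
    extHom M n n' (Pi.mulSingle i x) = Pi.mulSingle (⟨i, i.2.trans_le hnn⟩ : Fin n') x := by
  funext j
  by_cases h : (j : ℕ) < n
  · rw [extHom_apply_of_lt _ _ h]
    by_cases hij : (⟨j, h⟩ : Fin n) = i
    · have : j = (⟨i, i.2.trans_le hnn⟩ : Fin n') := Fin.ext (congrArg (fun x : Fin n => (x : ℕ)) hij)
      rw [hij, this, Pi.mulSingle_eq_same, Pi.mulSingle_eq_same]
    · have : j ≠ (⟨i, i.2.trans_le hnn⟩ : Fin n') := fun e => hij (Fin.ext (congrArg (fun x : Fin n' => (x : ℕ)) e))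
      rw [Pi.mulSingle_eq_of_ne hij, Pi.mulSingle_eq_of_ne this]
  · have : j ≠ (⟨i, i.2.trans_le hnn⟩ : Fin n') := fun e => h (by rw [e]; exact i.2)
    rw [extHom_apply_of_not_lt _ _ h, Pi.mulSingle_eq_of_ne this]

/-- Injectivity of the torus homomorphism, from an embedding into a larger presented group. -/
theorem Phi_injective {K : Type*} [Field K] {D D' : ChevalleyDatum} {ι : ℕ → ℕ} {m : ℕ → Bool}
    (hE : Emb D D' ι m) (hsimple : ∀ i < D.rank, D.simple i < D.nroots)
    (hι : ∀ i < D.rank, ι (D.simple i) = D'.simple i) (hrank : D.rank ≤ D'.rank)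
    (hs' : ∀ i < D'.rank, D'.simple i < D'.nroots)
    (B : Fin D'.rank → Fin D.rank → ℤ)
    (hB : ∀ (i : Fin D'.rank) (k : Fin D.rank), (i : ℕ) < D.rank →
      ∑ j : Fin D'.rank, D'.cartan i (D'.simple j) * B j k = if (i : ℕ) = k then 1 else 0)
    (Φ : (Fin D.rank → Kˣ) →* D.SteinbergGroup K)
    (hΦ : ∀ (i : Fin D.rank) (x : Kˣ), Φ (Pi.mulSingle i x) = sth D (D.simple i) (x : K))
    (Φ' : (Fin D'.rank → Kˣ) →* D'.SteinbergGroup K)
    (hΦ' : ∀ (i : Fin D'.rank) (x : Kˣ), Φ' (Pi.mulSingle i x) = sth D' (D'.simple i) (x : K))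
    (hiff : ∀ t, Φ' t ∈ Subgroup.center (D'.SteinbergGroup K) ↔
        ∀ s < D'.nroots, ∏ i : Fin D'.rank, t i ^ D'.cartan i s = 1) :
    Function.Injective Φ := by
  have hcomp : (hom hE K).comp Φ = Φ'.comp (extHom Kˣ D.rank D'.rank) := by
    apply MonoidHom.pi_ext
    intro i x
    show hom hE K (Φ (Pi.mulSingle i x)) = Φ' (extHom Kˣ D.rank D'.rank (Pi.mulSingle i x))
    rw [hΦ, extHom_mulSingle hrank, hΦ', hom_sth hE (hsimple i i.2), hι i i.2]
  rw [injective_iff_map_eq_one]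
  intro t ht
  have h1 : Φ' (extHom Kˣ D.rank D'.rank t) = 1 := by
    have := DFunLike.congr_fun hcomp t
    rw [MonoidHom.comp_apply, MonoidHom.comp_apply, ht, map_one] at this
    exact this.symm
  have h2 := (hiff (extHom Kˣ D.rank D'.rank t)).mp (by rw [h1]; exact one_mem _)
  funext k
  have h3 := eval_eq_one (fun i j : Fin D'.rank => D'.cartan i (D'.simple j)) (fun j => B j k)
    (fun i => ∑ j : Fin D'.rank, D'.cartan i (D'.simple j) * B j k) (fun _ => rfl)
    (extHom Kˣ D.rank D'.rank t) (fun j => h2 (D'.simple j) (hs' j j.2))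
  rw [Finset.prod_eq_single (⟨k, k.2.trans_le hrank⟩ : Fin D'.rank)] at h3
  · rw [hB _ k k.2, if_pos rfl, zpow_one] at h3
    exact (extHom_apply_of_lt t (⟨k, k.2.trans_le hrank⟩ : Fin D'.rank) k.2).symm.trans h3
  · intro i _ hik
    by_cases hi : (i : ℕ) < D.rank
    · rw [hB i k hi, if_neg (fun e => hik (Fin.ext e)), zpow_zero]
    · rw [extHom_apply_of_not_lt _ _ hi, one_zpow]
  · intro h; exact absurd (Finset.mem_univ _) h

/-- The order of the centre. -/
theorem card_center {K : Type*} [Field K] [Fintype K] (D : ChevalleyDatum)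
    (hsimple : ∀ i < D.rank, D.simple i < D.nroots)
    (Φ : (Fin D.rank → Kˣ) →* D.SteinbergGroup K) (hinj : Function.Injective Φ)
    (hle : Subgroup.center (D.SteinbergGroup K) ≤ Φ.range)
    (hiff : ∀ t, Φ t ∈ Subgroup.center (D.SteinbergGroup K) ↔
        ∀ s < D.nroots, ∏ i : Fin D.rank, t i ^ D.cartan i s = 1)
    (p : ℕ) (i0 : Fin D.rank) (k : Fin D.rank → ℤ) (hk0 : k i0 = 1)
    (hk : ∀ s < D.nroots, (p : ℤ) ∣ ∑ i : Fin D.rank, k i * D.cartan i s)
    (B : Fin D.rank → Fin D.rank → ℤ)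
    (hB : ∀ i c : Fin D.rank, ∑ j : Fin D.rank, D.cartan i (D.simple j) * B j c =
      (if i = c then 1 else 0) - (if i = i0 then k c else 0))
    (b0 : Fin D.rank → ℤ)
    (hb0 : ∀ i : Fin D.rank, ∑ j : Fin D.rank, D.cartan i (D.simple j) * b0 j = if i = i0 then (p : ℤ) else 0) :
    Nat.card (Subgroup.center (D.SteinbergGroup K)) = Nat.gcd p (Fintype.card K - 1) := by
  -- the map `ω ↦ (ω ^ k_i)` from the kernel of the `p`-th power map onto the centre
  let κ : Kˣ →* (Fin D.rank → Kˣ) :=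
    { toFun := fun ω i => ω ^ k i
      map_one' := by funext i; simp
      map_mul' := fun a b => by funext i; simp [mul_zpow] }
  have hκ : ∀ ω i, κ ω i = ω ^ k i := fun _ _ => rfl
  have hmap : ((powMonoidHom p : Kˣ →* Kˣ).ker).map (Φ.comp κ) = Subgroup.center (D.SteinbergGroup K) := by
    apply le_antisymm
    · rintro _ ⟨ω, hω, rfl⟩
      rw [SetLike.mem_coe, MonoidHom.mem_ker, powMonoidHom_apply] at hω
      rw [MonoidHom.comp_apply, hiff]
      intro s hs
      obtain ⟨e, he⟩ := hk s hs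
      have h1 : ∏ i : Fin D.rank, κ ω i ^ D.cartan i s = ω ^ (∑ i : Fin D.rank, k i * D.cartan i s) := by
        have h2 : ∀ i : Fin D.rank, κ ω i ^ D.cartan i s = ω ^ (k i * D.cartan i s) := fun i => by
          rw [hκ, zpow_mul]
        rw [Finset.prod_congr rfl fun i _ => h2 i]
        induction (Finset.univ : Finset (Fin D.rank)) using Finset.induction_on with
        | empty => simp
        | insert a s' ha ih => rw [Finset.prod_insert ha, Finset.sum_insert ha, ih, zpow_add]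
      rw [h1, he, zpow_mul, zpow_natCast, hω, one_zpow]
    · intro z hz
      obtain ⟨t, rfl⟩ := hle hz
      rw [hiff] at hz
      have hz' : ∀ j : Fin D.rank, ∏ i : Fin D.rank, t i ^ D.cartan i (D.simple j) = 1 :=
        fun j => hz (D.simple j) (hsimple j j.2)
      have ht : t = κ (t i0) := by
        funext c
        have h1 := eval_eq_one (fun i j : Fin D.rank => D.cartan i (D.simple j)) (fun j => B j c)
          (fun i => (if i = c then 1 else 0) - (if i = i0 then k c else 0)) (fun i => hB i c) t hz'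
        have h2 : ∀ i : Fin D.rank, t i ^ ((if i = c then (1 : ℤ) else 0) - (if i = i0 then k c else 0)) =
            (if i = c then t i else 1) * (if i = i0 then (t i ^ k c)⁻¹ else 1) := by
          intro i
          rw [zpow_sub]
          split_ifs <;> simp
        rw [Finset.prod_congr rfl fun i _ => h2 i, Finset.prod_mul_distrib, Finset.prod_ite_eq', Finset.prod_ite_eq',
          if_pos (Finset.mem_univ _), if_pos (Finset.mem_univ _), mul_inv_eq_one] at h1
        exact h1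
      have hp : t i0 ^ p = 1 := by
        have h1 := eval_eq_one (fun i j : Fin D.rank => D.cartan i (D.simple j)) b0
          (fun i => if i = i0 then (p : ℤ) else 0) hb0 t hz'
        rw [Finset.prod_eq_single i0] at h1
        · rw [if_pos rfl, zpow_natCast] at h1
          exact h1
        · intro i _ hi; rw [if_neg hi, zpow_zero]
        · intro h; exact absurd (Finset.mem_univ _) h
      refine ⟨t i0, ?_, ?_⟩
      · rw [SetLike.mem_coe, MonoidHom.mem_ker, powMonoidHom_apply, hp]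
      · rw [MonoidHom.comp_apply, ← ht]
  have hinj' : Function.Injective (Φ.comp κ) := by
    intro a b hab
    have h1 := hinj hab
    have h2 := congrFun h1 i0
    rw [hκ, hκ, hk0, zpow_one, zpow_one] at h2
    exact h2
  rw [← hmap, Nat.card_congr (Subgroup.equivMapOfInjective _ _ hinj').toEquiv.symm,
    IsCyclic.card_powMonoidHom_ker, Nat.card_units, Nat.card_eq_fintype_card, Nat.gcd_comm]

/-- `|Z(Ḡ)| = gcd(3, q-1)` for E₆ and `gcd(2, q-1)` for E₇ over a field with `q` elements (the centre is dual to the weight lattice modulo the root lattice). -/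
theorem result {K : Type*} [Field K] [Fintype K] {q : ℕ} (hq : Fintype.card K = q)
    (p : Cfsg.Lie.ChevalleyDatum × ℕ) (hp : p ∈ [(Cfsg.Lie.chevE6, 3), (Cfsg.Lie.chevE7, 2)]) :
    Nat.card (Subgroup.center (p.1.SteinbergGroup K)) = Nat.gcd p.2 (q - 1) := by
  subst hq
  simp only [List.mem_cons, List.not_mem_nil, or_false] at hp
  rcases hp with rfl | rfl
  · obtain ⟨Φ, hΦ, hle, hiff⟩ := exists_Phi K chevE6 (by simp)
    obtain ⟨Φ', hΦ', -, hiff'⟩ := exists_Phi K chevE7 (by simp)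
    obtain ⟨hs, -, -⟩ := data chevE6 (by simp)
    obtain ⟨hs', -, -⟩ := data chevE7 (by simp)
    have hinj : Function.Injective Φ := Phi_injective emb67 hs simple67 (by decide)
      hs' ![![-2, 1, -1, 0, 0, 0], ![-4, 2, -2, 0, 0, 0], ![-5, 2, -2, 0, 0, 0], ![-8, 3, -4, 0, 0, 0],
        ![-7, 2, -4, -1, 0, 0], ![-6, 1, -4, -2, -1, 0], ![-5, 0, -4, -3, -2, -1]] (by decide +kernel)
      Φ hΦ Φ' hΦ' hiff'
    exact card_center chevE6 hs Φ hinj hle hiff 3 (⟨0, by decide⟩) ![1, 0, 2, 0, 1, 2] rfl (by decide +kernel)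
      ![![0, 1, -1, 2, 0, -2], ![0, 2, 0, 3, 1, -1], ![0, 2, 0, 4, 1, -2], ![0, 3, 0, 6, 2, -2],
        ![0, 2, 0, 4, 2, -1], ![0, 1, 0, 2, 1, 0]] (by decide +kernel)
      ![4, 3, 5, 6, 4, 2] (by decide +kernel)
  · obtain ⟨Φ, hΦ, hle, hiff⟩ := exists_Phi K chevE7 (by simp)
    obtain ⟨Φ', hΦ', -, hiff'⟩ := exists_Phi K chevE8 (by simp)
    obtain ⟨hs, -, -⟩ := data chevE7 (by simp)
    obtain ⟨hs', -, -⟩ := data chevE8 (by simp)
    have hinj : Function.Injective Φ := Phi_injective emb78 hs simple78 (by decide)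
      hs' ![![-2, 1, -1, 0, 0, 0, 0], ![-4, 2, -2, 0, 0, 0, 0], ![-5, 2, -2, 0, 0, 0, 0],
        ![-8, 3, -4, 0, 0, 0, 0], ![-7, 2, -4, -1, 0, 0, 0], ![-6, 1, -4, -2, -1, 0, 0],
        ![-5, 0, -4, -3, -2, -1, 0], ![-4, -1, -4, -4, -3, -2, -1]] (by decide +kernel)
      Φ hΦ Φ' hΦ' hiff'
    exact card_center chevE7 hs Φ hinj hle hiff 2 (⟨6, by decide⟩) ![0, 1, 0, 0, 1, 0, 1] rfl (by decide +kernel)
      ![![2, 1, 3, 4, 2, 2, 0], ![2, 2, 4, 6, 3, 3, 0], ![3, 2, 6, 8, 4, 4, 0], ![4, 3, 8, 12, 6, 6, 0],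
        ![3, 2, 6, 9, 5, 5, 0], ![2, 1, 4, 6, 3, 4, 0], ![1, 0, 2, 3, 1, 2, 0]] (by decide +kernel)
      ![2, 3, 4, 6, 5, 4, 3] (by decide +kernel)

end Cfsg.Agent.S1079
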