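import Cfsg.Statements.S1081
-- import your own Cfsg.Agent.* helpers here
import Cfsg.Agent.ChevalleyStructure.GraphSymm

set_option autoImplicit false
open Cfsg

namespace Cfsg.Agent.S1081

open Cfsg.Agent.ChevalleyStructure.SignedSymm Cfsg.Agent.ChevalleyStructure.GraphSymm

/-- A symmetry fixing the fundamental root vectors up to the diagram permutation gives the required automorphism. -/
theorem of_symm {F : Type*} [Field F] {D : Cfsg.Lie.ChevalleyDatum} (S : Symm D) (L : List ℕ)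
    (h : ∀ i : ℕ, i < D.rank → ∃ r r' : Fin D.nroots, r.val = D.simple i ∧ r'.val = D.neg (D.simple i) ∧
      (S.σ r).val = D.simple (L.getD i 0) ∧ (S.σ r').val = D.neg (D.simple (L.getD i 0)) ∧
      S.ε r = 1 ∧ S.ε r' = 1) :
    ∃ α : ↥(D.group F) ≃* ↥(D.group F), ∀ (g : ↥(D.group F)) (i : ℕ) (t : F), i < D.rank →
      (((g : GL D.Idx F) : Matrix D.Idx D.Idx F) = D.x F (D.simple i) t →
        ((α g : GL D.Idx F) : Matrix D.Idx D.Idx F) = D.x F (D.simple (L.getD i 0)) t) ∧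
      (((g : GL D.Idx F) : Matrix D.Idx D.Idx F) = D.x F (D.neg (D.simple i)) t →
        ((α g : GL D.Idx F) : Matrix D.Idx D.Idx F) = D.x F (D.neg (D.simple (L.getD i 0))) t) := by
  refine ⟨S.aut F, fun g i t hi => ?_⟩
  obtain ⟨r, r', h1, h2, h3, h4, h5, h6⟩ := h i hi
  constructor
  · intro hg
    rw [← h1] at hg
    have := S.aut_x F g r t hg
    rw [h3, h5, Int.cast_one, one_mul] at this
    exact this
  · intro hg
    rw [← h2] at hg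
    have := S.aut_x F g r' t hg
    rw [h4, h6, Int.cast_one, one_mul] at this
    exact this

set_option maxRecDepth 100000 in
theorem specE6 : ∀ i : ℕ, i < Cfsg.Lie.chevE6.rank → ∃ r r' : Fin Cfsg.Lie.chevE6.nroots,
      r.val = Cfsg.Lie.chevE6.simple i ∧ r'.val = Cfsg.Lie.chevE6.neg (Cfsg.Lie.chevE6.simple i) ∧
      (symmE6.σ r).val = Cfsg.Lie.chevE6.simple (List.getD [5, 1, 4, 3, 2, 0] i 0) ∧
      (symmE6.σ r').val = Cfsg.Lie.chevE6.neg (Cfsg.Lie.chevE6.simple (List.getD [5, 1, 4, 3, 2, 0] i 0)) ∧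
      symmE6.ε r = 1 ∧ symmE6.ε r' = 1 := by
  have key : ∀ i : Fin 6, ∃ (h1 : Cfsg.Lie.chevE6.simple i < Cfsg.Lie.chevE6.nroots)
      (h2 : Cfsg.Lie.chevE6.neg (Cfsg.Lie.chevE6.simple i) < Cfsg.Lie.chevE6.nroots),
      (symmE6.σ ⟨_, h1⟩).val = Cfsg.Lie.chevE6.simple (List.getD [5, 1, 4, 3, 2, 0] i.val 0) ∧
      (symmE6.σ ⟨_, h2⟩).val = Cfsg.Lie.chevE6.neg (Cfsg.Lie.chevE6.simple (List.getD [5, 1, 4, 3, 2, 0] i.val 0)) ∧
      symmE6.ε ⟨_, h1⟩ = 1 ∧ symmE6.ε ⟨_, h2⟩ = 1 := by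
    decide +kernel
  intro i hi
  obtain ⟨h1, h2, h⟩ := key ⟨i, hi⟩
  exact ⟨⟨_, h1⟩, ⟨_, h2⟩, rfl, rfl, h⟩

set_option maxRecDepth 100000 in
theorem specD4a : ∀ i : ℕ, i < Cfsg.Lie.chevD4.rank → ∃ r r' : Fin Cfsg.Lie.chevD4.nroots,
      r.val = Cfsg.Lie.chevD4.simple i ∧ r'.val = Cfsg.Lie.chevD4.neg (Cfsg.Lie.chevD4.simple i) ∧
      (symmD4a.σ r).val = Cfsg.Lie.chevD4.simple (List.getD [2, 1, 3, 0] i 0) ∧
      (symmD4a.σ r').val = Cfsg.Lie.chevD4.neg (Cfsg.Lie.chevD4.simple (List.getD [2, 1, 3, 0] i 0)) ∧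
      symmD4a.ε r = 1 ∧ symmD4a.ε r' = 1 := by
  have key : ∀ i : Fin 4, ∃ (h1 : Cfsg.Lie.chevD4.simple i < Cfsg.Lie.chevD4.nroots)
      (h2 : Cfsg.Lie.chevD4.neg (Cfsg.Lie.chevD4.simple i) < Cfsg.Lie.chevD4.nroots),
      (symmD4a.σ ⟨_, h1⟩).val = Cfsg.Lie.chevD4.simple (List.getD [2, 1, 3, 0] i.val 0) ∧
      (symmD4a.σ ⟨_, h2⟩).val = Cfsg.Lie.chevD4.neg (Cfsg.Lie.chevD4.simple (List.getD [2, 1, 3, 0] i.val 0)) ∧
      symmD4a.ε ⟨_, h1⟩ = 1 ∧ symmD4a.ε ⟨_, h2⟩ = 1 := by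
    decide +kernel
  intro i hi
  obtain ⟨h1, h2, h⟩ := key ⟨i, hi⟩
  exact ⟨⟨_, h1⟩, ⟨_, h2⟩, rfl, rfl, h⟩

set_option maxRecDepth 100000 in
theorem specD4b : ∀ i : ℕ, i < Cfsg.Lie.chevD4.rank → ∃ r r' : Fin Cfsg.Lie.chevD4.nroots,
      r.val = Cfsg.Lie.chevD4.simple i ∧ r'.val = Cfsg.Lie.chevD4.neg (Cfsg.Lie.chevD4.simple i) ∧
      (symmD4b.σ r).val = Cfsg.Lie.chevD4.simple (List.getD [3, 1, 0, 2] i 0) ∧
      (symmD4b.σ r').val = Cfsg.Lie.chevD4.neg (Cfsg.Lie.chevD4.simple (List.getD [3, 1, 0, 2] i 0)) ∧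
      symmD4b.ε r = 1 ∧ symmD4b.ε r' = 1 := by
  have key : ∀ i : Fin 4, ∃ (h1 : Cfsg.Lie.chevD4.simple i < Cfsg.Lie.chevD4.nroots)
      (h2 : Cfsg.Lie.chevD4.neg (Cfsg.Lie.chevD4.simple i) < Cfsg.Lie.chevD4.nroots),
      (symmD4b.σ ⟨_, h1⟩).val = Cfsg.Lie.chevD4.simple (List.getD [3, 1, 0, 2] i.val 0) ∧
      (symmD4b.σ ⟨_, h2⟩).val = Cfsg.Lie.chevD4.neg (Cfsg.Lie.chevD4.simple (List.getD [3, 1, 0, 2] i.val 0)) ∧
      symmD4b.ε ⟨_, h1⟩ = 1 ∧ symmD4b.ε ⟨_, h2⟩ = 1 := by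
    decide +kernel
  intro i hi
  obtain ⟨h1, h2, h⟩ := key ⟨i, hi⟩
  exact ⟨⟨_, h1⟩, ⟨_, h2⟩, rfl, rfl, h⟩

/-- Graph automorphisms: for E₆ with ρ = (p₁ p₆)(p₃ p₅) and for D₄ with ρ the 3-cycle on the outer nodes there is a group automorphism sending `x_p(t) ↦ x_{ρ(p)}(t)` and `x_{-p}(t) ↦ x_{-ρ(p)}(t)` for every fundamental root `p`. -/
theorem result {F : Type*} [Field F] (p : Cfsg.Lie.ChevalleyDatum × List ℕ)
    (hp : p ∈ [(Cfsg.Lie.chevE6, [5, 1, 4, 3, 2, 0]), (Cfsg.Lie.chevD4, [2, 1, 3, 0]), (Cfsg.Lie.chevD4, [3, 1, 0, 2])]) :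
    ∃ α : ↥(p.1.group F) ≃* ↥(p.1.group F), ∀ (g : ↥(p.1.group F)) (i : ℕ) (t : F), i < p.1.rank →
      (((g : GL p.1.Idx F) : Matrix p.1.Idx p.1.Idx F) = p.1.x F (p.1.simple i) t →
        ((α g : GL p.1.Idx F) : Matrix p.1.Idx p.1.Idx F) = p.1.x F (p.1.simple (p.2.getD i 0)) t) ∧
      (((g : GL p.1.Idx F) : Matrix p.1.Idx p.1.Idx F) = p.1.x F (p.1.neg (p.1.simple i)) t →
        ((α g : GL p.1.Idx F) : Matrix p.1.Idx p.1.Idx F) = p.1.x F (p.1.neg (p.1.simple (p.2.getD i 0))) t) := by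
  simp only [List.mem_cons, List.not_mem_nil, or_false] at hp
  rcases hp with rfl | rfl | rfl
  · exact of_symm symmE6 _ specE6
  · exact of_symm symmD4a _ specD4a
  · exact of_symm symmD4b _ specD4b

end Cfsg.Agent.S1081
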