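import Cfsg.Statements.S1094
import Cfsg.Agent.ChevalleyStructure.CoxeterElement

set_option autoImplicit false
open Cfsg

namespace Cfsg.Agent.S1094

open Cfsg.Agent.ChevalleyStructure.CoxeterFaithful Cfsg.Agent.ChevalleyStructure.CoxeterElement

theorem primes_le {h : ℕ} {ps : List ℕ} (hc : ∀ q ≤ h, q.Prime → q ∣ h → q ∈ ps) (hh : 0 < h) :
    ∀ q, q.Prime → q ∣ h → q ∈ ps :=
  fun q hq hqh => hc q (Nat.le_of_dvd hh hqh) hq hqh

theorem b2 : orderOf ((List.finRange 2).map (CoxeterMatrix.B 2).simple).prod = 4 :=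
  orderOf_coxeterElement (rows := [[2, -2], [-1, 2]]) (ps := [2]) (by decide +kernel) (by norm_num)
    (by norm_num) (by decide +kernel) (primes_le (by decide) (by norm_num))

theorem g2 : orderOf ((List.finRange 2).map (CoxeterMatrix.G₂).simple).prod = 6 :=
  orderOf_coxeterElement (rows := [[2, -3], [-1, 2]]) (ps := [2, 3]) (by decide +kernel)
    (by norm_num) (by norm_num) (by decide +kernel) (primes_le (by decide) (by norm_num))

theorem d4 : orderOf ((List.finRange 4).map (Cfsg.Lie.coxeterD4).simple).prod = 6 :=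
  orderOf_coxeterElement
    (rows := [[2, -1, 0, 0], [-1, 2, -1, -1], [0, -1, 2, 0], [0, -1, 0, 2]])
    (ps := [2, 3]) (by decide +kernel) (by norm_num) (by norm_num) (by decide +kernel)
    (primes_le (by decide) (by norm_num))

theorem f4 : orderOf ((List.finRange 4).map (CoxeterMatrix.F₄).simple).prod = 12 :=
  orderOf_coxeterElement
    (rows := [[2, -1, 0, 0], [-1, 2, -2, 0], [0, -1, 2, -1], [0, 0, -1, 2]])
    (ps := [2, 3]) (by decide +kernel) (by norm_num) (by norm_num) (by decide +kernel)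
    (primes_le (by decide) (by norm_num))

theorem e6 : orderOf ((List.finRange 6).map (CoxeterMatrix.E₆).simple).prod = 12 :=
  orderOf_coxeterElement
    (rows := [[2, 0, -1, 0, 0, 0], [0, 2, 0, -1, 0, 0], [-1, 0, 2, -1, 0, 0],
      [0, -1, -1, 2, -1, 0], [0, 0, 0, -1, 2, -1], [0, 0, 0, 0, -1, 2]])
    (ps := [2, 3]) (by decide +kernel) (by norm_num) (by norm_num) (by decide +kernel)
    (primes_le (by decide) (by norm_num))

theorem e7 : orderOf ((List.finRange 7).map (CoxeterMatrix.E₇).simple).prod = 18 :=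
  orderOf_coxeterElement
    (rows := [[2, 0, -1, 0, 0, 0, 0], [0, 2, 0, -1, 0, 0, 0], [-1, 0, 2, -1, 0, 0, 0],
      [0, -1, -1, 2, -1, 0, 0], [0, 0, 0, -1, 2, -1, 0], [0, 0, 0, 0, -1, 2, -1],
      [0, 0, 0, 0, 0, -1, 2]])
    (ps := [2, 3]) (by decide +kernel) (by norm_num) (by norm_num) (by decide +kernel)
    (primes_le (by decide) (by norm_num))

theorem e8 : orderOf ((List.finRange 8).map (CoxeterMatrix.E₈).simple).prod = 30 :=
  orderOf_coxeterElement
    (rows := [[2, 0, -1, 0, 0, 0, 0, 0], [0, 2, 0, -1, 0, 0, 0, 0], [-1, 0, 2, -1, 0, 0, 0, 0],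
      [0, -1, -1, 2, -1, 0, 0, 0], [0, 0, 0, -1, 2, -1, 0, 0], [0, 0, 0, 0, -1, 2, -1, 0],
      [0, 0, 0, 0, 0, -1, 2, -1], [0, 0, 0, 0, 0, 0, -1, 2]])
    (ps := [2, 3, 5]) (by decide +kernel) (by norm_num) (by norm_num) (by decide +kernel)
    (primes_le (by decide) (by norm_num))

/-- The Coxeter element `s₁ s₂ ⋯ s_l` of the Coxeter group of type B₂, G₂, D₄, F₄, E₆, E₇, E₈ has order `h = 2N/l` = 4, 6, 6, 12, 12, 18, 30. -/
theorem result (p : (Σ n : ℕ, CoxeterMatrix (Fin n)) × ℕ)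
    (hp : p ∈ [(⟨2, CoxeterMatrix.B 2⟩, 4), (⟨2, CoxeterMatrix.G₂⟩, 6), (⟨4, Cfsg.Lie.coxeterD4⟩, 6), (⟨4, CoxeterMatrix.F₄⟩, 12),
      (⟨6, CoxeterMatrix.E₆⟩, 12), (⟨7, CoxeterMatrix.E₇⟩, 18), (⟨8, CoxeterMatrix.E₈⟩, 30)]) :
    orderOf ((List.finRange p.1.1).map p.1.2.simple).prod = p.2 := by
  simp only [List.mem_cons, List.not_mem_nil, or_false] at hp
  rcases hp with rfl | rfl | rfl | rfl | rfl | rfl | rfl
  · exact b2
  · exact g2
  · exact d4
  · exact f4
  · exact e6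
  · exact e7
  · exact e8

end Cfsg.Agent.S1094
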