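import Cfsg.Statements.S1103
-- import your own Cfsg.Agent.* helpers here
import Cfsg.Agent.S1034
import Cfsg.Agent.S1039
import Cfsg.Agent.ChevalleyStructure.TwE6Sigma
import Cfsg.Agent.ChevalleyStructure.CoxeterF4E6
import Cfsg.Agent.ChevalleyStructure.XUnit

set_option autoImplicit false
open Cfsg

namespace Cfsg.Agent.S1103

open Cfsg.Lie
open Cfsg.Agent.ChevalleyStructure.TwE6Sigma Cfsg.Agent.ChevalleyStructure.CoxeterF4E6
open Cfsg.Agent.ChevalleyStructure.XUnit Cfsg.Agent.ChevalleyStructure.Unitriangular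

/-- The table check for E₆. -/
theorem ocE6 : orderCheck chevE6 = true := orderCheck_E6

/-- Simple node `i` of E₆ and its image under the symmetry. -/
theorem simple_facts : ∀ i : Fin 6,
    (chevE6.simple i < chevE6.nroots ∧ chevE6.neg (chevE6.simple i) < chevE6.nroots) ∧
    (rhoN (chevE6.simple i) = chevE6.simple (r i) ∧ epsN (chevE6.simple i) = 1) ∧
    (rhoN (chevE6.neg (chevE6.simple i)) = chevE6.neg (chevE6.simple (r i)) ∧
      epsN (chevE6.neg (chevE6.simple i)) = 1) := by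
  decide +kernel

variable {K : Type*} [Field K]

theorem sigWord_nWord (f : K →+* K) (i : Fin 6) (t : K) :
    sigWord f (chevE6.nWord (chevE6.simple i) t) = chevE6.nWord (chevE6.simple (r i)) (f t) := by
  obtain ⟨_, ⟨h1, h2⟩, h3, h4⟩ := simple_facts i
  simp only [sigWord, ChevalleyDatum.nWord, List.map_cons, List.map_nil, h1, h2, h3, h4, Int.cast_one, one_mul,
    map_neg, map_inv₀]

theorem nWord_lt (i : Fin 6) (t : K) : ∀ p ∈ chevE6.nWord (chevE6.simple i) t, p.1 < chevE6.nroots := by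
  obtain ⟨⟨h1, h2⟩, _⟩ := simple_facts i
  intro p hp
  simp only [ChevalleyDatum.nWord, List.mem_cons, List.not_mem_nil, or_false] at hp
  rcases hp with rfl | rfl | rfl
  · exact h1
  · exact h2
  · exact h1

theorem hWord_lt (i : Fin 6) (t : K) : ∀ p ∈ chevE6.hWord (chevE6.simple i) t, p.1 < chevE6.nroots := by
  intro p hp
  rw [ChevalleyDatum.hWord, List.mem_append] at hp
  rcases hp with hp | hp
  · exact nWord_lt i t p hp
  · exact nWord_lt i (-1) p hp

theorem sigWord_hWord (f : K →+* K) (i : Fin 6) (t : K) :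
    sigWord f (chevE6.hWord (chevE6.simple i) t) = chevE6.hWord (chevE6.simple (r i)) (f t) := by
  have h : sigWord f (chevE6.hWord (chevE6.simple i) t) =
      sigWord f (chevE6.nWord (chevE6.simple i) t) ++ sigWord f (chevE6.nWord (chevE6.simple i) (-1)) := by
    simp only [sigWord, ChevalleyDatum.hWord, List.map_append]
  rw [h, sigWord_nWord, sigWord_nWord, map_neg, map_one]
  rfl

/-- `σ(n_{p_i}) = n_{ρ p_i}`. -/
theorem sigma_nU (f : K →+* K) (i : Fin 6) :
    sigma f (nU ocE6 (chevE6.simple i) 1) = nU ocE6 (chevE6.simple (r i)) 1 := by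
  apply Units.ext
  rw [coe_sigma, coe_nU, coe_nU]
  have h := sig_wordMat f (chevE6.nWord (chevE6.simple i) 1) (nWord_lt i 1)
  rw [sigWord_nWord, map_one] at h
  exact h

/-- `σ(h_{p_i}(c)) = h_{ρ p_i}(f c)`. -/
theorem sigma_hU (f : K →+* K) (i : Fin 6) (c : K) :
    sigma f (hU ocE6 (chevE6.simple i) c) = hU ocE6 (chevE6.simple (r i)) (f c) := by
  apply Units.ext
  rw [coe_sigma, coe_hU, coe_hU]
  have h := sig_wordMat f (chevE6.hWord (chevE6.simple i) c) (hWord_lt i c)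
  rw [sigWord_hWord] at h
  exact h

/-- `σ` preserves `H`. -/
theorem sigma_mem_H (f : K →+* K) (g : GL chevE6.Idx K) (hg : g ∈ chevE6.diagonalSubgroup K) :
    sigma f g ∈ chevE6.diagonalSubgroup K := by
  obtain ⟨c, hc, hgc⟩ := Cfsg.Agent.S1034.result (F := K) chevE6 (by simp) g hg
  -- `g` is the product of the `h_{p_i}(c_i)`
  have key : ∀ n : ℕ, n ≤ 6 → ∃ g' : GL chevE6.Idx K, (g' : Matrix chevE6.Idx chevE6.Idx K) =
      chevE6.wordMat K ((List.range n).flatMap fun i => chevE6.hWord (chevE6.simple i) (c i)) ∧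
      sigma f g' ∈ chevE6.diagonalSubgroup K := by
    intro n
    induction n with
    | zero =>
      intro _
      refine ⟨1, ?_, ?_⟩
      · simp [ChevalleyDatum.wordMat]
      · rw [map_one]; exact one_mem _
    | succ n ih =>
      intro hn
      obtain ⟨g', hg', hs⟩ := ih (by omega)
      have hi : n < 6 := by omega
      refine ⟨g' * hU ocE6 (chevE6.simple n) (c n), ?_, ?_⟩
      · rw [List.range_succ, List.flatMap_append, wordMat_append, Units.val_mul, hg', coe_hU]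
        congr 1
      · rw [map_mul]
        refine mul_mem hs ?_
        have h1 := sigma_hU f ⟨n, hi⟩ (c n)
        have h2 : sigma f (hU ocE6 (chevE6.simple n) (c n)) = hU ocE6 (chevE6.simple (r ⟨n, hi⟩)) (f (c n)) := h1
        rw [h2]
        exact hU_mem_diagonal ocE6 (simple_facts (r ⟨n, hi⟩)).1.1
          ((map_ne_zero f).2 (hc n (by exact hi)))
  obtain ⟨g', hg', hs⟩ := key 6 le_rfl
  have : g = g' := Units.ext (hgc.trans hg'.symm)
  rw [this]
  exact hs

/-! ### The monomial subgroup -/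

/-- The product of the `n_{p_i}` along a word. -/
noncomputable def nw (K : Type*) [Field K] (ω : List (Fin 6)) : GL chevE6.Idx K :=
  (ω.map fun i => nU ocE6 (chevE6.simple i) (1 : K)).prod

theorem nw_cons (i : Fin 6) (ω : List (Fin 6)) : nw K (i :: ω) = nU ocE6 (chevE6.simple i) 1 * nw K ω := by
  simp [nw]

theorem nw_mem (ω : List (Fin 6)) : nw K ω ∈ chevE6.monomialSubgroup K := by
  induction ω with
  | nil => exact one_mem _
  | cons i ω ih =>
    rw [nw_cons]
    exact mul_mem (nU_one_mem_monomial ocE6 (simple_facts i).1.1) ih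

theorem sigma_nw (f : K →+* K) (ω : List (Fin 6)) : sigma f (nw K ω) = nw K (ω.map r) := by
  induction ω with
  | nil => exact map_one _
  | cons i ω ih => rw [nw_cons, map_mul, ih, sigma_nU, List.map_cons, nw_cons]

theorem rho_wordProd (ω : List (Fin 6)) : rho (cs6.wordProd ω) = cs6.wordProd (ω.map r) := by
  induction ω with
  | nil => simp
  | cons i ω ih => rw [CoxeterSystem.wordProd_cons, map_mul, ih, rho_simple, List.map_cons,
      CoxeterSystem.wordProd_cons]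

section Phi

variable (φ : ↥(chevE6.monomialSubgroup K) →* CoxeterMatrix.E₆.Group)
  (hker : φ.ker = (chevE6.diagonalSubgroup K).subgroupOf (chevE6.monomialSubgroup K))
  (hφ : ∀ (i : Fin 6) (g : ↥(chevE6.monomialSubgroup K)),
    ((g : GL chevE6.Idx K) : Matrix chevE6.Idx chevE6.Idx K) = chevE6.nMat K (chevE6.simple i) 1 →
      φ g = CoxeterMatrix.E₆.simple i)

include hφ in
theorem phi_nw (ω : List (Fin 6)) : φ ⟨nw K ω, nw_mem ω⟩ = cs6.wordProd ω := by
  induction ω with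
  | nil => exact map_one φ
  | cons i ω ih =>
    have e : (⟨nw K (i :: ω), nw_mem (i :: ω)⟩ : ↥(chevE6.monomialSubgroup K)) =
        ⟨nU ocE6 (chevE6.simple i) 1, nU_one_mem_monomial ocE6 (simple_facts i).1.1⟩ * ⟨nw K ω, nw_mem ω⟩ :=
      Subtype.ext (nw_cons i ω)
    rw [e, map_mul, ih, hφ i _ (coe_nU ocE6 _ _), CoxeterSystem.wordProd_cons]
    rfl

include hker in
theorem phi_eq_one_iff (g : ↥(chevE6.monomialSubgroup K)) :
    φ g = 1 ↔ (g : GL chevE6.Idx K) ∈ chevE6.diagonalSubgroup K := by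
  rw [← MonoidHom.mem_ker, hker, Subgroup.mem_subgroupOf]

theorem H_le_N : chevE6.diagonalSubgroup K ≤ chevE6.monomialSubgroup K := le_sup_left

include hker hφ in
/-- `σ` preserves `N` and induces the diagram automorphism on the Weyl group. -/
theorem phi_sigma (f : K →+* K) (g : ↥(chevE6.monomialSubgroup K)) :
    ∃ hs : sigma f g ∈ chevE6.monomialSubgroup K, φ ⟨sigma f g, hs⟩ = rho (φ g) := by
  obtain ⟨ω, hω⟩ := cs6.wordProd_surjective (φ g)
  -- `g = h * n_ω`
  have h1 : φ (g * ⟨nw K ω, nw_mem ω⟩⁻¹) = 1 := by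
    rw [map_mul, map_inv, phi_nw φ hφ, hω, mul_inv_cancel]
  rw [phi_eq_one_iff φ hker] at h1
  have h2 : ((g * ⟨nw K ω, nw_mem ω⟩⁻¹ : ↥(chevE6.monomialSubgroup K)) : GL chevE6.Idx K) =
      (g : GL chevE6.Idx K) * (nw K ω)⁻¹ := rfl
  rw [h2] at h1
  have h3 := sigma_mem_H f _ h1
  have h4 : sigma f (g : GL chevE6.Idx K) =
      sigma f ((g : GL chevE6.Idx K) * (nw K ω)⁻¹) * nw K (ω.map r) := by
    rw [← sigma_nw f, ← map_mul, inv_mul_cancel_right]
  have h5 : sigma f (g : GL chevE6.Idx K) ∈ chevE6.monomialSubgroup K := by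
    rw [h4]
    exact mul_mem (H_le_N h3) (nw_mem _)
  refine ⟨h5, ?_⟩
  have h6 : (⟨sigma f (g : GL chevE6.Idx K), h5⟩ : ↥(chevE6.monomialSubgroup K)) =
      ⟨_, H_le_N h3⟩ * ⟨nw K (ω.map r), nw_mem _⟩ := Subtype.ext h4
  rw [h6, map_mul, phi_nw φ hφ, (phi_eq_one_iff φ hker _).2 h3, one_mul, ← hω, rho_wordProd]

end Phi

/-! ### Elements of the twisted group -/

section Twisted

theorem xU_commute (p : ℕ × ℕ)
    (hp : p ∈ ([(56, 36), (15, 35), (42, 37), (29, 34), (56, 35), (15, 36), (42, 34), (29, 37)] : List (ℕ × ℕ)))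
    (a b : K) : Commute (xU ocE6 p.1 a) (xU ocE6 p.2 b) := by
  apply Units.ext
  exact comm K p hp a b

theorem mem_single {q : ℕ} (hq : ∀ c : K, c = 1 ∨ c = -1 → c ^ q = c) (i : ℕ)
    (hi : i ∈ [e6p2, e6m2, e6p4, e6m4]) (c : K) (hc : c = 1 ∨ c = -1) : xU ocE6 i c ∈ twistedE6 K q := by
  apply Subgroup.subset_closure
  refine ⟨[(i, c)], Or.inl ⟨c, hq c hc, i, hi, rfl⟩, ?_⟩
  simp [ChevalleyDatum.wordMat, coe_xU]

theorem mem_pair {q : ℕ} (hq : ∀ c : K, c = 1 ∨ c = -1 → c ^ q = c) (p : ℕ × ℕ)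
    (hp : p ∈ [(e6p1, e6p6), (e6m1, e6m6), (e6p3, e6p5), (e6m3, e6m5)]) (c : K) (hc : c = 1 ∨ c = -1) :
    xU ocE6 p.1 c * xU ocE6 p.2 c ∈ twistedE6 K q := by
  apply Subgroup.subset_closure
  refine ⟨[(p.1, c), (p.2, c ^ q)], Or.inr ⟨c, p, hp, rfl⟩, ?_⟩
  rw [hq c hc]
  simp [ChevalleyDatum.wordMat, coe_xU]

theorem nU_mem_single {q : ℕ} (hq : ∀ c : K, c = 1 ∨ c = -1 → c ^ q = c) (i : ℕ)
    (hi : i ∈ [e6p2, e6p4]) : nU ocE6 i (1 : K) ∈ twistedE6 K q := by
  have h : i ∈ [e6p2, e6m2, e6p4, e6m4] ∧ chevE6.neg i ∈ [e6p2, e6m2, e6p4, e6m4] := by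
    simp only [List.mem_cons, List.not_mem_nil, or_false] at hi
    rcases hi with rfl | rfl <;> decide +kernel
  rw [nU, inv_one]
  exact mul_mem (mul_mem (mem_single hq _ h.1 _ (Or.inl rfl)) (mem_single hq _ h.2 _ (Or.inr rfl)))
    (mem_single hq _ h.1 _ (Or.inl rfl))

theorem nU_mul_mem {q : ℕ} (hq : ∀ c : K, c = 1 ∨ c = -1 → c ^ q = c) (p : ℕ × ℕ)
    (hp : p ∈ [(e6p1, e6p6), (e6p3, e6p5)]) : nU ocE6 p.1 (1 : K) * nU ocE6 p.2 1 ∈ twistedE6 K q := by
  have h : p ∈ [(e6p1, e6p6), (e6m1, e6m6), (e6p3, e6p5), (e6m3, e6m5)] ∧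
      (chevE6.neg p.1, chevE6.neg p.2) ∈ [(e6p1, e6p6), (e6m1, e6m6), (e6p3, e6p5), (e6m3, e6m5)] ∧
      p ∈ ([(56, 36), (15, 35), (42, 37), (29, 34), (56, 35), (15, 36), (42, 34), (29, 37)] : List (ℕ × ℕ)) ∧
      (chevE6.neg p.1, p.2) ∈ ([(56, 36), (15, 35), (42, 37), (29, 34), (56, 35), (15, 36), (42, 34), (29, 37)] : List (ℕ × ℕ)) ∧
      (p.1, chevE6.neg p.2) ∈ ([(56, 36), (15, 35), (42, 37), (29, 34), (56, 35), (15, 36), (42, 34), (29, 37)] : List (ℕ × ℕ)) := by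
    simp only [List.mem_cons, List.not_mem_nil, or_false] at hp
    rcases hp with rfl | rfl <;> decide +kernel
  obtain ⟨h1, h2, h3, h4, h5⟩ := h
  have c1 : Commute (xU ocE6 p.1 (1 : K)) (xU ocE6 p.2 1) := xU_commute p h3 1 1
  have c2 : Commute (xU ocE6 (chevE6.neg p.1) (-1 : K)) (xU ocE6 p.2 1) := xU_commute _ h4 (-1) 1
  have c3 : Commute (xU ocE6 p.1 (1 : K)) (xU ocE6 (chevE6.neg p.2) (-1)) := xU_commute _ h5 1 (-1)
  have e : nU ocE6 p.1 (1 : K) * nU ocE6 p.2 1 =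
      (xU ocE6 p.1 1 * xU ocE6 p.2 1) *
      (xU ocE6 (chevE6.neg p.1) (-1) * xU ocE6 (chevE6.neg p.2) (-1)) *
      (xU ocE6 p.1 1 * xU ocE6 p.2 1) := by
    rw [nU, nU, inv_one]
    generalize xU ocE6 p.1 (1 : K) = a at *
    generalize xU ocE6 p.2 (1 : K) = b at *
    generalize xU ocE6 (chevE6.neg p.1) (-1 : K) = a' at *
    generalize xU ocE6 (chevE6.neg p.2) (-1 : K) = b' at *
    calc a * a' * a * (b * b' * b) = a * a' * (a * b) * b' * b := by simp only [mul_assoc]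
      _ = a * (a' * b) * (a * b') * b := by rw [c1.eq]; simp only [mul_assoc]
      _ = a * b * a' * b' * a * b := by rw [c2.eq, c3.eq]; simp only [mul_assoc]
      _ = _ := by simp only [mul_assoc]
  rw [e]
  exact mul_mem (mul_mem (mem_pair hq p h1 1 (Or.inl rfl)) (mem_pair hq _ h2 (-1) (Or.inr rfl)))
    (mem_pair hq p h1 1 (Or.inl rfl))

/-- The words `gen i` are represented in `N¹`. -/
theorem nw_gen_mem {q : ℕ} (hq : ∀ c : K, c = 1 ∨ c = -1 → c ^ q = c) (i : Fin 4) :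
    nw K (gen i) ∈ twistedE6 K q := by
  have hi : i = 0 ∨ i = 1 ∨ i = 2 ∨ i = 3 := by fin_cases i <;> simp
  rcases hi with rfl | rfl | rfl | rfl
  · have e : nw K (gen 0) = nU ocE6 e6p2 (1 : K) := by
      show (List.map _ [1]).prod = _
      simp only [List.map_cons, List.map_nil, List.prod_cons, List.prod_nil, mul_one]
      rfl
    rw [e]
    exact nU_mem_single hq _ (by simp)
  · have e : nw K (gen 1) = nU ocE6 e6p4 (1 : K) := by
      show (List.map _ [3]).prod = _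
      simp only [List.map_cons, List.map_nil, List.prod_cons, List.prod_nil, mul_one]
      rfl
    rw [e]
    exact nU_mem_single hq _ (by simp)
  · have e : nw K (gen 2) = nU ocE6 e6p3 (1 : K) * nU ocE6 e6p5 (1 : K) := by
      show (List.map _ [2, 4]).prod = _
      simp only [List.map_cons, List.map_nil, List.prod_cons, List.prod_nil, mul_one]
      rfl
    rw [e]
    exact nU_mul_mem hq (e6p3, e6p5) (by simp)
  · have e : nw K (gen 3) = nU ocE6 e6p1 (1 : K) * nU ocE6 e6p6 (1 : K) := by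
      show (List.map _ [0, 5]).prod = _
      simp only [List.map_cons, List.map_nil, List.prod_cons, List.prod_nil, mul_one]
      rfl
    rw [e]
    exact nU_mul_mem hq (e6p1, e6p6) (by simp)

end Twisted

/-- `N¹/H¹ ≅ W¹`: a surjective homomorphism from `N¹ = G¹ ∩ N` onto the Coxeter group of type F₄ with kernel `H¹`. -/
theorem result {K : Type*} [Field K] [Fintype K] {q : ℕ} (hq : IsPrimePow q) (hK : Fintype.card K = q ^ 2) :
    ∃ φ : ↥(Cfsg.Lie.chevE6.monomialSubgroup K ⊓ Cfsg.Lie.twistedE6 K q) →* (CoxeterMatrix.F₄).Group, Function.Surjective φ ∧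
      φ.ker = (Cfsg.Lie.chevE6.diagonalSubgroup K ⊓ Cfsg.Lie.twistedE6 K q).subgroupOf (Cfsg.Lie.chevE6.monomialSubgroup K ⊓ Cfsg.Lie.twistedE6 K q) := by
  obtain ⟨f, hf, hff⟩ := exists_frob hq hK
  obtain ⟨φ, hsurj, hker, hφ⟩ := Cfsg.Agent.S1039.result (F := K)
    (Cfsg.Lie.chevE6, ⟨6, CoxeterMatrix.E₆⟩) (by simp)
  have hq1 : ∀ c : K, c = 1 ∨ c = -1 → c ^ q = c := by
    rintro c (rfl | rfl)
    · exact one_pow q
    · rw [← hf, map_neg, map_one]
  -- the restriction to `N¹`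
  let ι : ↥(chevE6.monomialSubgroup K ⊓ twistedE6 K q) →* ↥(chevE6.monomialSubgroup K) :=
    Subgroup.inclusion inf_le_left
  let φ₁ : ↥(chevE6.monomialSubgroup K ⊓ twistedE6 K q) →* CoxeterMatrix.E₆.Group := φ.comp ι
  have hmem : ∀ g, φ₁ g ∈ psi.range := by
    intro g
    apply mem_range_of_fixed
    obtain ⟨hs, h⟩ := phi_sigma φ hker hφ f (ι g)
    have h1 : sigma f (g : GL chevE6.Idx K) = g := sigma_fix f hf hff _ g.2.2
    have h2 : (⟨sigma f ((ι g : ↥(chevE6.monomialSubgroup K)) : GL chevE6.Idx K), hs⟩ :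
        ↥(chevE6.monomialSubgroup K)) = ι g := Subtype.ext h1
    rw [h2] at h
    exact h.symm
  let e : CoxeterMatrix.F₄.Group ≃* psi.range := MonoidHom.ofInjective psi_injective
  let φ₂ : ↥(chevE6.monomialSubgroup K ⊓ twistedE6 K q) →* psi.range := φ₁.codRestrict psi.range hmem
  refine ⟨e.symm.toMonoidHom.comp φ₂, ?_, ?_⟩
  · -- surjectivity
    have hr : (e.symm.toMonoidHom.comp φ₂).range = ⊤ := by
      rw [eq_top_iff, ← cs4.subgroup_closure_range_simple, Subgroup.closure_le]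
      rintro _ ⟨i, rfl⟩
      refine ⟨⟨nw K (gen i), nw_mem _, nw_gen_mem hq1 i⟩, ?_⟩
      show e.symm (φ₂ _) = cs4.simple i
      rw [MulEquiv.symm_apply_eq]
      apply Subtype.ext
      show φ ⟨nw K (gen i), nw_mem _⟩ = psi (CoxeterMatrix.F₄.simple i)
      rw [psi_simple]
      exact phi_nw φ hφ (gen i)
    exact MonoidHom.range_eq_top.1 hr
  · ext g
    rw [MonoidHom.mem_ker, Subgroup.mem_subgroupOf]
    have h1 : (e.symm.toMonoidHom.comp φ₂) g = 1 ↔ φ (ι g) = 1 := by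
      show e.symm (φ₂ g) = 1 ↔ _
      rw [MulEquiv.map_eq_one_iff]
      exact Subtype.ext_iff
    rw [h1, phi_eq_one_iff φ hker]
    exact ⟨fun h => ⟨h, g.2.2⟩, fun h => h.1⟩

end Cfsg.Agent.S1103
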