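import Cfsg.Statements.S1107
import Cfsg.Agent.ChevalleyStructure.D4TwN
import Cfsg.Agent.ChevalleyStructure.CoxeterFaithful

set_option autoImplicit false
open Cfsg

namespace Cfsg.Agent.S1107

open Cfsg.Agent.ChevalleyStructure

/-- relative Cartan matrix (node 0 short, node 1 long) -/
def A (i j : Fin 2) : ℤ := if i = j then 2 else if i = 0 then -3 else -1

/-- relative coordinates of the 24 roots of D₄ -/
def c (r : Fin 24) (i : Fin 2) : ℤ :=
  if i = 0 then D4NConj.wt 0 (4 + r.val) + D4NConj.wt 2 (4 + r.val) + D4NConj.wt 3 (4 + r.val)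
  else D4NConj.wt 1 (4 + r.val)

/-- the two relative reflections on the 24 roots -/
def f (i : Fin 2) : Equiv.Perm (Fin 24) := if i = 0 then D4Perm.wA else D4Perm.wB

theorem f_zero : f 0 = D4Perm.wA := rfl
theorem f_one : f 1 = D4Perm.wB := rfl

theorem braid1 : (D4Perm.wA * D4Perm.wB) ^ 6 = 1 := by
  ext r; revert r; decide +kernel
theorem braid2 : (D4Perm.wB * D4Perm.wA) ^ 6 = 1 := by
  ext r; revert r; decide +kernel

theorem liftable : CoxeterMatrix.G₂.IsLiftable f := by
  intro i j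
  fin_cases i <;> fin_cases j
  · show (f 0 * f 0) ^ 1 = 1
    rw [f_zero, pow_one, D4Perm.wA_sq]
  · exact braid1
  · exact braid2
  · show (f 1 * f 1) ^ 1 = 1
    rw [f_one, pow_one, D4Perm.wB_sq]

/-- the homomorphism from the Coxeter group of type G₂ -/
noncomputable def psi : CoxeterMatrix.G₂.Group →* Equiv.Perm (Fin 24) :=
  CoxeterMatrix.G₂.toCoxeterSystem.lift ⟨f, liftable⟩

theorem psi_simple (i : Fin 2) : psi (CoxeterMatrix.G₂.toCoxeterSystem.simple i) = f i :=
  CoxeterSystem.lift_apply_simple _ liftable i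

theorem compat : CoxeterFaithful.Compat CoxeterMatrix.G₂ A := by decide +kernel

theorem c_f : ∀ (i : Fin 2) (r : Fin 24) (j : Fin 2), c (f i r) j = CoxeterFaithful.refl A i (c r) j := by
  decide +kernel

theorem c_simple : ∀ (i j : Fin 2), c (if i = 0 then D4RGD.simpleF 0 else D4RGD.simpleF 1) j =
    (Pi.single i (1 : ℤ) : Fin 2 → ℤ) j := by
  decide +kernel

theorem psi_injective : Function.Injective psi :=
  CoxeterFaithful.perm_injective CoxeterMatrix.G₂.toCoxeterSystem compat psi c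
    (fun i r => by rw [psi_simple]; exact funext fun j => c_f i r j)
    (fun i => if i = 0 then D4RGD.simpleF 0 else D4RGD.simpleF 1)
    (fun i => funext fun j => c_simple i j)

theorem psi_range : psi.range = D4TwN.WT := by
  rw [MonoidHom.range_eq_map, ← CoxeterMatrix.G₂.toCoxeterSystem.subgroup_closure_range_simple,
    MonoidHom.map_closure, D4TwN.WT_def]
  congr 1
  ext w
  constructor
  · rintro ⟨_, ⟨i, rfl⟩, rfl⟩
    rw [psi_simple]
    fin_cases i
    · exact Or.inl rfl
    · exact Or.inr rfl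
  · rintro (rfl | rfl)
    · exact ⟨_, ⟨0, rfl⟩, psi_simple 0⟩
    · exact ⟨_, ⟨1, rfl⟩, psi_simple 1⟩

/-- `N¹/H¹ ≅ W¹`: a surjective homomorphism from `N¹ = G¹ ∩ N` onto the Coxeter group of type G₂ (dihedral of order 12) with kernel `H¹`. -/
theorem result {K : Type*} [Field K] [Fintype K] {q : ℕ} (hq : IsPrimePow q) (hK : Fintype.card K = q ^ 3) :
    ∃ φ : ↥(Cfsg.Lie.chevD4.monomialSubgroup K ⊓ Cfsg.Lie.twistedD4 K q) →* (CoxeterMatrix.G₂).Group, Function.Surjective φ ∧
      φ.ker = (Cfsg.Lie.chevD4.diagonalSubgroup K ⊓ Cfsg.Lie.twistedD4 K q).subgroupOf (Cfsg.Lie.chevD4.monomialSubgroup K ⊓ Cfsg.Lie.twistedD4 K q) := by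
  obtain ⟨φ, hφ⟩ := D4Fixed.exists_frob hq hK
  have hr : (D4TwN.permT K q).range = psi.range := by
    rw [D4TwN.range_permT hK hφ, psi_range]
  have hmem : ∀ g, D4TwN.permT K q g ∈ psi.range := fun g => hr ▸ ⟨g, rfl⟩
  let e : CoxeterMatrix.G₂.Group ≃* psi.range := MonoidHom.ofInjective psi_injective
  have he : ∀ w, ((e w : psi.range) : Equiv.Perm (Fin 24)) = psi w := fun w => rfl
  refine ⟨e.symm.toMonoidHom.comp ((D4TwN.permT K q).codRestrict psi.range hmem), ?_, ?_⟩
  · intro w
    have h1 : psi w ∈ (D4TwN.permT K q).range := hr.symm ▸ ⟨w, rfl⟩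
    obtain ⟨g, hg⟩ := h1
    refine ⟨g, ?_⟩
    show e.symm ((D4TwN.permT K q).codRestrict psi.range hmem g) = w
    rw [MulEquiv.symm_apply_eq]
    apply Subtype.ext
    rw [he]
    exact hg
  · rw [← D4TwN.ker_permT]
    ext g
    rw [MonoidHom.mem_ker, MonoidHom.mem_ker]
    show e.symm ((D4TwN.permT K q).codRestrict psi.range hmem g) = 1 ↔ _
    rw [MulEquiv.symm_apply_eq, map_one]
    constructor
    · intro h
      exact congrArg Subtype.val h
    · intro h
      exact Subtype.ext h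

end Cfsg.Agent.S1107
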