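import Cfsg.Statements.S1115
import Cfsg.Agent.ChevalleyStructure.G2Mono
import Cfsg.Agent.ChevalleyStructure.ReeFixed

set_option autoImplicit false
open Cfsg

namespace Cfsg.Agent.S1115

open Cfsg.Agent.ChevalleyStructure Cfsg.Lie Cfsg.Agent.ChevalleyStructure.G2Sym Cfsg.Agent.ChevalleyStructure.G2N
  Cfsg.Agent.ChevalleyStructure.G2Perm Cfsg.Agent.ChevalleyStructure.G2Mono

section perm

/-- short roots -/
def sI : Fin 6 → Fin 12 := ![2, 3, 4, 7, 8, 9]
/-- long roots, in the same order under the symmetry -/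
def lI : Fin 6 → Fin 12 := ![0, 1, 5, 6, 10, 11]

theorem cover : ∀ t : Fin 12, (∃ i, t = sI i) ∨ ∃ i, t = lI i := by decide

theorem sh_eq : ∀ j : Fin 6, ReeFixed.sh j.succ = rv (sI j) := by decide
theorem lg_eq : ∀ j : Fin 6, ReeFixed.lg j.succ = rv (lI j) := by decide

theorem perm_bar : ∀ k : Fin 6, ∀ e : Fin 2,
    (∀ j : Fin 6, ∃ i : Fin 6, ((wP 7 * wP 6) ^ k.val * (wP 7) ^ e.val) (sI j) = sI i ∧
      ((wP 7 * wP 6) ^ k.val * (wP 7) ^ e.val) (lI j) = lI i) → (k.val = 0 ∨ k.val = 3) ∧ e.val = 0 := by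
  decide +kernel

/-- The permutation of the roots of a fixed monomial element commutes with the symmetry. -/
theorem exists_bar {K : Type*} [Field K] {θ : K →+* K} {g : GL chevG2.Idx K} {π : Equiv.Perm (Fin 12)}
    (hf : ReeFixed.Fixed θ (g : Matrix chevG2.Idx chevG2.Idx K)) (hp : HasPerm g π) (j : Fin 6) :
    ∃ i : Fin 6, π (sI j) = sI i ∧ π (lI j) = lI i := by
  obtain ⟨c, hc, h⟩ := hp (sI j)
  obtain ⟨c', hc', h'⟩ := hp (lI j)
  rcases cover (π (sI j)) with ⟨i, hi⟩ | ⟨i, hi⟩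
  · refine ⟨i, hi, ?_⟩
    have h1 := h (rv (sI i))
    rw [hi, if_pos rfl, ← sh_eq, ← sh_eq, ← hf.2, lg_eq, lg_eq] at h1
    by_contra hne
    have h2 := h' (rv (lI i))
    rw [if_neg (fun h3 => hne (rv_injective h3).symm)] at h2
    rw [h2, map_zero] at h1
    exact hc h1.symm
  · exfalso
    have h1 := h (rv (lI i))
    rw [hi, if_pos rfl, ← lg_eq, ← sh_eq, hf.1] at h1
    exact hc h1.symm

end perm

section nzero

def uW : List (ℕ × Poly) := [(7, cst 0), (6, cst 0), (8, cst 1), (9, cst 0), (10, cst 1), (11, cst 0)]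
def vW : List (ℕ × Poly) := [(4, cst 0), (5, cst 0), (3, cst (-1)), (2, cst 0), (1, cst (-1)), (0, cst 0)]

theorem check_n0 : chk 3 (uW ++ vW ++ uW) (cW ++ cW ++ cW) = true := by decide +kernel

/-- `(n_a n_b)^3` lies in the small Ree group -/
theorem c_cube_mem {K : Type*} [Field K] (h3 : ((3 : ℕ) : K) = 0) {e : ℕ} (he : e ≠ 0) :
    (nG 7 (1 : K) * nG 6 1) ^ 3 ∈ twistedG2 K e := by
  have h3' : ((3 : ℤ) : K) = 0 := by exact_mod_cast h3
  have h := word_eq (F := K) h3' (fun _ => 0) _ _ check_n0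
  have h7 : chevG2.wordMat K ((nW 7).map fun l => (l.1, evP (fun _ => (0 : K)) l.2)) = (nG 7 (1 : K)).1 := by
    rw [coe_nG]
    have := neg_eq (r := 7) (by norm_num)
    simp [nW, evP_cst, ChevalleyDatum.nMat, ChevalleyDatum.nWord, this]
  have h6 : chevG2.wordMat K ((nW 6).map fun l => (l.1, evP (fun _ => (0 : K)) l.2)) = (nG 6 (1 : K)).1 := by
    rw [coe_nG]
    have := neg_eq (r := 6) (by norm_num)
    simp [nW, evP_cst, ChevalleyDatum.nMat, ChevalleyDatum.nWord, this]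
  have happ : ∀ w w' : List (ℕ × K), chevG2.wordMat K (w ++ w') = chevG2.wordMat K w * chevG2.wordMat K w' := by
    intro w w'
    simp [ChevalleyDatum.wordMat]
  have hu : uW.map (fun l => (l.1, evP (fun _ => (0 : K)) l.2)) = reeWordU e 0 1 0 := by
    simp [uW, evP_cst, reeWordU, g2a, g2b, g2ab, g2aab, g2aaab, g2aaabb, he]
  have hv : vW.map (fun l => (l.1, evP (fun _ => (0 : K)) l.2)) = reeWordV e 0 1 0 := by
    rw [reeWordV, ← hu]
    simp [uW, vW, evP_cst, ChevalleyDatum.negWord, chevG2, chevG2NegIdx]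
  simp only [cW, List.map_append, happ, h7, h6, hu, hv] at h
  -- the elements of the twisted group
  have hwU : ∃ g : GL chevG2.Idx K, (g : Matrix chevG2.Idx chevG2.Idx K) = chevG2.wordMat K (reeWordU e 0 1 0) := by
    refine ⟨xG 7 (0 : K) * xG 6 0 * xG 8 1 * xG 9 0 * xG 10 1 * xG 11 0, ?_⟩
    rw [← hu]
    simp only [uW, List.map_cons, List.map_nil, ChevalleyDatum.wordMat, List.prod_cons, List.prod_nil, evP_cst,
      Units.val_mul, coe_xG, Int.cast_zero, Int.cast_one, mul_one, mul_assoc]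
  have hwV : ∃ g : GL chevG2.Idx K, (g : Matrix chevG2.Idx chevG2.Idx K) = chevG2.wordMat K (reeWordV e 0 1 0) := by
    refine ⟨xG 4 (0 : K) * xG 5 0 * xG 3 (-1) * xG 2 0 * xG 1 (-1) * xG 0 0, ?_⟩
    rw [← hv]
    simp only [vW, List.map_cons, List.map_nil, ChevalleyDatum.wordMat, List.prod_cons, List.prod_nil, evP_cst,
      Units.val_mul, coe_xG, Int.cast_zero, Int.cast_one, Int.cast_neg, mul_one, mul_assoc]
  obtain ⟨gu, hgu⟩ := hwU
  obtain ⟨gv, hgv⟩ := hwV
  have hgu' : gu ∈ twistedG2 K e := Subgroup.subset_closure ⟨_, ⟨0, 1, 0, Or.inl rfl⟩, hgu⟩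
  have hgv' : gv ∈ twistedG2 K e := Subgroup.subset_closure ⟨_, ⟨0, 1, 0, Or.inr rfl⟩, hgv⟩
  have : (nG 7 (1 : K) * nG 6 1) ^ 3 = gu * gv * gu := by
    apply Units.ext
    rw [Units.val_pow_eq_pow_val, Units.val_mul, Units.val_mul, Units.val_mul, hgu, hgv, h]
    simp only [pow_succ, pow_zero, one_mul]
  rw [this]
  exact Subgroup.mul_mem _ (Subgroup.mul_mem _ hgu' hgv') hgu'

end nzero

/-- `N¹/H¹ ≅ W¹`: a surjective homomorphism from `N¹ = G¹ ∩ N` onto the group of order 2 with kernel `H¹`. -/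
theorem result {K : Type*} [Field K] [Fintype K] {m : ℕ} (hK : Fintype.card K = 3 ^ (2 * m + 1)) :
    ∃ φ : ↥(Cfsg.Lie.chevG2.monomialSubgroup K ⊓ Cfsg.Lie.twistedG2 K (3 ^ m)) →* Multiplicative (ZMod 2), Function.Surjective φ ∧
      φ.ker = (Cfsg.Lie.chevG2.diagonalSubgroup K ⊓ Cfsg.Lie.twistedG2 K (3 ^ m)).subgroupOf (Cfsg.Lie.chevG2.monomialSubgroup K ⊓ Cfsg.Lie.twistedG2 K (3 ^ m)) := by
  obtain ⟨h3, θ, hθ⟩ := ReeFixed.exists_theta hK
  set N1 := chevG2.monomialSubgroup K ⊓ twistedG2 K (3 ^ m) with hN1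
  set H1 := chevG2.diagonalSubgroup K ⊓ twistedG2 K (3 ^ m) with hH1
  have hn0 : (nG 7 (1 : K) * nG 6 1) ^ 3 ∈ N1 := by
    refine ⟨Subgroup.pow_mem _ (Subgroup.mul_mem _ (nG_mem (by norm_num)) (nG_mem (by norm_num))) 3, ?_⟩
    exact c_cube_mem h3 (pow_ne_zero _ (by norm_num))
  have hindex : (H1.subgroupOf N1).index = 2 := by
    rw [Subgroup.index_eq_two_iff_exists_notMem_and]
    refine ⟨⟨_, hn0⟩, ?_, ?_⟩
    · intro hmem
      rw [Subgroup.mem_subgroupOf] at hmem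
      have h1 := hasPerm_of_mem_diagonal hmem.1
      have h7 : HasPerm (nG 7 (1 : K)) (wP 7) := hasPerm_n_one 7
      have h6 : HasPerm (nG 6 (1 : K)) (wP 6) := hasPerm_n_one 6
      have h2 := (hasPerm_pow (h7.mul h6) 3).unique h1
      have h4 : (wP 7 * wP 6) ^ 3 ≠ 1 := by decide +kernel
      exact h4 h2
    · rintro ⟨b, hb⟩
      obtain ⟨h, hh, k, e, hbe, hp⟩ := exists_rep_hasPerm hb.1
      have hf := ReeFixed.fixed_of_mem_twistedG2 h3 hθ hb.2
      obtain ⟨hk, he⟩ := perm_bar k e (fun j => exists_bar hf hp j)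
      rcases hk with hk | hk
      · right
        rw [Subgroup.mem_subgroupOf]
        refine ⟨?_, hb.2⟩
        show b ∈ _
        rw [hbe, hk, he, pow_zero, pow_zero, mul_one, mul_one]
        exact hh
      · left
        rw [Subgroup.mem_subgroupOf]
        refine ⟨?_, Subgroup.mul_mem _ hb.2 hn0.2⟩
        show b * (nG 7 (1 : K) * nG 6 1) ^ 3 ∈ _
        have h4 : b * (nG 7 (1 : K) * nG 6 1) ^ 3 = h := by
          rw [hbe, hk, he, pow_zero, mul_one, mul_assoc, ← pow_add]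
          have h5 := c_pow_six (F := K)
          have h6 : 3 + 3 = 6 := rfl
          rw [h6, h5, mul_one]
        rw [h4]
        exact hh
  have hnorm : (H1.subgroupOf N1).Normal := Subgroup.normal_of_index_eq_two hindex
  have hcard : Nat.card (↥N1 ⧸ H1.subgroupOf N1) = 2 := hindex
  have hcard' : Nat.card (Multiplicative (ZMod 2)) = 2 := by
    rw [Nat.card_congr Multiplicative.toAdd, Nat.card_zmod]
  have : Fact (Nat.Prime 2) := ⟨Nat.prime_two⟩
  let ψ : (↥N1 ⧸ H1.subgroupOf N1) ≃* Multiplicative (ZMod 2) := mulEquivOfPrimeCardEq hcard hcard'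
  refine ⟨ψ.toMonoidHom.comp (QuotientGroup.mk' (H1.subgroupOf N1)), ?_, ?_⟩
  · exact ψ.surjective.comp (QuotientGroup.mk'_surjective _)
  · ext x
    rw [MonoidHom.mem_ker, MonoidHom.comp_apply]
    have : ψ.toMonoidHom (QuotientGroup.mk' (H1.subgroupOf N1) x) = 1 ↔ QuotientGroup.mk' (H1.subgroupOf N1) x = 1 :=
      ψ.map_eq_one_iff
    rw [this]
    exact QuotientGroup.eq_one_iff x

end Cfsg.Agent.S1115
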