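-- Statement S1139.
import Cfsg.Statements.S1139
import Cfsg.Agent.LieRecognition.HigmanTypeA2
import Cfsg.Agent.S1137

set_option autoImplicit false
open Cfsg

namespace Cfsg.Agent.S1139

/-- A Suzuki 2-group `P` with `|P| = |Z(P)|²` is of type A: for some finite field `F` with `|F| = |Z(P)|` and some field automorphism `φ ≠ 1` of odd order, `P` is isomorphic to the group of lower unitriangular matrices with rows `(1,0,0)`, `(x,1,0)`, `(y, φ x, 1)`. -/
theorem result {P : Type*} [Group P] (hP : Cfsg.IsSuzukiTwoGroup P)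
    (hcard : Nat.card P = Nat.card (Subgroup.center P) ^ 2) :
    ∃ (F : Type) (_ : Field F) (_ : Fintype F) (φ : F ≃+* F), Fintype.card F = Nat.card (Subgroup.center P) ∧
      φ ≠ RingEquiv.refl F ∧ Odd (orderOf φ) ∧ Nonempty (P ≃* Cfsg.suzukiTypeA F (φ : F →+* F)) := by
  obtain ⟨h37a, h37b⟩ := Cfsg.Agent.S1137.result hP
  obtain ⟨hfin, hP2, hna, _, K, hKc, hKreg⟩ := hP
  haveI := hfin
  obtain ⟨ξ, hξ⟩ := hKc.exists_generator
  have hfinA : Finite (MulAut P) :=
    Finite.of_injective (fun σ : MulAut P => (σ : P → P)) DFunLike.coe_injective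
  have hpow : ∀ k : K, ∃ i : ℕ, (ξ : MulAut P) ^ i = k := by
    intro k
    have h1 : k ∈ Submonoid.powers ξ := mem_powers_iff_mem_zpowers.mpr (hξ k)
    obtain ⟨i, hi⟩ := h1
    exact ⟨i, by rw [← hi]; rfl⟩
  refine Cfsg.Agent.LieRecognition.HigmanTypeA2.main hP2 hna ?_ h37b hcard (ξ : MulAut P) ?_ ?_
  · intro x hx
    by_cases h1 : x = 1
    · rw [h1]; exact one_mem _
    · exact ((h37a x).mp ⟨h1, hx⟩).1
  · intro x hx y hy hx1 hy1
    obtain ⟨k, hk, _⟩ := hKreg x y hx1 (h37b x hx) hy1 (h37b y hy)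
    obtain ⟨i, hi⟩ := hpow k
    exact ⟨i, by rw [hi]; exact hk⟩
  · intro i x hx hx1 hix
    obtain ⟨k, _, hku⟩ := hKreg x x hx1 (h37b x hx) hx1 (h37b x hx)
    have h1 : ξ ^ i = k := hku (ξ ^ i) (by
      change ((ξ ^ i : K) : MulAut P) x = x
      rw [Subgroup.coe_pow]
      exact hix)
    have h2 : (1 : K) = k := hku 1 rfl
    rw [← h2] at h1
    exact congrArg Subtype.val h1

end Cfsg.Agent.S1139
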