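-- Statement S1148: recognition of `PSU₃(q)`, `q` odd, by a split (B,N)-pair of rank one.
import Cfsg.Statements.S1148
import Cfsg.Agent.ONan.Global
import Cfsg.Agent.ONan.FromBN
import Cfsg.Agent.ONan.StructU
import Cfsg.Agent.ONan.Identify
import Cfsg.Agent.ONan.MakeCoord

set_option autoImplicit false
open Cfsg

namespace Cfsg.Agent.S1148

open Cfsg.Agent.ONan.RankOne Cfsg.Agent.ONan.Global Cfsg.Agent.ONan.FromBN

/-- `G` is generated by `U` and `w`. -/
theorem closure_eq_top {G Ω : Type*} [Group G] [MulAction G Ω] [Finite G] [Finite Ω]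
    [FaithfulSMul G Ω] [IsSimpleGroup G] {p n q d : ℕ} {inf zero : Ω} {U H : Subgroup G} {t w : G}
    (S : Glob p n q d inf zero U H t w) : Subgroup.closure ((U : Set G) ∪ {w}) = ⊤ := by
  have hwi : w⁻¹ = w := S.w_inv
  let M : Subgroup G := U ⊔ U.map (MulAut.conj w).toMonoidHom
  have hmapw : ∀ u ∈ U, w * u * w⁻¹ ∈ U.map (MulAut.conj w).toMonoidHom := fun u hu => ⟨u, hu, rfl⟩
  have hUM : U ≤ M := le_sup_left
  have hwM : U.map (MulAut.conj w).toMonoidHom ≤ M := le_sup_right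
  have hle : M ≤ Subgroup.closure ((U : Set G) ∪ {w}) := by
    apply sup_le
    · exact fun u hu => Subgroup.subset_closure (Or.inl hu)
    · rintro _ ⟨u, hu, rfl⟩
      have h1 : w ∈ Subgroup.closure ((U : Set G) ∪ {w}) := Subgroup.subset_closure (Or.inr rfl)
      exact Subgroup.mul_mem _ (Subgroup.mul_mem _ h1 (Subgroup.subset_closure (Or.inl hu)))
        (Subgroup.inv_mem _ h1)
  -- conjugation by `g` maps `M` into `M` as soon as it does so for the two generating subgroups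
  have key : ∀ g : G, (∀ u ∈ U, g * u * g⁻¹ ∈ M) → (∀ u ∈ U, g * (w * u * w⁻¹) * g⁻¹ ∈ M) →
      ∀ m ∈ M, g * m * g⁻¹ ∈ M := by
    intro g h1 h2 m hm
    have h3 : M ≤ M.comap (MulAut.conj g).toMonoidHom := by
      apply sup_le
      · exact fun u hu => h1 u hu
      · rintro _ ⟨u, hu, rfl⟩
        exact h2 u hu
    exact h3 hm
  have hU : ∀ v ∈ U, ∀ m ∈ M, v * m * v⁻¹ ∈ M := fun v hv m hm =>
    M.mul_mem (M.mul_mem (hUM hv) hm) (M.inv_mem (hUM hv))
  have hw : ∀ m ∈ M, w * m * w⁻¹ ∈ M := by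
    apply key
    · exact fun u hu => hwM (hmapw u hu)
    · intro u hu
      have : w * (w * u * w⁻¹) * w⁻¹ = u := by
        rw [hwi]
        calc w * (w * u * w) * w = (w * w) * u * (w * w) := by group
          _ = u := by rw [S.w_sq]; group
      rw [this]
      exact hUM hu
  have hH : ∀ h ∈ H, ∀ m ∈ M, h * m * h⁻¹ ∈ M := by
    intro h hh
    have hn : ∀ x ∈ H, ∀ u ∈ U, x * u * x⁻¹ ∈ U := fun x hx u hu =>
      S.R.norm x (Subgroup.mem_top _) (S.R.D_a x hx) u hu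
    apply key
    · exact fun u hu => hUM (hn h hh u hu)
    · intro u hu
      have h1 := S.w_norm hh
      have e : h * (w * u * w⁻¹) * h⁻¹ = w * ((w * h * w) * u * (w * h * w)⁻¹) * w⁻¹ := by
        have h2 : (w * h * w)⁻¹ = w * h⁻¹ * w := by
          rw [mul_inv_rev, mul_inv_rev, hwi, mul_assoc]
        rw [h2, hwi]
        calc h * (w * u * w) * h⁻¹ = 1 * h * w * u * w * h⁻¹ * 1 := by group
          _ = (w * w) * h * w * u * w * h⁻¹ * (w * w) := by rw [S.w_sq]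
          _ = w * (w * h * w * u * (w * h⁻¹ * w)) * w := by group
      rw [e]
      exact hwM (hmapw _ (hn _ h1 u hu))
  -- `M` is normal
  have hB : ∀ g : G, g • inf = inf → ∀ m ∈ M, g * m * g⁻¹ ∈ M := by
    intro g hg m hm
    obtain ⟨u, hu, h⟩ := S.R.trans (g • zero) (Set.mem_univ _) (fun h => S.R.ne (by
      have : g • inf = g • zero := by rw [hg, h]
      exact smul_left_cancel g this))
    have h1 : u⁻¹ * g ∈ H := S.R.mem_D _ (Subgroup.mem_top _)
      (by rw [mul_smul, hg, inv_smul_eq_iff, S.R.Q_fix u hu]) (by rw [mul_smul, ← h, inv_smul_smul])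
    have h2 := hU u hu _ (hH _ h1 m hm)
    have e : u * (u⁻¹ * g * m * (u⁻¹ * g)⁻¹) * u⁻¹ = g * m * g⁻¹ := by group
    rwa [e] at h2
  have hn : M.Normal := by
    refine ⟨fun m hm g => ?_⟩
    by_cases hg : g • inf = inf
    · exact hB g hg m hm
    · obtain ⟨u, hu, h⟩ := S.R.trans (g • inf) (Set.mem_univ _) hg
      have h1 : ((u * w)⁻¹ * g) • inf = inf := by
        rw [mul_smul, inv_smul_eq_iff, mul_smul, S.w_inf, h]
      have h2 := hU u hu _ (hw _ (hB _ h1 m hm))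
      have e : u * (w * ((u * w)⁻¹ * g * m * ((u * w)⁻¹ * g)⁻¹) * w⁻¹) * u⁻¹ = g * m * g⁻¹ := by group
      rwa [e] at h2
  rcases IsSimpleGroup.eq_bot_or_eq_top_of_normal M hn with h | h
  · exfalso
    have h1 : U = ⊥ := by
      rw [eq_bot_iff, ← h]
      exact hUM
    have h2 := S.hU
    rw [h1, Subgroup.card_bot] at h2
    have := S.q_ge
    have h3 : 1 < q ^ 3 := Nat.one_lt_pow (by norm_num) (by omega)
    omega
  · rw [eq_top_iff, ← h]
    exact hle

/-- Let `G` be finite simple with a (B,N)-pair of rank 1, `B = U H` with `U` nilpotent normal in `B`, `H = B ⊓ N`, `U ⊓ H = 1`, where `[G : B] = p^(3n) + 1` for an odd prime `p`, `|U| = p^(3n)` and `H` is cyclic of order `(p^(2n) - 1)/gcd(3, p^n + 1)`. Then `G ≅ PSU₃(p^n)`. -/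
theorem result {G : Type*} [Group G] [Finite G] [IsSimpleGroup G]
    (P : Cfsg.BNPair G) (h1 : P.rank = 1) {p n : ℕ} (hp : p.Prime) (hp2 : p ≠ 2) (hn : 1 ≤ n)
    (U : Subgroup G) (hUB : U ≤ P.B) (hUn : ∀ b ∈ P.B, ∀ u ∈ U, b * u * b⁻¹ ∈ U)
    (hUnil : Group.IsNilpotent U) (hsplit : U ⊔ (P.B ⊓ P.N) = P.B) (hdisj : U ⊓ (P.B ⊓ P.N) = ⊥)
    (hind : P.B.index = p ^ (3 * n) + 1) (hU : Nat.card U = p ^ (3 * n))
    (hHc : IsCyclic ↥(P.B ⊓ P.N))
    (hH : Nat.gcd 3 (p ^ n + 1) * Nat.card ↥(P.B ⊓ P.N) = p ^ (2 * n) - 1) :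
    ∃ (F : Type) (_ : Field F) (_ : Fintype F), Fintype.card F = (p ^ n) ^ 2 ∧
      Nonempty (G ≃* Cfsg.PSU 3 F (p ^ n)) := by
  have hBtop : P.B ≠ ⊤ := by
    intro h
    rw [h, Subgroup.index_top] at hind
    have : 0 < p ^ (3 * n) := pow_pos hp.pos _
    omega
  have hfaith := faithful_of_simple hBtop
  obtain ⟨s, R⟩ := exists_R1 P h1 U hUB hUn hsplit hdisj (by rw [hind, hU]) hHc
  obtain ⟨t, w, S⟩ := exists_glob (q := p ^ n) (d := Nat.gcd 3 (p ^ n + 1)) hp hp2 hn rfl rfl R hHc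
    (by rw [hU, ← pow_mul, mul_comm]) (by rw [hH, ← pow_mul, mul_comm])
  have : Fact p.Prime := ⟨hp⟩
  have hfin : Finite (GaloisField p (2 * n)) := inferInstance
  let _ : Fintype (GaloisField p (2 * n)) := Fintype.ofFinite _
  have hF : Fintype.card (GaloisField p (2 * n)) = (p ^ n) ^ 2 := by
    rw [← Nat.card_eq_fintype_card, GaloisField.card p (2 * n) (by omega), ← pow_mul, mul_comm]
  obtain ⟨e, Λ, pt, he, he0, -, D⟩ :=
    Cfsg.Agent.ONan.MakeCoord.exists_coordData (F := GaloisField p (2 * n)) hF S.stageData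
  have D' := Cfsg.Agent.ONan.StructU.unitaryAct_of_coordData hp hp2 hn rfl hF he he0 D
  refine ⟨GaloisField p (2 * n), inferInstance, inferInstance, hF, ?_⟩
  apply Cfsg.Agent.ONan.Identify.nonempty_mulEquiv_PSU hp hp2 hn rfl hF he he0 D' (closure_eq_top S)
  rw [S.card_G]
  calc Nat.gcd 3 (p ^ n + 1) * (((p ^ n) ^ 3 + 1) * (p ^ n) ^ 3 * Nat.card ↥(P.B ⊓ P.N))
      = (p ^ n) ^ 3 * ((p ^ n) ^ 3 + 1) * (Nat.gcd 3 (p ^ n + 1) * Nat.card ↥(P.B ⊓ P.N)) := by ring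
    _ = (p ^ n) ^ 3 * ((p ^ n) ^ 3 + 1) * ((p ^ n) ^ 2 - 1) := by
      have e2 : (p ^ n) ^ 2 = p ^ (2 * n) := by rw [← pow_mul, mul_comm]
      rw [hH, e2]

end Cfsg.Agent.S1148
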