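import Cfsg.Statements.S1154
import Cfsg.Agent.S1101
import Cfsg.Agent.LieRecognition.ReeCube

set_option autoImplicit false
open Cfsg

namespace Cfsg.Agent.S1154

open Cfsg.Agent.LieRecognition.ReeCube Cfsg.Agent.LieRecognition.G2Elem

/-- In the small Ree group ²G₂(q), q = 3^(2m+1) with m ≥ 1, realised as G¹ inside the Chevalley group G₂ over the field with q elements (θ the 3^m-th power map), with `U¹ = G¹ ∩ U` (U the positive unipotent subgroup of the ambient G₂): `U¹` has exactly `q² - 1` elements of order 3. -/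
theorem result {K : Type*} [Field K] [Fintype K] {m : ℕ} (hm : 1 ≤ m) (hK : Fintype.card K = 3 ^ (2 * m + 1)) :
    Nat.card {u : ↥(Cfsg.Lie.chevG2.posUnipotent K ⊓ Cfsg.Lie.twistedG2 K (3 ^ m)) // orderOf u = 3} = (3 ^ (2 * m + 1)) ^ 2 - 1 := by
  classical
  haveI : Fact (Nat.Prime 3) := ⟨Nat.prime_three⟩
  haveI : CharP K 3 := charP_of_card_eq_prime_pow hK
  obtain ⟨hmem, hcard⟩ := Cfsg.Agent.S1101.result (K := K) (m := m) hK
  set U := Cfsg.Lie.chevG2.posUnipotent K ⊓ Cfsg.Lie.twistedG2 K (3 ^ m) with hU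
  set e := 3 ^ m with he
  have he0 : e ≠ 0 := by positivity
  -- the parametrisation
  have hex : ∀ x : U, ∃ y : K × K × K, ((x : GL Cfsg.Lie.chevG2.Idx K) : Matrix Cfsg.Lie.chevG2.Idx Cfsg.Lie.chevG2.Idx K) =
      Cfsg.Lie.chevG2.wordMat K (Cfsg.Lie.reeWordU e y.1 y.2.1 y.2.2) := by
    intro x
    obtain ⟨t, u, v, h⟩ := (hmem x.1).1 x.2
    exact ⟨(t, u, v), h⟩
  choose f hf using hex
  have hfinj : Function.Injective f := by
    intro x y hxy
    apply Subtype.ext
    apply Units.ext
    rw [hf x, hf y, hxy]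
  haveI : Finite U := Nat.finite_of_card_ne_zero (by rw [hcard]; positivity)
  haveI : Fintype U := Fintype.ofFinite U
  have hfbij : Function.Bijective f := by
    rw [Fintype.bijective_iff_injective_and_card]
    refine ⟨hfinj, ?_⟩
    rw [← Nat.card_eq_fintype_card, hcard]
    simp only [Fintype.card_prod, hK]
    ring
  -- the order-three condition
  have hone : f 1 = (0, 0, 0) := by
    obtain ⟨x, hx⟩ := hfbij.2 (0, 0, 0)
    have h1 : x = 1 := by
      apply Subtype.ext
      apply Units.ext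
      rw [hf x, hx, wordMat_reeWordU]
      simp only [zero_pow he0, zero_pow (Nat.succ_ne_zero _), add_zero, gMat, x6_zero, x7_zero, x8_zero, x9_zero,
        x10_zero, x11_zero, mul_one]
      rfl
    rw [← h1, hx]
  have hpow : ∀ x : U, x ^ 3 = 1 ↔ (f x).1 = 0 := by
    intro x
    have hcoe : x ^ 3 = 1 ↔ ((x : GL Cfsg.Lie.chevG2.Idx K) : Matrix Cfsg.Lie.chevG2.Idx Cfsg.Lie.chevG2.Idx K) ^ 3 = 1 := by
      constructor
      · intro h
        have : ((x ^ 3 : U) : GL Cfsg.Lie.chevG2.Idx K) = 1 := by rw [h]; rfl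
        have h2 := congrArg (fun g : GL Cfsg.Lie.chevG2.Idx K => (g : Matrix Cfsg.Lie.chevG2.Idx Cfsg.Lie.chevG2.Idx K)) this
        simpa using h2
      · intro h
        apply Subtype.ext
        apply Units.ext
        simpa using h
    rw [hcoe, hf x, wordMat_reeWordU]
    constructor
    · intro h
      have h2 := gMat_cube_ne _ _ _ _ _ _ h
      rcases mul_eq_zero.1 h2 with h3 | h3
      · exact pow_eq_zero_iff he0 |>.1 (pow_eq_zero_iff two_ne_zero |>.1 h3)
      · exact h3
    · intro h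
      rw [h, zero_pow he0]
      exact gMat_zero_cube _ _ _ _
  have hord : ∀ x : U, orderOf x = 3 ↔ ((f x).1 = 0 ∧ (f x).2 ≠ 0) := by
    intro x
    rw [orderOf_eq_prime_iff, hpow]
    refine and_congr_right fun h => ?_
    rw [not_iff_not]
    constructor
    · intro h1
      rw [h1, hone]; rfl
    · intro h1
      apply hfinj
      rw [hone]
      exact Prod.ext h h1
  have hcongr : Nat.card {u : U // orderOf u = 3} = Nat.card {y : K × K // y ≠ 0} := by
    refine Nat.card_congr (Equiv.ofBijective (fun x => ⟨(f x.1).2, ((hord x.1).1 x.2).2⟩) ⟨?_, ?_⟩)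
    · intro x y hxy
      apply Subtype.ext
      apply hfinj
      refine Prod.ext ?_ ?_
      · rw [((hord x.1).1 x.2).1, ((hord y.1).1 y.2).1]
      · exact congrArg Subtype.val hxy
    · intro y
      obtain ⟨x, hx⟩ := hfbij.2 (0, y.1)
      exact ⟨⟨x, (hord x).2 ⟨by rw [hx], by rw [hx]; exact y.2⟩⟩, Subtype.ext (by simp [hx])⟩
  rw [hcongr, Nat.card_eq_fintype_card, Fintype.card_subtype_compl, Fintype.card_subtype_eq, Fintype.card_prod, hK, pow_two]

end Cfsg.Agent.S1154
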