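import Cfsg.Statements.S1171
import Cfsg.Agent.TwoFusion.ClosedCommutator
import Cfsg.Agent.TwoFusion.ClosedCenter
import Cfsg.Agent.S1252

set_option autoImplicit false
open Cfsg

namespace Cfsg.Agent.S1171

/-- Let G be a finite group with no nontrivial normal subgroup of odd order, P a Sylow 2-subgroup, and S₁, S₂ subgroups of P which commute elementwise and intersect trivially, each strongly closed in P. Then the normal closures N₁, N₂ of S₁, S₂ satisfy [N₁, N₂] = 1 and N₁ ∩ N₂ = 1, so that N₁N₂ = N₁ × N₂. -/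
theorem result {G : Type*} [Group G] [Finite G] (hO : Cfsg.oddCore G = ⊥) (P : Sylow 2 G) (S₁ S₂ : Subgroup G) (hcomm : ∀ a ∈ S₁, ∀ b ∈ S₂, a * b = b * a) (hdisj : S₁ ⊓ S₂ = ⊥) (hsc₁ : Cfsg.IsStronglyClosed S₁ (P : Subgroup G)) (hsc₂ : Cfsg.IsStronglyClosed S₂ (P : Subgroup G)) : ⁅Subgroup.normalClosure (S₁ : Set G), Subgroup.normalClosure (S₂ : Set G)⁆ = ⊥ ∧ Subgroup.normalClosure (S₁ : Set G) ⊓ Subgroup.normalClosure (S₂ : Set G) = ⊥ := by
  have h1 : ⁅Subgroup.normalClosure (S₁ : Set G), Subgroup.normalClosure (S₂ : Set G)⁆ = ⊥ := by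
    rw [eq_bot_iff, ← hO]
    exact Cfsg.Agent.TwoFusion.ClosedCommutator.commutator_le P S₁ S₂ hdisj hsc₁ hsc₂
  refine ⟨h1, ?_⟩
  refine Cfsg.Agent.TwoFusion.ClosedCenter.inf_eq_bot (fun X _ _ => ?_) hO P S₁ S₂ hsc₁ hsc₂ hdisj h1
  refine Cfsg.Agent.TwoFusion.ClosedCenter.foote_of fun S A hA hev hN => ?_
  obtain ⟨-, r, L, hc, -, hsup, hL, -⟩ := Cfsg.Agent.S1252.result S A hA hev hN
  exact ⟨r, L, hc, hsup, hL⟩

end Cfsg.Agent.S1171
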