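import Cfsg.Statements.S1176
import Mathlib

set_option autoImplicit false
open Cfsg

namespace Cfsg.Agent.S1176

/-- An involution inverting a product power. -/
theorem conj_pow_of_invol {G : Type*} [Group G] {x y : G} (hx : x * x = 1) (hy : y * y = 1) (n : ℕ) :
    x * (x * y) ^ n = ((x * y) ^ n)⁻¹ * x := by
  induction n with
  | zero => simp
  | succ n ih =>
    have hxi : x⁻¹ = x := (eq_inv_of_mul_eq_one_left hx).symm
    have hyi : y⁻¹ = y := (eq_inv_of_mul_eq_one_left hy).symm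
    calc x * (x * y) ^ (n + 1) = (x * (x * y) ^ n) * (x * y) := by rw [pow_succ, mul_assoc]
      _ = ((x * y) ^ n)⁻¹ * x * (x * y) := by rw [ih]
      _ = ((x * y) ^ n)⁻¹ * ((x * x) * y) := by group
      _ = ((x * y) ^ n)⁻¹ * y := by rw [hx, one_mul]
      _ = ((x * y) ^ n)⁻¹ * (y⁻¹ * x⁻¹) * x := by rw [hyi]; group
      _ = ((x * y) * (x * y) ^ n)⁻¹ * x := by simp only [mul_inv_rev, mul_assoc]
      _ = ((x * y) ^ (n + 1))⁻¹ * x := by rw [pow_succ']

/-- Let x₀ be an involution of the finite group G and D its conjugacy class. Assume (a) for each x ∈ D the subgroup W(x) generated by the members of D commuting with x is a 2-group of nilpotency class at most 2, and (b) the product of two distinct commuting members of D again lies in D. Then for all x, y ∈ D, if xy has even order greater than 2, its order is 4. -/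
theorem result {G : Type*} [Group G] [Finite G] (x₀ : G) (hx₀ : orderOf x₀ = 2) (ha : ∀ x : G, IsConj x₀ x → IsPGroup 2 ↥(Subgroup.closure {y : G | IsConj x₀ y ∧ Commute y x}) ∧ ⁅⁅Subgroup.closure {y : G | IsConj x₀ y ∧ Commute y x}, Subgroup.closure {y : G | IsConj x₀ y ∧ Commute y x}⁆, Subgroup.closure {y : G | IsConj x₀ y ∧ Commute y x}⁆ = ⊥) (hb : ∀ x y : G, IsConj x₀ x → IsConj x₀ y → x ≠ y → Commute x y → IsConj x₀ (x * y)) (x y : G) (hx : IsConj x₀ x) (hy : IsConj x₀ y) (heven : Even (orderOf (x * y))) (hgt : 2 < orderOf (x * y)) : orderOf (x * y) = 4 := by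
  have hinv : ∀ z : G, IsConj x₀ z → z * z = 1 := by
    intro z hz
    obtain ⟨c, hc⟩ := isConj_iff.1 hz
    have h0 : x₀ * x₀ = 1 := by
      have := pow_orderOf_eq_one x₀
      rwa [hx₀, pow_two] at this
    rw [← hc]
    calc c * x₀ * c⁻¹ * (c * x₀ * c⁻¹) = c * (x₀ * x₀) * c⁻¹ := by group
      _ = 1 := by rw [h0]; group
  have hxx := hinv x hx
  have hyy := hinv y hy
  have hxi : x⁻¹ = x := (eq_inv_of_mul_eq_one_left hxx).symm
  have hyi : y⁻¹ = y := (eq_inv_of_mul_eq_one_left hyy).symm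
  obtain ⟨m, hm⟩ := heven
  set t := x * y with ht
  have hm2 : orderOf t = 2 * m := by omega
  have hm1 : 1 < m := by omega
  set z := t ^ m with hz
  have hzz : z * z = 1 := by
    rw [hz, ← pow_add, ← hm]; exact pow_orderOf_eq_one t
  have hz1 : z ≠ 1 := by
    intro h
    have := orderOf_dvd_of_pow_eq_one (hz ▸ h : t ^ m = 1)
    have := Nat.le_of_dvd (by omega) this
    omega
  have hzi : z⁻¹ = z := (eq_inv_of_mul_eq_one_left hzz).symm
  have hxz : x * z = z * x := by
    rw [hz, ht, conj_pow_of_invol hxx hyy m, ← ht, ← hz, hzi]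
  have htz : t * z = z * t := by
    rw [hz]; exact (Commute.refl t).pow_right m
  have hyz : y * z = z * y := by
    have h1 : y = x * t := by rw [ht, ← mul_assoc, hxx, one_mul]
    rw [h1, mul_assoc, htz, ← mul_assoc, hxz, mul_assoc]
  -- `z * x` is in the class
  have hzx : IsConj x₀ (z * x) := by
    rcases Nat.even_or_odd m with ⟨k, hk⟩ | ⟨k, hk⟩
    · refine hx.trans (isConj_iff.2 ⟨t ^ k, ?_⟩)
      have h := conj_pow_of_invol hxx hyy k
      rw [← ht] at h
      have h2 : x * (t ^ k)⁻¹ = t ^ k * x := by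
        have h3 : t ^ k * (x * t ^ k) * (t ^ k)⁻¹ = t ^ k * ((t ^ k)⁻¹ * x) * (t ^ k)⁻¹ := by rw [h]
        have h4 : t ^ k * x = x * (t ^ k)⁻¹ := by
          calc t ^ k * x = t ^ k * (x * t ^ k) * (t ^ k)⁻¹ := by group
            _ = t ^ k * ((t ^ k)⁻¹ * x) * (t ^ k)⁻¹ := h3
            _ = x * (t ^ k)⁻¹ := by group
        exact h4.symm
      rw [mul_assoc, h2, ← mul_assoc, ← pow_add, ← hk]
    · refine hy.trans (isConj_iff.2 ⟨t ^ k * x, ?_⟩)
      have h := conj_pow_of_invol hxx hyy k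
      rw [← ht] at h
      have h4 : t ^ k * x = x * (t ^ k)⁻¹ := by
        calc t ^ k * x = t ^ k * (x * t ^ k) * (t ^ k)⁻¹ := by group
          _ = t ^ k * ((t ^ k)⁻¹ * x) * (t ^ k)⁻¹ := by rw [h]
          _ = x * (t ^ k)⁻¹ := by group
      calc t ^ k * x * y * (t ^ k * x)⁻¹ = t ^ k * (x * y) * (x⁻¹ * (t ^ k)⁻¹) := by group
        _ = t ^ k * t * (x * (t ^ k)⁻¹) := by rw [hxi, ht]
        _ = t ^ k * t * (t ^ k * x) := by rw [h4]
        _ = (t ^ k * t ^ 1 * t ^ k) * x := by rw [pow_one]; simp only [mul_assoc]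
        _ = t ^ m * x := by rw [← pow_add, ← pow_add]; congr 2; omega
        _ = z * x := by rw [hz]
  -- hence `z` is in the class
  have hzD : IsConj x₀ z := by
    have h := hb x (z * x) hx hzx (by
      intro h
      apply hz1
      exact (mul_eq_right.1 h.symm)) (by
      show x * (z * x) = (z * x) * x
      rw [← mul_assoc, hxz])
    have h2 : x * (z * x) = z := by
      rw [← mul_assoc, hxz, mul_assoc, hxx, mul_one]
    rwa [h2] at h
  obtain ⟨-, hcl⟩ := ha z hzD
  set W := Subgroup.closure {y : G | IsConj x₀ y ∧ Commute y z} with hW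
  have hxW : x ∈ W := Subgroup.subset_closure ⟨hx, hxz⟩
  have hyW : y ∈ W := Subgroup.subset_closure ⟨hy, hyz⟩
  let _ : Bracket G G := commutatorElement
  have h1 : ⁅x, y⁆ ∈ ⁅W, W⁆ := Subgroup.commutator_mem_commutator hxW hyW
  have h2 : ⁅⁅x, y⁆, x⁆ ∈ ⁅⁅W, W⁆, W⁆ := Subgroup.commutator_mem_commutator h1 hxW
  rw [hcl, Subgroup.mem_bot, commutatorElement_eq_one_iff_mul_comm] at h2
  have h3 : ⁅x, y⁆ = t ^ 2 := by
    rw [commutatorElement_def, hxi, hyi, pow_two, ht]; simp only [mul_assoc]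
  rw [h3] at h2
  have h4 : x * t ^ 2 = (t ^ 2)⁻¹ * x := by
    have := conj_pow_of_invol hxx hyy 2
    rwa [← ht] at this
  have h5 : t ^ 2 = (t ^ 2)⁻¹ := by
    apply mul_right_cancel (b := x)
    rw [h2, h4]
  have h6 : t ^ 4 = 1 := by
    have : t ^ 2 * t ^ 2 = 1 := by
      nth_rewrite 1 [h5]
      simp
    rw [← pow_add] at this
    exact this
  have h7 : orderOf t ∣ 4 := orderOf_dvd_of_pow_eq_one h6
  have h8 : orderOf t ≤ 4 := Nat.le_of_dvd (by norm_num) h7
  rcases (show orderOf t = 3 ∨ orderOf t = 4 by omega) with h | h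
  · omega
  · exact h

end Cfsg.Agent.S1176
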