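import Cfsg.Statements.S1183
import Cfsg.Agent.TwoFusion.IsolatedFusion
import Cfsg.Agent.Transfer.Residual

set_option autoImplicit false
open Cfsg

namespace Cfsg.Agent.S1183

open Cfsg.Agent.TwoFusion.IsolatedFusion Cfsg.Agent.Transfer.Residual
open scoped commutatorElement

/-- The focal subgroup of the centralizer of an isolated involution is its derived subgroup. -/
theorem focalSubgroupOf_le {G : Type*} [Group G] [Finite G] (z : G)
    (hz : Cfsg.IsIsolatedInvolution z) :
    (Subgroup.centralizer ({z} : Set G)).focalSubgroupOf ≤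
      commutator ↥(Subgroup.centralizer ({z} : Set G)) := by
  rw [Subgroup.focalSubgroupOf_eq_closure, Subgroup.closure_le]
  rintro g ⟨x, hx, u, hg⟩
  -- `g = x * (u x⁻¹ u⁻¹)`
  have hgC := g.2
  have hx' : Commute x z := Subgroup.mem_centralizer_singleton_iff.mp hx
  have hg' : Commute (g : G) z := Subgroup.mem_centralizer_singleton_iff.mp hgC
  have hy : Commute (u * x⁻¹ * u⁻¹) z := by
    have h1 : u * x⁻¹ * u⁻¹ = x⁻¹ * (g : G) := by
      rw [hg, commutatorElement_def]; group
    rw [h1]
    exact hx'.inv_left.mul_left hg'
  obtain ⟨c, hc, hcx⟩ := exists_mem_centralizer_conj hz hx'.inv_left hy rfl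
  have hcC : c ∈ Subgroup.centralizer ({z} : Set G) :=
    Subgroup.mem_centralizer_singleton_iff.mpr hc.eq
  have h2 : g = ⁅(⟨x, hx⟩ : Subgroup.centralizer ({z} : Set G)), ⟨c, hcC⟩⁆ := by
    apply Subtype.ext
    rw [hg, commutatorElement_def, commutatorElement_def]
    show x * u * x⁻¹ * u⁻¹ = x * c * x⁻¹ * c⁻¹
    calc x * u * x⁻¹ * u⁻¹ = x * (u * x⁻¹ * u⁻¹) := by group
      _ = x * (c * x⁻¹ * c⁻¹) := by rw [hcx]
      _ = _ := by group
  rw [h2]
  exact Subgroup.commutator_mem_commutator (Subgroup.mem_top _) (Subgroup.mem_top _)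

/-- Let z be an isolated involution of the finite group G and C = C_G(z). Then the subgroup of G generated by its elements of odd order is all of G if and only if the subgroup of C generated by its elements of odd order is all of C. -/
theorem result {G : Type*} [Group G] [Finite G] (z : G) (hz : Cfsg.IsIsolatedInvolution z) : Cfsg.pResidual 2 G = ⊤ ↔ Cfsg.pResidual 2 ↥(Subgroup.centralizer ({z} : Set G)) = ⊤ := by
  classical
  have h2p : Fact (Nat.Prime 2) := ⟨Nat.prime_two⟩
  set C := Subgroup.centralizer ({z} : Set G) with hC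
  have hodd : Odd C.index := odd_index_centralizer hz
  have hndvd : ¬ 2 ∣ C.index := by
    rw [← even_iff_two_dvd, Nat.not_even_iff_odd]; exact hodd
  constructor
  · intro hG
    -- `D = C' O²(C)`
    by_contra hne
    have hRn : (pResidual 2 C).Normal := pResidual_normal 2
    -- `C / O²(C)` is a 2-group
    have hP : IsPGroup 2 (C ⧸ pResidual 2 C) := isPGroup_quotient_pResidual
    have hnil : Group.IsNilpotent (C ⧸ pResidual 2 C) := hP.isNilpotent
    set D : Subgroup C := commutator C ⊔ pResidual 2 C with hD
    have hDn : D.Normal := inferInstance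
    have hDc : commutator C ≤ D := le_sup_left
    have hfoc : C.focalSubgroupOf ≤ D := (focalSubgroupOf_le z hz).trans hDc
    -- the map `G → C / D`
    let f : G →* C ⧸ D :=
      (QuotientGroup.map C.focalSubgroupOf D (MonoidHom.id C) (by simpa using hfoc)).comp
        C.transferFocal
    have hQ : IsPGroup 2 (C ⧸ D) := isPGroup_quotient_of_pResidual_le le_sup_right
    have hf1 : ∀ g : G, f g = 1 := by
      intro g
      have := pResidual_le_ker hQ f
      rw [hG] at this
      exact this (Subgroup.mem_top g)
    have hpow : ∀ x : C, (QuotientGroup.mk x : C ⧸ D) ^ C.index = 1 := by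
      intro x
      have h1 := hf1 (x : G)
      have h2 : f (x : G) = (QuotientGroup.mk x : C ⧸ D) ^ C.index := by
        show (QuotientGroup.map C.focalSubgroupOf D (MonoidHom.id C) (by simpa using hfoc))
          (C.transferFocal x) = _
        rw [Subgroup.transferFocal_eq_pow, map_pow]
        rfl
      rw [← h2]; exact h1
    have hDtop : D = ⊤ := by
      rw [eq_top_iff]
      intro x _
      rw [← QuotientGroup.eq_one_iff]
      obtain ⟨k, hk⟩ := IsPGroup.iff_orderOf.mp hQ (QuotientGroup.mk x : C ⧸ D)
      have h1 : orderOf (QuotientGroup.mk x : C ⧸ D) ∣ C.index :=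
        orderOf_dvd_of_pow_eq_one (hpow x)
      rw [← orderOf_eq_one_iff]
      rcases Nat.eq_zero_or_pos k with rfl | hk0
      · simpa using hk
      · exfalso
        apply hndvd
        refine dvd_trans ?_ h1
        rw [hk]
        exact dvd_pow_self 2 hk0.ne'
    -- so `C / O²(C)` is perfect and nilpotent
    have hperf : commutator (C ⧸ pResidual 2 C) = ⊤ := by
      have h1 : (commutator C).map (QuotientGroup.mk' (pResidual 2 C)) = ⊤ := by
        have h2 : D.map (QuotientGroup.mk' (pResidual 2 C)) = ⊤ := by
          rw [hDtop, ← MonoidHom.range_eq_map, MonoidHom.range_eq_top]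
          exact QuotientGroup.mk'_surjective _
        rw [hD, Subgroup.map_sup, QuotientGroup.map_mk'_self, sup_bot_eq] at h2
        exact h2
      rw [commutator_def, Subgroup.map_commutator, ← MonoidHom.range_eq_map,
        (MonoidHom.range_eq_top).mpr (QuotientGroup.mk'_surjective _)] at h1
      exact h1
    have hsolv : Group.IsSolvable (C ⧸ pResidual 2 C) := inferInstance
    have hsub : Subsingleton (C ⧸ pResidual 2 C) := by
      by_contra hns
      rw [not_subsingleton_iff_nontrivial] at hns
      have := Group.IsSolvable.commutator_lt_top_of_nontrivial (C ⧸ pResidual 2 C)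
      rw [hperf] at this
      exact lt_irrefl _ this
    apply hne
    exact QuotientGroup.subgroup_eq_top_of_subsingleton _ hsub
  · intro hCt
    have h1 := pResidual_subgroup_le 2 C
    rw [hCt, ← MonoidHom.range_eq_map, Subgroup.range_subtype] at h1
    have h2 := pResidual_sup_of_not_dvd_index (p := 2) hndvd
    rwa [sup_eq_left.mpr h1] at h2

end Cfsg.Agent.S1183
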