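import Cfsg.Statements.S1220
import Cfsg.Agent.TwoFusion.BenderStar

set_option autoImplicit false
open Cfsg

namespace Cfsg.Agent.S1220

/-- Let H be a strongly embedded subgroup of the finite group G. Then either G acts doubly transitively on the cosets of H (H permutes transitively the cosets gH with g ∉ H), or every Sylow 2-subgroup of G is cyclic or generalized quaternion and G = O(G)H. -/
theorem result {G : Type*} [Group G] [Finite G] (H : Subgroup G) (hH : Cfsg.IsStronglyEmbedded H) : (∀ g₁ g₂ : G, g₁ ∉ H → g₂ ∉ H → ∃ h ∈ H, g₂⁻¹ * (h * g₁) ∈ H) ∨ ((∀ S : Sylow 2 G, IsCyclic S ∨ ∃ m : ℕ, 1 ≤ m ∧ Nonempty ((S : Subgroup G) ≃* QuaternionGroup (2 ^ m))) ∧ Cfsg.oddCore G ⊔ H = ⊤) := by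
  by_cases hno : ∀ a b : G, orderOf a = 2 → orderOf b = 2 → Commute a b → a = b
  · exact Or.inr (TwoFusion.BenderRankOne.rank_one hH hno)
  · left
    push Not at hno
    obtain ⟨a, b, ha, hb, hab, hne⟩ := hno
    intro g₁ g₂ hg₁ hg₂
    have key : ∀ g : G, g ∉ H → ((1 : G) : G ⧸ H) ≠ (g : G ⧸ H) := by
      intro g hg h
      apply hg
      have := QuotientGroup.eq.mp h
      simpa using this
    obtain ⟨h, hh1, hh2⟩ := TwoFusion.BenderStar.two_transitive_of_commute hH ha hb hab hne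
      (key g₁ hg₁) (key g₂ hg₂)
    refine ⟨h, (TwoFusion.StronglyEmbeddedBasic.smul_one_eq_iff h).mp hh1, ?_⟩
    exact QuotientGroup.eq.mp hh2.symm

end Cfsg.Agent.S1220
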