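import Cfsg.Statements.S1226
import Cfsg.Agent.TwoFusion.ElemCent

set_option autoImplicit false
open Cfsg

namespace Cfsg.Agent.S1226

/-- Let G be a finite group with a Sylow 2-subgroup T that is neither cyclic nor normal, such that the centralizer of every involution is an elementary abelian 2-group. Then N_G(T) is a strongly embedded subgroup of G. -/
theorem result {G : Type*} [Group G] [Finite G] (T : Sylow 2 G) (hnc : ¬ IsCyclic (T : Subgroup G)) (hnn : ¬ (T : Subgroup G).Normal) (hC : ∀ t : G, orderOf t = 2 → IsMulCommutative (Subgroup.centralizer ({t} : Set G)) ∧ ∀ c ∈ Subgroup.centralizer ({t} : Set G), c ^ 2 = 1) : Cfsg.IsStronglyEmbedded (Subgroup.normalizer ((T : Subgroup G) : Set G)) := by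
  obtain ⟨z, hzT, hz2, hz⟩ := TwoFusion.ElemCent.exists_central_invol T hnc
  refine ⟨fun h => hnn (Subgroup.normalizer_eq_top_iff.mp h), ?_, fun g hg => ?_⟩
  · rw [even_iff_two_dvd]
    have h2 : orderOf (⟨z, TwoFusion.ElemCent.T_le_norm T hzT⟩ :
        Subgroup.normalizer ((T : Subgroup G) : Set G)) = 2 := by
      rw [Subgroup.orderOf_mk]; exact hz2
    exact h2.symm.dvd.trans (orderOf_dvd_natCard _)
  · rw [← Nat.not_even_iff_odd, even_iff_two_dvd]
    intro h
    obtain ⟨x, hx⟩ := exists_prime_orderOf_dvd_card' 2 h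
    have hx1 : x.1 = 1 := by
      apply TwoFusion.ElemCent.eq_one_of_mem_D_of_pow T hnc hC hg x.2 (k := 1)
      have := pow_orderOf_eq_one x
      rw [hx] at this
      rw [pow_one, ← Subgroup.coe_pow, this, Subgroup.coe_one]
    have hx1' : x = 1 := Subtype.ext hx1
    rw [hx1', orderOf_one] at hx
    omega

end Cfsg.Agent.S1226
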