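import Cfsg.Statements.S1227
import Cfsg.Agent.TwoFusion.ElemCent

set_option autoImplicit false
open Cfsg

namespace Cfsg.Agent.S1227

/-- Let G be a finite group with a Sylow 2-subgroup T that is neither cyclic nor normal, such that the centralizer of every involution is an elementary abelian 2-group; put H = N_G(T), let u be an involution outside H and D = H ∩ uHu⁻¹. Then u inverts every element of D, |H| = |T|·(|T| − 1), and D is a complement to T in H. -/
theorem result {G : Type*} [Group G] [Finite G] (T : Sylow 2 G) (hnc : ¬ IsCyclic (T : Subgroup G)) (hnn : ¬ (T : Subgroup G).Normal) (hC : ∀ t : G, orderOf t = 2 → IsMulCommutative (Subgroup.centralizer ({t} : Set G)) ∧ ∀ c ∈ Subgroup.centralizer ({t} : Set G), c ^ 2 = 1) (u : G) (hu : orderOf u = 2) (huH : u ∉ Subgroup.normalizer ((T : Subgroup G) : Set G)) : (∀ d ∈ Subgroup.normalizer ((T : Subgroup G) : Set G) ⊓ (Subgroup.normalizer ((T : Subgroup G) : Set G)).map (MulAut.conj u).toMonoidHom, u * d * u⁻¹ = d⁻¹) ∧ Nat.card (Subgroup.normalizer ((T : Subgroup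 G) : Set G)) = Nat.card T * (Nat.card T - 1) ∧ Subgroup.IsComplement' ((Subgroup.normalizer ((T : Subgroup G) : Set G) ⊓ (Subgroup.normalizer ((T : Subgroup G) : Set G)).map (MulAut.conj u).toMonoidHom).subgroupOf (Subgroup.normalizer ((T : Subgroup G) : Set G))) ((T : Subgroup G).subgroupOf (Subgroup.normalizer ((T : Subgroup G) : Set G))) := by
  have hcard := TwoFusion.ElemCent.card_normalizer T hnc hC hnn
  have hD := TwoFusion.ElemCent.card_D T hnc hC hnn hu huH
  refine ⟨TwoFusion.ElemCent.conj_eq_inv T hnc hC hu huH, by rw [hcard, mul_comm], ?_⟩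
  set N := Subgroup.normalizer ((T : Subgroup G) : Set G) with hN
  set D := N ⊓ N.map (MulAut.conj u).toMonoidHom with hDdef
  have hDN : D ≤ N := inf_le_left
  have hTN : (T : Subgroup G) ≤ N := TwoFusion.ElemCent.T_le_norm T
  have h1 : Nat.card (D.subgroupOf N) = Nat.card T - 1 := by
    rw [Nat.card_congr (Subgroup.subgroupOfEquivOfLe hDN).toEquiv]
    exact hD
  have h2 : Nat.card ((T : Subgroup G).subgroupOf N) = Nat.card T :=
    Nat.card_congr (Subgroup.subgroupOfEquivOfLe hTN).toEquiv
  apply Subgroup.isComplement'_of_card_mul_and_disjoint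
  · rw [h1, h2, hcard]
  · rw [disjoint_iff, eq_bot_iff]
    intro x hx
    rw [Subgroup.mem_bot]
    apply Subtype.ext
    exact TwoFusion.ElemCent.eq_one_of_mem_D T hnc hC huH (Subgroup.mem_subgroupOf.mp hx.1)
      (Subgroup.mem_subgroupOf.mp hx.2)

end Cfsg.Agent.S1227
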