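import Cfsg.Statements.S1234
import Cfsg.Agent.S1232
import Cfsg.Agent.TwoFusion.SelfCentQQMain

set_option autoImplicit false
open Cfsg

namespace Cfsg.Agent.S1234

open Subgroup
open Cfsg.Agent.TwoFusion.SelfCentQQMain

/-- Let S be a finite 2-group and Q ≤ S a subgroup of order 32 having an elementary abelian subgroup E of order 16 and an involution s ∉ E whose centralizer in E has order 4 (so Q ≅ (Z₂ × Z₂) ≀ Z₂). If C_S(Z(Q)) = Q, then every section of S has 2-rank at most 4. -/
theorem result {S : Type*} [Group S] [Finite S] (hS : IsPGroup 2 S) (Q E : Subgroup S) (hEQ : E ≤ Q) (hE : Cfsg.IsElementaryAbelian 2 E) (hE16 : Nat.card E = 16) (hQ32 : Nat.card Q = 32) (s : S) (hsQ : s ∈ Q) (hsE : s ∉ E) (hs : orderOf s = 2) (hfix : Nat.card ↥(E ⊓ Subgroup.centralizer ({s} : Set S)) = 4) (hC : Subgroup.centralizer (((Subgroup.center Q).map Q.subtype : Subgroup S) : Set S) = Q) : Cfsg.SectionalPRankLE 2 4 S := by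
  have hEc : ∀ a ∈ E, ∀ b ∈ E, a * b = b * a := fun a ha b hb =>
    congrArg Subtype.val (hE.1.is_comm.comm ⟨a, ha⟩ ⟨b, hb⟩)
  have hEs : ∀ a ∈ E, a * a = 1 := fun a ha => by rw [← pow_two]; exact hE.2 a ha
  have hss : s * s = 1 := by rw [← pow_two, ← hs, pow_orderOf_eq_one]
  set D : Subgroup S := E ⊓ centralizer {s} with hD
  have mD : ∀ x, x ∈ D ↔ x ∈ E ∧ x * s = s * x := fun x => by
    rw [hD, mem_inf, mem_centralizer_singleton_iff]
  -- index two
  have hidx : (E.subgroupOf Q).index = 2 := by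
    have h1 : Nat.card (E.subgroupOf Q) * (E.subgroupOf Q).index = Nat.card Q := card_mul_index _
    have h2 : Nat.card (E.subgroupOf Q) = Nat.card E := Nat.card_congr (subgroupOfEquivOfLe hEQ).toEquiv
    rw [h2, hE16, hQ32] at h1
    omega
  have hmul : ∀ t ∈ Q, t ∉ E → t * s ∈ E := by
    intro t ht htE
    have := (mul_mem_iff_of_index_two hidx (a := ⟨t, ht⟩) (b := ⟨s, hsQ⟩)).2
    simp only [mem_subgroupOf] at this
    exact this (by tauto)
  -- the centre of `Q` lies in `D`
  have hZ : (center Q).map Q.subtype ≤ D := by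
    rintro _ ⟨x, hx, rfl⟩
    have hx' : ∀ q ∈ Q, q * (x : S) = x * q := fun q hq =>
      congrArg Subtype.val (mem_center_iff.1 hx ⟨q, hq⟩)
    change (x : S) ∈ D
    rw [mD]
    refine ⟨?_, (hx' s hsQ).symm⟩
    by_contra hxE
    have h1 := hmul x x.2 hxE
    -- then `s` centralizes `E`
    have h2 : E ≤ D := by
      intro e he
      rw [mD]
      refine ⟨he, ?_⟩
      have h3 := hEc e he _ h1
      have h4 := hx' e (hEQ he)
      have h5 : (x : S) * (e * s) = x * (s * e) := by
        rw [← mul_assoc, ← h4, mul_assoc, h3, mul_assoc]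
      exact mul_left_cancel h5
    have h3 := card_le_of_le h2
    omega
  have hDe : Elem D := ⟨fun a ha b hb => hEc a ((mD a).1 ha).1 b ((mD b).1 hb).1,
    fun a ha => hEs a ((mD a).1 ha).1⟩
  obtain ⟨hAe, hA8, hAm⟩ := hDe.adjoin hss (fun a ha => ((mD a).1 ha).2)
    (fun h => hsE ((mD s).1 h).1)
  set A : Subgroup S := D ⊔ zpowers s with hA
  rw [hfix] at hA8
  refine Cfsg.Agent.S1232.result hS A ⟨⟨⟨fun a b => Subtype.ext (hAe.comm a a.2 b b.2)⟩⟩,
      fun a ha => by rw [pow_two]; exact hAe.sq a ha⟩ hA8 ?_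
  apply le_antisymm
  · intro t ht
    rw [mem_centralizer_iff] at ht
    have htQ : t ∈ Q := by
      rw [← hC, mem_centralizer_iff]
      intro x hx
      exact ht x ((hAm x).2 (Or.inl (hZ hx)))
    have hts : t * s = s * t := (ht s ((hAm s).2 (Or.inr ⟨1, one_mem _, by rw [one_mul]⟩))).symm
    rw [hAm]
    by_cases htE : t ∈ E
    · exact Or.inl ((mD t).2 ⟨htE, hts⟩)
    · right
      refine ⟨t * s, (mD _).2 ⟨hmul t htQ htE, ?_⟩, ?_⟩
      · rw [hts, mul_assoc, hts]
      · rw [mul_assoc, hss, mul_one]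
  · intro t ht
    rw [mem_centralizer_iff]
    intro a ha
    exact hAe.comm a ha t ht

end Cfsg.Agent.S1234
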