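import Cfsg.Statements.S1244
import Mathlib

set_option autoImplicit false
open Cfsg

namespace Cfsg.Agent.S1244

open scoped IsMulCommutative in
/-- If `G` has no subgroup of index 2 and an abelian Sylow 2-subgroup `S`, then an element of `S`
fixed by the normalizer of `S` is trivial. -/
theorem fixed_eq_one {G : Type*} [Group G] [Finite G] (hG : ∀ H : Subgroup G, H.index ≠ 2)
    (S : Sylow 2 G) (hS : IsMulCommutative (S : Subgroup G)) (z : G) (hz : z ∈ S)
    (hfix : ∀ n ∈ Subgroup.normalizer ((S : Subgroup G) : Set G), n * z * n⁻¹ = z) : z = 1 := by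
  classical
  by_contra hz1
  have key : ∀ (k : ℕ) (g₀ : G), g₀⁻¹ * z ^ k * g₀ ∈ (S : Subgroup G) →
      g₀⁻¹ * z ^ k * g₀ = z ^ k := by
    intro k g₀ h
    have hzk : z ^ k ∈ S := S.pow_mem hz k
    obtain ⟨n, hn, h2⟩ := S.conj_eq_normalizer_conj_of_mem (z ^ k) g₀ hzk h
    rw [h2]
    have h3 := hfix n⁻¹ (inv_mem hn)
    rw [inv_inv] at h3
    have h4 : n⁻¹ * z ^ k * n = (n⁻¹ * z * n) ^ k := by
      have := conj_pow (i := k) (a := n⁻¹) (b := z)
      rw [inv_inv] at this
      exact this.symm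
    rw [h4, h3]
  let φ : G →* (S : Subgroup G) := MonoidHom.transfer (MonoidHom.id (S : Subgroup G))
  have hφ : φ z = ⟨z ^ (S : Subgroup G).index, MonoidHom.transfer_eq_pow_aux z key⟩ :=
    MonoidHom.transfer_eq_pow (MonoidHom.id (S : Subgroup G)) z key
  have hodd : ¬ 2 ∣ (S : Subgroup G).index := S.not_dvd_index
  have hφz : φ z ≠ 1 := by
    intro h
    rw [hφ] at h
    have h' : z ^ (S : Subgroup G).index = 1 := congrArg Subtype.val h
    obtain ⟨k, hk⟩ := S.isPGroup' ⟨z, hz⟩
    have hk' : z ^ 2 ^ k = 1 := congrArg Subtype.val hk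
    have hcop : Nat.Coprime (2 ^ k) (S : Subgroup G).index :=
      Nat.Coprime.pow_left k ((Nat.Prime.coprime_iff_not_dvd Nat.prime_two).mpr hodd)
    have h1 : orderOf z ∣ 2 ^ k := orderOf_dvd_of_pow_eq_one hk'
    have h2 : orderOf z ∣ (S : Subgroup G).index := orderOf_dvd_of_pow_eq_one h'
    have h3 : orderOf z ∣ 1 := by
      have := Nat.dvd_gcd h1 h2
      rwa [hcop] at this
    exact hz1 (orderOf_eq_one_iff.mp (Nat.dvd_one.mp h3))
  -- the range is a nontrivial 2-group
  have hrange : IsPGroup 2 φ.range := S.isPGroup'.to_subgroup _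
  obtain ⟨m, hm⟩ := IsPGroup.iff_card.mp hrange
  have hm0 : m ≠ 0 := by
    rintro rfl
    rw [pow_zero] at hm
    have hb : φ.range = ⊥ := Subgroup.card_eq_one.mp hm
    have : φ z ∈ φ.range := ⟨z, rfl⟩
    rw [hb, Subgroup.mem_bot] at this
    exact hφz this
  obtain ⟨m', rfl⟩ := Nat.exists_eq_succ_of_ne_zero hm0
  obtain ⟨K, hK⟩ := Sylow.exists_subgroup_card_pow_prime (G := φ.range) 2 (n := m')
    (by rw [hm]; exact pow_dvd_pow 2 (Nat.le_succ m'))
  have hKi : K.index = 2 := by
    have h1 := Subgroup.card_mul_index K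
    rw [hK, hm, pow_succ] at h1
    exact Nat.eq_of_mul_eq_mul_left (pow_pos two_pos m') h1
  apply hG (K.comap φ.rangeRestrict)
  rw [Subgroup.index_comap_of_surjective K φ.rangeRestrict_surjective, hKi]

/-- Restatement of `PRankLE` for a subgroup in terms of subgroups of the ambient group. -/
theorem prankLE_iff {G : Type*} [Group G] (p k : ℕ) (K : Subgroup G) :
    Cfsg.PRankLE p k K ↔ ∀ A : Subgroup G, A ≤ K → (∀ a ∈ A, ∀ b ∈ A, a * b = b * a) →
      (∀ a ∈ A, a ^ p = 1) → Nat.card A ≤ p ^ k := by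
  constructor
  · intro h A hA hc he
    have h1 := h (A.subgroupOf K) ⟨⟨fun a b => Subtype.ext (Subtype.ext
        (hc _ a.2 _ b.2))⟩⟩ (fun a ha => Subtype.ext (he _ ha))
    rwa [Nat.card_congr (Subgroup.subgroupOfEquivOfLe hA).toEquiv] at h1
  · intro h A hA he
    have h1 := h (A.map K.subtype) (Subgroup.map_subtype_le A) (by
      rintro _ ⟨a, ha, rfl⟩ _ ⟨b, hb, rfl⟩
      have := hA.1.1 ⟨a, ha⟩ ⟨b, hb⟩
      exact congrArg (fun x : A => ((x : K) : G)) this) (by
      rintro _ ⟨a, ha, rfl⟩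
      exact congrArg Subtype.val (he a ha))
    rwa [Subgroup.card_map_of_injective K.subtype_injective] at h1

theorem prod_mem_iff {V : Type*} [CommGroup V] (H : Subgroup V) (hH : H.index = 2) {ι : Type*}
    (s : Finset ι) (f : ι → V) (hf : ∀ i ∈ s, f i ∉ H) : (∏ i ∈ s, f i) ∈ H ↔ Even s.card := by
  classical
  induction s using Finset.induction_on with
  | empty => simp [H.one_mem]
  | insert a s ha ih =>
    rw [Finset.prod_insert ha, Subgroup.mul_mem_iff_of_index_two hH, Finset.card_insert_of_notMem ha,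
      ih (fun i hi => hf i (Finset.mem_insert_of_mem hi))]
    have := hf a (Finset.mem_insert_self a s)
    simp only [this, false_iff, Nat.even_add_one]

open scoped IsMulCommutative in
/-- Let G be a finite group with no subgroup of index 2 whose Sylow 2-subgroup S is commutative, and let R ≤ S be a subgroup whose 2-rank is exactly one less than the 2-rank r of S. Then every involution of S is conjugate, by an element of N_G(S), to an element of R. -/
theorem aux {G : Type*} [Group G] [Finite G] (hG : ∀ H : Subgroup G, H.index ≠ 2) (S : Sylow 2 G) (hS : IsMulCommutative (S : Subgroup G)) (r : ℕ) (hr1 : 1 ≤ r) (hSr : Cfsg.PRankLE 2 r (S : Subgroup G) ∧ ¬ Cfsg.PRankLE 2 (r - 1) (S : Subgroup G)) (R : Subgroup G) (hRS : R ≤ S) (hRr : Cfsg.PRankLE 2 (r - 1) R ∧ (r = 1 ∨ ¬ Cfsg.PRankLE 2 (r - 2) R)) (t : G) (ht : orderOf t = 2) (htS : t ∈ S) : ∃ n ∈ Subgroup.normalizer ((S : Subgroup G) : Set G), n * t * n⁻¹ ∈ R := by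
  classical
  have hcomm : ∀ a ∈ S, ∀ b ∈ S, a * b = b * a := fun a ha b hb =>
    congrArg Subtype.val (hS.1.1 ⟨a, ha⟩ ⟨b, hb⟩)
  by_contra hcon
  push Not at hcon
  rw [prankLE_iff, prankLE_iff] at hSr
  rw [prankLE_iff, prankLE_iff] at hRr
  -- the subgroup of elements of square one of `S`
  let V : Subgroup (S : Subgroup G) := (powMonoidHom 2 : (S : Subgroup G) →* (S : Subgroup G)).ker
  have hVmem : ∀ x : (S : Subgroup G), x ∈ V ↔ (x : G) ^ 2 = 1 := by
    intro x
    change x ^ 2 = 1 ↔ _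
    rw [Subtype.ext_iff]
    rfl
  let VG : Subgroup G := V.map (S : Subgroup G).subtype
  have hVG : ∀ x : G, x ∈ VG ↔ x ∈ S ∧ x ^ 2 = 1 := by
    intro x
    constructor
    · rintro ⟨y, hy, rfl⟩
      exact ⟨y.2, (hVmem y).mp hy⟩
    · rintro ⟨h1, h2⟩
      exact ⟨⟨x, h1⟩, (hVmem _).mpr h2, rfl⟩
  have h2grp : ∀ A : Subgroup G, A ≤ S → ∃ k, Nat.card A = 2 ^ k := fun A hA =>
    IsPGroup.iff_card.mp (S.isPGroup'.to_le hA)
  -- card of VG
  have hVGS : VG ≤ S := fun x hx => ((hVG x).mp hx).1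
  have hcardV : Nat.card VG = 2 ^ r := by
    obtain ⟨k, hk⟩ := h2grp VG hVGS
    have h1 : Nat.card VG ≤ 2 ^ r := hSr.1 VG hVGS
      (fun a ha b hb => hcomm a (hVGS ha) b (hVGS hb)) (fun a ha => ((hVG a).mp ha).2)
    have h2 : 2 ^ (r - 1) < Nat.card VG := by
      have h3 := hSr.2
      push Not at h3
      obtain ⟨A, hA, hAc, hAe, hAcard⟩ := h3
      exact lt_of_lt_of_le hAcard (Subgroup.card_le_of_le
        (fun a ha => (hVG a).mpr ⟨hA ha, hAe a ha⟩))
    rw [hk] at h1 h2 ⊢
    have h3 := (Nat.pow_lt_pow_iff_right (by norm_num : 1 < 2)).mp h2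
    have h4 := (Nat.pow_le_pow_iff_right (by norm_num : 1 < 2)).mp h1
    congr 1
    omega
  let WG : Subgroup G := VG ⊓ R
  have hWG : ∀ x : G, x ∈ WG ↔ x ∈ R ∧ x ^ 2 = 1 := by
    intro x
    rw [Subgroup.mem_inf, hVG]
    constructor
    · rintro ⟨⟨_, h2⟩, h3⟩
      exact ⟨h3, h2⟩
    · rintro ⟨h3, h2⟩
      exact ⟨⟨hRS h3, h2⟩, h3⟩
  have hWGR : WG ≤ R := inf_le_right
  have hcardW : Nat.card WG = 2 ^ (r - 1) := by
    obtain ⟨k, hk⟩ := h2grp WG (hWGR.trans hRS)
    have h1 : Nat.card WG ≤ 2 ^ (r - 1) := hRr.1 WG hWGR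
      (fun a ha b hb => hcomm a (hRS (hWGR ha)) b (hRS (hWGR hb))) (fun a ha => ((hWG a).mp ha).2)
    rcases hRr.2 with h5 | h5
    · subst h5
      have h6 : 0 < Nat.card WG := Nat.card_pos
      simp only [Nat.sub_self, pow_zero] at h1 ⊢
      omega
    · have h2 : 2 ^ (r - 2) < Nat.card WG := by
        push Not at h5
        obtain ⟨A, hA, hAc, hAe, hAcard⟩ := h5
        exact lt_of_lt_of_le hAcard (Subgroup.card_le_of_le
          (fun a ha => (hWG a).mpr ⟨hA ha, hAe a ha⟩))
      rw [hk] at h1 h2 ⊢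
      have h3 := (Nat.pow_lt_pow_iff_right (by norm_num : 1 < 2)).mp h2
      have h4 := (Nat.pow_le_pow_iff_right (by norm_num : 1 < 2)).mp h1
      congr 1
      omega
  -- index two
  let H : Subgroup VG := WG.subgroupOf VG
  have hHi : H.index = 2 := by
    have h1 := Subgroup.card_mul_index H
    rw [Nat.card_congr (Subgroup.subgroupOfEquivOfLe (inf_le_left : WG ≤ VG)).toEquiv, hcardV,
      hcardW] at h1
    obtain ⟨r', rfl⟩ := Nat.exists_eq_add_of_le' hr1
    rw [Nat.add_sub_cancel, pow_succ] at h1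
    exact Nat.eq_of_mul_eq_mul_left (pow_pos two_pos r') h1
  -- the group of automorphisms induced by the normalizer
  let A : Subgroup (MulAut (S : Subgroup G)) := (S : Subgroup G).normalizerMonoidHom.range
  haveI : Finite A := inferInstance
  haveI : Fintype A := Fintype.ofFinite A
  have hAodd : ¬ Even (Fintype.card A) := by
    rw [← Nat.card_eq_fintype_card]
    intro hev
    have h1 : Nat.card A = (S : Subgroup G).normalizerMonoidHom.ker.index :=
      (Subgroup.index_ker _).symm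
    have h2 : (S : Subgroup G).subgroupOf (Subgroup.normalizer ((S : Subgroup G) : Set G)) ≤
        (S : Subgroup G).normalizerMonoidHom.ker := by
      rw [Subgroup.normalizerMonoidHom_ker]
      intro x hx
      rw [Subgroup.mem_subgroupOf] at hx ⊢
      rw [Subgroup.mem_centralizer_iff]
      intro y hy
      exact hcomm y hy x hx
    have h3 := Subgroup.index_dvd_of_le h2
    have h4 : ((S : Subgroup G).subgroupOf (Subgroup.normalizer ((S : Subgroup G) : Set G))).index ∣
        (S : Subgroup G).index := Subgroup.relIndex_dvd_index_of_le Subgroup.le_normalizer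
    apply S.not_dvd_index
    rw [h1] at hev
    exact (even_iff_two_dvd.mp hev).trans (h3.trans h4)
  let τ : (S : Subgroup G) := ⟨t, htS⟩
  have ht2 : t ^ 2 = 1 := by rw [← ht]; exact pow_orderOf_eq_one t
  let z : (S : Subgroup G) := ∏ a : A, (a : MulAut (S : Subgroup G)) τ
  have hz1 : (z : G) = 1 := by
    apply fixed_eq_one hG S hS z z.2
    intro n hn
    let a₀ : A := ⟨(S : Subgroup G).normalizerMonoidHom ⟨n, hn⟩, ⟨⟨n, hn⟩, rfl⟩⟩
    have h1 : (a₀ : MulAut (S : Subgroup G)) z = z := by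
      change (a₀ : MulAut (S : Subgroup G)) (∏ a : A, (a : MulAut (S : Subgroup G)) τ) =
        ∏ a : A, (a : MulAut (S : Subgroup G)) τ
      rw [map_prod]
      exact Fintype.prod_equiv (Equiv.mulLeft a₀) _ _ (fun a => rfl)
    have h2 : (((a₀ : MulAut (S : Subgroup G)) z : (S : Subgroup G)) : G) = n * z * n⁻¹ := rfl
    rw [← h2, h1]
  -- the product lies outside
  have hmemVG : ∀ a : A, (((a : MulAut (S : Subgroup G)) τ : (S : Subgroup G)) : G) ∈ VG := by
    intro a
    rw [hVG]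
    refine ⟨((a : MulAut (S : Subgroup G)) τ).2, ?_⟩
    have h1 : τ ^ 2 = 1 := Subtype.ext ht2
    have h2 : ((a : MulAut (S : Subgroup G)) τ) ^ 2 = 1 := by rw [← map_pow, h1, map_one]
    exact congrArg Subtype.val h2
  have hnotmem : ∀ a : A, (((a : MulAut (S : Subgroup G)) τ : (S : Subgroup G)) : G) ∉ R := by
    rintro ⟨_, ⟨n, hn⟩, rfl⟩
    exact hcon n hn
  letI : CommGroup VG := { (inferInstance : Group VG) with
    mul_comm := fun a b => Subtype.ext (hcomm _ (hVGS a.2) _ (hVGS b.2)) }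
  let f : A → VG := fun a => ⟨_, hmemVG a⟩
  have h1 := prod_mem_iff H hHi Finset.univ f (fun a _ ha => hnotmem a
    (by
      have h2 : ((f a : VG) : G) ∈ WG := ha
      exact hWGR h2))
  apply hAodd
  rw [← Finset.card_univ]
  apply h1.mp
  have h3 : (∏ a : A, f a) = 1 := by
    apply Subtype.ext
    have h4 : (((∏ a : A, f a : VG)) : G) = (z : G) := by
      let φ : VG →* (S : Subgroup G) := Subgroup.inclusion hVGS
      have h5 : φ (∏ a : A, f a) = z := by
        rw [map_prod]
        rfl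
      rw [← h5]
      rfl
    rw [h4, hz1]
    rfl
  rw [h3]
  exact H.one_mem

/-- Let G be a finite group with no subgroup of index 2 whose Sylow 2-subgroup S is commutative, and let R ≤ S be a subgroup whose 2-rank is exactly one less than the 2-rank r of S. Then every involution of S is conjugate, by an element of N_G(S), to an element of R. -/
theorem result {G : Type*} [Group G] [Finite G] (hG : ∀ H : Subgroup G, H.index ≠ 2) (S : Sylow 2 G) (hS : IsMulCommutative (S : Subgroup G)) (r : ℕ) (hr1 : 1 ≤ r) (hSr : Cfsg.PRankLE 2 r (S : Subgroup G) ∧ ¬ Cfsg.PRankLE 2 (r - 1) (S : Subgroup G)) (R : Subgroup G) (hRS : R ≤ S) (hRr : Cfsg.PRankLE 2 (r - 1) R ∧ (r = 1 ∨ ¬ Cfsg.PRankLE 2 (r - 2) R)) (t : G) (ht : orderOf t = 2) (htS : t ∈ S) : ∃ n ∈ Subgroup.normalizer ((S : Subgroup G) : Set G), n * t * n⁻¹ ∈ R :=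
  aux hG S hS r hr1 hSr R hRS hRr t ht htS

end Cfsg.Agent.S1244
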