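import Cfsg.Statements.S1249
import Mathlib

set_option autoImplicit false
open Cfsg
open scoped Pointwise

namespace Cfsg.Agent.S1249

/-- Let P and Q be Sylow p-subgroups of the finite group G both containing the subgroup A. If A is strongly closed in P, then A is strongly closed in Q. -/
theorem result {G : Type*} [Group G] [Finite G] {p : ℕ} [Fact p.Prime] (P Q : Sylow p G) (A : Subgroup G) (hAQ : A ≤ Q) (hA : Cfsg.IsStronglyClosed A (P : Subgroup G)) : Cfsg.IsStronglyClosed A (Q : Subgroup G) := by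
  obtain ⟨h, hh⟩ := MulAction.exists_smul_eq G P Q
  have hmem : ∀ y : G, y ∈ (Q : Subgroup G) ↔ h⁻¹ * y * h ∈ (P : Subgroup G) := by
    intro y
    have : (Q : Subgroup G) = MulAut.conj h • (P : Subgroup G) := by
      rw [← hh]; rfl
    rw [this, Subgroup.mem_pointwise_smul_iff_inv_smul_mem]
    simp [MulAut.smul_def, ← map_inv, MulAut.conj_apply]
  -- conjugation by `h⁻¹` maps `A` into `A`
  have hinto : ∀ x ∈ A, h⁻¹ * x * h ∈ A := by
    intro x hx
    have h1 := (hmem x).1 (hAQ hx)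
    have h2 := hA.2 x hx h⁻¹ (by simpa using h1)
    simpa using h2
  have hle : MulAut.conj h⁻¹ • A ≤ A := by
    intro y hy
    rw [Subgroup.mem_pointwise_smul_iff_inv_smul_mem] at hy
    have h3 := hinto _ hy
    simpa [MulAut.smul_def, ← map_inv, MulAut.conj_apply, mul_assoc] using h3
  have heq : MulAut.conj h⁻¹ • A = A := by
    apply Subgroup.eq_of_le_of_card_ge hle
    rw [Nat.card_congr (Subgroup.equivSMul (MulAut.conj h⁻¹) A).toEquiv]
  have hback : ∀ y : G, h⁻¹ * y * h ∈ A → y ∈ A := by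
    intro y hy
    rw [← heq, Subgroup.mem_pointwise_smul_iff_inv_smul_mem] at hy
    simpa [MulAut.smul_def, ← map_inv, MulAut.conj_apply, mul_assoc] using hy
  refine ⟨hAQ, ?_⟩
  intro x hx g hg
  apply hback
  have h4 := (hmem _).1 hg
  have h5 := hA.2 x hx (h⁻¹ * g) (by
    have : h⁻¹ * g * x * (h⁻¹ * g)⁻¹ = h⁻¹ * (g * x * g⁻¹) * h := by group
    rw [this]; exact h4)
  have : h⁻¹ * (g * x * g⁻¹) * h = h⁻¹ * g * x * (h⁻¹ * g)⁻¹ := by group
  rw [this]; exact h5

end Cfsg.Agent.S1249
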