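import Cfsg.Statements.S1264
import Cfsg.Agent.Lib.Cores
import Cfsg.Agent.SignalizersComponents.LayerCenter

set_option autoImplicit false
open Cfsg

namespace Cfsg.Agent.S1264

open Subgroup in
theorem solvable_normal_le_fitting {C : Type*} [Group C] [Finite C]
    (h : fittingSubgroup C ≤ center C) (N : Subgroup C) (hN : N.Normal)
    (hs : Group.IsSolvable N) : N ≤ fittingSubgroup C := by
  induction hn : Nat.card N using Nat.strong_induction_on generalizing N with
  | _ n ih =>
    by_cases hbot : N = ⊥
    · rw [hbot]; exact bot_le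
    · have hlt : ⁅N, N⁆ < N := by
        have : Nontrivial N := (Subgroup.nontrivial_iff_ne_bot N).mpr hbot
        have h1 := hs.commutator_lt_top_of_nontrivial N
        have h2 := (Subgroup.map_subtype_commutator N)
        rw [← h2]
        refine lt_of_le_of_ne (Subgroup.map_subtype_le _) ?_
        intro h3
        apply h1.ne
        apply Subgroup.map_injective N.subtype_injective
        rw [h3, ← MonoidHom.range_eq_map, Subgroup.range_subtype]
      have hle : ⁅N, N⁆ ≤ fittingSubgroup C := by
        refine ih (Nat.card ↥⁅N, N⁆) ?_ ⁅N, N⁆ inferInstance ?_ rfl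
        · rw [← hn]
          exact Set.Finite.card_lt_card (Set.toFinite _) hlt
        · exact Group.isSolvable_of_isSolvable_injective (f := inclusion hlt.le)
            (inclusion_injective hlt.le)
      refine Cfsg.Agent.Lib.Cores.le_fittingSubgroup hN ?_
      rw [isNilpotent_iff_lowerCentralSeries]
      refine ⟨2, ?_⟩
      rw [Subgroup.lowerCentralSeries_succ, Subgroup.lowerCentralSeries_succ,
        Subgroup.lowerCentralSeries_zero, eq_bot_iff]
      refine (commutator_mono (hle.trans h) le_rfl).trans ?_
      rw [commutator_center_left]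

/-- Let G be finite, C = C_G(F(G)) the centralizer of the Fitting subgroup, and N a solvable subgroup of C normalized by C. Then N ≤ Z(F(G)). -/
theorem result {G : Type*} [Group G] [Finite G] (N : Subgroup G) (hN : N ≤ Subgroup.centralizer (Cfsg.fittingSubgroup G : Set G)) (hnorm : Subgroup.centralizer (Cfsg.fittingSubgroup G : Set G) ≤ Subgroup.normalizer (N : Set G)) (hsolv : Group.IsSolvable ↥N) : N ≤ (Subgroup.center ↥(Cfsg.fittingSubgroup G)).map (Cfsg.fittingSubgroup G).subtype := by
  rw [Cfsg.Agent.SignalizersComponents.LayerCenter.map_center_eq]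
  refine le_inf ?_ hN
  have hF := Cfsg.Agent.Lib.Cores.fittingSubgroup_normal (G := G)
  have hC : (Subgroup.centralizer (Cfsg.fittingSubgroup G : Set G)).Normal := inferInstance
  have key := Cfsg.Agent.Lib.Cores.map_subtype_fittingSubgroup hC
  have hcen : fittingSubgroup (Subgroup.centralizer (Cfsg.fittingSubgroup G : Set G)) ≤
      Subgroup.center _ := by
    intro x hx
    have hx' : (x : G) ∈ fittingSubgroup G := by
      have : (x : G) ∈ Subgroup.centralizer (Cfsg.fittingSubgroup G : Set G) ⊓ fittingSubgroup G := by
        rw [← key]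
        exact ⟨x, hx, rfl⟩
      exact this.2
    rw [Subgroup.mem_center_iff]
    intro g
    apply Subtype.ext
    exact (Subgroup.mem_centralizer_iff.mp g.2 x hx').symm
  have hNn : (N.subgroupOf (Subgroup.centralizer (Cfsg.fittingSubgroup G : Set G))).Normal :=
    Subgroup.normal_subgroupOf_of_le_normalizer hnorm
  have h1 := solvable_normal_le_fitting hcen _ hNn
    (Group.isSolvable_of_isSolvable_injective
      (f := (Subgroup.subgroupOfEquivOfLe hN).toMonoidHom) (Subgroup.subgroupOfEquivOfLe hN).injective)
  intro x hx
  have h2 : (⟨x, hN hx⟩ : Subgroup.centralizer (Cfsg.fittingSubgroup G : Set G)) ∈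
      fittingSubgroup _ := h1 (Subgroup.mem_subgroupOf.mpr hx)
  have : x ∈ Subgroup.centralizer (Cfsg.fittingSubgroup G : Set G) ⊓ fittingSubgroup G := by
    rw [← key]
    exact ⟨_, h2, rfl⟩
  exact this.2

end Cfsg.Agent.S1264
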