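import Cfsg.Statements.S1267
import Cfsg.Agent.SignalizersComponents.LocalLayer

set_option autoImplicit false
open Cfsg

namespace Cfsg.Agent.S1267

open Subgroup in
/-- Being quasisimple is invariant under isomorphism. -/
theorem isQuasisimple_of_mulEquiv {G H : Type*} [Group G] [Group H] (e : G ≃* H)
    (h : IsQuasisimple G) : IsQuasisimple H := by
  obtain ⟨h1, h2⟩ := h
  refine ⟨Group.IsPerfect.ofSurjective (f := e.toMonoidHom) e.surjective, ?_⟩
  have hmap : (center G).map e.toMonoidHom = center H := by
    ext x
    constructor
    · rintro ⟨y, hy, rfl⟩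
      rw [mem_center_iff]
      intro z
      obtain ⟨w, rfl⟩ := e.surjective z
      have := mem_center_iff.mp hy w
      show e w * e y = e y * e w
      rw [← map_mul, this, map_mul]
    · intro hx
      refine ⟨e.symm x, ?_, e.apply_symm_apply x⟩
      show e.symm x ∈ center G
      rw [mem_center_iff]
      intro z
      apply e.injective
      rw [map_mul, map_mul, e.apply_symm_apply]
      exact mem_center_iff.mp hx (e z)
  have e2 : G ⧸ center G ≃* H ⧸ center H := QuotientGroup.congr (center G) (center H) e hmap
  exact e2.symm.isSimpleGroup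

/-- Let G be finite and P ≤ O_p(G). Then E(N_G(P)) = E(G). -/
theorem result {G : Type*} [Group G] [Finite G] (p : ℕ) [Fact p.Prime] (P : Subgroup G) (hP : P ≤ Cfsg.pCore p G) : (Cfsg.layer ↥(Subgroup.normalizer ((P : Subgroup G) : Set G))).map (Subgroup.normalizer ((P : Subgroup G) : Set G)).subtype = Cfsg.layer G := by
  have hQ := Cfsg.Agent.Lib.Cores.pCore_isPGroup (G := G) p
  have hQn := Cfsg.Agent.Lib.Cores.pCore_normal (G := G) p
  have hP' : IsPGroup p P := hQ.to_le hP
  set N := Subgroup.normalizer (P : Set G) with hN
  have hPc : Subgroup.centralizer (Cfsg.pCore p G : Set G) ≤ Subgroup.centralizer (P : Set G) :=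
    Subgroup.centralizer_le hP
  have hCN : Subgroup.centralizer (P : Set G) ≤ N := Subgroup.centralizer_le_normalizer _
  apply le_antisymm
  · rw [Subgroup.map_le_iff_le_comap]
    apply sSup_le
    intro L hL
    rw [← Subgroup.map_le_iff_le_comap]
    have h1 : L.map N.subtype ≤ Subgroup.centralizer (Cfsg.pCore p G : Set G) := by
      refine Cfsg.Agent.SignalizersComponents.LocalLayer.le_centralizer_of_normalizer hN hP' hQ hQn
        (X := ⊥) (fun T hT hp =>
          Cfsg.Agent.SignalizersComponents.LocalLayer.component_commutator_pGroup hL hT hp)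
        (by simp) ?_
      rw [sup_bot_eq]
      exact (Subgroup.isPerfect_iff.mp hL.2.1).symm
    apply le_sSup
    constructor
    · -- subnormal
      refine Subgroup.IsSubnormal.trans h1 ?_ (Subgroup.normal_centralizer).isSubnormal
      have h3 : (L.map N.subtype).subgroupOf (Subgroup.centralizer (Cfsg.pCore p G : Set G)) =
          L.comap (Subgroup.inclusion (hPc.trans hCN)) := by
        ext x
        rw [Subgroup.mem_subgroupOf, Subgroup.mem_comap, Subgroup.mem_map]
        constructor
        · rintro ⟨y, hy, hyx⟩
          have : Subgroup.inclusion (hPc.trans hCN) x = y := Subtype.ext hyx.symm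
          rwa [this]
        · intro hx
          exact ⟨_, hx, rfl⟩
      rw [h3]
      exact hL.1.comap _
    · exact isQuasisimple_of_mulEquiv (L.equivMapOfInjective N.subtype N.subtype_injective) hL.2
  · apply sSup_le
    intro K hK
    have h1 : K ≤ Subgroup.centralizer (Cfsg.pCore p G : Set G) :=
      Subgroup.commutator_eq_bot_iff_le_centralizer.mp
        (Cfsg.Agent.SignalizersComponents.LocalLayer.component_commutator_pGroup hK hQn hQ)
    have h2 : K ≤ N := h1.trans (hPc.trans hCN)
    rw [← Subgroup.map_subgroupOf_eq_of_le h2]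
    apply Subgroup.map_mono
    apply le_sSup
    exact ⟨hK.1.subgroupOf, isQuasisimple_of_mulEquiv (Subgroup.subgroupOfEquivOfLe h2).symm hK.2⟩

end Cfsg.Agent.S1267
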