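import Cfsg.Statements.S1279
-- import your own Cfsg.Agent.* helpers here
import Cfsg.Agent.SignalizersComponents.CoreOfCentralizer

set_option autoImplicit false
open Cfsg

namespace Cfsg.Agent.S1279

/-- Let A be a noncyclic elementary abelian p-subgroup of the finite group G such that C_G(a) is solvable for every non-identity a ∈ A. Then a ↦ O_{p'}(C_G(a)) is a solvable A-signalizer functor on G. -/
theorem result {G : Type*} [Group G] [Finite G] (p : ℕ) [Fact p.Prime] (A : Subgroup G) (hA : Cfsg.IsElementaryAbelian p A) (hA2 : p ^ 2 ≤ Nat.card ↥A) (hsolv : ∀ a ∈ A, a ≠ 1 → Group.IsSolvable ↥(Subgroup.centralizer ({a} : Set G))) : Cfsg.IsSolvableSignalizerFunctor p A (fun a => Cfsg.centralizerPPrimeCore p a) := by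
  have hp : p.Prime := Fact.out
  have hcomm : ∀ a ∈ A, ∀ b ∈ A, a * b = b * a := by
    intro a ha b hb
    have := hA.1.is_comm.comm (⟨a, ha⟩ : A) ⟨b, hb⟩
    exact congrArg Subtype.val this
  refine ⟨⟨?_, ?_, ?_, ?_⟩, ?_⟩
  · intro a _ _
    exact SignalizersComponents.CoreOfCentralizer.centralizerPPrimeCore_le p a
  · intro a _ _
    exact (hp.coprime_iff_not_dvd).mp
      (SignalizersComponents.CoreOfCentralizer.card_centralizerPPrimeCore_coprime p a).symm
  · intro a ha _ b hb x hx
    have hbc : b ∈ Subgroup.centralizer ({a} : Set G) := by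
      rw [Subgroup.mem_centralizer_iff]
      intro h hh
      rw [Set.mem_singleton_iff.mp hh]
      exact hcomm a ha b hb
    exact (Subgroup.mem_normalizer_iff.mp
      (SignalizersComponents.CoreOfCentralizer.centralizer_le_normalizer_centralizerPPrimeCore p a hbc) x).mp hx
  · intro a ha _ b hb hb1
    exact SignalizersComponents.CoreOfCentralizer.balance_of_isSolvable a b (hcomm a ha b hb) 1
      (by rw [pow_one]; exact hA.2 a ha) (hsolv b hb hb1)
  · intro a ha ha1
    have := hsolv a ha ha1
    exact Group.isSolvable_of_isSolvable_injective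
      (f := Subgroup.inclusion (SignalizersComponents.CoreOfCentralizer.centralizerPPrimeCore_le p a))
      (Subgroup.inclusion_injective _)

end Cfsg.Agent.S1279
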