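import Cfsg.Statements.S1289
import Cfsg.Agent.Lib.Cores
import Cfsg.Agent.Lib.ComponentSolvable
import Mathlib.GroupTheory.GroupAction.ConjAct

set_option autoImplicit false
open Cfsg

namespace Cfsg.Agent.S1289

/-- A normal `p'`-subgroup of a subnormal subgroup lies in `O_{p'}(G)`. -/
theorem map_le_pPrimeCore {G : Type*} [Group G] [Finite G] (p : ℕ) {K : Subgroup G}
    (hK : K.IsSubnormal) (X : Subgroup K) (hX : X.Normal) (hp : (Nat.card X).Coprime p) :
    X.map K.subtype ≤ pPrimeCore p G := by
  induction hK with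
  | top =>
    refine Cfsg.Agent.Lib.Cores.le_pPrimeCore ?_ ?_
    · exact hX.map _ (fun x => ⟨⟨x, Subgroup.mem_top x⟩, rfl⟩)
    · rwa [Subgroup.card_map_of_injective (Subgroup.subtype_injective _)]
  | step H K hle hsub hN ih =>
    have hc := Cfsg.Agent.Lib.Cores.pPrimeCore_characteristic (G := H.subgroupOf K) p
    have h1 : ((pPrimeCore p (H.subgroupOf K)).map (H.subgroupOf K).subtype).Normal :=
      inferInstance
    have h2 : (Nat.card ((pPrimeCore p (H.subgroupOf K)).map (H.subgroupOf K).subtype)).Coprime p := by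
      rw [Subgroup.card_map_of_injective (Subgroup.subtype_injective _)]
      exact Cfsg.Agent.Lib.Cores.pPrimeCore_coprime p
    have h3 := ih _ h1 h2
    refine le_trans ?_ h3
    let e : H ≃* H.subgroupOf K := (Subgroup.subgroupOfEquivOfLe hle).symm
    have h4 : X.map e.toMonoidHom ≤ pPrimeCore p (H.subgroupOf K) := by
      refine Cfsg.Agent.Lib.Cores.le_pPrimeCore (hX.map _ e.surjective) ?_
      rwa [Subgroup.card_map_of_injective e.injective]
    rintro _ ⟨x, hx, rfl⟩
    exact ⟨(e x : K), ⟨e x, h4 ⟨x, hx, rfl⟩, rfl⟩, rfl⟩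

/-- A subnormal `p'`-subgroup lies in `O_{p'}(G)`. -/
theorem le_pPrimeCore_of_isSubnormal {G : Type*} [Group G] [Finite G] (p : ℕ) {K : Subgroup G}
    (hK : K.IsSubnormal) (hp : (Nat.card K).Coprime p) : K ≤ pPrimeCore p G := by
  have h := map_le_pPrimeCore p hK ⊤ inferInstance (by rwa [Subgroup.card_top])
  rwa [← MonoidHom.range_eq_map, Subgroup.range_subtype] at h

/-- A p-component K of the finite group X is subnormal, perfect, of order divisible by p, and minimal among the subnormal perfect subgroups of X of order divisible by p. -/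
theorem result {X : Type*} [Group X] [Finite X] (p : ℕ) [Fact p.Prime] (K : Subgroup X) (hK : Cfsg.IsPComponent p K) : K.IsSubnormal ∧ ⁅K, K⁆ = K ∧ p ∣ Nat.card ↥K ∧ ∀ H : Subgroup X, H ≤ K → H.IsSubnormal → ⁅H, H⁆ = H → p ∣ Nat.card ↥H → H = K := by
  obtain ⟨hsub, ⟨hcs, hcq⟩, hmin⟩ := hK
  have hp : p.Prime := Fact.out
  refine ⟨hsub, ?_, ?_, ?_⟩
  · -- perfect
    apply hmin
    · refine Subgroup.IsSubnormal.step _ K (Subgroup.commutator_le_self K) hsub ?_
      exact Subgroup.normal_subgroupOf_of_le_normalizer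
        (Subgroup.le_normalizer_iff_commutator_le_left.mpr
          (Subgroup.commutator_mono (Subgroup.commutator_le_self K) le_rfl))
    · exact Subgroup.commutator_le_self K
    · rw [Subgroup.map_commutator]
      exact Subgroup.isPerfect_iff.mp hcq.1
  · -- order divisible by p
    by_contra hnd
    have h1 : K ≤ pPrimeCore p X :=
      le_pPrimeCore_of_isSubnormal p hsub ((Nat.Prime.coprime_iff_not_dvd hp).mpr hnd).symm
    have h2 : K.map (QuotientGroup.mk' (pPrimeCore p X)) = ⊥ := by
      rwa [Subgroup.map_eq_bot_iff, QuotientGroup.ker_mk']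
    have h3 := Cfsg.Agent.Lib.ComponentSolvable.quasisimple_nontrivial hcq
    rw [h2] at h3
    exact not_nontrivial _ h3
  · intro H hHK hHs hHp hHd
    apply hmin H hHs hHK
    have hsn : ((H.map (QuotientGroup.mk' (pPrimeCore p X))).subgroupOf
        (K.map (QuotientGroup.mk' (pPrimeCore p X)))).IsSubnormal :=
      hHs.quotient.subgroupOf
    rcases Cfsg.Agent.Lib.ComponentSolvable.quasisimple_subnormal_cases hcq hsn with h | h
    · exact le_antisymm (Subgroup.map_mono hHK) (Subgroup.subgroupOf_eq_top.mp h)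
    · exfalso
      -- the image of `H` is abelian and perfect, hence trivial
      have h1 : ⁅H.map (QuotientGroup.mk' (pPrimeCore p X)),
          H.map (QuotientGroup.mk' (pPrimeCore p X))⁆ = ⊥ := by
        rw [Subgroup.commutator_eq_bot_iff_le_centralizer]
        intro x hx
        rw [Subgroup.mem_centralizer_iff]
        intro y hy
        have hxK := Subgroup.map_mono (f := QuotientGroup.mk' (pPrimeCore p X)) hHK hx
        have hyK := Subgroup.map_mono (f := QuotientGroup.mk' (pPrimeCore p X)) hHK hy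
        have hx' : (⟨x, hxK⟩ : K.map (QuotientGroup.mk' (pPrimeCore p X))) ∈
            Subgroup.center (K.map (QuotientGroup.mk' (pPrimeCore p X))) := h hx
        exact congrArg Subtype.val (Subgroup.mem_center_iff.mp hx' ⟨y, hyK⟩)
      rw [← Subgroup.map_commutator, hHp, Subgroup.map_eq_bot_iff, QuotientGroup.ker_mk'] at h1
      have h2 : p ∣ Nat.card (pPrimeCore p X) := hHd.trans (Subgroup.card_dvd_of_le h1)
      exact (Nat.Prime.coprime_iff_not_dvd hp).mp
        (Cfsg.Agent.Lib.Cores.pPrimeCore_coprime (G := X) p).symm h2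

end Cfsg.Agent.S1289
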