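import Cfsg.Statements.S1317
import Mathlib
import Cfsg.Agent.SignalizersComponents.LayerBasic

set_option autoImplicit false
open Cfsg

namespace Cfsg.Agent.S1317

/-- For a finite group X, the centre of the layer E(X) is F(X) ∩ E(X). -/
theorem result {X : Type*} [Group X] [Finite X] : (Subgroup.center ↥(Cfsg.layer X)).map (Cfsg.layer X).subtype = Cfsg.fittingSubgroup X ⊓ Cfsg.layer X := by
  have hn : (Cfsg.layer X).Normal := SignalizersComponents.LayerBasic.layer_normal X
  refine le_antisymm (le_inf ?_ ?_) ?_
  · refine le_sSup ⟨inferInstance, ?_⟩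
    have e := (Subgroup.center ↥(Cfsg.layer X)).equivMapOfInjective (Cfsg.layer X).subtype
      (Cfsg.layer X).subtype_injective
    have : Group.IsNilpotent ↥(Subgroup.center ↥(Cfsg.layer X)) := by
      open scoped IsMulCommutative in
      exact CommGroup.isNilpotent
    exact Group.nilpotent_of_mulEquiv e
  · rintro _ ⟨y, -, rfl⟩
    exact y.2
  · rintro x ⟨hxF, hxE⟩
    refine ⟨⟨x, hxE⟩, ?_, rfl⟩
    have hc := SignalizersComponents.LayerBasic.fitting_le_centralizer_layer X hxF
    rw [SetLike.mem_coe, Subgroup.mem_center_iff]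
    intro g
    ext
    exact (Subgroup.mem_centralizer_iff.mp hc) g.1 g.2

end Cfsg.Agent.S1317
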