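import Cfsg.Statements.S1322
import Cfsg.Agent.S0205
import Cfsg.Agent.S1301
import Cfsg.Agent.SignalizersComponents.InvolutionComponent
import Cfsg.Agent.SignalizersComponents.EvenComponent

set_option autoImplicit false
open Cfsg

namespace Cfsg.Agent.S1322

open Cfsg.Agent.SignalizersComponents in
/-- Let G be finite with L_{2'}(G) = E(G), t an involution and L ≤ C_G(t) a component of C_G(t). Then there is a component D of G with: L = D; or L < D and D = ⁅D, ⟨t⟩⁆; or tDt⁻¹ ≠ D and L is the layer of C_{D ⊔ tDt⁻¹}(t). -/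
theorem result {G : Type*} [Group G] [Finite G] (hL2 : Cfsg.pLayer 2 G = Cfsg.layer G) (t : G) (ht : orderOf t = 2) (L : Subgroup G) (hLt : L ≤ Subgroup.centralizer ({t} : Set G)) (hL : Cfsg.IsComponent (L.subgroupOf (Subgroup.centralizer ({t} : Set G)))) : ∃ D : Subgroup G, Cfsg.IsComponent D ∧ (L = D ∨ (L < D ∧ D = ⁅D, Subgroup.zpowers t⁆) ∨ (D.map (MulAut.conj t).toMonoidHom ≠ D ∧ L = (Cfsg.layer ↥((D ⊔ D.map (MulAut.conj t).toMonoidHom) ⊓ Subgroup.centralizer ({t} : Set G))).map ((D ⊔ D.map (MulAut.conj t).toMonoidHom) ⊓ Subgroup.centralizer ({t} : Set G)).subtype)) := by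
  haveI : Fact (Nat.Prime 2) := ⟨Nat.prime_two⟩
  have htt : t * t = 1 := by
    have := pow_orderOf_eq_one t
    rwa [ht, pow_two] at this
  refine InvolutionComponent.trichotomy_of_le_layer t htt L hLt hL ?_
  -- `L` has even order by the odd order theorem
  have heven : 2 ∣ Nat.card (L.subgroupOf (Subgroup.centralizer ({t} : Set G))) := by
    by_contra hodd
    have h1 : Odd (Nat.card (L.subgroupOf (Subgroup.centralizer ({t} : Set G)))) := by
      rwa [← Nat.not_even_iff_odd, even_iff_two_dvd]
    exact Components.quasisimple_not_isSolvable hL.2 (Cfsg.Agent.S0205.result h1)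
  -- so it is a 2-component of the centralizer
  have h2 := EvenComponent.isPComponent_of_isComponent hL heven
  -- L-balance
  have hT : IsPGroup 2 (Subgroup.zpowers t) := by
    apply IsPGroup.of_card (n := 1)
    rw [Nat.card_zpowers, ht, pow_one]
  have h3 := Cfsg.Agent.S1301.result (Subgroup.zpowers t) hT
  have hc : Subgroup.centralizer ((Subgroup.zpowers t : Subgroup G) : Set G) =
      Subgroup.centralizer ({t} : Set G) := by
    rw [Subgroup.zpowers_eq_closure, Subgroup.centralizer_closure]
  rw [hc, hL2] at h3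
  refine le_trans ?_ h3
  have h4 := Subgroup.map_mono (f := (Subgroup.centralizer ({t} : Set G)).subtype)
    (show L.subgroupOf (Subgroup.centralizer ({t} : Set G)) ≤
      Cfsg.pLayer 2 (Subgroup.centralizer ({t} : Set G)) from le_sSup h2)
  rwa [Subgroup.map_subgroupOf_eq_of_le hLt] at h4

end Cfsg.Agent.S1322
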