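import Cfsg.Statements.S1339
import Cfsg.Agent.SignalizersComponents.FStarPCore

set_option autoImplicit false
open Cfsg

namespace Cfsg.Agent.S1339

open Matrix

section aux

variable {F : Type*} [Field F] {n : ℕ}

/-- What commuting with the transvection `1 + E_{ij}` says about the entries of a matrix. -/
theorem entries_of_commute {i j : Fin n} {t g : Matrix (Fin n) (Fin n) F}
    (ht : t = Matrix.transvection i j 1) (h : g * t = t * g) :
    (∀ a, a ≠ i → g a i = 0) ∧ (∀ b, b ≠ j → g j b = 0) ∧ g i i = g j j := by
  have hc : Commute (Matrix.single i j (1 : F)) g := by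
    rw [ht, Matrix.transvection, mul_add, add_mul, mul_one, one_mul] at h
    exact (add_left_cancel h).symm
  exact ⟨fun a ha => Matrix.col_eq_zero_of_commute_single hc ha,
    fun b hb => Matrix.row_eq_zero_of_commute_single hc hb,
    Matrix.diag_eq_of_commute_single hc⟩

/-- The action of the centralizer of the transvection on the middle factor of the flag. -/
def midHom {i j : Fin n} (hij : i ≠ j) (t : Matrix.SpecialLinearGroup (Fin n) F)
    (ht : (t : Matrix (Fin n) (Fin n) F) = Matrix.transvection i j 1) :
    ↥(Subgroup.centralizer ({t} : Set (Matrix.SpecialLinearGroup (Fin n) F))) →*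
      Matrix {c : Fin n // c ≠ i ∧ c ≠ j} {c : Fin n // c ≠ i ∧ c ≠ j} F where
  toFun g := ((g : Matrix.SpecialLinearGroup (Fin n) F) :
    Matrix (Fin n) (Fin n) F).submatrix Subtype.val Subtype.val
  map_one' := by
    ext a b
    simp [Matrix.one_apply, Subtype.ext_iff]
  map_mul' g h := by
    ext a b
    have hg := Subgroup.mem_centralizer_singleton_iff.mp g.2
    have hh := Subgroup.mem_centralizer_singleton_iff.mp h.2
    have hg' := entries_of_commute ht (congrArg (fun x : Matrix.SpecialLinearGroup (Fin n) F =>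
      (x : Matrix (Fin n) (Fin n) F)) hg)
    have hh' := entries_of_commute ht (congrArg (fun x : Matrix.SpecialLinearGroup (Fin n) F =>
      (x : Matrix (Fin n) (Fin n) F)) hh)
    rw [Matrix.submatrix_apply, Subgroup.coe_mul, Matrix.SpecialLinearGroup.coe_mul,
      Matrix.mul_apply, Matrix.mul_apply]
    simp only [Matrix.submatrix_apply]
    rw [← Finset.sum_subtype (Finset.univ.filter fun c => c ≠ i ∧ c ≠ j) (by simp)
      (fun c => ((g : Matrix.SpecialLinearGroup (Fin n) F) : Matrix (Fin n) (Fin n) F) a c *
        ((h : Matrix.SpecialLinearGroup (Fin n) F) : Matrix (Fin n) (Fin n) F) c b)]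
    symm
    apply Finset.sum_filter_of_ne
    intro c _ hc
    constructor
    · rintro rfl
      exact hc (by rw [hg'.1 a a.2.1, zero_mul])
    · rintro rfl
      exact hc (by rw [hh'.2.1 b b.2.2, mul_zero])

end aux

/-- Let F be a field with 2 elements, n ≥ 3, and t ∈ SL(n, F) a transvection (t = 1 + E_{ij}, i ≠ j). Then the generalized Fitting subgroup of C(t) is O_2(C(t)). -/
theorem result {F : Type*} [Field F] [Fintype F] [DecidableEq F] (hF : Fintype.card F = 2) (n : ℕ) (hn : 3 ≤ n) (i j : Fin n) (hij : i ≠ j) (t : Matrix.SpecialLinearGroup (Fin n) F) (ht : (t : Matrix (Fin n) (Fin n) F) = Matrix.transvection i j 1) : Cfsg.generalizedFittingSubgroup ↥(Subgroup.centralizer ({t} : Set (Matrix.SpecialLinearGroup (Fin n) F))) = Cfsg.pCore 2 ↥(Subgroup.centralizer ({t} : Set (Matrix.SpecialLinearGroup (Fin n) F))) := by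
  have hne : ∀ x : F, x ≠ 0 → x = 1 := by
    intro x hx
    have := FiniteField.pow_card_sub_one_eq_one x hx
    rw [hF] at this
    simpa using this
  have : Fact (Nat.Prime 2) := ⟨Nat.prime_two⟩
  have hchar : CharP F 2 := charP_of_card_eq_prime hF
  -- entries of the elements of the centralizer
  have hent : ∀ g : ↥(Subgroup.centralizer ({t} : Set (Matrix.SpecialLinearGroup (Fin n) F))),
      (∀ a, a ≠ i → ((g : Matrix.SpecialLinearGroup (Fin n) F) : Matrix (Fin n) (Fin n) F) a i = 0) ∧
      (∀ b, b ≠ j → ((g : Matrix.SpecialLinearGroup (Fin n) F) : Matrix (Fin n) (Fin n) F) j b = 0) ∧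
      ((g : Matrix.SpecialLinearGroup (Fin n) F) : Matrix (Fin n) (Fin n) F) i i = 1 ∧
      ((g : Matrix.SpecialLinearGroup (Fin n) F) : Matrix (Fin n) (Fin n) F) j j = 1 := by
    intro g
    obtain ⟨h1, h2, h3⟩ := entries_of_commute ht
      (congrArg (fun x : Matrix.SpecialLinearGroup (Fin n) F => (x : Matrix (Fin n) (Fin n) F))
        (Subgroup.mem_centralizer_singleton_iff.mp g.2))
    have h4 : ((g : Matrix.SpecialLinearGroup (Fin n) F) : Matrix (Fin n) (Fin n) F) i i = 1 := by
      apply hne
      intro h0
      have hdet := (g : Matrix.SpecialLinearGroup (Fin n) F).2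
      rw [Matrix.det_eq_zero_of_column_eq_zero i] at hdet
      · exact zero_ne_one hdet
      · intro a
        by_cases ha : a = i
        · rw [ha]; exact h0
        · exact h1 a ha
    exact ⟨h1, h2, h4, h3 ▸ h4⟩
  have hadd : ∀ A : Matrix (Fin n) (Fin n) F, A + A = 0 := by
    intro A
    ext a b
    exact CharTwo.add_self_eq_zero _
  -- elements of the kernel
  have hker : ∀ g : ↥(Subgroup.centralizer ({t} : Set (Matrix.SpecialLinearGroup (Fin n) F))),
      g ∈ (midHom hij t ht).ker ↔ ∀ a b, a ≠ i → a ≠ j → b ≠ i → b ≠ j →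
        ((g : Matrix.SpecialLinearGroup (Fin n) F) : Matrix (Fin n) (Fin n) F) a b = (1 : Matrix (Fin n) (Fin n) F) a b := by
    intro g
    rw [MonoidHom.mem_ker]
    constructor
    · intro h a b ha ha' hb hb'
      have := congrFun (congrFun h ⟨a, ha, ha'⟩) ⟨b, hb, hb'⟩
      change ((g : Matrix.SpecialLinearGroup (Fin n) F) : Matrix (Fin n) (Fin n) F) a b = _ at this
      rw [this]
      simp [Matrix.one_apply]
    · intro h
      ext a b
      change ((g : Matrix.SpecialLinearGroup (Fin n) F) : Matrix (Fin n) (Fin n) F) a b = _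
      rw [h a b a.2.1 a.2.2 b.2.1 b.2.2]
      simp [Matrix.one_apply, Subtype.ext_iff]
  refine Cfsg.Agent.SignalizersComponents.FStarPCore.generalizedFitting_eq_pCore_of_centralizer_le
    (Q := (midHom hij t ht).ker) inferInstance ?_ ?_
  · -- the kernel has exponent dividing 4
    intro g
    refine ⟨2, ?_⟩
    apply Subtype.ext
    apply Subtype.ext
    apply Subtype.ext
    obtain ⟨h1, h2, h3, h4⟩ := hent g.1
    have h5 := (hker g.1).mp g.2
    set M : Matrix (Fin n) (Fin n) F := ((g.1 : Matrix.SpecialLinearGroup (Fin n) F) : Matrix (Fin n) (Fin n) F) with hM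
    change M ^ 4 = 1
    obtain ⟨N, hN⟩ : ∃ N, M = 1 + N := ⟨M - 1, by simp⟩
    have hNab : ∀ a b, N a b = M a b - (1 : Matrix (Fin n) (Fin n) F) a b := by
      intro a b
      rw [hN]
      simp
    have hNi : ∀ a, N a i = 0 := by
      intro a
      rw [hNab]
      by_cases ha : a = i
      · rw [ha, h3, Matrix.one_apply_eq, sub_self]
      · rw [h1 a ha, Matrix.one_apply_ne ha, sub_zero]
    have hNj : ∀ b, N j b = 0 := by
      intro b
      rw [hNab]
      by_cases hb : b = j
      · rw [hb, h4, Matrix.one_apply_eq, sub_self]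
      · rw [h2 b hb, Matrix.one_apply_ne (Ne.symm hb), sub_zero]
    have hN0 : ∀ a b, a ≠ i → b ≠ j → N a b = 0 := by
      intro a b ha hb
      by_cases ha' : a = j
      · rw [ha']; exact hNj b
      by_cases hb' : b = i
      · rw [hb']; exact hNi a
      rw [hNab, h5 a b ha ha' hb' hb, sub_self]
    have hNN : ∀ a b, a ≠ i → (N * N) a b = 0 := by
      intro a b ha
      rw [Matrix.mul_apply]
      apply Finset.sum_eq_zero
      intro c _
      by_cases hc : c = j
      · rw [hc, hNj, mul_zero]
      · rw [hN0 a c ha hc, zero_mul]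
    have hN3 : N * (N * N) = 0 := by
      ext a b
      rw [Matrix.mul_apply]
      apply Finset.sum_eq_zero
      intro c _
      by_cases hc : c = i
      · rw [hc, hNi, zero_mul]
      · rw [hNN c b hc, mul_zero]
    have hM2 : M * M = 1 + N * N := by
      rw [hN]
      have : (1 + N) * (1 + N) = 1 + (N + N) + N * N := by noncomm_ring
      rw [this, hadd, add_zero]
    have hM4 : M ^ 4 = (M * M) * (M * M) := by noncomm_ring
    rw [hM4, hM2]
    have : (1 + N * N) * (1 + N * N) = 1 + (N * N + N * N) + N * (N * (N * N)) := by noncomm_ring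
    rw [this, hadd, hN3, mul_zero, add_zero, add_zero]
  · -- the centralizer of the kernel
    intro g hg
    rw [hker]
    intro a b ha ha' hb hb'
    obtain ⟨h1, h2, h3, h4⟩ := hent g
    -- the transvection `1 + E_{ia}`
    have hTt : t * Matrix.SpecialLinearGroup.transvection (Ne.symm ha) (1 : F) =
        Matrix.SpecialLinearGroup.transvection (Ne.symm ha) (1 : F) * t := by
      apply Subtype.ext
      change (t : Matrix (Fin n) (Fin n) F) * Matrix.transvection i a 1 =
        Matrix.transvection i a 1 * (t : Matrix (Fin n) (Fin n) F)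
      rw [ht]
      simp only [Matrix.transvection, mul_add, add_mul, mul_one, one_mul]
      rw [Matrix.single_mul_single_of_ne _ _ _ _ hij.symm, Matrix.single_mul_single_of_ne _ _ _ _ ha]
      abel
    let T : ↥(Subgroup.centralizer ({t} : Set (Matrix.SpecialLinearGroup (Fin n) F))) :=
      ⟨Matrix.SpecialLinearGroup.transvection (Ne.symm ha) (1 : F),
        Subgroup.mem_centralizer_singleton_iff.mpr hTt.symm⟩
    have hT : T ∈ (midHom hij t ht).ker := by
      rw [hker]
      intro c d hc hc' hd hd'
      change (Matrix.transvection i a (1 : F)) c d = _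
      simp [Matrix.transvection, Matrix.single, Ne.symm hc]
    have hgT : g * T = T * g := (Subgroup.mem_centralizer_iff.mp hg T hT).symm
    have hgT' := congrArg (fun x : ↥(Subgroup.centralizer ({t} : Set
      (Matrix.SpecialLinearGroup (Fin n) F))) =>
        ((x : Matrix.SpecialLinearGroup (Fin n) F) : Matrix (Fin n) (Fin n) F)) hgT
    obtain ⟨k1, k2, k3⟩ := entries_of_commute (i := i) (j := a)
      (t := Matrix.transvection i a (1 : F)) rfl hgT'
    by_cases hba : b = a
    · rw [hba, ← k3, h3, Matrix.one_apply_eq]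
    · rw [k2 b hba, Matrix.one_apply_ne (Ne.symm hba)]

end Cfsg.Agent.S1339
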