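import Cfsg.Statements.S1347
import Cfsg.Agent.SignalizersComponents.StandardTrichotomy
import Cfsg.Agent.S0225

set_option autoImplicit false
open Cfsg

namespace Cfsg.Agent.S1347

/-- A standard subgroup centralized by an involution lies in the layer (when `O(G) = 1` and
`C_G(E(G)) = 1`). -/
theorem le_layer {G : Type*} [Group G] [Finite G] {A : Subgroup G} (hA : Cfsg.IsStandardSubgroup A)
    (hO : Cfsg.oddCore G = ⊥) (t : G) (ht : orderOf t = 2)
    (htA : t ∈ Subgroup.centralizer (A : Set G))
    (hC : Subgroup.centralizer (layer G : Set G) = ⊥) : A ≤ layer G := by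
  by_contra hAE
  have hEn : (layer G).Normal := Cfsg.Agent.SignalizersComponents.Components.layer_normal G
  have hev : Even (Nat.card (layer G)) := by
    obtain ⟨L, hL⟩ := Cfsg.Agent.SignalizersComponents.StandardTrichotomy.exists_isComponent hC
      (Cfsg.Agent.SignalizersComponents.StandardTrichotomy.ne_bot hA)
    have h1 := Subgroup.card_dvd_of_le
      (Cfsg.Agent.SignalizersComponents.Components.component_le_layer hL)
    exact even_iff_two_dvd.mpr
      ((Cfsg.Agent.SignalizersComponents.StandardTrichotomy.even_card_component hO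
        hL).two_dvd.trans h1)
  have hcomm : ∀ r s : layer G, orderOf r = 2 → orderOf s = 2 → Commute r s → r = s := by
    intro r s hr hs hrs
    apply Subtype.ext
    exact Cfsg.Agent.SignalizersComponents.StandardTrichotomy.eq_of_commute_of_not_le_layer
      hA ht htA hO hC hAE r.2 s.2 (by rw [← Subgroup.orderOf_coe] at hr; exact hr)
      (by rw [← Subgroup.orderOf_coe] at hs; exact hs) (congrArg Subtype.val hrs.eq)
  have hrank : ∀ E : Subgroup (layer G), ¬ IsKleinFour E := by
    intro E hE
    -- two distinct involutions of `E` commute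
    obtain ⟨r, hr⟩ : ∃ r : E, r ≠ 1 := by
      by_contra hcon
      push Not at hcon
      have h1 : Nat.card E = 1 := by
        rw [Nat.card_eq_one_iff_unique]
        exact ⟨⟨fun a b => by rw [hcon a, hcon b]⟩, ⟨1⟩⟩
      rw [hE.card_four] at h1
      exact absurd h1 (by norm_num)
    obtain ⟨s, hs, hsr⟩ : ∃ s : E, s ≠ 1 ∧ s ≠ r := by
      by_contra hcon
      push Not at hcon
      have h1 : Nat.card E ≤ 2 := by
        rw [← Set.ncard_univ]
        have h2 : (Set.univ : Set E) ⊆ {1, r} := by
          intro x _
          by_cases hx : x = 1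
          · left; exact hx
          · right; exact hcon x hx
        exact (Set.ncard_le_ncard h2 (Set.toFinite _)).trans
          ((Set.ncard_insert_le 1 {r}).trans (by rw [Set.ncard_singleton]))
      rw [hE.card_four] at h1
      exact absurd h1 (by norm_num)
    have hsq : ∀ x : E, x * x = 1 := fun x => by
      have := Monoid.pow_exponent_eq_one x
      rwa [hE.exponent_two, pow_two] at this
    have ho : ∀ x : E, x ≠ 1 → orderOf (x : layer G) = 2 := by
      intro x hx
      rw [Subgroup.orderOf_coe]
      exact orderOf_eq_prime (by rw [pow_two]; exact hsq x) hx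
    have hrs : r * s = s * r := by
      have h1 := hsq (r * s)
      have h2 : r⁻¹ = r := inv_eq_of_mul_eq_one_right (hsq r)
      have h3 : s⁻¹ = s := inv_eq_of_mul_eq_one_right (hsq s)
      have h4 : (r * s)⁻¹ = r * s := inv_eq_of_mul_eq_one_right h1
      rw [mul_inv_rev, h2, h3] at h4
      exact h4.symm
    apply hsr
    apply Subtype.ext
    exact (hcomm r s (ho r hr) (ho s hs) (congrArg Subtype.val hrs)).symm
  obtain ⟨z, hz, N, hN, hNodd, hcen⟩ := Cfsg.Agent.S0225.result hev hrank
  -- `N` is trivial
  have hNbot : N = ⊥ := by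
    have h1 : (N.map (layer G).subtype).IsSubnormal := hN.isSubnormal.trans' hEn.isSubnormal
    have h2 : (Nat.card (N.map (layer G).subtype)).Coprime 2 := by
      rw [← Nat.card_congr (N.equivMapOfInjective _ (layer G).subtype_injective).toEquiv]
      exact Nat.coprime_two_right.mpr hNodd
    have h3 := Cfsg.Agent.SignalizersComponents.CompBasic.subnormal_coprime_le_pPrimeCore h1 h2
    have h4 : pPrimeCore 2 G = ⊥ := hO
    rw [h4, le_bot_iff, Subgroup.map_eq_bot_iff_of_injective _ (layer G).subtype_injective] at h3
    exact h3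
  -- so `z` centralizes the layer
  have hzC : (z : G) ∈ Subgroup.centralizer (layer G : Set G) := by
    rw [Subgroup.mem_centralizer_iff]
    intro g hg
    have h1 := hcen ⟨g, hg⟩
    rw [hNbot, Subgroup.mem_bot] at h1
    have h2 := congrArg Subtype.val h1
    have h3 : (z : G) * g * (z : G)⁻¹ * g⁻¹ = 1 := h2
    rw [mul_inv_eq_one, mul_inv_eq_iff_eq_mul] at h3
    exact h3.symm
  rw [hC, Subgroup.mem_bot] at hzC
  rw [← Subgroup.orderOf_coe, hzC, orderOf_one] at hz
  exact absurd hz (by norm_num)

/-- Let A be a standard subgroup of the finite group G with O(G) = 1, and t an involution of C_G(A). Then (i) A is normal in G; or (ii) there is a non-abelian simple subgroup X ≅ A with X and tXt⁻¹ commuting, meeting trivially and generating E(G), and C_G(A) = ⟨t⟩; or (iii) A ≤ E(G) and E(G) is non-abelian simple. -/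
theorem result {G : Type*} [Group G] [Finite G] (A : Subgroup G) (hA : Cfsg.IsStandardSubgroup A) (hO : Cfsg.oddCore G = ⊥) (t : G) (ht : orderOf t = 2) (htA : t ∈ Subgroup.centralizer (A : Set G)) : A.Normal ∨ (∃ X : Subgroup G, IsSimpleGroup ↥X ∧ ¬ IsMulCommutative ↥X ∧ Nonempty (↥X ≃* ↥A) ∧ (∀ a ∈ X, ∀ b ∈ X.map (MulAut.conj t).toMonoidHom, a * b = b * a) ∧ X ⊓ X.map (MulAut.conj t).toMonoidHom = ⊥ ∧ X ⊔ X.map (MulAut.conj t).toMonoidHom = Cfsg.layer G ∧ Subgroup.centralizer (A : Set G) = Subgroup.zpowers t) ∨ (A ≤ Cfsg.layer G ∧ IsSimpleGroup ↥(Cfsg.layer G) ∧ ¬ IsMulCommutative ↥(Cfsg.layer G)) := by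
  by_cases h2 : pCore 2 G = ⊥
  swap
  · exact Or.inl
      (Cfsg.Agent.SignalizersComponents.StandardTrichotomy.normal_of_pCore_ne_bot hA ht htA h2)
  have hC := Cfsg.Agent.SignalizersComponents.StandardTrichotomy.centralizer_layer_eq_bot hO h2
  by_cases hn : A.Normal
  · exact Or.inl hn
  have hAE : A ≤ layer G := le_layer hA hO t ht htA hC
  obtain ⟨L, hL⟩ := Cfsg.Agent.SignalizersComponents.StandardTrichotomy.exists_isComponent hC
    (Cfsg.Agent.SignalizersComponents.StandardTrichotomy.ne_bot hA)
  by_cases h1 : ∃ L' : Subgroup G, IsComponent L' ∧ L ≠ L'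
  · obtain ⟨L', hL', hne⟩ := h1
    right; left
    have htL : t ∉ Subgroup.normalizer (L : Set G) := fun h =>
      hn (Cfsg.Agent.SignalizersComponents.StandardTrichotomy.normal_of_normalized_component
        hA ht htA hO hAE hL hL' hne h)
    exact ⟨L, Cfsg.Agent.SignalizersComponents.StandardTrichotomy.swap_case hA ht htA hO hC hAE
      hn hL htL⟩
  · right; right
    push Not at h1
    have hE : layer G = L := by
      apply le_antisymm
      · rw [Cfsg.Agent.SignalizersComponents.Components.layer_le_iff]
        intro K hK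
        rw [← h1 K hK]
      · exact Cfsg.Agent.SignalizersComponents.Components.component_le_layer hL
    refine ⟨hAE, ?_, ?_⟩
    · rw [hE]
      exact Cfsg.Agent.SignalizersComponents.StandardTrichotomy.isSimpleGroup_component hC hL
    · rw [hE]
      exact Cfsg.Agent.SignalizersComponents.Components.quasisimple_not_isMulCommutative hL.2

end Cfsg.Agent.S1347
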