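import Cfsg.Statements.S1447
import Cfsg.Agent.OddOrderLocal.MetacyclicCoprime

set_option autoImplicit false
open Cfsg

namespace Cfsg.Agent.S1447

open Cfsg.Agent.OddOrderLocal.Metacyclic Cfsg.Agent.OddOrderLocal.MetacyclicCoprime

/-- Let G be a finite group, p an odd prime, R a metacyclic p-subgroup and A a subgroup of order coprime to p normalizing R. Then [R, A] is abelian; R is generated by [R, A] and R ∩ C_G(A), which meet trivially; and if R is non-abelian and A does not centralize R, then [R, A] and R ∩ C_G(A) are nontrivial cyclic groups and [R, R] ≤ [R, A]. -/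
theorem result {G : Type*} [Group G] [Finite G] (p : ℕ) [Fact p.Prime] (hp : p ≠ 2) (R A : Subgroup G) (hR : IsPGroup p R) (hRm : Cfsg.IsMetacyclic R)
    (hA : (A ≤ Subgroup.normalizer (R : Set G))) (hcop : (Nat.card A).Coprime p) :
    IsMulCommutative ↥⁅R, A⁆ ∧ ⁅R, A⁆ ⊔ (R ⊓ Subgroup.centralizer (A : Set G)) = R ∧ ⁅R, A⁆ ⊓ (R ⊓ Subgroup.centralizer (A : Set G)) = ⊥ ∧
      (¬ IsMulCommutative R → ¬ A ≤ Subgroup.centralizer (R : Set G) →
        ⁅R, A⁆ ≠ ⊥ ∧ IsCyclic ↥⁅R, A⁆ ∧ (R ⊓ Subgroup.centralizer (A : Set G)) ≠ ⊥ ∧ IsCyclic ↥(R ⊓ Subgroup.centralizer (A : Set G)) ∧ ⁅R, R⁆ ≤ ⁅R, A⁆) := by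
  have hprime : p.Prime := Fact.out
  have hcopR : (Nat.card A).Coprime (Nat.card R) := by
    obtain ⟨n, hn⟩ := IsPGroup.iff_card.1 hR
    rw [hn]
    exact Nat.Coprime.pow_right n hcop
  have hsolR : Group.IsSolvable R := by
    have := hR.isNilpotent
    infer_instance
  have hTR : ⁅R, A⁆ ≤ R := by
    rw [Subgroup.commutator_le]
    intro r hr a ha
    have h1 : a * r⁻¹ * a⁻¹ ∈ R := (Subgroup.le_normalizer_iff.1 hA) a ha _ (R.inv_mem hr)
    have h2 := R.mul_mem hr h1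
    rw [commutatorElement_def]
    simpa only [mul_assoc] using h2
  have hTT : ⁅⁅R, A⁆, A⁆ = ⁅R, A⁆ := Cfsg.Agent.S0027.result A R hA hcopR (Or.inr hsolR)
  set T := ⁅R, A⁆ with hT
  have hAT : A ≤ Subgroup.normalizer (T : Set G) := by
    rw [Subgroup.le_normalizer_iff]
    intro a ha t ht
    have h1 : t * a * t⁻¹ * a⁻¹ ∈ T := by
      rw [← hTT]
      exact Subgroup.commutator_mem_commutator ht ha
    have h2 := T.mul_mem (T.inv_mem h1) ht
    have h3 : (t * a * t⁻¹ * a⁻¹)⁻¹ * t = a * t * a⁻¹ := by group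
    rwa [h3] at h2
  have hTp : IsPGroup p T := hR.to_le hTR
  have hTm : Cfsg.IsMetacyclic T := isMetacyclic_of_le hRm hTR
  have hTc : IsMulCommutative T := isMulCommutative_of_commutator_eq hp T A hTp hTm hAT hcop hTT
  have hcopT : (Nat.card A).Coprime (Nat.card T) :=
    Nat.Coprime.coprime_dvd_right (Subgroup.card_dvd_of_le hTR) hcopR
  set C := R ⊓ Subgroup.centralizer (A : Set G) with hC
  have hCR : C ≤ R := inf_le_left
  have hsup : T ⊔ C = R := Cfsg.Agent.S0026.result A R hA hcopR (Or.inr hsolR)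
  have hinf : T ⊓ C = ⊥ := by
    have h1 := (Cfsg.Agent.S0055.result A T hAT hcopT).1
    rw [hTT] at h1
    rw [eq_bot_iff]
    rintro x ⟨hxT, hxC⟩
    have h2 : x ∈ (T ⊓ Subgroup.centralizer (A : Set G)) ⊓ T :=
      Subgroup.mem_inf.2 ⟨Subgroup.mem_inf.2 ⟨hxT, (Subgroup.mem_inf.1 hxC).2⟩, hxT⟩
    rw [h1] at h2
    exact h2
  refine ⟨hTc, hsup, hinf, ?_⟩
  intro hRnc hAnc
  have hTne : T ≠ ⊥ := by
    intro h
    apply hAnc
    rw [hT, Subgroup.commutator_comm, Subgroup.commutator_eq_bot_iff_le_centralizer] at h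
    exact h
  have hCne : C ≠ ⊥ := by
    intro h
    rw [h, sup_bot_eq] at hsup
    exact hRnc (hsup ▸ hTc)
  -- nontrivial subgroups of `R` contain elements of order `p`
  have hcauchy : ∀ H : Subgroup G, H ≤ R → H ≠ ⊥ → ∃ x ∈ H, x ≠ 1 ∧ x ^ p = 1 := by
    intro H hHR hH
    have hHp : IsPGroup p H := hR.to_le hHR
    have hHnt : Nontrivial H := (Subgroup.nontrivial_iff_ne_bot H).2 hH
    obtain ⟨n, hn0, hn⟩ := (IsPGroup.nontrivial_iff_card hHp).1 hHnt
    have hdvd : p ∣ Nat.card H := by rw [hn]; exact dvd_pow_self p (by omega)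
    obtain ⟨z, hz⟩ := exists_prime_orderOf_dvd_card' p hdvd
    refine ⟨z, z.2, ?_, ?_⟩
    · intro hz1
      have hz2 : z = 1 := Subtype.ext hz1
      rw [hz2, orderOf_one] at hz
      exact hprime.one_lt.ne hz
    · have := pow_orderOf_eq_one z
      rw [hz] at this
      exact congrArg Subtype.val this
  have hTcyc : IsCyclic T := by
    by_contra hTn
    obtain ⟨x, hxC, hx1, hxp⟩ := hcauchy C hCR hCne
    have h1 : x ∈ T := mem_of_pow_eq_one hp hR hRm hTR hTn (hCR hxC) hxp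
    have h2 : x ∈ T ⊓ C := ⟨h1, hxC⟩
    rw [hinf, Subgroup.mem_bot] at h2
    exact hx1 h2
  have hCcyc : IsCyclic C := by
    by_contra hCn
    obtain ⟨x, hxT, hx1, hxp⟩ := hcauchy T hTR hTne
    have h1 : x ∈ C := mem_of_pow_eq_one hp hR hRm hCR hCn (hTR hxT) hxp
    have h2 : x ∈ T ⊓ C := ⟨hxT, h1⟩
    rw [hinf, Subgroup.mem_bot] at h2
    exact hx1 h2
  refine ⟨hTne, hTcyc, hCne, hCcyc, ?_⟩
  -- `[R, R] ≤ T`
  have hRT : R ≤ Subgroup.normalizer (T : Set G) := Subgroup.normalizer_commutator_ge_left R A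
  have hn : (T.subgroupOf R).Normal := (Subgroup.normal_subgroupOf_iff_le_normalizer hTR).2 hRT
  have hsup' : T.subgroupOf R ⊔ C.subgroupOf R = ⊤ := by
    rw [← Subgroup.subgroupOf_sup hTR hCR, hsup, Subgroup.subgroupOf_self]
  have hCc : IsMulCommutative (C.subgroupOf R) := by
    have h1 : IsCyclic (C.subgroupOf R) := isCyclic_of_injective
      (Subgroup.subgroupOfEquivOfLe hCR).toMonoidHom (Subgroup.subgroupOfEquivOfLe hCR).injective
    infer_instance
  have h1 := Subgroup.Normal.commutator_le_of_self_sup_commutative_eq_top hsup' hCc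
  rw [← Subgroup.map_subtype_commutator]
  calc (_root_.commutator R).map R.subtype ≤ (T.subgroupOf R).map R.subtype := Subgroup.map_mono h1
    _ ≤ T := by rw [Subgroup.subgroupOf_map_subtype]; exact inf_le_left

end Cfsg.Agent.S1447
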