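import Cfsg.Statements.S1474
import Cfsg.Agent.OddOrderLocal.CNHall
import Cfsg.Agent.S0039

set_option autoImplicit false
set_option linter.style.haveILetI false
open Cfsg

namespace Cfsg.Agent.S1474

open Subgroup Cfsg.Agent.OddOrderLocal

/-- Let G be a finite group in which every non-identity element has nilpotent centralizer, not itself nilpotent, and having a nontrivial normal Sylow p-subgroup for some prime p. Let H be the largest normal nilpotent Hall subgroup of G. Then H is a nontrivial proper normal subgroup with a complement E that is a Frobenius complement in G (no non-identity element of E centralizes a non-identity element of H), and G/H is nilpotent. -/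
theorem result {G : Type*} [Group G] [Finite G] (hCN : Cfsg.IsCNGroup G) (hnn : ¬ Group.IsNilpotent G) (p : ℕ) [Fact p.Prime] (P : Sylow p G)
    (hP1 : (P : Subgroup G) ≠ ⊥) (hPn : (P : Subgroup G).Normal) :
    Cfsg.fittingHall G ≠ ⊥ ∧ Cfsg.fittingHall G ≠ ⊤ ∧
      (∃ E : Subgroup G, Subgroup.IsComplement' (Cfsg.fittingHall G) E ∧ Cfsg.IsFrobeniusComplement E ∧
        ∀ e ∈ E, e ≠ 1 → Cfsg.fittingHall G ⊓ Subgroup.centralizer ({e} : Set G) = ⊥) ∧
      Group.IsNilpotent (G ⧸ Cfsg.fittingHall G) := by
  have hHnil : Group.IsNilpotent (fittingHall G) := FittingHall.fittingHall_isNilpotent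
  have hHcop := FittingHall.fittingHall_coprime (G := G)
  have hPH : (P : Subgroup G) ≤ fittingHall G :=
    FittingHall.le_fittingHall hPn P.isPGroup'.isNilpotent P.card_coprime_index
  have hbot : fittingHall G ≠ ⊥ := fun h => hP1 (le_bot_iff.mp (h ▸ hPH))
  have htop : fittingHall G ≠ ⊤ := by
    intro h
    rw [h] at hHnil
    exact hnn (Group.isNilpotent_top.mp hHnil)
  obtain ⟨E, hE⟩ := Subgroup.exists_right_complement'_of_coprime hHcop
  have hcE : Nat.card E = (fittingHall G).index := by
    have h1 := hE.card_mul_card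
    rw [← (fittingHall G).card_mul_index] at h1
    exact Nat.eq_of_mul_eq_mul_left Nat.card_pos h1
  have hfpf : ∀ e ∈ E, e ≠ 1 → fittingHall G ⊓ centralizer ({e} : Set G) = ⊥ := by
    intro e he he1
    rw [eq_bot_iff]
    intro x hx
    obtain ⟨hx1, hx2⟩ := mem_inf.mp hx
    rw [mem_bot]
    by_contra hx3
    apply he1
    refine CNHall.eq_one_of_commute hCN hx1 hx3 ?_ (CNNilpotent.mem_centralizer_singleton.mp hx2).symm
    have : orderOf e ∣ (fittingHall G).index := by
      rw [← hcE]; exact E.orderOf_dvd_natCard he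
    exact Nat.Coprime.coprime_dvd_right this hHcop
  have hEbot : E ≠ ⊥ := by
    rintro rfl
    apply htop
    have h1 := hE.card_mul_card
    rw [card_bot, mul_one] at h1
    exact Subgroup.eq_top_of_card_eq _ h1
  have hFC : IsFrobeniusComplement E :=
    (Cfsg.Agent.S0039.result (fittingHall G) E hE hbot hEbot).mpr hfpf
  refine ⟨hbot, htop, ⟨E, hE, hFC, hfpf⟩, ?_⟩
  -- nilpotency of the complement
  have hEnil : Group.IsNilpotent E := by
    -- V = Z(G_F)
    let V : Subgroup G := (center (fittingHall G)).map (fittingHall G).subtype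
    haveI hVn : V.Normal := inferInstance
    have hVH : V ≤ fittingHall G := map_subtype_le _
    haveI : Nontrivial (fittingHall G) := (Subgroup.nontrivial_iff_ne_bot _).mpr hbot
    have hV1 : V ≠ ⊥ := by
      intro h
      have := (Subgroup.map_eq_bot_iff_of_injective _ (fittingHall G).subtype_injective).mp h
      exact Group.IsNilpotent.center_ne_bot (G := fittingHall G) this
    haveI : Nontrivial V := (Subgroup.nontrivial_iff_ne_bot _).mpr hV1
    refine CNHall.isNilpotent_of_fpf (V := V) ?_ ((MulAut.conjNormal (H := V)).comp E.subtype)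
      (CNBasic.isCNGroup_subgroup hCN E) ?_
    · rintro ⟨a, ha⟩ ⟨b, hb⟩
      obtain ⟨a, ha', rfl⟩ := ha
      obtain ⟨b, hb', rfl⟩ := hb
      apply Subtype.ext
      exact (congrArg Subtype.val (mem_center_iff.mp ha' b)).symm
    · rintro ⟨e, he⟩ he1 ⟨v, hv⟩ hev
      have h1 : e * v * e⁻¹ = v := congrArg Subtype.val hev
      have h2 : v ∈ fittingHall G ⊓ centralizer ({e} : Set G) := by
        refine mem_inf.mpr ⟨hVH hv, ?_⟩
        rw [CNNilpotent.mem_centralizer_singleton]
        exact mul_inv_eq_iff_eq_mul.mp h1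
      rw [hfpf e he (fun h => he1 (Subtype.ext h)), mem_bot] at h2
      exact Subtype.ext h2
  have e1 : E ≃* G ⧸ fittingHall G := hE.symm.QuotientMulEquiv.symm
  exact (Group.isNilpotent_congr e1).mp hEnil

end Cfsg.Agent.S1474
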