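import Cfsg.Statements.S1475
import Cfsg.Agent.Lib.SolvableNormalP
import Cfsg.Agent.Lib.Cores
import Cfsg.Agent.S0041

set_option autoImplicit false
set_option linter.style.haveILetI false
open Cfsg

namespace Cfsg.Agent.S1475

open Subgroup

/-- A normal cyclic subgroup: every cyclic subgroup of it is normalised by everything. -/
theorem conj_mem_zpowers_of_isCyclic {G : Type*} [Group G] (M : Subgroup G) [hM : M.Normal]
    [IsCyclic M] {m : G} (hm : m ∈ M) (g : G) : g * m * g⁻¹ ∈ zpowers m := by
  obtain ⟨k, hk⟩ := MonoidHom.map_cyclic (MulAut.conjNormal g : M ≃* M).toMonoidHom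
  have h := congrArg (fun x : M => (x : G)) (hk ⟨m, hm⟩)
  simp only [MulEquiv.toMonoidHom_eq_coe, MonoidHom.coe_coe, MulAut.conjNormal_apply,
    SubgroupClass.coe_zpow] at h
  rw [h]
  exact zpow_mem (mem_zpowers m) k

theorem quotient_orders {G : Type*} [Group G] (N : Subgroup G) [N.Normal]
    (h : ∀ g : G, IsPrimePow (orderOf g) ∨ g = 1) :
    ∀ g : G ⧸ N, IsPrimePow (orderOf g) ∨ g = 1 := by
  intro g
  obtain ⟨x, rfl⟩ := QuotientGroup.mk_surjective g
  rcases h x with hx | rfl
  · have hd : orderOf (x : G ⧸ N) ∣ orderOf x := by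
      exact orderOf_map_dvd (QuotientGroup.mk' N) x
    by_cases h1 : (x : G ⧸ N) = 1
    · exact Or.inr h1
    · left
      exact hx.dvd hd (by rwa [Ne, orderOf_eq_one_iff])
  · right; rfl

theorem not_commute {G : Type*} [Group G] 
    (h : ∀ g : G, IsPrimePow (orderOf g) ∨ g = 1) {a b : G} (ha : a ≠ 1) (hb : b ≠ 1)
    (hcop : (orderOf a).Coprime (orderOf b)) : ¬ Commute a b := by
  intro hab
  have hord := hab.orderOf_mul_eq_mul_orderOf_of_coprime hcop
  have ha1 : orderOf a ≠ 1 := by rwa [Ne, orderOf_eq_one_iff]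
  have hb1 : orderOf b ≠ 1 := by rwa [Ne, orderOf_eq_one_iff]
  rcases h (a * b) with hx | hx
  · rw [hord] at hx
    obtain ⟨p, k, hp, hk, hpk⟩ := hx
    have hp' : p.Prime := hp.nat_prime
    have h1 : (orderOf a).minFac = p := by
      have h2 : (orderOf a).minFac ∣ p ^ k := by
        rw [hpk]; exact (Nat.minFac_dvd _).mul_right _
      exact (Nat.prime_dvd_prime_iff_eq (Nat.minFac_prime ha1) hp').mp
        ((Nat.minFac_prime ha1).dvd_of_dvd_pow h2)
    have h2 : (orderOf b).minFac = p := by
      have h2 : (orderOf b).minFac ∣ p ^ k := by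
        rw [hpk]; exact (Nat.minFac_dvd _).mul_left _
      exact (Nat.prime_dvd_prime_iff_eq (Nat.minFac_prime hb1) hp').mp
        ((Nat.minFac_prime hb1).dvd_of_dvd_pow h2)
    have h3 : p ∣ Nat.gcd (orderOf a) (orderOf b) := by
      apply Nat.dvd_gcd
      · rw [← h1]; exact Nat.minFac_dvd _
      · rw [← h2]; exact Nat.minFac_dvd _
    rw [hcop] at h3
    exact hp'.one_lt.ne' (Nat.dvd_one.mp h3)
  · rw [hx, orderOf_one] at hord
    exact ha1 (Nat.eq_one_of_mul_eq_one_right hord.symm)

theorem card_primeFactors_le_one {G : Type*} [Group G] [Finite G] [Group.IsSolvable G]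
    (h : ∀ g : G, IsPrimePow (orderOf g) ∨ g = 1) (V H : Subgroup G) [IsMulCommutative V]
    (hV : V ≠ ⊥) (hHV : H ≤ normalizer (V : Set G))
    (hfpf : ∀ a ∈ H, a ≠ 1 → V ⊓ centralizer {a} = ⊥) :
    (Nat.card H).primeFactors.card ≤ 1 := by
  by_contra hcon
  push Not at hcon
  obtain ⟨q, hq, r, hr, hqr⟩ := Finset.one_lt_card.mp hcon
  have hH : Nontrivial H := by
    rw [← Finite.one_lt_card_iff_nontrivial]
    have h0 : Nat.card H ≠ 0 := Nat.card_pos.ne'
    have h1 : q ∣ Nat.card H := Nat.dvd_of_mem_primeFactors hq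
    have h2 := (Nat.prime_of_mem_primeFactors hq).one_lt
    exact lt_of_lt_of_le h2 (Nat.le_of_dvd Nat.card_pos h1)
  obtain ⟨s, M, hs, hMn, hMs, hMc, hM⟩ :=
    Cfsg.Agent.Lib.SolvableNormalP.exists_normal_pSubgroup H
  -- another prime
  obtain ⟨t, ht, hts⟩ : ∃ t ∈ (Nat.card H).primeFactors, t ≠ s := by
    by_cases hqs : q = s
    · exact ⟨r, hr, fun h => hqr (hqs.trans h.symm)⟩
    · exact ⟨q, hq, hqs⟩
  have htp := Nat.prime_of_mem_primeFactors ht
  haveI : Fact s.Prime := ⟨hs⟩
  haveI : Fact t.Prime := ⟨htp⟩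
  -- subgroups of H which are commutative or of order a product of two primes are cyclic
  have hcyc : ∀ K : Subgroup H, (IsMulCommutative K ∨ ∃ p q : ℕ, p.Prime ∧ q.Prime ∧
      Nat.card K = p * q) → IsCyclic K := by
    intro K hK
    have hcK : Nat.card (K.map H.subtype) = Nat.card K :=
      Subgroup.card_map_of_injective H.subtype_injective
    have e : K ≃* K.map H.subtype := K.equivMapOfInjective _ H.subtype_injective
    have : IsCyclic (K.map H.subtype) := by
      apply Cfsg.Agent.S0041.result (K.map H.subtype) V hV ((map_subtype_le K).trans hHV)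
      · intro a ha
        exact hfpf a (map_subtype_le K ha)
      · rcases hK with hK | ⟨p, q, hp, hq, hpq⟩
        · left
          constructor
          constructor
          rintro ⟨a, ha⟩ ⟨b, hb⟩
          obtain ⟨a, ha', rfl⟩ := ha
          obtain ⟨b, hb', rfl⟩ := hb
          apply Subtype.ext
          have := congrArg (fun x : K => ((x : H) : G)) (hK.is_comm.comm ⟨a, ha'⟩ ⟨b, hb'⟩)
          simpa using this
        · right
          exact ⟨p, q, hp, hq, by rw [hcK]; exact hpq⟩
    exact e.isCyclic.mpr this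
  haveI hMcyc : IsCyclic M := hcyc M (Or.inl hMc)
  -- element of order s in M
  have hsM : s ∣ Nat.card M := by
    rcases hMs.card_eq_or_dvd with h1 | h1
    · exact absurd (Subgroup.card_eq_one.mp h1) hM
    · exact h1
  obtain ⟨m, hm⟩ := exists_prime_orderOf_dvd_card' s hsM
  obtain ⟨x, hx⟩ := exists_prime_orderOf_dvd_card' t (Nat.dvd_of_mem_primeFactors ht)
  have hm' : orderOf (m : H) = s := by rw [orderOf_coe, hm]
  haveI hmn : (zpowers (m : H)).Normal := by
    constructor
    intro n hn g
    obtain ⟨k, rfl⟩ := mem_zpowers_iff.mp hn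
    rw [← conj_zpow]
    exact zpow_mem (conj_mem_zpowers_of_isCyclic M m.2 g) k
  have hcard : Nat.card (zpowers (m : H) ⊔ zpowers x : Subgroup H) = s * t := by
    have h1 : Nat.card (zpowers (m : H) ⊔ zpowers x : Subgroup H) ∣ s * t := by
      have := Cfsg.Agent.Lib.Cores.card_sup_dvd (zpowers (m : H)) (zpowers x) hmn
      rwa [Nat.card_zpowers, Nat.card_zpowers, hm', hx] at this
    have h2 : s ∣ Nat.card (zpowers (m : H) ⊔ zpowers x : Subgroup H) := by
      have := Subgroup.card_dvd_of_le (le_sup_left : zpowers (m : H) ≤ zpowers (m : H) ⊔ zpowers x)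
      rwa [Nat.card_zpowers, hm'] at this
    have h3 : t ∣ Nat.card (zpowers (m : H) ⊔ zpowers x : Subgroup H) := by
      have := Subgroup.card_dvd_of_le (le_sup_right : zpowers x ≤ zpowers (m : H) ⊔ zpowers x)
      rwa [Nat.card_zpowers, hx] at this
    apply Nat.dvd_antisymm h1
    exact Nat.Coprime.mul_dvd_of_dvd_of_dvd ((Nat.coprime_primes hs htp).mpr hts.symm) h2 h3
  haveI := hcyc _ (Or.inr ⟨s, t, hs, htp, hcard⟩)
  have hcomm : Commute ((m : H) : G) (x : G) := by
    have h1 := (IsCyclic.isMulCommutative (α := (zpowers (m : H) ⊔ zpowers x : Subgroup H))).is_comm.comm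
      ⟨m, (le_sup_left : zpowers (m : H) ≤ _) (mem_zpowers _)⟩
      ⟨x, (le_sup_right : zpowers x ≤ zpowers (m : H) ⊔ zpowers x) (mem_zpowers _)⟩
    have h2 := congrArg (fun y : (zpowers (m : H) ⊔ zpowers x : Subgroup H) => ((y : H) : G)) h1
    exact h2
  refine not_commute h ?_ ?_ ?_ hcomm
  · intro h1
    have : orderOf (m : H) = 1 := by
      rw [orderOf_eq_one_iff]; exact Subtype.ext h1
    rw [hm'] at this
    exact hs.one_lt.ne' this
  · intro h1
    have : orderOf x = 1 := by
      rw [orderOf_eq_one_iff]; exact Subtype.ext h1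
    rw [hx] at this
    exact htp.one_lt.ne' this
  · rw [orderOf_coe, orderOf_coe, orderOf_coe, hm, hx]
    exact (Nat.coprime_primes hs htp).mpr hts.symm

theorem aux.{u} (G : Type u) [Group G] [Finite G] : Group.IsSolvable G →
    (∀ g : G, IsPrimePow (orderOf g) ∨ g = 1) → (Nat.card G).primeFactors.card ≤ 2 := by
  refine Cfsg.Agent.Lib.SolvableNormalP.card_strong_induction (motive := fun G _ _ =>
    Group.IsSolvable G → (∀ g : G, IsPrimePow (orderOf g) ∨ g = 1) →
      (Nat.card G).primeFactors.card ≤ 2) ?_ G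
  clear! G
  intro G _ _ ih hsol h
  by_contra hcon
  push Not at hcon
  haveI : Nontrivial G := by
    by_contra hnt
    rw [not_nontrivial_iff_subsingleton] at hnt
    rw [Nat.card_of_subsingleton (1 : G)] at hcon
    simp at hcon
  obtain ⟨p, N, hp, hNn, hNp, hNc, hN⟩ :=
    Cfsg.Agent.Lib.SolvableNormalP.exists_normal_pSubgroup G
  haveI : Fact p.Prime := ⟨hp⟩
  have hlt : Nat.card (G ⧸ N) < Nat.card G :=
    Cfsg.Agent.Lib.SolvableNormalP.card_quotient_lt hN
  have hq := ih (G ⧸ N) hlt inferInstance (quotient_orders N h)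
  have hGN : Nat.card G = Nat.card (G ⧸ N) * Nat.card N :=
    Subgroup.card_eq_card_quotient_mul_card_subgroup N
  obtain ⟨n, hn⟩ := IsPGroup.iff_card.mp hNp
  have hn0 : n ≠ 0 := by
    rintro rfl
    rw [pow_zero, Subgroup.card_eq_one] at hn
    exact hN hn
  have hpf : (Nat.card G).primeFactors = insert p (Nat.card (G ⧸ N)).primeFactors := by
    rw [hGN, hn, Nat.primeFactors_mul Nat.card_pos.ne' (pow_ne_zero _ hp.ne_zero),
      Nat.primeFactors_prime_pow hn0 hp, Finset.union_comm, Finset.insert_eq]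
  have hpn : p ∉ (Nat.card (G ⧸ N)).primeFactors := by
    intro hmem
    rw [hpf, Finset.insert_eq_of_mem hmem] at hcon
    omega
  have hcop : (Nat.card N).Coprime N.index := by
    rw [hn]
    apply Nat.Coprime.pow_left
    rw [hp.coprime_iff_not_dvd]
    intro hd
    exact hpn (Nat.mem_primeFactors.mpr ⟨hp, hd, Nat.card_pos.ne'⟩)
  obtain ⟨H, hH⟩ := Subgroup.exists_right_complement'_of_coprime hcop
  have hcH : Nat.card H = Nat.card (G ⧸ N) := by
    have h1 := hH.card_mul_card
    rw [hGN, mul_comm] at h1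
    exact Nat.eq_of_mul_eq_mul_right Nat.card_pos h1
  have hkey := card_primeFactors_le_one h N H hN (le_normalizer_of_normal) ?_
  · rw [hcH] at hkey
    have : (Nat.card G).primeFactors.card ≤ (Nat.card (G ⧸ N)).primeFactors.card + 1 := by
      rw [hpf]; exact Finset.card_insert_le _ _
    omega
  · intro a ha ha1
    rw [eq_bot_iff]
    rintro v ⟨hv1, hv2⟩
    by_contra hv
    rw [Subgroup.mem_bot] at hv
    refine not_commute h (a := v) (b := a) hv ha1 ?_ ?_
    · have h1 : orderOf v ∣ Nat.card N := by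
        have := orderOf_dvd_natCard (⟨v, hv1⟩ : N)
        rwa [Subgroup.orderOf_mk] at this
      have h2 : orderOf a ∣ N.index := by
        have := orderOf_dvd_natCard (⟨a, ha⟩ : H)
        rwa [Subgroup.orderOf_mk, hcH] at this
      exact Nat.Coprime.coprime_dvd_left h1 (Nat.Coprime.coprime_dvd_right h2 hcop)
    · exact ((mem_centralizer_iff.mp hv2) a rfl).symm

/-- Let G be a finite solvable group such that the order of every element is a prime power (1 included). Then at most two distinct primes divide the order of G. -/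
theorem result {G : Type*} [Group G] [Finite G] [Group.IsSolvable G] (h : ∀ g : G, IsPrimePow (orderOf g) ∨ g = 1) :
    (Nat.card G).primeFactors.card ≤ 2 := by
  exact aux G inferInstance h

end Cfsg.Agent.S1475
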