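import Cfsg.Statements.S1476
import Cfsg.Agent.OddOrderLocal.CNSolvable

set_option autoImplicit false
open Cfsg

namespace Cfsg.Agent.S1476

open Subgroup
open Cfsg.Agent.OddOrderLocal.CNBasic Cfsg.Agent.OddOrderLocal.CNSolvable

/-- If `F(G)` is a `p`-group but not a Sylow subgroup of the solvable CN-group `G`, then `G` is a
three-step group. -/
theorem three_step_case {G : Type*} [Group G] [Finite G] [Group.IsSolvable G]
    (hCN : IsCNGroup G) {p : ℕ} (hp : p.Prime) (hpg : IsPGroup p (fittingSubgroup G))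
    (hnb : fittingSubgroup G ≠ ⊥) (hidx : p ∣ (fittingSubgroup G).index) :
    IsThreeStepGroup p G := by
  have := Fact.mk hp
  have hF := Cfsg.Agent.Lib.Cores.fittingSubgroup_isNilpotent (G := G)
  have hFn := Cfsg.Agent.Lib.Cores.fittingSubgroup_normal (G := G)
  have hcore : pCore p G = fittingSubgroup G :=
    le_antisymm (Cfsg.Agent.Lib.Cores.pCore_le_fittingSubgroup p)
      (Cfsg.Agent.Lib.Cores.le_pCore hFn hpg)
  obtain ⟨F, hFdef⟩ : ∃ F : Subgroup G, F = fittingSubgroup G := ⟨_, rfl⟩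
  have hcoreF : pCore p G = F := hcore.trans hFdef.symm
  rw [← hFdef] at hpg hnb hidx hF hFn
  have hpcop : ∀ x ∈ F, ∀ y : G, (orderOf y).Coprime p → y ≠ 1 → Commute y x → x = 1 := by
    intro x hx y hy hy1 hxy
    rw [hFdef] at hx hpg
    exact eq_one_of_commute_of_pgroup hCN hp hpg hx hy hy1 hxy
  -- a minimal normal-like subgroup of the quotient
  have hQnt : Nontrivial (G ⧸ F) := by
    rw [← Finite.one_lt_card_iff_nontrivial]
    have h1 : F.index ≠ 1 := fun h => by
      rw [h] at hidx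
      exact hp.one_lt.ne' (Nat.dvd_one.mp hidx)
    have h2 : F.index ≠ 0 := index_ne_zero_of_finite
    show 1 < F.index
    omega
  obtain ⟨q, M, hq, hMn, hMq, _, hMne⟩ :=
    Cfsg.Agent.Lib.SolvableNormalP.exists_normal_pSubgroup (G ⧸ F)
  have := Fact.mk hq
  have hpQ : pCore p (G ⧸ F) = ⊥ := by
    subst hcoreF
    exact Cfsg.Agent.Lib.Cores.pCore_quotient_pCore p
  have hqp : q ≠ p := by
    rintro rfl
    apply hMne
    rw [eq_bot_iff, ← hpQ]
    exact Cfsg.Agent.Lib.Cores.le_pCore hMn hMq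
  have hqpc : q.Coprime p := (Nat.coprime_primes hq hp).mpr hqp
  -- its preimage `L`
  let L : Subgroup G := M.comap (QuotientGroup.mk' F)
  have hLn : L.Normal := inferInstance
  have hFL : F ≤ L := by
    intro x hx
    show (QuotientGroup.mk' F) x ∈ M
    have : (QuotientGroup.mk' F) x = 1 := (QuotientGroup.eq_one_iff x).mpr hx
    rw [this]; exact one_mem _
  have hLF : ∀ x ∈ L, ∃ k : ℕ, x ^ q ^ k ∈ F := by
    intro x hx
    obtain ⟨k, hk⟩ := hMq ⟨(QuotientGroup.mk' F) x, hx⟩
    refine ⟨k, ?_⟩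
    have h1 : ((QuotientGroup.mk' F) x) ^ q ^ k = 1 := congrArg Subtype.val hk
    rw [← map_pow] at h1
    exact (QuotientGroup.eq_one_iff _).mp h1
  -- a Sylow subgroup of `L`
  let Q : Sylow q L := default
  obtain ⟨Q', hQ'def⟩ : ∃ Q' : Subgroup G, Q' = (Q : Subgroup L).map L.subtype := ⟨_, rfl⟩
  have hQ'q : ∀ y ∈ Q', ∃ k : ℕ, y ^ q ^ k = 1 := by
    intro y hy
    rw [hQ'def] at hy
    obtain ⟨y', hy', rfl⟩ := hy
    obtain ⟨k, hk⟩ := Q.isPGroup' ⟨y', hy'⟩
    refine ⟨k, ?_⟩
    have h1 : (y' : L) ^ q ^ k = 1 := congrArg Subtype.val hk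
    exact congrArg Subtype.val h1
  have hQ'L : Q' ≤ L := by rw [hQ'def]; exact map_subtype_le _
  -- `q` does not divide the order of `F`
  have hqF : ¬ q ∣ Nat.card F := by
    intro h
    obtain ⟨n, hn⟩ := hpg.exists_card_eq
    rw [hn] at h
    exact hqp ((Nat.prime_dvd_prime_iff_eq hq hp).mp (hq.dvd_of_dvd_pow h))
  -- `L = F Q'`
  have hLle : L ≤ F ⊔ Q' := by
    rw [← relIndex_eq_one]
    by_contra h
    obtain ⟨s, hs, hsd⟩ := Nat.exists_prime_and_dvd h
    by_cases hsq : s = q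
    · subst hsq
      apply Q.not_dvd_index
      have h1 : (F ⊔ Q').relIndex L ∣ Q'.relIndex L := relIndex_dvd_of_le_left L le_sup_right
      have h2 : Q'.relIndex L = (Q : Subgroup L).index := by
        rw [relIndex, hQ'def, subgroupOf, comap_map_eq_self_of_injective L.subtype_injective]
      rw [← h2]
      exact hsd.trans h1
    · -- `s` divides `|M|`, a power of `q`
      have h1 : (F ⊔ Q').relIndex L ∣ F.relIndex L := relIndex_dvd_of_le_left L le_sup_left
      have h2 : s ∣ F.relIndex L := hsd.trans h1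
      have h3 : F.relIndex L = Nat.card M := by
        have h4 : Nat.card L = Nat.card M * Nat.card F :=
          Cfsg.Agent.Lib.SolvableNormalP.card_comap_mk F M
        have h5 : Nat.card F * F.relIndex L = Nat.card L := by
          have h6 := (F.subgroupOf L).card_mul_index
          rwa [Nat.card_congr (subgroupOfEquivOfLe hFL).toEquiv] at h6
        rw [h4, mul_comm] at h5
        exact Nat.eq_of_mul_eq_mul_right Nat.card_pos h5
      rw [h3] at h2
      obtain ⟨n, hn⟩ := hMq.exists_card_eq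
      rw [hn] at h2
      exact hsq ((Nat.prime_dvd_prime_iff_eq hs hq).mp (hs.dvd_of_dvd_pow h2))
  -- the normalizer `N` of `Q'` is a complement of `F`
  obtain ⟨N, hNdef⟩ : ∃ N : Subgroup G, N = normalizer (Q' : Set G) := ⟨_, rfl⟩
  have hNsup : F ⊔ N = ⊤ := by
    have h1 : normalizer (Q' : Set G) ⊔ L = ⊤ := by
      rw [hQ'def]
      exact Sylow.normalizer_sup_eq_top Q
    rw [eq_top_iff, ← h1, ← hNdef]
    refine sup_le le_sup_right (hLle.trans (sup_le le_sup_left (le_trans ?_ le_sup_right)))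
    rw [hNdef]
    exact le_normalizer
  -- a nontrivial element of `Q'`
  obtain ⟨y₀, hy₀Q, hy₀1⟩ : ∃ y₀ ∈ Q', y₀ ≠ 1 := by
    by_contra hcon
    push Not at hcon
    have h1 : Q' = ⊥ := by
      rw [eq_bot_iff]
      intro y hy
      exact mem_bot.mpr (hcon y hy)
    rw [h1, sup_bot_eq] at hLle
    apply hMne
    rw [eq_bot_iff]
    intro m hm
    obtain ⟨g, rfl⟩ := QuotientGroup.mk'_surjective F m
    have h2 : g ∈ F := hLle hm
    rw [mem_bot]
    exact (QuotientGroup.eq_one_iff g).mpr h2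
  have hy₀p : (orderOf y₀).Coprime p := by
    obtain ⟨k, hk⟩ := hQ'q y₀ hy₀Q
    exact Nat.Coprime.coprime_dvd_left (orderOf_dvd_of_pow_eq_one hk) (Nat.Coprime.pow_left k hqpc)
  have hNF : F ⊓ N = ⊥ := by
    rw [eq_bot_iff]
    rintro x ⟨hxF, hxN⟩
    rw [mem_bot]
    apply hpcop x hxF y₀ hy₀p hy₀1
    rw [hNdef] at hxN
    -- the commutator lies in `F ⊓ Q'`
    have h1 : x * y₀ * x⁻¹ ∈ Q' := (mem_normalizer_iff.mp hxN y₀).mp hy₀Q
    have h2 : x * y₀ * x⁻¹ * y₀⁻¹ ∈ Q' := mul_mem h1 (inv_mem hy₀Q)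
    have h3 : x * y₀ * x⁻¹ * y₀⁻¹ ∈ F := by
      have : x * y₀ * x⁻¹ * y₀⁻¹ = x * (y₀ * x⁻¹ * y₀⁻¹) := by group
      rw [this]
      exact mul_mem hxF (hFn.conj_mem _ (inv_mem hxF) y₀)
    have h4 : x * y₀ * x⁻¹ * y₀⁻¹ = 1 := by
      obtain ⟨k, hk⟩ := hQ'q _ h2
      obtain ⟨m, hm⟩ := hpg ⟨_, h3⟩
      have hm' : (x * y₀ * x⁻¹ * y₀⁻¹) ^ p ^ m = 1 := congrArg Subtype.val hm
      have h5 := orderOf_dvd_of_pow_eq_one hk
      have h6 := orderOf_dvd_of_pow_eq_one hm'
      have h7 : (q ^ k).Coprime (p ^ m) := Nat.Coprime.pow k m hqpc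
      exact orderOf_eq_one_iff.mp (Nat.eq_one_of_dvd_coprimes h7 h5 h6)
    show y₀ * x = x * y₀
    calc y₀ * x = (x * y₀ * x⁻¹ * y₀⁻¹) * y₀ * x := by rw [h4, one_mul]
      _ = x * y₀ := by group
  have hcompl : IsComplement' F N := by
    refine isComplement'_of_disjoint_and_mul_eq_univ (disjoint_iff.mpr hNF) ?_
    rw [← Subgroup.normal_mul, hNsup]
    rfl
  have hNcn := isCNGroup_subgroup hCN N
  have hNcard : Nat.card N = F.index := hcompl.symm.index_eq_card.symm
  have hpN : p ∣ Nat.card N := by rw [hNcard]; exact hidx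
  have hNnt : Nontrivial N := by
    rw [← Finite.one_lt_card_iff_nontrivial]
    exact lt_of_lt_of_le hp.one_lt (Nat.le_of_dvd Nat.card_pos hpN)
  -- `O_p(N) = 1`
  have hpcN : pCore p N = ⊥ := by
    have e : (G ⧸ F) ≃* N := hcompl.symm.QuotientMulEquiv
    have h1 := Cfsg.Agent.Lib.Cores.map_equiv_pCore e p
    rw [hpQ, Subgroup.map_bot] at h1
    exact h1.symm
  have hpFN : ¬ p ∣ Nat.card (fittingSubgroup N) := by
    intro h
    have hnil := Cfsg.Agent.Lib.Cores.fittingSubgroup_isNilpotent (G := N)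
    let P : Sylow p (fittingSubgroup N) := default
    have hPn : (P : Subgroup (fittingSubgroup N)).Normal := inferInstance
    have h1 : (P : Subgroup (fittingSubgroup N)) ≤ pCore p (fittingSubgroup N) :=
      Cfsg.Agent.Lib.Cores.le_pCore hPn P.isPGroup'
    have h2 := Cfsg.Agent.Lib.Cores.map_subtype_pCore p
      (Cfsg.Agent.Lib.Cores.fittingSubgroup_normal (G := N))
    rw [hpcN, inf_bot_eq] at h2
    have h3 := (Subgroup.map_eq_bot_iff_of_injective _
      (fittingSubgroup N).subtype_injective).mp h2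
    rw [h3, le_bot_iff] at h1
    exact P.ne_bot_of_dvd_card h h1
  -- the module: centre of `F`
  have hVn : ((center F).map F.subtype).Normal := ConjAct.normal_of_characteristic_of_normal
  obtain ⟨V, hVdef⟩ : ∃ V : Subgroup G, V = (center F).map F.subtype := ⟨_, rfl⟩
  rw [← hVdef] at hVn
  have hVF : V ≤ F := by rw [hVdef]; exact map_subtype_le _
  have hVcomm : ∀ a b : V, a * b = b * a := by
    rintro ⟨a, ha⟩ ⟨b, hb⟩
    rw [hVdef] at ha hb
    obtain ⟨a', ha', rfl⟩ := ha
    obtain ⟨b', hb', rfl⟩ := hb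
    apply Subtype.ext
    have h1 : a' * b' = b' * a' := mem_center_iff.mp hb' a'
    have h2 : ((a' * b' : F) : G) = ((b' * a' : F) : G) := by rw [h1]
    exact h2
  have hVnt : Nontrivial V := by
    have hnt : Nontrivial F := (Subgroup.nontrivial_iff_ne_bot _).mpr hnb
    have h1 : center F ≠ ⊥ := Group.IsNilpotent.center_ne_bot _
    rw [Subgroup.nontrivial_iff_ne_bot, hVdef]
    intro h
    exact h1 ((Subgroup.map_eq_bot_iff_of_injective _ F.subtype_injective).mp h)
  let φ : N →* MulAut V := (MulAut.conjNormal (H := V)).comp N.subtype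
  have hf : ∀ g : N, g ≠ 1 → (orderOf g).Coprime p → ∀ v : V, φ g v = v → v = 1 := by
    intro g hg hgp v hv
    apply Subtype.ext
    refine hpcop v (hVF v.2) g (by rw [Subgroup.orderOf_coe]; exact hgp)
      (fun h => hg (Subtype.ext h)) ?_
    have h1 : (g : G) * v * (g : G)⁻¹ = v := congrArg Subtype.val hv
    show (g : G) * v = v * g
    calc (g : G) * v = ((g : G) * v * (g : G)⁻¹) * g := by group
      _ = v * g := by rw [h1]
  -- the subgroup `A`
  obtain ⟨A, hAdef⟩ : ∃ A : Subgroup G, A = (fittingSubgroup N).map N.subtype := ⟨_, rfl⟩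
  have hAN : A ≤ N := by rw [hAdef]; exact map_subtype_le _
  have eA : fittingSubgroup N ≃* A := by
    rw [hAdef]
    exact Subgroup.equivMapOfInjective _ N.subtype N.subtype_injective
  have hAcard : Nat.card A = Nat.card (fittingSubgroup N) := (Nat.card_congr eA.toEquiv).symm
  have hAne : A ≠ ⊥ := by
    rw [hAdef]
    intro h
    exact Cfsg.Agent.OddOrderLocal.CNComplement.fittingSubgroup_ne_bot (N := N)
      ((Subgroup.map_eq_bot_iff_of_injective _ N.subtype_injective).mp h)
  have hodd : Odd (Nat.card (fittingSubgroup N)) :=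
    Cfsg.Agent.OddOrderLocal.CNComplement.odd_card_fitting hVcomm φ hf hNcn hp hpFN hpN
  have hcyc : IsCyclic (fittingSubgroup N) := by
    have hnil := Cfsg.Agent.Lib.Cores.fittingSubgroup_isNilpotent (G := N)
    apply Cfsg.Agent.OddOrderLocal.NilpotentUnique.isCyclic_of_odd _ hodd
    intro r hr x y hx hy
    have h1 : (y : N) ∈ zpowers (x : N) :=
      Cfsg.Agent.OddOrderLocal.CNComplement.mem_zpowers_of_orderOf_eq hVcomm φ hf hp hpFN hr
        x.2 y.2 (by rw [Subgroup.orderOf_coe]; exact hx) (congrArg Subtype.val hy)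
    obtain ⟨k, hk⟩ := mem_zpowers_iff.mp h1
    exact mem_zpowers_iff.mpr ⟨k, Subtype.ext hk⟩
  have hAnorm : ∀ n ∈ N, ∀ a ∈ A, n * a * n⁻¹ ∈ A := by
    intro n hn a ha
    rw [hAdef] at ha ⊢
    obtain ⟨a', ha', rfl⟩ := ha
    exact ⟨⟨n, hn⟩ * a' * ⟨n, hn⟩⁻¹,
      (Cfsg.Agent.Lib.Cores.fittingSubgroup_normal (G := N)).conj_mem a' ha' ⟨n, hn⟩, rfl⟩
  have hdecomp : ∀ x : G, ∃ f ∈ F, ∃ n ∈ N, x = f * n := by
    intro x
    have hx : x ∈ F ⊔ N := by rw [hNsup]; exact mem_top x
    rw [Subgroup.mem_sup_of_normal_left] at hx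
    obtain ⟨f, hf, n, hn, h⟩ := hx
    exact ⟨f, hf, n, hn, h.symm⟩
  have hFAn : (F ⊔ A).Normal := by
    constructor
    intro x hx g
    obtain ⟨f, hf, n, hn, rfl⟩ := hdecomp g
    rw [Subgroup.mem_sup_of_normal_left] at hx
    obtain ⟨f', hf', a, ha, rfl⟩ := hx
    have h1 : n * (f' * a) * n⁻¹ = (n * f' * n⁻¹) * (n * a * n⁻¹) := by group
    have h2 : n * (f' * a) * n⁻¹ ∈ F ⊔ A := by
      rw [h1]
      exact mul_mem (mem_sup_left (hFn.conj_mem _ hf' n)) (mem_sup_right (hAnorm n hn a ha))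
    have h3 : f * n * (f' * a) * (f * n)⁻¹ = f * (n * (f' * a) * n⁻¹) * f⁻¹ := by group
    rw [h3]
    have hfm : f ∈ F ⊔ A := mem_sup_left hf
    exact mul_mem (mul_mem hfm h2) (inv_mem hfm)
  have hFA : F ⊓ A = ⊥ := by
    rw [eq_bot_iff, ← hNF]
    exact inf_le_inf_left _ hAN
  obtain ⟨m, hm⟩ := Cfsg.Agent.OddOrderLocal.CNComplement.exists_index_eq hVcomm φ hf hNcn hp hpFN
  have hFAidx : (F ⊔ A).index = p ^ m := by
    have h1 : Nat.card F * Nat.card A = Nat.card (F ⊔ A : Subgroup G) := by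
      have h6 := (F.subgroupOf (F ⊔ A)).card_mul_index
      rw [Nat.card_congr (subgroupOfEquivOfLe (le_sup_left : F ≤ F ⊔ A)).toEquiv] at h6
      have h7 : F.relIndex (F ⊔ A) = F.relIndex A := relIndex_sup_left A F
      have h8 : F.relIndex A = Nat.card A := by
        rw [← inf_relIndex_right, hFA, relIndex_bot_left]
      rw [← h6, ← h8, ← h7]
      rfl
    have h2 : Nat.card F * Nat.card N = Nat.card G := hcompl.card_mul_card
    have h3 := (fittingSubgroup N).card_mul_index
    have h4 := (F ⊔ A).card_mul_index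
    rw [← h1, ← h2, ← h3, hAcard, hm, mul_assoc] at h4
    exact Nat.eq_of_mul_eq_mul_left Nat.card_pos (Nat.eq_of_mul_eq_mul_left Nat.card_pos h4)
  refine ⟨hcore ▸ (hFdef ▸ hnb), A, hAne, ?_, ?_, ?_, ?_, ?_, ⟨m, ?_⟩, ?_, ?_⟩
  · exact isCyclic_of_surjective _ eA.surjective
  · rw [hAcard]; exact hodd
  · rw [hAcard]; exact ((hp.coprime_iff_not_dvd).mpr hpFN).symm
  · rw [hcoreF]; exact hFAn
  · rw [hcoreF]
    intro h
    rw [h, index_top] at hFAidx
    have h1 : (fittingSubgroup N).index = 1 := by rw [hm, ← hFAidx]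
    rw [index_eq_one] at h1
    rw [h1, Subgroup.card_top] at hpFN
    exact hpFN hpN
  · rw [hcoreF]; exact hFAidx
  · intro a ha ha1
    rw [hcoreF, eq_bot_iff]
    rintro x ⟨hxF, hxa⟩
    rw [mem_bot]
    refine hpcop x hxF a ?_ ha1 ?_
    · have h1 : orderOf a ∣ Nat.card A := by
        rw [← Subgroup.orderOf_mk a ha]; exact orderOf_dvd_natCard _
      rw [hAcard] at h1
      exact Nat.Coprime.coprime_dvd_left h1 ((hp.coprime_iff_not_dvd).mpr hpFN).symm
    · exact (mem_centralizer_singleton_iff.mp hxa).symm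
  · intro x hx a ha ha1
    rw [hcoreF] at hx ⊢
    intro hmem
    apply hx
    obtain ⟨f, hf', n, hn, rfl⟩ := hdecomp x
    refine mul_mem (mem_sup_left hf') (mem_sup_right ?_)
    -- `n a n⁻¹ a⁻¹` lies in `F ⊓ N`
    have h1 : n * a * n⁻¹ * a⁻¹ ∈ F := by
      have h2 : n * a * n⁻¹ * a⁻¹ = f⁻¹ * ((f * n) * a * (f * n)⁻¹ * a⁻¹) * (a * f * a⁻¹) := by
        group
      rw [h2]
      exact mul_mem (mul_mem (inv_mem hf') hmem) (hFn.conj_mem f hf' a)
    have h2 : n * a * n⁻¹ * a⁻¹ ∈ N :=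
      mul_mem (mul_mem (mul_mem hn (hAN ha)) (inv_mem hn)) (inv_mem (hAN ha))
    have h3 : n * a * n⁻¹ * a⁻¹ ∈ F ⊓ N := ⟨h1, h2⟩
    rw [hNF, mem_bot] at h3
    have h4 : n * a = a * n := by
      calc n * a = (n * a * n⁻¹ * a⁻¹) * a * n := by group
        _ = a * n := by rw [h3, one_mul]
    have haN : (⟨a, hAN ha⟩ : N) ∈ fittingSubgroup N := by
      rw [hAdef] at ha
      obtain ⟨a', ha', h5⟩ := ha
      have : (⟨a, hAN (hAdef ▸ ⟨a', ha', h5⟩)⟩ : N) = a' := Subtype.ext h5.symm
      rw [this]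
      exact ha'
    have hnN : (⟨n, hn⟩ : N) ∈ fittingSubgroup N := by
      apply Cfsg.Agent.OddOrderLocal.CNComplement.centralizer_le hVcomm φ hf hNcn hp hpFN haN
        (fun h => ha1 (congrArg Subtype.val h))
      rw [mem_centralizer_singleton_iff]
      exact Subtype.ext h4
    rw [hAdef]
    exact ⟨⟨n, hn⟩, hnN, rfl⟩

/-- Let G be a finite solvable group in which every non-identity element has nilpotent centralizer. Then either G is nilpotent; or G has a normal subgroup K with a Frobenius complement E (K E = G, K ∩ E = 1, E meets its conjugates by outside elements trivially) such that E is cyclic or E is generated by two elementwise-commuting subgroups, one cyclic of odd order and one isomorphic to a generalized quaternion group; or G is a three-step group with respect to some prime p. -/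
theorem result {G : Type*} [Group G] [Finite G] [Group.IsSolvable G] (hCN : Cfsg.IsCNGroup G) :
    Group.IsNilpotent G ∨
      (∃ K E : Subgroup G, K.Normal ∧ Subgroup.IsComplement' K E ∧ Cfsg.IsFrobeniusComplement E ∧
        (IsCyclic E ∨ ∃ C Q : Subgroup G, C ⊔ Q = E ∧ (∀ a ∈ C, ∀ b ∈ Q, a * b = b * a) ∧ IsCyclic C ∧ Odd (Nat.card C) ∧
          ∃ n : ℕ, Nonempty (↥Q ≃* QuaternionGroup (2 ^ n)))) ∨
      ∃ p : ℕ, p.Prime ∧ Cfsg.IsThreeStepGroup p G := by
  by_cases hnil : Group.IsNilpotent G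
  · exact Or.inl hnil
  right
  have hne : fittingSubgroup G ≠ ⊤ := fun h =>
    hnil (Cfsg.Agent.Lib.Cores.fittingSubgroup_eq_top_iff.mp h)
  have hGnt : Nontrivial G := by
    rw [← not_subsingleton_iff_nontrivial]
    intro h
    exact hnil inferInstance
  have hnb : fittingSubgroup G ≠ ⊥ :=
    Cfsg.Agent.OddOrderLocal.CNComplement.fittingSubgroup_ne_bot (N := G)
  by_cases hpg : ∃ p : ℕ, p.Prime ∧ IsPGroup p (fittingSubgroup G)
  · obtain ⟨p, hp, hpg⟩ := hpg
    by_cases hidx : p ∣ (fittingSubgroup G).index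
    · right
      exact ⟨p, hp, three_step_case hCN hp hpg hnb hidx⟩
    · left
      apply frobenius_case hCN hne hnb
      intro x hx hx1 y hy
      have hy' := mem_centralizer_singleton_iff.mp hy
      obtain ⟨a, b, ha, hb, hab, ⟨k, hk⟩, hbp⟩ := exists_mul_parts hp y
      have hbx : Commute b x := by
        have h1 : b ∈ centralizer ({x} : Set G) := (zpowers_le.mpr hy) hb
        exact mem_centralizer_singleton_iff.mp h1
      have hb1 : b = 1 := by
        by_contra hb1
        exact hx1 (eq_one_of_commute_of_pgroup hCN hp hpg hx hbp hb1 hbx)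
      -- `a` is a `p`-element, so it lies in the normal Sylow subgroup
      have hFn := Cfsg.Agent.Lib.Cores.fittingSubgroup_normal (G := G)
      have haF : a ∈ fittingSubgroup G := by
        rw [← QuotientGroup.eq_one_iff]
        have h1 : orderOf (a : G ⧸ fittingSubgroup G) ∣ p ^ k := by
          apply orderOf_dvd_of_pow_eq_one
          rw [← QuotientGroup.mk_pow, hk]
          rfl
        have h2 : orderOf (a : G ⧸ fittingSubgroup G) ∣ (fittingSubgroup G).index :=
          orderOf_dvd_natCard _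
        have h3 : (p ^ k).Coprime (fittingSubgroup G).index :=
          Nat.Coprime.pow_left k ((hp.coprime_iff_not_dvd).mpr hidx)
        exact orderOf_eq_one_iff.mp (Nat.eq_one_of_dvd_coprimes h3 h1 h2)
      rw [← hab, hb1, mul_one]
      exact haF
  · left
    push Not at hpg
    apply frobenius_case hCN hne hnb
    intro x hx hx1
    exact centralizer_le_of_not_pgroup hCN (fun p hp h => hpg p hp h) hx hx1

end Cfsg.Agent.S1476
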