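import Cfsg.Statements.S1537
import Cfsg.Agent.OddOrderCharacters.DadeMaximal

set_option autoImplicit false
open Cfsg

namespace Cfsg.Agent.S1537

open Cfsg.Agent.OddOrderCharacters.TypeSetsBasic Cfsg.Agent.OddOrderCharacters.DadeMaximal

/-- Let G be a minimal simple group of odd order and M a maximal subgroup. For A equal to A₁(M), A(M) or A₀(M): the set normaliser of A is M, and the Dade hypothesis holds for A, M and the function a ↦ R(a). -/
theorem result {G : Type*} [Group G] [Finite G] (hG : Cfsg.IsMinSimpleOddOrder G) (M : Subgroup G) (hM : IsCoatom M) (A : Set G) (hA : A = Cfsg.typeA1 M ∨ A = Cfsg.typeA M ∨ A = Cfsg.typeA0 M) : Subgroup.normalizer A = M ∧ Cfsg.DadeHypothesis A M (Cfsg.supportR M) := by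
  have hS : IsSimpleGroup G := hG.2.1
  have h0 := typeA1_subset_typeA hG hM
  have h1 : A ⊆ (M : Set G) := by
    rcases hA with rfl | rfl | rfl
    · exact typeA1_subset M
    · exact typeA_subset M
    · exact typeA0_subset M
  have h2 : ∀ m ∈ M, ∀ a ∈ A, m * a * m⁻¹ ∈ A := by
    rcases hA with rfl | rfl | rfl
    · exact fun m hm a ha => typeA1_conj_mem hm ha
    · exact fun m hm a ha => typeA_conj_mem hm ha
    · exact fun m hm a ha => typeA0_conj_mem hm ha
  have h3 : typeA1 M ⊆ A := by
    rcases hA with rfl | rfl | rfl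
    · exact subset_rfl
    · exact h0
    · exact h0.trans (typeA_subset_typeA0 M)
  obtain ⟨a, ha, ha1⟩ := exists_mem_typeA1 hG hM
  refine ⟨normalizer_eq_of_coatom hM h1 h2 (h3 ha) ha1, ?_⟩
  rcases hA with rfl | rfl | rfl
  · exact dadeHypothesis_of_subset hG hM (Or.inl rfl) h0 h2
  · exact dadeHypothesis_of_subset hG hM (Or.inl rfl) subset_rfl h2
  · exact dadeHypothesis_of_subset hG hM (Or.inr rfl) subset_rfl h2

end Cfsg.Agent.S1537
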