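import Cfsg.Statements.S1541
import Cfsg.Agent.S1350
import Cfsg.Agent.S1351
import Cfsg.Agent.S1352
import Cfsg.Agent.S1355
import Cfsg.Agent.S1357
import Cfsg.Agent.S1378
import Cfsg.Agent.S1379
import Cfsg.Agent.S1380
import Cfsg.Agent.S1391
import Cfsg.Agent.S1526
import Cfsg.Agent.S1527
import Cfsg.Agent.S1540

set_option autoImplicit false
open Cfsg

namespace Cfsg.Agent.S1541

theorem map_fittingHall_le {A B : Type*} [Group A] [Group B] (e : A ≃* B) :
    (fittingHall A).map e.toMonoidHom ≤ fittingHall B := by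
  unfold fittingHall
  rw [Subgroup.map_le_iff_le_comap, sSup_le_iff]
  rintro N ⟨hN, hNn, hNc⟩
  rw [← Subgroup.map_le_iff_le_comap]
  apply le_sSup
  refine ⟨?_, ?_, ?_⟩
  · exact hN.map e.toMonoidHom e.surjective
  · have := hNn
    exact Group.nilpotent_of_mulEquiv (e.subgroupMap N)
  · have h1 : Nat.card (N.map e.toMonoidHom) = Nat.card N :=
      Nat.card_congr (e.subgroupMap N).toEquiv.symm
    have h2 : (N.map e.toMonoidHom).index = N.index := by
      exact Subgroup.index_map_equiv N e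
    rw [h1, h2]; exact hNc

theorem fittingHallOf_conj {G : Type*} [Group G] (M : Subgroup G) (g : G) :
    (fittingHallOf M).map (MulAut.conj g).toMonoidHom ≤
      fittingHallOf (M.map (MulAut.conj g).toMonoidHom) := by
  intro x hx
  obtain ⟨y, hy, rfl⟩ := hx
  obtain ⟨z, hz, rfl⟩ := hy
  set e : M ≃* M.map (MulAut.conj g).toMonoidHom := (MulAut.conj g).subgroupMap M with he
  have := map_fittingHall_le e (Subgroup.mem_map_of_mem _ hz)
  refine ⟨e z, this, ?_⟩
  rfl

theorem conj_mem_fittingHallOf {G : Type*} [Group G] (M : Subgroup G) (x : G) (hx : x ∈ M) (h : G)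
    (hh : h ∈ fittingHallOf M) : x * h * x⁻¹ ∈ fittingHallOf M := by
  obtain ⟨z, hz, rfl⟩ := hh
  refine ⟨⟨x, hx⟩ * z * (⟨x, hx⟩)⁻¹, (fittingHall_normal M).conj_mem z hz ⟨x, hx⟩, rfl⟩

theorem le_normalizer_fittingHallOf {G : Type*} [Group G] (M : Subgroup G) :
    M ≤ Subgroup.normalizer (fittingHallOf M : Set G) := by
  intro x hx
  rw [Subgroup.mem_normalizer_iff]
  intro h
  refine ⟨fun hh => conj_mem_fittingHallOf M x hx h hh, fun hh => ?_⟩
  have := conj_mem_fittingHallOf M x⁻¹ (inv_mem hx) _ hh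
  simpa [mul_assoc] using this

/-- Being conjugate, on maximal subgroups. -/
def conjSetoid (G : Type*) [Group G] : Setoid {M : Subgroup G // IsCoatom M} where
  r M N := ∃ g : G, N.1 = M.1.map (MulAut.conj g).toMonoidHom
  iseqv := by
    refine ⟨fun M => ⟨1, ?_⟩, ?_, ?_⟩
    · ext x; simp
    · rintro M N ⟨g, hg⟩
      refine ⟨g⁻¹, ?_⟩
      rw [hg, Subgroup.map_map]
      ext x; simp [mul_assoc]
    · rintro M N P ⟨g, hg⟩ ⟨h, hh⟩
      refine ⟨h * g, ?_⟩
      rw [hh, hg, Subgroup.map_map]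
      congr 1
      ext x; simp [mul_assoc]

/-- Let G be a minimal simple group of odd order. Then some maximal subgroup of G is not of Type I. -/
theorem result {G : Type*} [Group G] [Finite G] (hG : Cfsg.IsMinSimpleOddOrder G) : ∃ M : Subgroup G, IsCoatom M ∧ ¬ Cfsg.IsOfTypeI M := by
  by_contra hcon
  have hI : ∀ M : Subgroup G, IsCoatom M → IsOfTypeI M := fun M hM => by
    by_contra h; exact hcon ⟨M, hM, h⟩
  have hsimple : IsSimpleGroup G := hG.2.1
  have hfrob : ∀ M : Subgroup G, IsCoatom M → ∀ x ∈ fittingHallOf M, x ≠ 1 →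
      M ⊓ Subgroup.centralizer ({x} : Set G) ≤ fittingHallOf M :=
    fun M hM => S1540.result hG M hM (hI M hM)
  have hle : ∀ M : Subgroup G, fittingHallOf M ≤ M := fun M => Subgroup.map_subtype_le _
  have hbot : ∀ M : Subgroup G, IsCoatom M → fittingHallOf M ≠ ⊥ := fun M hM =>
    (S1355.result hG M hM).1
  have hlt : ∀ M : Subgroup G, IsCoatom M → fittingHallOf M < M := fun M hM => by
    obtain ⟨h1, h2, h3, h4, -⟩ := S1355.result hG M hM
    exact lt_of_le_of_lt (h2.trans h3) h4
  have hN : ∀ M : Subgroup G, IsCoatom M →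
      Subgroup.normalizer (fittingHallOf M : Set G) = M := fun M hM => by
    rcases hM.le_iff.1 (le_normalizer_fittingHallOf M) with h | h
    · exfalso
      have hnor : (fittingHallOf M).Normal := by
        rw [← Subgroup.normalizer_eq_top_iff]; exact h
      rcases hnor.eq_bot_or_eq_top with h' | h'
      · exact hbot M hM h'
      · have := hlt M hM
        rw [h'] at this
        exact not_top_lt this
    · exact h
  -- standard factorisations
  have hdec : ∀ M : Subgroup G, IsCoatom M → kappa M = ∅ ∧ fittingHallOf M = sigmaCore M := by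
    intro M hM
    obtain ⟨⟨K, hK⟩, hKc⟩ := S1351.result hG M hM
    obtain ⟨⟨U, hU⟩, -⟩ := S1352.result hG M hM K (hKc K hK) hK
    obtain ⟨hK1, hU1⟩ := (S1380.result hG M hM K U hU).1 (hI M hM)
    refine ⟨?_, ?_⟩
    · rw [Set.eq_empty_iff_forall_notMem]
      intro p hp
      have hp' := hp
      obtain ⟨hpp, hpd, -⟩ := hp'
      refine hK.2.2 p hpp hp ?_
      rw [hK1, Subgroup.relIndex_bot_left]
      exact hpd
    · by_contra hne
      exact hU1 (S1357.result hG M hM K U hU hne).1
  -- centralisers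
  have hcent : ∀ M : Subgroup G, IsCoatom M → ∀ x ∈ fittingHallOf M, x ≠ 1 →
      Subgroup.centralizer ({x} : Set G) ≤ M := by
    intro M hM x hx hx1
    by_contra hn
    have hxA : x ∈ typeA M := by
      unfold typeA
      rw [if_pos (hI M hM)]
      exact ⟨hle M hx, hx1, x, hx, hx1, rfl⟩
    obtain ⟨-, h2, h3⟩ := S1391.result hG M hM (typeA M) (Or.inl rfl)
    obtain ⟨-, L, ⟨hL, hxL⟩, -⟩ := h2 x hxA hn
    obtain ⟨-, -, -, -, ⟨h4, h5⟩, -⟩ := h3 x hxA hn L hL hxL
    apply h5
    have h6 : x ∈ fittingHallOf L := by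
      unfold typeA at h4
      rw [if_pos (hI L hL)] at h4
      obtain ⟨hxL, -, y, hy, hy1, hxy⟩ := h4
      have hxy' : x ∈ Subgroup.centralizer ({y} : Set G) := by
        rw [Subgroup.mem_centralizer_iff]
        rintro _ rfl
        exact hxy.symm
      exact hfrob L hL y hy hy1 (Subgroup.mem_inf.2 ⟨hxL, hxy'⟩)
    refine ⟨?_, hx1⟩
    unfold typeCore
    split_ifs
    · obtain ⟨-, k2, k3, -⟩ := S1355.result hG L hL
      exact k3 (k2 h6)
    · exact h6
  have hTI : ∀ M : Subgroup G, IsCoatom M → IsTISubset (fittingHallOf M : Set G) := by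
    intro M hM g hg x hx hgx
    by_contra hx1
    apply hg
    rw [hN M hM]
    have hmem : ∀ y ∈ fittingHallOf M, y ≠ 1 → y ∈ typeA M := by
      intro y hy hy1
      unfold typeA
      rw [if_pos (hI M hM)]
      exact ⟨hle M hy, hy1, y, hy, hy1, rfl⟩
    have hgx1 : g * x * g⁻¹ ≠ 1 := by
      intro h
      apply hx1
      exact conj_eq_one_iff.1 h
    obtain ⟨h1, -, -⟩ := S1391.result hG M hM (typeA M) (Or.inl rfl)
    obtain ⟨m, hm, hmx⟩ := h1 x (hmem x hx hx1) g (hmem _ hgx hgx1)
    have h2 : m⁻¹ * g ∈ Subgroup.centralizer ({x} : Set G) := by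
      rw [Subgroup.mem_centralizer_iff]
      intro z hz
      rw [Set.mem_singleton_iff] at hz
      subst hz
      have : g * z = m * z * m⁻¹ * g := by rw [hmx]; group
      rw [mul_assoc m⁻¹ g, this]; group
    have h3 := hcent M hM x hx hx1 h2
    have := mul_mem hm h3
    simpa using this
  -- primes
  have hsig : ∀ M : Subgroup G, IsCoatom M → ∀ p : ℕ, p.Prime → p ∣ Nat.card (fittingHallOf M) →
      p ∈ sigma M := by
    intro M hM p hp hpd
    rw [(hdec M hM).2] at hpd
    exact (S1350.result hG M hM).1.2.1 p hp hpd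
  -- index set
  let ι := Quotient (conjSetoid G)
  have hfin : Finite ι := Quotient.finite _
  let hfint : Fintype ι := Fintype.ofFinite ι
  let L : ι → Subgroup G := fun i => (Quotient.out i).1
  have hLmax : ∀ i, IsCoatom (L i) := fun i => (Quotient.out i).2
  let H : ι → Subgroup G := fun i => fittingHallOf (L i)
  have hcop : ∀ i j, i ≠ j → Nat.Coprime (Nat.card (H i)) (Nat.card (H j)) := by
    intro i j hij
    rw [Nat.coprime_iff_isRelPrime]
    by_contra hc
    rw [← Nat.coprime_iff_isRelPrime, Nat.Prime.not_coprime_iff_dvd] at hc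
    obtain ⟨p, hp, hpi, hpj⟩ := hc
    obtain ⟨g, hg⟩ := (S1378.result hG).2 (L i) (L j) (hLmax i) (hLmax j)
      ⟨p, hsig _ (hLmax i) p hp hpi, hsig _ (hLmax j) p hp hpj⟩
    apply hij
    rw [← Quotient.out_eq i, ← Quotient.out_eq j]
    exact Quotient.sound ⟨g, hg⟩
  have hcover : ∀ g : G, g ≠ 1 → ∃ i, ∃ x : G, x * g * x⁻¹ ∈ H i := by
    intro g hg
    obtain ⟨-, h2, -⟩ := S1379.result hG
    obtain ⟨M, hM, hgM⟩ := h2 (fun M hM => (hdec M hM).1) g hg
    obtain ⟨a, ⟨ha, ha1⟩, r, hr, y, hy⟩ := hgM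
    rw [← (hdec M hM).2] at ha
    have hr1 : r = 1 := by
      unfold supportR at hr
      rw [dif_neg] at hr
      · simpa using hr
      · rintro ⟨h, -⟩
        exact h (hcent M hM a ha ha1)
    subst hr1
    let i : ι := Quotient.mk (conjSetoid G) ⟨M, hM⟩
    have hi : (conjSetoid G).r ⟨M, hM⟩ (Quotient.out i) := by
      have : Quotient.mk (conjSetoid G) ⟨M, hM⟩ = Quotient.mk (conjSetoid G) (Quotient.out i) := by
        rw [Quotient.out_eq]
      exact Quotient.exact this
    obtain ⟨z, hz⟩ := hi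
    refine ⟨i, z * y⁻¹, ?_⟩
    have h4 : (MulAut.conj z) a ∈ H i := by
      show (MulAut.conj z) a ∈ fittingHallOf (Quotient.out i).1
      rw [hz]
      exact fittingHallOf_conj M z (Subgroup.mem_map_of_mem _ ha)
    rw [hy]
    convert h4 using 1
    rw [MulAut.conj_apply]; group
  -- the number of classes
  have hnt : Nontrivial G := inferInstance
  have hcard : 2 ≤ Fintype.card ι := by
    by_contra hc
    have hsub : Fintype.card ι ≤ 1 := by omega
    obtain ⟨g, hg⟩ := exists_ne (1 : G)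
    obtain ⟨i, -⟩ := hcover g hg
    have hsing : ∀ j, j = i := fun j => Fintype.card_le_one_iff.1 hsub j i
    have h1 := S1527.result H hcop (fun i => hTI _ (hLmax i)) hcover
    rw [Fintype.sum_eq_single i (fun j hj => absurd (hsing j) hj), hN _ (hLmax i)] at h1
    have h2 : (L i).index * Nat.card (L i) = Nat.card G := Subgroup.index_mul_card _
    have h3 : 2 ≤ (L i).index := by
      have h4 : (L i).index ≠ 1 := fun h => (hLmax i).1 (Subgroup.index_eq_one.1 h)
      have h5 : (L i).index ≠ 0 := Subgroup.index_ne_zero_of_finite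
      omega
    have h4 : Nat.card (H i) ≤ Nat.card (L i) := Subgroup.card_le_of_le (hle _)
    have h5 : 1 ≤ Nat.card (H i) := Nat.card_pos
    have h6 : (L i).index * (Nat.card (H i) - 1) + (L i).index ≤ Nat.card G := by
      rw [← Nat.mul_succ, ← h2]
      apply Nat.mul_le_mul_left
      show Nat.card (H i) - 1 + 1 ≤ _
      omega
    omega
  exact S1526.result hG.1 hcard L H (fun i => hlt _ (hLmax i)) (fun i => hbot _ (hLmax i))
    (fun i x hx h hh => conj_mem_fittingHallOf (L i) x hx h hh) (fun i => hfrob _ (hLmax i)) hcop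
    (fun i => ⟨hTI _ (hLmax i), hN _ (hLmax i)⟩) hcover

end Cfsg.Agent.S1541
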