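import Cfsg.Statements.S1552
import Cfsg.Agent.SporadicStructure.SextetOrbits

set_option autoImplicit false
open scoped Pointwise
open Cfsg

namespace Cfsg.Agent.S1552

open Cfsg.Agent.SporadicStructure.SextetOrbits Cfsg.Agent.SporadicStructure.OrbitLemmas
  Cfsg.Agent.SporadicStructure.SextetAction

/-- A sextet stabiliser has four orbits on the 1771 sextets, of sizes 1, 90, 240, 1440; and the stabiliser is a maximal proper subgroup. -/
theorem result (S : Finset (Finset Cfsg.GolayPt)) (hS : S ∈ Cfsg.sextets) : ∃ X₁ ∈ Cfsg.sextets, ∃ X₂ ∈ Cfsg.sextets, ∃ X₃ ∈ Cfsg.sextets, (MulAction.orbit ↥(MulAction.stabilizer Cfsg.M24 S) X₁).ncard = 90 ∧ (MulAction.orbit ↥(MulAction.stabilizer Cfsg.M24 S) X₂).ncard = 240 ∧ (MulAction.orbit ↥(MulAction.stabilizer Cfsg.M24 S) X₃).ncard = 1440 ∧ Cfsg.sextets = {S} ∪ MulAction.orbit ↥(MulAction.stabilizer Cfsg.M24 S) X₁ ∪ MulAction.orbit ↥(MulAction.stabilizer Cfsg.M24 S) X₂ ∪ MulAction.orbit ↥(MulAction.stabilizer Cfsg.M24 S) X₃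 ∧ IsCoatom (MulAction.stabilizer Cfsg.M24 S) := by
  have horb := orbit_eq hS
  obtain ⟨g, rfl⟩ := exists_smul_eq hS
  obtain ⟨n1, n2, n3⟩ := ncard_orbits
  have e1 : (MulAction.orbit (MulAction.stabilizer M24 (g • Sx 0)) (g • Sx 1)).ncard = 90 := by
    rw [ncard_orbit_stabilizer_smul]; exact n1
  have e2 : (MulAction.orbit (MulAction.stabilizer M24 (g • Sx 0)) (g • Sx 91)).ncard = 240 := by
    rw [ncard_orbit_stabilizer_smul]; exact n2
  have e3 : (MulAction.orbit (MulAction.stabilizer M24 (g • Sx 0)) (g • Sx 331)).ncard = 1440 := by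
    rw [ncard_orbit_stabilizer_smul]; exact n3
  have m : ∀ {X : Finset (Finset GolayPt)}, X ∈ sextets → g • X ∈ sextets :=
    fun hX => smul_mem_sextets g.2 hX
  have hcov : Cfsg.sextets = {g • Sx 0} ∪
      MulAction.orbit (MulAction.stabilizer M24 (g • Sx 0)) (g • Sx 1) ∪
      MulAction.orbit (MulAction.stabilizer M24 (g • Sx 0)) (g • Sx 91) ∪
      MulAction.orbit (MulAction.stabilizer M24 (g • Sx 0)) (g • Sx 331) := by
    have him : (fun X : Finset (Finset GolayPt) => g • X) '' sextets = sextets := by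
      apply Set.Subset.antisymm
      · rintro _ ⟨X, hX, rfl⟩
        exact m hX
      · intro X hX
        exact ⟨g⁻¹ • X, smul_mem_sextets (g⁻¹).2 hX, smul_inv_smul g X⟩
    conv_lhs => rw [← him, sextets_eq]
    rw [orbit_stabilizer_smul, orbit_stabilizer_smul, orbit_stabilizer_smul, Set.image_union,
      Set.image_union, Set.image_union, Set.image_singleton]
  refine ⟨g • Sx 1, m (Sx_mem 1 (by norm_num)), g • Sx 91, m (Sx_mem 91 (by norm_num)), g • Sx 331,
    m (Sx_mem 331 (by norm_num)), e1, e2, e3, hcov, ?_⟩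
  have hcard : sextets.ncard = 1771 :=
    Cfsg.Agent.SporadicStructure.Sextet.ncard_sextets S0363.result
  refine isCoatom_of_subdegrees (g • Sx 0) sextets horb (Set.toFinite _)
    ![g • Sx 1, g • Sx 91, g • Sx 331] ![90, 240, 1440] ?_ ?_ ?_ ?_ ?_
  · intro i
    fin_cases i
    · exact e1
    · exact e2
    · exact e3
  · rw [hcov]
    ext Y
    constructor
    · rintro (((h | h) | h) | h)
      · exact Or.inl h
      · exact Or.inr (Set.mem_iUnion.2 ⟨0, h⟩)
      · exact Or.inr (Set.mem_iUnion.2 ⟨1, h⟩)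
      · exact Or.inr (Set.mem_iUnion.2 ⟨2, h⟩)
    · rintro (h | h)
      · exact Or.inl (Or.inl (Or.inl h))
      · obtain ⟨i, h⟩ := Set.mem_iUnion.1 h
        fin_cases i
        · exact Or.inl (Or.inl (Or.inr h))
        · exact Or.inl (Or.inr h)
        · exact Or.inr h
  · rw [hcard]; decide
  · decide
  · decide

end Cfsg.Agent.S1552
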