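import Cfsg.Statements.S1553
import Cfsg.Agent.SporadicStructure.OctadStabFinal

set_option autoImplicit false
open scoped Pointwise
open Cfsg

namespace Cfsg.Agent.S1553

/-- The stabiliser of an octad in the group of the length-24 code induces on the octad exactly its alternating group. -/
theorem result (o : Finset Cfsg.GolayPt) (ho : o ∈ Cfsg.octads) : {e : Equiv.Perm ↥o | ∃ g : Equiv.Perm Cfsg.GolayPt, g ∈ Cfsg.M24 ∧ ∃ h : (∀ x, g x ∈ o ↔ x ∈ o), g.subtypePerm h = e} = (alternatingGroup ↥o : Set (Equiv.Perm ↥o)) := by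
  obtain ⟨p, hp⟩ : ∃ p, p ∉ o := by
    by_contra hcon
    have h1 : o = Finset.univ := Finset.eq_univ_iff_forall.2 fun x => by
      by_contra hx
      exact hcon ⟨x, hx⟩
    have h2 := Cfsg.Agent.SporadicA.GolayBase.octad_card ho
    rw [h1] at h2
    revert h2
    decide +kernel
  exact Cfsg.Agent.SporadicStructure.OctadStabAbs.induced_eq_alternating
    (Cfsg.Agent.SporadicStructure.OctadStabFinal.hyp ho hp)

end Cfsg.Agent.S1553
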