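import Cfsg.Statements.S1557
import Cfsg.Agent.GolayTrio.Octads

set_option autoImplicit false
open scoped Pointwise
open Cfsg

namespace Cfsg.Agent.S1557

open Cfsg.Agent.GolayTrio.Core Cfsg.Agent.GolayTrio.Octads

theorem bits_compl (m : ℕ) : (bits m)ᶜ = bits (16777215 ^^^ m) := by
  ext p
  rw [Finset.mem_compl, mem_bits, mem_bits, Nat.testBit_xor]
  have : (16777215 : ℕ).testBit (idx p) = true := by revert p; decide +kernel
  rw [this]
  cases m.testBit (idx p) <;> simp

theorem bits_and (m n : ℕ) : bits m ∩ bits n = bits (m &&& n) := by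
  ext p
  rw [Finset.mem_inter, mem_bits, mem_bits, mem_bits, Nat.testBit_and, Bool.and_eq_true]

theorem bits_or (m n : ℕ) : bits m ∪ bits n = bits (m ||| n) := by
  ext p
  rw [Finset.mem_union, mem_bits, mem_bits, mem_bits, Nat.testBit_or, Bool.or_eq_true]

theorem bits_zero : bits 0 = ∅ := by
  ext p
  simp only [mem_bits, Nat.zero_testBit, Bool.false_eq_true, Finset.notMem_empty]

theorem disjoint_bits_iff {m n : ℕ} (hm : m < 2 ^ 24) :
    Disjoint (bits m) (bits n) ↔ m &&& n = 0 := by
  rw [Finset.disjoint_iff_inter_eq_empty, bits_and, ← bits_zero]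
  constructor
  · intro h
    exact bits_injOn (lt_of_le_of_lt Nat.and_le_left hm) (by norm_num) h
  · intro h; rw [h]

theorem card_pt : Fintype.card GolayPt = 24 := by decide

theorem third_octad (o o' : Finset GolayPt) (ho : o ∈ octads) (ho' : o' ∈ octads)
    (hd : Disjoint o o') : (o ∪ o')ᶜ ∈ octads := by
  obtain ⟨⟨w, hw, rfl⟩, h8⟩ := ho
  obtain ⟨⟨w', hw', rfl⟩, h8'⟩ := ho'
  have h1 : (1 : GolayPt → ZMod 2) ∈ golayCode := Submodule.subset_span (Or.inr rfl)
  refine ⟨⟨1 + (w + w'), golayCode.add_mem h1 (golayCode.add_mem hw hw'), ?_⟩, ?_⟩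
  · ext p
    have hd' : ¬ (p ∈ support₂ w ∧ p ∈ support₂ w') := fun h => Finset.disjoint_left.1 hd h.1 h.2
    rw [Finset.mem_compl, Finset.mem_union]
    rw [support₂, Finset.mem_filter] at hd' ⊢
    rw [support₂, Finset.mem_filter] at hd' ⊢
    rw [support₂, Finset.mem_filter]
    simp only [Finset.mem_univ, true_and, Pi.add_apply, Pi.one_apply] at hd' ⊢
    generalize w p = a at *
    generalize w' p = b at *
    revert a b
    decide
  · rw [Finset.card_compl, Finset.card_union_of_disjoint hd, h8, h8', card_pt]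

/-- the pairs `(a, b)` of octad masks with `a` containing the extra point, `b` disjoint from `a`,
and `b` larger than the third mask -/
def good (a b : ℕ) : Bool := Nat.beq (a &&& b) 0 && Nat.blt (16777215 ^^^ a ^^^ b) b && Nat.blt b a

def cnt : List ℕ → ℕ → ℕ
  | [], _ => 0
  | b :: bs, a => (if good a b = true then 1 else 0) + cnt bs a

def cnt2 : List ℕ → ℕ
  | [] => 0
  | a :: as => (if Nat.blt a 8388608 = true then 0 else cnt octMasks a) + cnt2 as

theorem cnt2_eq : cnt2 octMasks = 3795 := by decide +kernel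

theorem cnt_eq (L : List ℕ) (a : ℕ) :
    cnt L a = (L.map fun b => if good a b = true then 1 else 0).sum := by
  induction L with
  | nil => rfl
  | cons b bs ih => rw [cnt, ih, List.map_cons, List.sum_cons]

theorem cnt2_eq_sum (L : List ℕ) :
    cnt2 L = (L.map fun a => if Nat.blt a 8388608 = true then 0 else cnt octMasks a).sum := by
  induction L with
  | nil => rfl
  | cons b bs ih => rw [cnt2, ih, List.map_cons, List.sum_cons]

/-- the set of pairs of masks describing all trios -/
def S : Finset (ℕ × ℕ) :=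
  (octMasks.toFinset ×ˢ octMasks.toFinset).filter fun x => 8388608 ≤ x.1 ∧ good x.1 x.2 = true

theorem card_S : S.card = 3795 := by
  rw [S, Finset.card_filter, Finset.sum_product, List.sum_toFinset _ octMasks_nodup, ← cnt2_eq,
    cnt2_eq_sum]
  congr 1
  refine List.map_congr_left fun a _ => ?_
  rw [List.sum_toFinset _ octMasks_nodup, cnt_eq]
  by_cases h : Nat.blt a 8388608 = true
  · rw [if_pos h]
    rw [Nat.blt_eq] at h
    have h' : ¬ 8388608 ≤ a := by omega
    simp only [h', false_and, if_false, List.map_const', List.sum_replicate, smul_zero]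
  · rw [if_neg h]
    rw [Nat.blt_eq] at h
    have h' : 8388608 ≤ a := by omega
    simp only [h', true_and]

theorem good_iff (a b : ℕ) :
    good a b = true ↔ a &&& b = 0 ∧ 16777215 ^^^ a ^^^ b < b ∧ b < a := by
  rw [good, Bool.and_eq_true, Bool.and_eq_true, Nat.blt_eq, Nat.blt_eq, Nat.beq_eq, and_assoc]

/-- the trio of a pair of masks -/
def F (x : ℕ × ℕ) : Finset (Finset GolayPt) :=
  {bits x.1, bits x.2, bits (16777215 ^^^ x.1 ^^^ x.2)}

theorem mem_S {a b : ℕ} : (a, b) ∈ S ↔
    a ∈ octMasks ∧ b ∈ octMasks ∧ 8388608 ≤ a ∧ a &&& b = 0 ∧ 16777215 ^^^ a ^^^ b < b ∧ b < a := by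
  rw [S, Finset.mem_filter, Finset.mem_product, good_iff, List.mem_toFinset, List.mem_toFinset]
  exact ⟨fun h => ⟨h.1.1, h.1.2, h.2⟩, fun h => ⟨⟨h.1, h.2.1⟩, h.2.2⟩⟩

theorem octMasks_lt {m : ℕ} (h : m ∈ octMasks) : m < 2 ^ 24 := (octMasks_spec m h).2.2

theorem third_mask {a b : ℕ} (h : a &&& b = 0) :
    (bits a ∪ bits b)ᶜ = bits (16777215 ^^^ a ^^^ b) := by
  have h1 : a ||| b = a ^^^ b := by
    apply Nat.eq_of_testBit_eq; intro i
    have h2 : (a &&& b).testBit i = false := by rw [h, Nat.zero_testBit]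
    rw [Nat.testBit_and] at h2
    rw [Nat.testBit_or, Nat.testBit_xor]
    revert h2
    cases a.testBit i <;> cases b.testBit i <;> simp
  rw [bits_or, bits_compl, h1, Nat.xor_assoc]

theorem F_mem {x : ℕ × ℕ} (hx : x ∈ S) : F x ∈ trios := by
  obtain ⟨a, b⟩ := x
  obtain ⟨ha, hb, _, hab, hcb, hba⟩ := mem_S.1 hx
  have ha' := octMasks_lt ha
  have hb' := octMasks_lt hb
  have hc' : 16777215 ^^^ a ^^^ b < 2 ^ 24 := lt_trans hcb hb'
  have hd : Disjoint (bits a) (bits b) := (disjoint_bits_iff ha').2 hab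
  have hoa := (mem_octads_iff_mem a ha').2 ha
  have hob := (mem_octads_iff_mem b hb').2 hb
  have hoc : bits (16777215 ^^^ a ^^^ b) ∈ octads := by
    rw [← third_mask hab]
    exact third_octad _ _ hoa hob hd
  have hac : Disjoint (bits a) (bits (16777215 ^^^ a ^^^ b)) := by
    rw [← third_mask hab]
    exact Disjoint.mono_left Finset.subset_union_left disjoint_compl_right
  have hbc : Disjoint (bits b) (bits (16777215 ^^^ a ^^^ b)) := by
    rw [← third_mask hab]
    exact Disjoint.mono_left Finset.subset_union_right disjoint_compl_right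
  have n1 : bits a ≠ bits b := fun h => hba.ne' (bits_injOn ha' hb' h)
  have n2 : bits a ≠ bits (16777215 ^^^ a ^^^ b) := fun h =>
    (hcb.trans hba).ne' (bits_injOn ha' hc' h)
  have n3 : bits b ≠ bits (16777215 ^^^ a ^^^ b) := fun h => hcb.ne' (bits_injOn hb' hc' h)
  refine ⟨?_, ?_, ?_⟩
  · rw [F, Finset.card_eq_three]
    exact ⟨_, _, _, n1, n2, n3, rfl⟩
  · intro o ho
    rw [F, Finset.mem_insert, Finset.mem_insert, Finset.mem_singleton] at ho
    rcases ho with rfl | rfl | rfl
    · exact hoa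
    · exact hob
    · exact hoc
  · intro o ho o' ho' hne
    rw [F, Finset.mem_insert, Finset.mem_insert, Finset.mem_singleton] at ho ho'
    rcases ho with rfl | rfl | rfl <;> rcases ho' with rfl | rfl | rfl
    · exact absurd rfl hne
    · exact hd
    · exact hac
    · exact hd.symm
    · exact absurd rfl hne
    · exact hbc
    · exact hac.symm
    · exact hbc.symm
    · exact absurd rfl hne

theorem F_injOn : Set.InjOn F (S : Set (ℕ × ℕ)) := by
  rintro ⟨a, b⟩ hx ⟨a', b'⟩ hx' h
  rw [Finset.mem_coe] at hx hx'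
  obtain ⟨ha, hb, _, hab, hcb, hba⟩ := mem_S.1 hx
  obtain ⟨ha2, hb2, _, hab2, hcb2, hba2⟩ := mem_S.1 hx'
  have ha' := octMasks_lt ha
  have hb' := octMasks_lt hb
  have hc' : 16777215 ^^^ a ^^^ b < 2 ^ 24 := lt_trans hcb hb'
  have ha2' := octMasks_lt ha2
  have hb2' := octMasks_lt hb2
  have hc2' : 16777215 ^^^ a' ^^^ b' < 2 ^ 24 := lt_trans hcb2 hb2'
  have key : ({a, b, 16777215 ^^^ a ^^^ b} : Finset ℕ) = {a', b', 16777215 ^^^ a' ^^^ b'} := by
    have := congrArg (fun T => T.image mask) h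
    simp only [F, Finset.image_insert, Finset.image_singleton] at this
    rwa [mask_bits _ ha', mask_bits _ hb', mask_bits _ hc', mask_bits _ ha2', mask_bits _ hb2',
      mask_bits _ hc2'] at this
  generalize 16777215 ^^^ a ^^^ b = c at *
  generalize 16777215 ^^^ a' ^^^ b' = c' at *
  have e1 : a ∈ ({a', b', c'} : Finset ℕ) := by rw [← key]; simp
  have e2 : b ∈ ({a', b', c'} : Finset ℕ) := by rw [← key]; simp
  have e3 : c ∈ ({a', b', c'} : Finset ℕ) := by rw [← key]; simp
  have e4 : a' ∈ ({a, b, c} : Finset ℕ) := by rw [key]; simp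
  have e5 : b' ∈ ({a, b, c} : Finset ℕ) := by rw [key]; simp
  have e6 : c' ∈ ({a, b, c} : Finset ℕ) := by rw [key]; simp
  simp only [Finset.mem_insert, Finset.mem_singleton] at e1 e2 e3 e4 e5 e6
  have : a = a' ∧ b = b' := by omega
  rw [this.1, this.2]

theorem mem_image_of_sorted {m1 m2 m3 : ℕ} (h1 : m1 ∈ octMasks) (h2 : m2 ∈ octMasks)
    (h12 : m1 &&& m2 = 0) (hx : 16777215 ^^^ m1 ^^^ m2 = m3) (l21 : m2 < m1)
    (l32 : m3 < m2) : ({bits m1, bits m2, bits m3} : Finset (Finset GolayPt)) ∈ F '' (S : Set (ℕ × ℕ)) := by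
  refine ⟨(m1, m2), ?_, ?_⟩
  · rw [Finset.mem_coe, mem_S, hx]
    refine ⟨h1, h2, ?_, h12, l32, l21⟩
    by_contra hlt
    rw [not_le] at hlt
    have e1 : 16777215 = m1 ^^^ m2 ^^^ m3 := by
      rw [← hx]
      apply Nat.eq_of_testBit_eq; intro i
      simp only [Nat.testBit_xor]
      cases m1.testBit i <;> cases m2.testBit i <;> simp
    have e2 : m1 ^^^ m2 ^^^ m3 < 2 ^ 23 := by
      apply Nat.xor_lt_two_pow
      · apply Nat.xor_lt_two_pow
        · norm_num; omega
        · norm_num; omega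
      · norm_num; omega
    rw [← e1] at e2
    norm_num at e2
  · rw [F, hx]

theorem xor_full {m1 m2 m3 : ℕ} (h1 : m1 ∈ octMasks) (h2 : m2 ∈ octMasks) (h3 : m3 ∈ octMasks)
    (h12 : Disjoint (bits m1) (bits m2)) (h13 : Disjoint (bits m1) (bits m3))
    (h23 : Disjoint (bits m2) (bits m3)) : 16777215 ^^^ m1 ^^^ m2 = m3 := by
  have a12 : m1 &&& m2 = 0 := (disjoint_bits_iff (octMasks_lt h1)).1 h12
  have hsub : bits m3 ⊆ (bits m1 ∪ bits m2)ᶜ := by
    intro p hp
    rw [Finset.mem_compl, Finset.mem_union]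
    rintro (h | h)
    · exact Finset.disjoint_left.1 h13 h hp
    · exact Finset.disjoint_left.1 h23 h hp
  have hc1 := (third_octad _ _ ((mem_octads_iff_mem _ (octMasks_lt h1)).2 h1)
    ((mem_octads_iff_mem _ (octMasks_lt h2)).2 h2) h12).2
  have hc2 := ((mem_octads_iff_mem _ (octMasks_lt h3)).2 h3).2
  have heq := Finset.eq_of_subset_of_card_le hsub (by rw [hc1, hc2])
  rw [third_mask a12] at heq
  refine (bits_injOn (octMasks_lt h3) ?_ heq).symm
  exact Nat.xor_lt_two_pow (Nat.xor_lt_two_pow (by norm_num) (octMasks_lt h1)) (octMasks_lt h2)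

theorem trios_eq : trios = F '' (S : Set (ℕ × ℕ)) := by
  ext T
  constructor
  · rintro ⟨hc, ho, hd⟩
    obtain ⟨o1, o2, o3, n12, n13, n23, rfl⟩ := Finset.card_eq_three.1 hc
    have ho1 := ho o1 (by simp)
    have ho2 := ho o2 (by simp)
    have ho3 := ho o3 (by simp)
    have d12 := hd o1 (by simp) o2 (by simp) n12
    have d13 := hd o1 (by simp) o3 (by simp) n13
    have d23 := hd o2 (by simp) o3 (by simp) n23
    rw [mem_octads_iff_mask] at ho1 ho2 ho3
    rw [← bits_mask o1, ← bits_mask o2, ← bits_mask o3]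
    rw [← bits_mask o1, ← bits_mask o2] at d12 n12
    rw [← bits_mask o1, ← bits_mask o3] at d13 n13
    rw [← bits_mask o2, ← bits_mask o3] at d23 n23
    generalize mask o1 = m1 at *
    generalize mask o2 = m2 at *
    generalize mask o3 = m3 at *
    have k12 : m1 ≠ m2 := fun h => n12 (by rw [h])
    have k13 : m1 ≠ m3 := fun h => n13 (by rw [h])
    have k23 : m2 ≠ m3 := fun h => n23 (by rw [h])
    have A := fun {x y : ℕ} (hx : x ∈ octMasks) (h : Disjoint (bits x) (bits y)) =>
      (disjoint_bits_iff (octMasks_lt hx)).1 h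
    rcases lt_or_gt_of_ne k12 with l12 | l12 <;> rcases lt_or_gt_of_ne k13 with l13 | l13 <;>
      rcases lt_or_gt_of_ne k23 with l23 | l23
    · -- m1 < m2 < m3
      have := mem_image_of_sorted ho3 ho2 (A ho3 d23.symm)
        (xor_full ho3 ho2 ho1 d23.symm d13.symm d12.symm) l23 l12
      convert this using 1
      ext x; simp only [Finset.mem_insert, Finset.mem_singleton]; tauto
    · -- m1 < m3 < m2
      have := mem_image_of_sorted ho2 ho3 (A ho2 d23)
        (xor_full ho2 ho3 ho1 d23 d12.symm d13.symm) l23 l13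
      convert this using 1
      ext x; simp only [Finset.mem_insert, Finset.mem_singleton]; tauto
    · omega
    · -- m3 < m1 < m2
      have := mem_image_of_sorted ho2 ho1 (A ho2 d12.symm)
        (xor_full ho2 ho1 ho3 d12.symm d23 d13) l12 l13
      convert this using 1
      ext x; simp only [Finset.mem_insert, Finset.mem_singleton]; tauto
    · -- m2 < m1 < m3
      have := mem_image_of_sorted ho3 ho1 (A ho3 d13.symm)
        (xor_full ho3 ho1 ho2 d13.symm d23.symm d12) l13 l12
      convert this using 1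
      ext x; simp only [Finset.mem_insert, Finset.mem_singleton]; tauto
    · omega
    · -- m2 < m3 < m1
      have := mem_image_of_sorted ho1 ho3 (A ho1 d13)
        (xor_full ho1 ho3 ho2 d13 d12 d23.symm) l13 l23
      convert this using 1
      ext x; simp only [Finset.mem_insert, Finset.mem_singleton]; tauto
    · -- m3 < m2 < m1
      exact mem_image_of_sorted ho1 ho2 (A ho1 d12) (xor_full ho1 ho2 ho3 d12 d13 d23) l12 l23
  · rintro ⟨x, hx, rfl⟩
    exact F_mem hx

/-- The complement of the union of two disjoint octads is an octad, and the code has exactly 3795 trios of pairwise disjoint octads. -/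
theorem result : (∀ o o' : Finset Cfsg.GolayPt, o ∈ Cfsg.octads → o' ∈ Cfsg.octads → Disjoint o o' → (o ∪ o')ᶜ ∈ Cfsg.octads) ∧ Cfsg.trios.ncard = 3795 := by
  refine ⟨third_octad, ?_⟩
  rw [trios_eq, F_injOn.ncard_image, Set.ncard_coe_finset, card_S]

end Cfsg.Agent.S1557
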