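import Cfsg.Statements.S1559
import Cfsg.Agent.SporadicStructure.TrioOrbits
import Cfsg.Agent.SporadicStructure.OrbitLemmas

set_option autoImplicit false
open scoped Pointwise
open Cfsg

namespace Cfsg.Agent.S1559

open Cfsg.Agent.SporadicStructure.TrioOrbits Cfsg.Agent.SporadicStructure.TrioInv
open Cfsg.Agent.SporadicStructure.OrbitLemmas Cfsg.Agent.SporadicA.GolayPerm

theorem dvd_cases : ∀ s : Finset (Fin 4), (1 + ∑ i ∈ s, n i) ∣ (1 + ∑ i, n i) →
    s = ∅ ∨ s = Finset.univ := by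
  decide +kernel

/-- `M24` is transitive on trios. -/
theorem exists_smul_eq (T : Finset (Finset GolayPt)) (hT : T ∈ trios) : ∃ g : M24, g • T0 = T := by
  rw [trios_eq] at hT
  rcases hT with hT | hT
  · exact ⟨1, by rw [one_smul]; exact hT.symm⟩
  · obtain ⟨i, ⟨g, rfl⟩⟩ := Set.mem_iUnion.1 hT
    refine ⟨g.1 * ⟨permOf (H i) (isPerm_H i), permOf_mem_M24 _ (isAut_H i)⟩, ?_⟩
    rw [mul_smul]
    have h : (⟨permOf (H i) (isPerm_H i), permOf_mem_M24 _ (isAut_H i)⟩ : M24) • T0 = X i := H_T0 i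
    rw [h]
    rfl

theorem smul_trios (g : M24) : (fun Y : Finset (Finset GolayPt) => g • Y) '' trios = trios := by
  apply Set.eq_of_subset_of_ncard_le
  · rintro _ ⟨Y, hY, rfl⟩
    exact smul_mem_trios g.2 hY
  · rw [Set.ncard_image_of_injective _ (MulAction.injective g)]
  · exact Set.toFinite _

theorem orbit_eq_trios (T : Finset (Finset GolayPt)) (hT : T ∈ trios) :
    MulAction.orbit M24 T = trios := by
  obtain ⟨g, rfl⟩ := exists_smul_eq T hT
  ext Y
  constructor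
  · rintro ⟨h, rfl⟩
    exact smul_mem_trios h.2 hT
  · intro hY
    obtain ⟨h, rfl⟩ := exists_smul_eq Y hY
    exact ⟨h * g⁻¹, by
      show (h * g⁻¹) • g • T0 = h • T0
      rw [mul_smul, inv_smul_smul]⟩

theorem main (T : Finset (Finset GolayPt)) (hT : T ∈ trios) :
    ∃ Y : Fin 4 → Finset (Finset GolayPt), (∀ i, Y i ∈ trios) ∧
      (∀ i, (MulAction.orbit (MulAction.stabilizer M24 T) (Y i)).ncard = n i) ∧
      trios = {T} ∪ ⋃ i, MulAction.orbit (MulAction.stabilizer M24 T) (Y i) := by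
  obtain ⟨g, rfl⟩ := exists_smul_eq T hT
  refine ⟨fun i => g • X i, fun i => smul_mem_trios g.2 (X_mem i), fun i => ?_, ?_⟩
  · rw [ncard_orbit_stabilizer_smul]
    exact ncard_orbit i
  · conv_lhs => rw [← smul_trios g, trios_eq]
    rw [Set.image_union, Set.image_singleton, Set.image_iUnion]
    congr 1
    refine Set.iUnion_congr fun i => ?_
    rw [orbit_stabilizer_smul]

/-- A trio stabiliser has five orbits on the 3795 trios, of sizes 1, 42, 56, 1008, 2688; and the stabiliser is a maximal proper subgroup. -/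
theorem result (T : Finset (Finset Cfsg.GolayPt)) (hT : T ∈ Cfsg.trios) : ∃ X₁ ∈ Cfsg.trios, ∃ X₂ ∈ Cfsg.trios, ∃ X₃ ∈ Cfsg.trios, ∃ X₄ ∈ Cfsg.trios, (MulAction.orbit ↥(MulAction.stabilizer Cfsg.M24 T) X₁).ncard = 42 ∧ (MulAction.orbit ↥(MulAction.stabilizer Cfsg.M24 T) X₂).ncard = 56 ∧ (MulAction.orbit ↥(MulAction.stabilizer Cfsg.M24 T) X₃).ncard = 1008 ∧ (MulAction.orbit ↥(MulAction.stabilizer Cfsg.M24 T) X₄).ncard = 2688 ∧ Cfsg.trios = {T} ∪ MulAction.orbit ↥(MulAction.stabilizer Cfsg.M24 T) X₁ ∪ MulAction.orbit ↥(MulAction.stabilizer Cfsg.M24 T) X₂ ∪ MulAction.orbit ↥(MulAction.stabilizer Cfsg.M24 T) X₃ ∪ MulAction.orbit ↥(MulAction.stabilizer Cfsg.M24 T) X₄ ∧ IsCoatom (MulAction.stabilizer Cfsg.M24 T) := by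
  obtain ⟨Y, hY, hn, hcov⟩ := main T hT
  refine ⟨Y 0, hY 0, Y 1, hY 1, Y 2, hY 2, Y 3, hY 3, hn 0, hn 1, hn 2, hn 3, ?_, ?_⟩
  · conv_lhs => rw [hcov]
    ext Z
    simp only [Set.mem_union, Set.mem_iUnion, Fin.exists_fin_succ, Fin.exists_fin_zero, or_false,
      or_assoc]
    exact Iff.rfl
  · refine isCoatom_of_subdegrees T trios (orbit_eq_trios T hT) (Set.toFinite _) Y n hn hcov ?_ ?_
      dvd_cases
    · rw [Cfsg.Agent.S1557.result.2, sum_n]
    · decide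

end Cfsg.Agent.S1559
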