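import Cfsg.Statements.S1560
import Cfsg.Agent.SporadicA.Dodecad
import Cfsg.Agent.S0361
import Cfsg.Agent.S0386

set_option autoImplicit false
open scoped Pointwise
open Cfsg

namespace Cfsg.Agent.S1560

open Cfsg.Agent.SporadicA.Dodecad

/-- card of a symmetric difference plus twice the intersection. -/
theorem card_symmDiff_add (a b : Finset GolayPt) :
    (symmDiff a b).card + 2 * (a ∩ b).card = a.card + b.card := by
  have h1 : (symmDiff a b).card = (a \ b).card + (b \ a).card := by
    rw [show symmDiff a b = (a \ b) ∪ (b \ a) from rfl,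
      Finset.card_union_of_disjoint disjoint_sdiff_sdiff]
  have h2 := Finset.card_sdiff_add_card_inter a b
  have h3 := Finset.card_sdiff_add_card_inter b a
  rw [Finset.inter_comm b a] at h3
  omega

theorem meet_cases {d d' : Finset GolayPt} (hd : d ∈ dodecads) (hd' : d' ∈ dodecads) :
    (d ∩ d').card = 0 ∨ (d ∩ d').card = 4 ∨ (d ∩ d').card = 6 ∨ (d ∩ d').card = 8 ∨
      (d ∩ d').card = 12 := by
  have h := card_mem_supports (symmDiff_mem_supports hd.1 hd'.1)
  have h1 := card_symmDiff_add d d'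
  have h2 : d.card = 12 := hd.2
  have h3 : d'.card = 12 := hd'.2
  omega

theorem eq_of_meet_twelve {d d' : Finset GolayPt} (hd : d ∈ dodecads) (hd' : d' ∈ dodecads)
    (h : (d ∩ d').card = 12) : d' = d := by
  have h2 : d.card = 12 := hd.2
  have h3 : d'.card = 12 := hd'.2
  have h4 : d ∩ d' = d := Finset.eq_of_subset_of_card_le Finset.inter_subset_left (by omega)
  have h5 : d ∩ d' = d' := Finset.eq_of_subset_of_card_le Finset.inter_subset_right (by omega)
  rw [← h5, h4]

theorem card_inter_compl_right {d d' : Finset GolayPt} :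
    (d ∩ d'ᶜ).card + (d ∩ d').card = d.card := by
  rw [← Finset.card_sdiff_add_card_inter d d', Finset.sdiff_eq_inter_compl]

theorem eq_compl_of_meet_zero {d d' : Finset GolayPt} (hd : d ∈ dodecads) (hd' : d' ∈ dodecads)
    (h : (d ∩ d').card = 0) : d' = dᶜ := by
  have h1 := card_inter_compl_right (d := d) (d' := d')
  have h2 : d.card = 12 := hd.2
  have h3 : d'ᶜ = d := eq_of_meet_twelve hd (compl_dodecad hd') (by omega)
  rw [← h3, compl_compl]

/-- `d' ↦ d + d'` is a bijection from the octads meeting `d` in 4 points to the dodecads meeting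
`d` in 8 points. -/
theorem ncard_eight (d : Finset GolayPt) (hd : d ∈ dodecads) :
    {d' : Finset GolayPt | d' ∈ dodecads ∧ (d ∩ d').card = 8}.ncard = 495 := by
  rw [← (Cfsg.Agent.S0386.result d hd).2.2]
  have himg : {d' : Finset GolayPt | d' ∈ dodecads ∧ (d ∩ d').card = 8} =
      (fun o => symmDiff d o) '' {o : Finset GolayPt | o ∈ octads ∧ (o ∩ d).card = 4} := by
    ext d'
    constructor
    · rintro ⟨hd', h⟩
      have h1 := card_symmDiff_add d d'
      have h2 : d.card = 12 := hd.2
      have h3 : d'.card = 12 := hd'.2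
      have h4 := card_symmDiff_add d (symmDiff d d')
      rw [symmDiff_symmDiff_cancel_left] at h4
      refine ⟨symmDiff d d', ⟨⟨symmDiff_mem_supports hd.1 hd'.1, ?_⟩, ?_⟩, ?_⟩
      · omega
      · rw [Finset.inter_comm]
        omega
      · exact symmDiff_symmDiff_cancel_left d d'
    · rintro ⟨o, ⟨ho, h⟩, rfl⟩
      have h1 := card_symmDiff_add d o
      rw [Finset.inter_comm o d] at h
      have h2 : d.card = 12 := hd.2
      have h3 : o.card = 8 := ho.2
      have h4 := card_symmDiff_add d (symmDiff d o)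
      rw [symmDiff_symmDiff_cancel_left] at h4
      have h5 : (symmDiff d o).card = 12 := by omega
      refine ⟨⟨symmDiff_mem_supports hd.1 ho.1, h5⟩, ?_⟩
      show (d ∩ symmDiff d o).card = 8
      omega
  rw [himg]
  refine Set.InjOn.ncard_image ?_
  intro o _ o' _ heq
  have heq' : symmDiff d o = symmDiff d o' := heq
  exact symmDiff_right_injective d heq'

theorem ncard_four (d : Finset GolayPt) (hd : d ∈ dodecads) :
    {d' : Finset GolayPt | d' ∈ dodecads ∧ (d ∩ d').card = 4}.ncard = 495 := by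
  rw [← ncard_eight d hd]
  have himg : {d' : Finset GolayPt | d' ∈ dodecads ∧ (d ∩ d').card = 4} =
      compl '' {d' : Finset GolayPt | d' ∈ dodecads ∧ (d ∩ d').card = 8} := by
    ext d'
    constructor
    · rintro ⟨hd', h⟩
      have h1 := card_inter_compl_right (d := d) (d' := d')
      have h2 : d.card = 12 := hd.2
      exact ⟨d'ᶜ, ⟨compl_dodecad hd', by omega⟩, compl_compl d'⟩
    · rintro ⟨d'', ⟨hd', h⟩, rfl⟩
      have h1 := card_inter_compl_right (d := d) (d' := d'')
      have h2 : d.card = 12 := hd.2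
      exact ⟨compl_dodecad hd', by omega⟩
  rw [himg]
  exact Set.ncard_image_of_injective _ compl_injective

theorem ncard_six (d : Finset GolayPt) (hd : d ∈ dodecads) :
    {d' : Finset GolayPt | d' ∈ dodecads ∧ (d ∩ d').card = 6}.ncard = 1584 := by
  have h8 := ncard_eight d hd
  have h4 := ncard_four d hd
  have htot := Cfsg.Agent.S0361.result
  set A4 := {d' : Finset GolayPt | d' ∈ dodecads ∧ (d ∩ d').card = 4}
  set A6 := {d' : Finset GolayPt | d' ∈ dodecads ∧ (d ∩ d').card = 6}
  set A8 := {d' : Finset GolayPt | d' ∈ dodecads ∧ (d ∩ d').card = 8}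
  have hc : (d ∩ d).card = 12 := by rw [Finset.inter_self]; exact hd.2
  have hc' : (d ∩ dᶜ).card = 0 := by
    have h1 := card_inter_compl_right (d := d) (d' := d)
    have h2 : d.card = 12 := hd.2
    omega
  have hU : dodecads = ((A4 ∪ A6) ∪ A8) ∪ {d, dᶜ} := by
    ext d'
    constructor
    · intro hd'
      rcases meet_cases hd hd' with h | h | h | h | h
      · exact Or.inr (Or.inr (eq_compl_of_meet_zero hd hd' h))
      · exact Or.inl (Or.inl (Or.inl ⟨hd', h⟩))
      · exact Or.inl (Or.inl (Or.inr ⟨hd', h⟩))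
      · exact Or.inl (Or.inr ⟨hd', h⟩)
      · exact Or.inr (Or.inl (eq_of_meet_twelve hd hd' h))
    · rintro (((h | h) | h) | (h | h))
      · exact h.1
      · exact h.1
      · exact h.1
      · rw [h]; exact hd
      · rw [Set.mem_singleton_iff] at h
        rw [h]; exact compl_dodecad hd
  have hne : d ≠ dᶜ := by
    intro h
    rw [← h] at hc'
    omega
  have hd1 : Disjoint A4 A6 := by
    rw [Set.disjoint_left]
    rintro o ⟨_, h⟩ ⟨_, h'⟩
    omega
  have hd2 : Disjoint (A4 ∪ A6) A8 := by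
    rw [Set.disjoint_left]
    rintro o (⟨_, h⟩ | ⟨_, h⟩) ⟨_, h'⟩ <;> omega
  have hd3 : Disjoint ((A4 ∪ A6) ∪ A8) {d, dᶜ} := by
    rw [Set.disjoint_left]
    rintro o ((⟨_, h⟩ | ⟨_, h⟩) | ⟨_, h⟩) (h' | h')
    · rw [h'] at h; omega
    · rw [Set.mem_singleton_iff] at h'; rw [h'] at h; omega
    · rw [h'] at h; omega
    · rw [Set.mem_singleton_iff] at h'; rw [h'] at h; omega
    · rw [h'] at h; omega
    · rw [Set.mem_singleton_iff] at h'; rw [h'] at h; omega
  rw [hU, Set.ncard_union_eq hd3 (Set.toFinite _) (Set.toFinite _),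
    Set.ncard_union_eq hd2 (Set.toFinite _) (Set.toFinite _),
    Set.ncard_union_eq hd1 (Set.toFinite _) (Set.toFinite _), Set.ncard_pair hne] at htot
  omega

/-- Intersection numbers of dodecads: a dodecad meets every other dodecad in 0, 4, 6 or 8 points, meeting 495 of them in 4 points, 1584 in 6 points and 495 in 8 points. -/
theorem result (d : Finset Cfsg.GolayPt) (hd : d ∈ Cfsg.dodecads) : (∀ d' ∈ Cfsg.dodecads, d' ≠ d → (d ∩ d').card = 0 ∨ (d ∩ d').card = 4 ∨ (d ∩ d').card = 6 ∨ (d ∩ d').card = 8) ∧ {d' : Finset Cfsg.GolayPt | d' ∈ Cfsg.dodecads ∧ (d ∩ d').card = 4}.ncard = 495 ∧ {d' : Finset Cfsg.GolayPt | d' ∈ Cfsg.dodecads ∧ (d ∩ d').card = 6}.ncard = 1584 ∧ {d' : Finset Cfsg.GolayPt | d' ∈ Cfsg.dodecads ∧ (d ∩ d').card = 8}.ncard = 495 := by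
  refine ⟨?_, ncard_four d hd, ncard_six d hd, ncard_eight d hd⟩
  intro d' hd' hne
  rcases meet_cases hd hd' with h | h | h | h | h
  · exact Or.inl h
  · exact Or.inr (Or.inl h)
  · exact Or.inr (Or.inr (Or.inl h))
  · exact Or.inr (Or.inr (Or.inr h))
  · exact absurd (eq_of_meet_twelve hd hd' h) hne

end Cfsg.Agent.S1560
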