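import Cfsg.Statements.S1561
import Cfsg.Agent.SporadicA.GolayPerm
import Cfsg.Agent.SporadicStructure.DodecadM12

set_option autoImplicit false
open scoped Pointwise
open Cfsg

namespace Cfsg.Agent.S1561

open Cfsg.Agent.SporadicA.GolayBase Cfsg.Agent.SporadicA.GolayPerm


/-! ### Existence of elements of `M24` -/

theorem exists_map (d e : Finset GolayPt) (hd : d ∈ dodecads) (he : e ∈ dodecads)
    (a b : Fin 5 → GolayPt) (ha : Function.Injective a) (hb : Function.Injective b)
    (had : ∀ i, a i ∈ d) (hbe : ∀ i, b i ∈ e) :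
    ∃ g : Equiv.Perm GolayPt, g ∈ M24 ∧ g • d = e ∧ ∀ i, g (a i) = b i :=
  (Cfsg.Agent.SporadicStructure.DodecadM12.exists_unique_dodecad_map d e hd he a b ha hb had hbe).exists

/-- An enumeration of a finset of known cardinality. -/
theorem exists_enum {α : Type*} (s : Finset α) {n : ℕ} (h : s.card = n) :
    ∃ f : Fin n → α, Function.Injective f ∧ ∀ x, x ∈ s ↔ ∃ i, f i = x := by
  let e := (s.equivFinOfCardEq h).symm
  refine ⟨fun i => (e i : α), ?_, ?_⟩
  · intro i j hij
    exact e.injective (Subtype.ext hij)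
  · intro x
    constructor
    · intro hx
      exact ⟨e.symm ⟨x, hx⟩, by simp⟩
    · rintro ⟨i, rfl⟩
      exact (e i).2

/-- The stabiliser of a dodecad is transitive on its 4-subsets. -/
theorem exists_four {d s t : Finset GolayPt} (hd : d ∈ dodecads)
    (hs : s.card = 4) (ht : t.card = 4) (hsd : s ⊆ d) (htd : t ⊆ d) :
    ∃ g : Equiv.Perm GolayPt, g ∈ M24 ∧ g • d = d ∧ g • s = t := by
  have h12 : d.card = 12 := hd.2
  obtain ⟨x, hxd, hxs⟩ : ∃ x ∈ d, x ∉ s := Finset.exists_mem_notMem_of_card_lt_card (by omega)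
  obtain ⟨y, hyd, hyt⟩ : ∃ y ∈ d, y ∉ t := Finset.exists_mem_notMem_of_card_lt_card (by omega)
  obtain ⟨a, ha, has⟩ := exists_enum s hs
  obtain ⟨b, hb, hbt⟩ := exists_enum t ht
  obtain ⟨g, hg, hgd, hgx⟩ := exists_map d d hd hd (Fin.cons x a) (Fin.cons y b)
    (Fin.cons_injective_iff.2 ⟨fun ⟨i, hi⟩ => hxs ((has x).2 ⟨i, hi⟩), ha⟩)
    (Fin.cons_injective_iff.2 ⟨fun ⟨i, hi⟩ => hyt ((hbt y).2 ⟨i, hi⟩), hb⟩)
    (by
      intro i
      refine Fin.cases ?_ (fun j => ?_) i
      · exact hxd
      · exact hsd ((has _).2 ⟨j, rfl⟩))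
    (by
      intro i
      refine Fin.cases ?_ (fun j => ?_) i
      · exact hyd
      · exact htd ((hbt _).2 ⟨j, rfl⟩))
  refine ⟨g, hg, hgd, ?_⟩
  have hsub : g • s ⊆ t := by
    intro p hp
    obtain ⟨q, hq, rfl⟩ := Finset.mem_smul_finset.1 hp
    obtain ⟨i, rfl⟩ := (has q).1 hq
    have := hgx i.succ
    rw [Fin.cons_succ, Fin.cons_succ] at this
    show g (a i) ∈ t
    rw [this]
    exact (hbt _).2 ⟨i, rfl⟩
  exact Finset.eq_of_subset_of_card_le hsub (by rw [Finset.card_smul_finset, hs, ht])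

/-! ### Dodecads meeting in 8 points -/

/-- An octad is determined by its intersection with a dodecad, if this has 4 points. -/
theorem octad_unique_four {d o o' : Finset GolayPt} (hd : d ∈ dodecads) (ho : o ∈ octads)
    (ho' : o' ∈ octads) (h4 : (d ∩ o).card = 4) (h : d ∩ o = d ∩ o') : o = o' := by
  have h8 : o.card = 8 := ho.2
  have h8' : o'.card = 8 := ho'.2
  have h12 : d.card = 12 := hd.2
  by_contra hne
  have hw := card_of_mem_supports (symmDiff_mem_supports ho.1 ho'.1)
  have h1 := card_symmDiff_add o o'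
  have hsub : d ∩ o ⊆ o ∩ o' := by
    intro x hx
    have hx' : x ∈ d ∩ o' := h ▸ hx
    exact Finset.mem_inter.2 ⟨(Finset.mem_inter.1 hx).2, (Finset.mem_inter.1 hx').2⟩
  have h2 := Finset.card_le_card hsub
  have h3 : (symmDiff o o').card ≠ 0 := by
    intro h0
    rw [Finset.card_eq_zero] at h0
    exact hne (symmDiff_eq_bot.1 h0)
  have h4' : (symmDiff o o').card = 8 := by omega
  have h5 : d ∩ symmDiff o o' = ∅ := by
    ext x
    have hx : x ∈ d ∩ o ↔ x ∈ d ∩ o' := by rw [h]
    rw [Finset.mem_inter, Finset.mem_inter] at hx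
    rw [Finset.mem_inter, Finset.mem_symmDiff]
    simp only [Finset.notMem_empty, iff_false]
    tauto
  have h6 := card_symmDiff_add d (symmDiff o o')
  rw [h5, Finset.card_empty] at h6
  have h7 := card_of_mem_supports (symmDiff_mem_supports hd.1
    (symmDiff_mem_supports ho.1 ho'.1))
  omega

theorem exists_of_eight {d d' d'' : Finset GolayPt} (hd : d ∈ dodecads) (hd' : d' ∈ dodecads)
    (hd'' : d'' ∈ dodecads) (h : (d ∩ d').card = 8) (h' : (d ∩ d'').card = 8) :
    ∃ g : Equiv.Perm GolayPt, g ∈ M24 ∧ g • d = d ∧ g • d' = d'' := by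
  have key : ∀ c : Finset GolayPt, c ∈ dodecads → (d ∩ c).card = 8 →
      symmDiff d c ∈ octads ∧ (d ∩ symmDiff d c).card = 4 := by
    intro c hc h
    have h1 := card_symmDiff_add d c
    have h2 : d.card = 12 := hd.2
    have h3 : c.card = 12 := hc.2
    have h4 := card_symmDiff_add d (symmDiff d c)
    rw [symmDiff_symmDiff_cancel_left] at h4
    exact ⟨⟨symmDiff_mem_supports hd.1 hc.1, by omega⟩, by omega⟩
  obtain ⟨ho, h4⟩ := key d' hd' h
  obtain ⟨ho', h4'⟩ := key d'' hd'' h'
  obtain ⟨g, hg, hgd, hgs⟩ := exists_four hd h4 h4' Finset.inter_subset_left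
    Finset.inter_subset_left
  refine ⟨g, hg, hgd, ?_⟩
  have h1 : g • symmDiff d d' = symmDiff d d'' := by
    refine (octad_unique_four hd ho' ((smul_mem_octads hg).2 ho) h4' ?_).symm
    rw [← hgs, Finset.smul_finset_inter, hgd]
  rw [Finset.smul_finset_symmDiff, hgd] at h1
  exact symmDiff_right_injective d h1

/-! ### Dodecads meeting in 6 points: an explicit check -/

/-- Elements of `M24` fixing the dodecad of squares and moving a fixed dodecad to the twelve
dodecads that contain the points `0, 1, 2, 3, 4` and meet the dodecad of squares in 6 points. -/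
def table : List ℕ :=
  [984818244535754528103549039458486304,
   222847207303006247497455729996989700,
   983360089569425519238605695676874852,
   735342860436459886973972813711474723,
   811729536426592033622197952425538628,
   731734171484739393705307605875855555,
   944520886938046728837409864667992077,
   936222856396457818630979501627099172,
   811912002641854635909740301124665538,
   425387623188056669996192868233382916,
   425066912619630049396834188179803138,
   485911691544746597528567103223899232]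

/-- One step of the check. -/
def stepOk (m : ℕ) : Bool :=
  !(Nat.beq (m &&& 31) 31) || !(Nat.beq (popcount m) 12) || !(Nat.beq (popcount (340831 &&& m)) 6)
    || table.any fun P => Nat.beq (pimg P 11649183) m

theorem table_ok : table.all (fun P => isPerm P && isAut P && Nat.beq (pimg P 340831) 340831)
    = true := by
  decide +kernel

theorem step_ok : ∀ i, i < 2 ^ 12 → stepOk (enc i) = true := by
  apply allR_zero_spec
  decide +kernel

theorem squares_mem : fin 340831 ∈ dodecads := by
  rw [fin_mem_dodecads_iff (by norm_num)]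
  decide +kernel

theorem exists_of_base {c : Finset GolayPt} (hc : c ∈ dodecads) (h6 : (fin 340831 ∩ c).card = 6)
    (hb : ∀ i : Fin 5, pt i ∈ c) :
    ∃ g : Equiv.Perm GolayPt, g ∈ M24 ∧ g • fin 340831 = fin 340831 ∧
      g • fin 11649183 = c := by
  obtain ⟨hc1, hc2⟩ := (mem_dodecads_iff c).1 hc
  obtain ⟨i, hi, hm⟩ := isCode_iff_exists.1 hc1
  have hstep := step_ok i hi
  rw [← hm] at hstep
  set m := maskOf c with hmdef
  have h31 : m &&& 31 = 31 := by
    apply Nat.eq_of_testBit_eq
    intro j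
    rw [Nat.testBit_and]
    by_cases hj : j < 5
    · have h1 : m.testBit (idx (pt j)) = true := by
        rw [testBit_maskOf, decide_eq_true_iff]
        exact hb ⟨j, hj⟩
      rw [idx_pt (by omega)] at h1
      rw [h1, Bool.true_and]
    · have h2 : (31 : ℕ).testBit j = false := by
        apply Nat.testBit_lt_two_pow
        calc 31 < 2 ^ 5 := by norm_num
          _ ≤ 2 ^ j := Nat.pow_le_pow_right (by norm_num) (by omega)
      rw [h2, Bool.and_false]
  have h6' : popcount (340831 &&& m) = 6 := by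
    rw [← card_fin, fin_and, hmdef, fin_maskOf]
    exact h6
  unfold stepOk at hstep
  rw [h31, hc2, h6'] at hstep
  have hany : (table.any fun P => Nat.beq (pimg P 11649183) m) = true := hstep
  obtain ⟨P, hP, hPm⟩ := List.any_eq_true.1 hany
  have hPok := List.all_eq_true.1 table_ok P hP
  rw [Bool.and_eq_true, Bool.and_eq_true] at hPok
  obtain ⟨⟨h1, h2⟩, h3⟩ := hPok
  refine ⟨permOf P h1, permOf_mem_M24 h1 h2, ?_, ?_⟩
  · rw [smul_fin, Nat.eq_of_beq_eq_true h3]
  · rw [smul_fin, Nat.eq_of_beq_eq_true hPm, hmdef, fin_maskOf]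

theorem exists_std {d d' : Finset GolayPt} (hd : d ∈ dodecads) (hd' : d' ∈ dodecads)
    (h : (d ∩ d').card = 6) :
    ∃ g : Equiv.Perm GolayPt, g ∈ M24 ∧ g • fin 340831 = d ∧ g • fin 11649183 = d' := by
  obtain ⟨s, hs, hs5⟩ := Finset.exists_subset_card_eq (s := d ∩ d') (n := 5) (by omega)
  obtain ⟨a, ha, has⟩ := exists_enum s hs5
  have hmem : ∀ i, a i ∈ d ∩ d' := fun i => hs ((has _).2 ⟨i, rfl⟩)
  have hbinj : Function.Injective (fun i : Fin 5 => pt i) := by decide
  have hbase : ∀ i : Fin 5, pt i ∈ fin 340831 := by decide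
  obtain ⟨g, hg, hgd, hgx⟩ := exists_map d (fin 340831) hd squares_mem a (fun i => pt i) ha hbinj
    (fun i => (Finset.mem_inter.1 (hmem i)).1) hbase
  obtain ⟨k, hk, hk1, hk2⟩ := exists_of_base (c := g • d') ((smul_mem_dodecads hg).2 hd')
    (by rw [← hgd, ← Finset.smul_finset_inter, Finset.card_smul_finset, h])
    (by
      intro i
      rw [← hgx i, mem_smul_iff]
      exact (Finset.mem_inter.1 (hmem i)).2)
  refine ⟨g⁻¹ * k, M24.mul_mem (M24.inv_mem hg) hk, ?_, ?_⟩
  · rw [mul_smul, hk1, ← hgd, inv_smul_smul]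
  · rw [mul_smul, hk2, inv_smul_smul]

theorem exists_of_six {d d' d'' : Finset GolayPt} (hd : d ∈ dodecads) (hd' : d' ∈ dodecads)
    (hd'' : d'' ∈ dodecads) (h : (d ∩ d').card = 6) (h' : (d ∩ d'').card = 6) :
    ∃ g : Equiv.Perm GolayPt, g ∈ M24 ∧ g • d = d ∧ g • d' = d'' := by
  obtain ⟨g, hg, hg1, hg2⟩ := exists_std hd hd' h
  obtain ⟨k, hk, hk1, hk2⟩ := exists_std hd hd'' h'
  refine ⟨k * g⁻¹, M24.mul_mem hk (M24.inv_mem hg), ?_, ?_⟩
  · rw [mul_smul]
    nth_rewrite 1 [← hg1]
    rw [inv_smul_smul, hk1]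
  · rw [mul_smul, ← hg2, inv_smul_smul, hk2]

/-! ### The remaining cases -/

theorem univ_mem_supports : (Finset.univ : Finset GolayPt) ∈
    supports (golayCode : Set (GolayPt → ZMod 2)) := by
  have h : Finset.univ = fin 16777215 := by
    ext p
    simp only [Finset.mem_univ, true_iff]
    revert p
    decide
  rw [h, fin_mem_supports_iff (by norm_num)]
  decide +kernel

theorem compl_dodecad {d : Finset GolayPt} (hd : d ∈ dodecads) : dᶜ ∈ dodecads := by
  have h := symmDiff_mem_supports univ_mem_supports hd.1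
  have h2 : symmDiff (Finset.univ : Finset GolayPt) d = dᶜ := by
    ext a
    rw [Finset.mem_symmDiff, Finset.mem_compl]
    simp
  rw [h2] at h
  refine ⟨h, ?_⟩
  have h24 : Fintype.card GolayPt = 24 := by simp [GolayPt, ZMod.card]
  rw [Finset.card_compl, h24, hd.2]

theorem smul_compl (g : Equiv.Perm GolayPt) (s : Finset GolayPt) : g • sᶜ = (g • s)ᶜ := by
  ext p
  obtain ⟨q, rfl⟩ := g.surjective p
  rw [mem_smul_iff, Finset.mem_compl, Finset.mem_compl, mem_smul_iff]

theorem card_inter_compl (d d' : Finset GolayPt) :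
    (d ∩ d'ᶜ).card + (d ∩ d').card = d.card := by
  rw [← Finset.card_sdiff_add_card_inter d d', Finset.sdiff_eq_inter_compl]

theorem eq_of_card_inter {d d' : Finset GolayPt} (hd : d ∈ dodecads) (hd' : d' ∈ dodecads)
    (h : (d ∩ d').card = 12) : d' = d := by
  have h2 : d.card = 12 := hd.2
  have h3 : d'.card = 12 := hd'.2
  have h4 : d ∩ d' = d := Finset.eq_of_subset_of_card_le Finset.inter_subset_left (by omega)
  have h5 : d ∩ d' = d' := Finset.eq_of_subset_of_card_le Finset.inter_subset_right (by omega)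
  rw [← h5, h4]

/-- Two dodecads meeting a fixed dodecad in equally many points lie in one orbit of its stabiliser. -/
theorem result (d d' d'' : Finset Cfsg.GolayPt) (hd : d ∈ Cfsg.dodecads) (hd' : d' ∈ Cfsg.dodecads) (hd'' : d'' ∈ Cfsg.dodecads) (h : (d ∩ d').card = (d ∩ d'').card) : ∃ g : Equiv.Perm Cfsg.GolayPt, g ∈ Cfsg.M24 ∧ g • d = d ∧ g • d' = d'' := by
  have h12 : d.card = 12 := hd.2
  have h12' : d'.card = 12 := hd'.2
  have h1 := card_inter_compl d d'
  have h2 := card_inter_compl d d''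
  have hcases : (d ∩ d').card = 0 ∨ (d ∩ d').card = 4 ∨ (d ∩ d').card = 6 ∨
      (d ∩ d').card = 8 ∨ (d ∩ d').card = 12 := by
    have h3 := card_of_mem_supports (symmDiff_mem_supports hd.1 hd'.1)
    have h4 := card_symmDiff_add d d'
    omega
  rcases hcases with h0 | h4 | h6 | h8 | h12c
  · have e1 : d'ᶜ = d := eq_of_card_inter hd (compl_dodecad hd') (by omega)
    have e2 : d''ᶜ = d := eq_of_card_inter hd (compl_dodecad hd'') (by omega)
    refine ⟨1, M24.one_mem, one_smul _ _, ?_⟩
    rw [one_smul]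
    exact compl_injective (e1.trans e2.symm)
  · obtain ⟨g, hg, hg1, hg2⟩ := exists_of_eight hd (compl_dodecad hd') (compl_dodecad hd'')
      (by omega) (by omega)
    refine ⟨g, hg, hg1, ?_⟩
    apply compl_injective
    rw [← smul_compl, hg2]
  · exact exists_of_six hd hd' hd'' h6 (by omega)
  · exact exists_of_eight hd hd' hd'' h8 (by omega)
  · have e1 : d' = d := eq_of_card_inter hd hd' h12c
    have e2 : d'' = d := eq_of_card_inter hd hd'' (by omega)
    refine ⟨1, M24.one_mem, one_smul _ _, ?_⟩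
    rw [one_smul, e1, e2]

end Cfsg.Agent.S1561
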