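import Cfsg.Statements.S1565
import Cfsg.Agent.S0352
import Cfsg.Agent.S0363
import Cfsg.Agent.S0367
import Cfsg.Agent.S1556

set_option autoImplicit false
open scoped Pointwise
open Cfsg

namespace Cfsg.Agent.S1565

/-- Support of the sum of three generating words. -/
def tri (a b c : ZMod 23) : Finset GolayPt := support₂ (qrWord a + qrWord b + qrWord c)

theorem tri_mem (a b c : ZMod 23) (h : (tri a b c).card = 8) : tri a b c ∈ octads := by
  have hq : ∀ t : ZMod 23, qrWord t ∈ golayCode := fun t =>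
    Submodule.subset_span (Or.inl ⟨t, rfl⟩)
  exact ⟨⟨_, Submodule.add_mem _ (Submodule.add_mem _ (hq a) (hq b)) (hq c), rfl⟩, h⟩

theorem smul_octad (g : M24) {b : Finset GolayPt} (hb : b ∈ octads) : g • b ∈ octads := by
  obtain ⟨h1, h2⟩ := hb
  refine ⟨?_, ?_⟩
  · have hg := MulAction.mem_stabilizer_iff.mp g.2
    have : (g : Equiv.Perm GolayPt) • b ∈
        (g : Equiv.Perm GolayPt) • supports (golayCode : Set (GolayPt → ZMod 2)) :=
      Set.smul_mem_smul_set h1
    rw [hg] at this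
    exact this
  · rw [← h2]; exact Finset.card_smul_finset _ _

theorem card_smul_inter (g : M24) (b c : Finset GolayPt) :
    (g • b ∩ g • c).card = (b ∩ c).card := by
  rw [← Finset.smul_finset_inter]; exact Finset.card_smul_finset _ _

/-- `InOrb K o c`: the octad `c` is in the `K`-orbit of `o`. -/
def InOrb (K : Subgroup M24) (o c : Finset GolayPt) : Prop := ∃ k ∈ K, k • o = c

/-- All octads meeting a member of the orbit in `i` points are in the orbit. -/
def R (K : Subgroup M24) (o : Finset GolayPt) (i : ℕ) : Prop :=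
  ∀ b c, c ∈ octads → InOrb K o b → (b ∩ c).card = i → InOrb K o c

theorem R_of_inOrb (K : Subgroup M24) (o : Finset GolayPt) (ho : o ∈ octads)
    (hK : MulAction.stabilizer M24 o ≤ K) (c' : Finset GolayPt) (hc' : c' ∈ octads)
    (h : InOrb K o c') (i : ℕ) (hi : (o ∩ c').card = i) : R K o i := by
  rintro b c hc ⟨k, hk, rfl⟩ hbc
  have h1 : k⁻¹ • c ∈ octads := smul_octad _ hc
  have h2 : (o ∩ c').card = (o ∩ k⁻¹ • c).card := by
    rw [hi, ← hbc, ← card_smul_inter k⁻¹ (k • o) c, inv_smul_smul]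
  obtain ⟨g, hg, hgo, hgc⟩ := Cfsg.Agent.S1556.result o c' (k⁻¹ • c) ho hc' h1 h2
  obtain ⟨k', hk', rfl⟩ := h
  have hgK : (⟨g, hg⟩ : M24) ∈ K := hK (MulAction.mem_stabilizer_iff.mpr hgo)
  refine ⟨k * (⟨g, hg⟩ * k'), K.mul_mem hk (K.mul_mem hgK hk'), ?_⟩
  rw [mul_smul, mul_smul]
  have : (⟨g, hg⟩ : M24) • k' • o = k⁻¹ • c := hgc
  rw [this, smul_inv_smul]

theorem R_step (K : Subgroup M24) (o : Finset GolayPt) (ho : o ∈ octads)
    (hK : MulAction.stabilizer M24 o ≤ K) (o₁ d₁ c₁ : Finset GolayPt)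
    (ho₁ : o₁ ∈ octads) (hd₁ : d₁ ∈ octads) (hc₁ : c₁ ∈ octads) (i i' j : ℕ)
    (h1 : (o₁ ∩ d₁).card = i) (h2 : (d₁ ∩ c₁).card = i') (h3 : (o₁ ∩ c₁).card = j)
    (hi : R K o i) (hi' : R K o i') : R K o j := by
  obtain ⟨m, rfl⟩ := Cfsg.Agent.S0367.result o₁ o ho₁ ho
  have hd : InOrb K (m • o₁) (m • d₁) :=
    hi (m • o₁) (m • d₁) (smul_octad _ hd₁) ⟨1, K.one_mem, one_smul _ _⟩
      (by rw [card_smul_inter, h1])
  have hc : InOrb K (m • o₁) (m • c₁) :=
    hi' (m • d₁) (m • c₁) (smul_octad _ hc₁) hd (by rw [card_smul_inter, h2])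
  exact R_of_inOrb K _ ho hK (m • c₁) (smul_octad _ hc₁) hc j (by rw [card_smul_inter, h3])

theorem mA : tri 0 1 4 ∈ octads := tri_mem _ _ _ (by decide +kernel)
theorem mB : tri 0 9 22 ∈ octads := tri_mem _ _ _ (by decide +kernel)
theorem mC : tri 0 2 10 ∈ octads := tri_mem _ _ _ (by decide +kernel)
theorem mD : tri 0 1 6 ∈ octads := tri_mem _ _ _ (by decide +kernel)
theorem mE : tri 2 14 22 ∈ octads := tri_mem _ _ _ (by decide +kernel)
theorem mF : tri 0 1 5 ∈ octads := tri_mem _ _ _ (by decide +kernel)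
theorem mG : tri 1 5 15 ∈ octads := tri_mem _ _ _ (by decide +kernel)

theorem R_all (K : Subgroup M24) (o : Finset GolayPt) (ho : o ∈ octads)
    (hK : MulAction.stabilizer M24 o ≤ K) (h : R K o 0 ∨ R K o 2 ∨ R K o 4) :
    R K o 0 ∧ R K o 2 ∧ R K o 4 := by
  have s004 : R K o 0 → R K o 4 := fun h0 =>
    R_step K o ho hK _ _ _ mA mB mC 0 0 4 (by decide +kernel) (by decide +kernel)
      (by decide +kernel) h0 h0
  have s442 : R K o 4 → R K o 2 := fun h4 =>
    R_step K o ho hK _ _ _ mA mC mD 4 4 2 (by decide +kernel) (by decide +kernel)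
      (by decide +kernel) h4 h4
  have s440 : R K o 4 → R K o 0 := fun h4 =>
    R_step K o ho hK _ _ _ mA mC mE 4 4 0 (by decide +kernel) (by decide +kernel)
      (by decide +kernel) h4 h4
  have s224 : R K o 2 → R K o 4 := fun h2 =>
    R_step K o ho hK _ _ _ mA mF mC 2 2 4 (by decide +kernel) (by decide +kernel)
      (by decide +kernel) h2 h2
  rcases h with h | h | h
  · exact ⟨h, s442 (s004 h), s004 h⟩
  · exact ⟨s440 (s224 h), h, s224 h⟩
  · exact ⟨s440 h, s442 h, h⟩

theorem inter_card {b c : Finset GolayPt} (hb : b ∈ octads) (hc : c ∈ octads) (hbc : b ≠ c) :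
    (b ∩ c).card = 0 ∨ (b ∩ c).card = 2 ∨ (b ∩ c).card = 4 :=
  Cfsg.Agent.S0352.result (by decide +kernel) Cfsg.Agent.S0363.result hb hc hbc

/-- The stabiliser of an octad is a maximal proper subgroup of the group of the length-24 code. -/
theorem result (o : Finset Cfsg.GolayPt) (ho : o ∈ Cfsg.octads) : IsCoatom (MulAction.stabilizer Cfsg.M24 o) := by
  constructor
  · intro htop
    obtain ⟨x, hx⟩ := Cfsg.Agent.S0367.result o (tri 0 1 4) ho mA
    obtain ⟨y, hy⟩ := Cfsg.Agent.S0367.result o (tri 0 9 22) ho mB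
    have hx' : x • o = o := by
      have : x ∈ MulAction.stabilizer Cfsg.M24 o := by rw [htop]; trivial
      exact this
    have hy' : y • o = o := by
      have : y ∈ MulAction.stabilizer Cfsg.M24 o := by rw [htop]; trivial
      exact this
    have : tri 0 1 4 = tri 0 9 22 := by rw [← hx, ← hy, hx', hy']
    exact absurd this (by decide +kernel)
  · intro K hHK
    obtain ⟨g, hgK, hg⟩ := SetLike.exists_of_lt hHK
    have hK : MulAction.stabilizer M24 o ≤ K := hHK.le
    have hne : o ≠ g • o := fun h => hg (MulAction.mem_stabilizer_iff.mpr h.symm)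
    have hgo : g • o ∈ octads := smul_octad _ ho
    have hor : R K o 0 ∨ R K o 2 ∨ R K o 4 := by
      rcases inter_card ho hgo hne with h | h | h
      · exact Or.inl (R_of_inOrb K o ho hK _ hgo ⟨g, hgK, rfl⟩ _ h)
      · exact Or.inr (Or.inl (R_of_inOrb K o ho hK _ hgo ⟨g, hgK, rfl⟩ _ h))
      · exact Or.inr (Or.inr (R_of_inOrb K o ho hK _ hgo ⟨g, hgK, rfl⟩ _ h))
    obtain ⟨h0, h2, h4⟩ := R_all K o ho hK hor
    have hall : ∀ c ∈ octads, InOrb K o c := by
      intro c hc
      have ho1 : InOrb K o o := ⟨1, K.one_mem, one_smul _ _⟩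
      by_cases hoc : o = c
      · exact hoc ▸ ho1
      · rcases inter_card ho hc hoc with h | h | h
        · exact h0 o c hc ho1 h
        · exact h2 o c hc ho1 h
        · exact h4 o c hc ho1 h
    rw [eq_top_iff]
    intro m _
    obtain ⟨k, hk, hkm⟩ := hall (m • o) (smul_octad _ ho)
    have : k⁻¹ * m ∈ K := hK (MulAction.mem_stabilizer_iff.mpr (by
      rw [mul_smul, ← hkm, inv_smul_smul]))
    have h := K.mul_mem hk this
    rwa [mul_inv_cancel_left] at h

end Cfsg.Agent.S1565
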