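import Cfsg.Statements.S1578
import Cfsg.Agent.Leech.Co3Count
import Cfsg.Agent.S0401

set_option autoImplicit false
open Cfsg

namespace Cfsg.Agent.S1578

open Cfsg.Agent.Leech.Co3Count

/-- `u0` as an element of the lattice. -/
def u0L : ↥leechLattice := ⟨u0, u0_mem⟩

theorem smul_sub' (g : Co0) (v w : leechLattice) : g • (v - w) = g • v - g • w := by
  have hadd := g.2.1
  have h := hadd (v - w) w
  have : g • v = g • (v - w) + g • w := by
    conv_lhs => rw [← sub_add_cancel v w]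
    exact h
  rw [this, add_sub_cancel_right]

theorem sqNorm_smul (g : Co0) (v : leechLattice) :
    sqNorm ((g • v : leechLattice) : GolayPt → ℤ) = sqNorm (v : GolayPt → ℤ) := g.2.2 v

theorem card_u0 : {v : ↥Cfsg.leechLattice | Cfsg.sqNorm (v : Cfsg.GolayPt → ℤ) = 32 ∧
    Cfsg.sqNorm ((u0L - v) : Cfsg.GolayPt → ℤ) = 32}.ncard = 552 := by
  rw [← ncard_552, ← Set.ncard_image_of_injective _ (Subtype.val_injective)]
  congr 1
  ext x
  simp only [Set.mem_image, Set.mem_ofPred_eq]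
  constructor
  · rintro ⟨v, ⟨h1, h2⟩, rfl⟩
    refine ⟨v.2, h1, ?_⟩
    change sqNorm (u0 - (v : GolayPt → ℤ)) = 32 at h2
    rw [sqNorm_sub, sqNorm_u0, h1] at h2
    linarith
  · rintro ⟨h1, h2, h3⟩
    refine ⟨⟨x, h1⟩, ⟨h2, ?_⟩, rfl⟩
    change sqNorm (u0 - x) = 32
    rw [sqNorm_sub, sqNorm_u0, h3, h2]; norm_num

/-- A lattice vector of customary norm 6 is the sum of an unordered pair of minimal vectors in exactly 276 ways (552 ordered summands). -/
theorem result (u : ↥Cfsg.leechLattice) (hu : Cfsg.sqNorm (u : Cfsg.GolayPt → ℤ) = 48) : {v : ↥Cfsg.leechLattice | Cfsg.sqNorm (v : Cfsg.GolayPt → ℤ) = 32 ∧ Cfsg.sqNorm ((u - v) : Cfsg.GolayPt → ℤ) = 32}.ncard = 552 := by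
  obtain ⟨g, hg⟩ := S0401.result u0L u sqNorm_u0 hu
  have key : ∀ v : leechLattice, sqNorm ((u - g • v : leechLattice) : GolayPt → ℤ) =
      sqNorm ((u0L - v : leechLattice) : GolayPt → ℤ) := by
    intro v
    rw [← hg, ← smul_sub', sqNorm_smul]
  have himg : {v : ↥Cfsg.leechLattice | Cfsg.sqNorm (v : Cfsg.GolayPt → ℤ) = 32 ∧
      Cfsg.sqNorm ((u - v) : Cfsg.GolayPt → ℤ) = 32} =
      (fun v => g • v) '' {v : ↥Cfsg.leechLattice | Cfsg.sqNorm (v : Cfsg.GolayPt → ℤ) = 32 ∧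
        Cfsg.sqNorm ((u0L - v) : Cfsg.GolayPt → ℤ) = 32} := by
    ext x
    simp only [Set.mem_image, Set.mem_ofPred_eq]
    constructor
    · rintro ⟨h1, h2⟩
      refine ⟨g⁻¹ • x, ⟨?_, ?_⟩, by simp⟩
      · rw [sqNorm_smul]; exact h1
      · have := key (g⁻¹ • x)
        rw [smul_inv_smul] at this
        exact this.symm.trans h2
    · rintro ⟨v, ⟨h1, h2⟩, rfl⟩
      refine ⟨?_, ?_⟩
      · rw [sqNorm_smul]; exact h1
      · exact (key v).trans h2
  rw [himg, Set.ncard_image_of_injective _ (MulAction.injective g), card_u0]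

end Cfsg.Agent.S1578
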