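import Cfsg.Statements.S1581
import Cfsg.Agent.LeechMat.McLConfig

set_option autoImplicit false
open Cfsg

namespace Cfsg.Agent.S1581

open Cfsg.Agent.LeechMat.Core Cfsg.Agent.LeechMat.McLOrbits Cfsg.Agent.LeechMat.McLEnum
  Cfsg.Agent.LeechMat.McLConfig

/-- The McLaughlin group acts with rank 3 and subdegrees 1, 112, 162 on its 275 points: the point stabiliser has two orbits on the remaining points, distinguished by customary inner product 1 or 2 with the fixed point. -/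
theorem result (u v x : ↥Cfsg.leechLattice) (hu : Cfsg.sqNorm (u : Cfsg.GolayPt → ℤ) = 48) (hv : Cfsg.sqNorm (v : Cfsg.GolayPt → ℤ) = 32 ∧ Cfsg.sqNorm ((u - v) : Cfsg.GolayPt → ℤ) = 32) (hx : x ∈ {x : ↥Cfsg.leechLattice | Cfsg.sqNorm (x : Cfsg.GolayPt → ℤ) = 32 ∧ Cfsg.sqNorm ((u - x) : Cfsg.GolayPt → ℤ) = 32 ∧ Cfsg.dotInt (v : Cfsg.GolayPt → ℤ) (x : Cfsg.GolayPt → ℤ) = 16}) : {y : ↥Cfsg.leechLattice | y ∈ {x : ↥Cfsg.leechLattice | Cfsg.sqNorm (x : Cfsg.GolayPt → ℤ) = 32 ∧ Cfsg.sqNorm ((u - x) : Cfsg.GolayPt → ℤ) = 32 ∧ Cfsg.dotInt (v : Cfsg.GolayPt → ℤ) (x : Cfsg.GolayPt → ℤ) = 16} ∧ Cfsg.dotInt (x : Cfsg.GolayPt → ℤ) (y : Cfsg.GolayPt → ℤ) = 8}.ncard = 112 ∧ {y : ↥Cfsg.leechLattice | y ∈ {x : ↥Cfsg.leechLattice | Cfsg.sqNorm (x : Cfsg.GolayPt → ℤ) = 32 ∧ Cfsg.sqNorm ((u - x) : Cfsg.GolayPt → ℤ) = 32 ∧ Cfsg.dotInt (v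 : Cfsg.GolayPt → ℤ) (x : Cfsg.GolayPt → ℤ) = 16} ∧ y ≠ x ∧ Cfsg.dotInt (x : Cfsg.GolayPt → ℤ) (y : Cfsg.GolayPt → ℤ) = 16}.ncard = 162 ∧ ∀ y ∈ {x : ↥Cfsg.leechLattice | Cfsg.sqNorm (x : Cfsg.GolayPt → ℤ) = 32 ∧ Cfsg.sqNorm ((u - x) : Cfsg.GolayPt → ℤ) = 32 ∧ Cfsg.dotInt (v : Cfsg.GolayPt → ℤ) (x : Cfsg.GolayPt → ℤ) = 16}, ∀ y' ∈ {x : ↥Cfsg.leechLattice | Cfsg.sqNorm (x : Cfsg.GolayPt → ℤ) = 32 ∧ Cfsg.sqNorm ((u - x) : Cfsg.GolayPt → ℤ) = 32 ∧ Cfsg.dotInt (v : Cfsg.GolayPt → ℤ) (x : Cfsg.GolayPt → ℤ) = 16}, y ≠ x → y' ≠ x → Cfsg.dotInt (x : Cfsg.GolayPt → ℤ) (y : Cfsg.GolayPt → ℤ) = Cfsg.dotInt (x : Cfsg.GolayPt → ℤ) (y' : Cfsg.GolayPt → ℤ) → ∃ g : ↥Cfsg.Co0, g • u = u ∧ g • v = v ∧ g • x = x ∧ g • y = y' := by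
  obtain ⟨b, hb1, hb2, hb3⟩ := config3 hu hv hx
  have hdot : ∀ y : leechLattice, dotInt (x : GolayPt → ℤ) (y : GolayPt → ℤ) =
      dotInt (xL : GolayPt → ℤ) ((b • y : leechLattice) : GolayPt → ℤ) := by
    intro y; rw [← hb3, co0_dotInt]
  have hne : ∀ y : leechLattice, y ≠ x ↔ b • y ≠ xL := by
    intro y
    rw [← hb3, not_iff_not]
    exact (MulAction.injective b).eq_iff.symm
  refine ⟨?_, ?_, ?_⟩
  · rw [← ncard1, ← Set.ncard_image_of_injective _ (MulAction.injective b)]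
    congr 1
    ext z
    constructor
    · rintro ⟨y, ⟨hy1, hy2⟩, rfl⟩
      exact ⟨(mem_iff hb1 hb2 y).1 hy1, by rw [← hdot]; exact hy2⟩
    · rintro ⟨hz1, hz2⟩
      refine ⟨b⁻¹ • z, ⟨(mem_iff hb1 hb2 _).2 (by rw [smul_inv_smul]; exact hz1), ?_⟩,
        smul_inv_smul b z⟩
      rw [hdot, smul_inv_smul]; exact hz2
  · rw [← ncard2, ← Set.ncard_image_of_injective _ (MulAction.injective b)]
    congr 1
    ext z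
    constructor
    · rintro ⟨y, ⟨hy1, hy2, hy3⟩, rfl⟩
      exact ⟨(mem_iff hb1 hb2 y).1 hy1, (hne y).1 hy2, by rw [← hdot]; exact hy3⟩
    · rintro ⟨hz1, hz2, hz3⟩
      refine ⟨b⁻¹ • z, ⟨(mem_iff hb1 hb2 _).2 (by rw [smul_inv_smul]; exact hz1), ?_, ?_⟩,
        smul_inv_smul b z⟩
      · rw [hne, smul_inv_smul]; exact hz2
      · rw [hdot, smul_inv_smul]; exact hz3
  · intro y hy y' hy' hyx hyx' hd
    obtain ⟨g, hg, hgy⟩ := trans_std ((mem_iff hb1 hb2 y).1 hy) ((mem_iff hb1 hb2 y').1 hy')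
      ((hne y).1 hyx) ((hne y').1 hyx') (by rw [← hdot, ← hdot]; exact hd)
    obtain ⟨g1, g2, g3⟩ := mem_S3.1 hg
    refine ⟨b⁻¹ * g * b, ?_, ?_, ?_, ?_⟩
    · rw [mul_smul, mul_smul, hb1, g1, inv_smul_eq_iff, hb1]
    · rw [mul_smul, mul_smul, hb2, g2, inv_smul_eq_iff, hb2]
    · rw [mul_smul, mul_smul, hb3, g3, inv_smul_eq_iff, hb3]
    · rw [mul_smul, mul_smul, hgy, inv_smul_smul]

end Cfsg.Agent.S1581
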