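import Cfsg.Statements.S1582
import Cfsg.Agent.S0280
import Cfsg.Agent.S0395
import Cfsg.Agent.S0397
import Cfsg.Agent.S0401
import Cfsg.Agent.S1578
import Cfsg.Agent.S1579
import Cfsg.Agent.S1580
import Cfsg.Agent.SporadicStructure.U43Final

set_option autoImplicit false
open Cfsg

namespace Cfsg.Agent.S1582

open Cfsg.Agent.SporadicStructure.U43Leech Cfsg.Agent.SporadicStructure.U43Final
  Cfsg.Agent.SporadicStructure.FieldNine

theorem card_co0 : Nat.card Co0 = 8315553613086720000 := Cfsg.Agent.S0397.result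

theorem coe_smul_sub (g : Co0) (a b : leechLattice) : g • (a - b) = g • a - g • b := by
  rw [sub_eq_add_neg, sub_eq_add_neg, Cfsg.Agent.LeechMat.Core.co0_smul_add,
    Cfsg.Agent.LeechMat.Core.co0_smul_neg]

theorem sqNorm_smul (g : Co0) (v : leechLattice) :
    sqNorm ((g • v : leechLattice) : GolayPt → ℤ) = sqNorm (v : GolayPt → ℤ) := g.2.2 v

/-- `v0` and `x0` complete `u0` to a sum of minimal vectors. -/
theorem norm_u0_sub {v : leechLattice} (hv : sqNorm (v : GolayPt → ℤ) = 32)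
    (h : dotInt (u0 : GolayPt → ℤ) (v : GolayPt → ℤ) = 24) :
    sqNorm ((u0 - v : leechLattice) : GolayPt → ℤ) = 32 := by
  rw [AddSubgroup.coe_sub, Cfsg.Agent.LeechMat.Core.sqNorm_sub, sqNorm_u0, hv, h]
  norm_num

theorem card_psu : Nat.card (Cfsg.PSU 4 K9 3) ≤ 3265920 := by
  have h := Cfsg.Agent.S0280.result (F := K9) (q := 3) K9.card_K9' 4 (by norm_num)
  have h1 : Nat.gcd 4 (3 + 1) = 4 := by decide
  have h2 : 3 ^ (4 * (4 - 1) / 2) * ∏ i ∈ Finset.range 4,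
      (if Even i then 3 ^ (i + 1) + 1 else 3 ^ (i + 1) - 1) = 52254720 := by decide
  rw [h1, h2] at h
  omega

theorem finite_co0 : Finite Co0 :=
  Nat.finite_of_card_ne_zero (by rw [card_co0]; norm_num)

/-- The order of the joint stabiliser. -/
theorem card_G0 : Nat.card G0 = 3265920 := by
  have hfin : Finite Co0 := finite_co0
  -- first level: the vectors of norm 48
  have c1 : ({w : leechLattice | sqNorm (w : GolayPt → ℤ) = 48}).ncard = 16773120 := by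
    rw [← Cfsg.Agent.S0395.result,
      ← Set.ncard_image_of_injective {w : leechLattice | sqNorm (w : GolayPt → ℤ) = 48}
        Subtype.val_injective]
    congr 1
    ext y
    constructor
    · rintro ⟨w, hw, rfl⟩
      exact ⟨w.2, hw⟩
    · rintro ⟨hy, hy'⟩
      exact ⟨⟨y, hy⟩, hy', rfl⟩
  have e1 := ncard_mul_card_inf (⊤ : Subgroup Co0) u0
    {w : leechLattice | sqNorm (w : GolayPt → ℤ) = 48}
    (fun g _ => (sqNorm_smul g u0).trans sqNorm_u0)
    (fun y hy => by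
      obtain ⟨g, hg⟩ := Cfsg.Agent.S0401.result u0 y sqNorm_u0 hy
      exact ⟨g, trivial, hg⟩)
  -- second level: 552 vectors
  have e2 := ncard_mul_card_inf (MulAction.stabilizer Co0 u0) v0
    {v : leechLattice | sqNorm (v : GolayPt → ℤ) = 32 ∧
      sqNorm ((u0 - v) : GolayPt → ℤ) = 32}
    (fun g hg => by
      refine ⟨(sqNorm_smul g v0).trans sqNorm_v0, ?_⟩
      have h1 : g • u0 = u0 := hg
      have h2 : u0 - g • v0 = g • (u0 - v0) := by rw [coe_smul_sub, h1]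
      change sqNorm ((u0 - g • v0 : leechLattice) : GolayPt → ℤ) = 32
      rw [h2, sqNorm_smul]
      exact norm_u0_sub sqNorm_v0 dot_u0_v0)
    (fun y hy => by
      obtain ⟨g, hg, hg'⟩ := Cfsg.Agent.S1579.result u0 v0 y sqNorm_u0
        ⟨sqNorm_v0, norm_u0_sub sqNorm_v0 dot_u0_v0⟩ hy
      exact ⟨g, hg, hg'⟩)
  -- third level: 275 vectors
  have t3 := Cfsg.Agent.S1580.result u0 v0 sqNorm_u0
    ⟨sqNorm_v0, norm_u0_sub sqNorm_v0 dot_u0_v0⟩
  have hx0 : x0 ∈ {x : leechLattice | sqNorm (x : GolayPt → ℤ) = 32 ∧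
      sqNorm ((u0 - x) : GolayPt → ℤ) = 32 ∧
      dotInt (v0 : GolayPt → ℤ) (x : GolayPt → ℤ) = 16} :=
    ⟨sqNorm_x0, norm_u0_sub sqNorm_x0 dot_u0_x0, dot_v0_x0⟩
  have e3 := ncard_mul_card_inf (MulAction.stabilizer Co0 u0 ⊓ MulAction.stabilizer Co0 v0) x0
    {x : leechLattice | sqNorm (x : GolayPt → ℤ) = 32 ∧
      sqNorm ((u0 - x) : GolayPt → ℤ) = 32 ∧
      dotInt (v0 : GolayPt → ℤ) (x : GolayPt → ℤ) = 16}
    (fun g hg => by
      have h1 : g • u0 = u0 := hg.1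
      have h1' : g • v0 = v0 := hg.2
      refine ⟨(sqNorm_smul g x0).trans sqNorm_x0, ?_, ?_⟩
      · have h2 : u0 - g • x0 = g • (u0 - x0) := by rw [coe_smul_sub, h1]
        change sqNorm ((u0 - g • x0 : leechLattice) : GolayPt → ℤ) = 32
        rw [h2, sqNorm_smul]
        exact norm_u0_sub sqNorm_x0 dot_u0_x0
      · have h2 := Cfsg.Agent.LeechMat.Core.co0_dotInt g v0 x0
        rw [h1'] at h2
        rw [h2, dot_v0_x0])
    (fun y hy => by
      obtain ⟨g, hg1, hg2, hg3⟩ := t3.2 x0 hx0 y hy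
      exact ⟨g, ⟨hg1, hg2⟩, hg3⟩)
  rw [t3.1] at e3
  rw [Cfsg.Agent.S1578.result u0 sqNorm_u0] at e2
  rw [c1, top_inf_eq, Subgroup.card_top, card_co0] at e1
  change Nat.card ↥(MulAction.stabilizer Co0 u0 ⊓ MulAction.stabilizer Co0 v0 ⊓
    MulAction.stabilizer Co0 x0) = 3265920
  omega

/-- The point stabiliser in the rank-3 action of the McLaughlin group on 275 points is isomorphic to PSU(4, 3). -/
theorem result (u v x : ↥Cfsg.leechLattice) (hu : Cfsg.sqNorm (u : Cfsg.GolayPt → ℤ) = 48) (hv : Cfsg.sqNorm (v : Cfsg.GolayPt → ℤ) = 32 ∧ Cfsg.sqNorm ((u - v) : Cfsg.GolayPt → ℤ) = 32) (hx : x ∈ {x : ↥Cfsg.leechLattice | Cfsg.sqNorm (x : Cfsg.GolayPt → ℤ) = 32 ∧ Cfsg.sqNorm ((u - x) : Cfsg.GolayPt → ℤ) = 32 ∧ Cfsg.dotInt (v : Cfsg.GolayPt → ℤ) (x : Cfsg.GolayPt → ℤ) = 16}) (F : Type) [Field F] [Fintype F] (hF : Fintype.card F = 9) : Nonempty (↥(MulAction.stabilizer ↥Cfsg.Co0 u ⊓ MulAction.stabilizer ↥Cfsg.Co0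 v ⊓ MulAction.stabilizer ↥Cfsg.Co0 x) ≃* Cfsg.PSU 4 F 3) := by
  have hfin : Finite Co0 := finite_co0
  -- move the triple to the standard one
  obtain ⟨a, ha⟩ := Cfsg.Agent.S0401.result u u0 hu sqNorm_u0
  have hav : sqNorm ((a • v : leechLattice) : GolayPt → ℤ) = 32 ∧
      sqNorm ((u0 - a • v : leechLattice) : GolayPt → ℤ) = 32 := by
    refine ⟨(sqNorm_smul a v).trans hv.1, ?_⟩
    rw [← ha, ← coe_smul_sub, sqNorm_smul]
    exact hv.2
  obtain ⟨b, hb, hbv⟩ := Cfsg.Agent.S1579.result u0 (a • v) v0 sqNorm_u0 hav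
    ⟨sqNorm_v0, norm_u0_sub sqNorm_v0 dot_u0_v0⟩
  have hbu' : (b * a) • u = u0 := by rw [mul_smul, ha, hb]
  have hbv' : (b * a) • v = v0 := by rw [mul_smul, hbv]
  have hx' : (b * a) • x ∈ {x : leechLattice | sqNorm (x : GolayPt → ℤ) = 32 ∧
      sqNorm ((u0 - x) : GolayPt → ℤ) = 32 ∧
      dotInt (v0 : GolayPt → ℤ) (x : GolayPt → ℤ) = 16} := by
    refine ⟨(sqNorm_smul _ x).trans hx.1, ?_, ?_⟩
    · change sqNorm ((u0 - (b * a) • x : leechLattice) : GolayPt → ℤ) = 32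
      rw [← hbu', ← coe_smul_sub, sqNorm_smul]
      exact hx.2.1
    · rw [← hbv', Cfsg.Agent.LeechMat.Core.co0_dotInt]
      exact hx.2.2
  have t3 := Cfsg.Agent.S1580.result u0 v0 sqNorm_u0
    ⟨sqNorm_v0, norm_u0_sub sqNorm_v0 dot_u0_v0⟩
  obtain ⟨c, hc1, hc2, hc3⟩ := t3.2 _ hx' x0
    ⟨sqNorm_x0, norm_u0_sub sqNorm_x0 dot_u0_x0, dot_v0_x0⟩
  obtain ⟨e⟩ := nonempty_stab_equiv (c * (b * a)) u v x u0 v0 x0
    (by rw [mul_smul, hbu', hc1]) (by rw [mul_smul, hbv', hc2]) (by rw [mul_smul, hc3])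
  obtain ⟨e'⟩ := G0_iso_field card_G0.le card_psu F hF
  exact ⟨e.trans e'⟩

end Cfsg.Agent.S1582
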