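import Cfsg.Statements.S1640
import Cfsg.Agent.Leech.Dot16Count
import Cfsg.Agent.Leech.Dot16Trans
import Cfsg.Agent.S0401

set_option autoImplicit false
open Cfsg

namespace Cfsg.Agent.S1640

open Cfsg.Agent.Leech.Dot16 Cfsg.Agent.Leech.Dot16Count Cfsg.Agent.Leech.Dot16Trans
  Cfsg.Agent.Leech.Basic Cfsg.Agent.Leech.Co0Elts

theorem sqNorm_uv (d : GolayPt) : sqNorm (uv d) = 48 := by
  have : ∀ i, uv d i ^ 2 = if i = d then 25 else 1 := by
    intro i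
    simp only [uv]
    split_ifs <;> norm_num
  unfold sqNorm
  rw [Finset.sum_congr rfl fun i _ => this i, sum_if_eq]
  norm_num

/-- The stabiliser of a vector of customary norm 6 is transitive on the 11178 minimal vectors of customary inner product −2 with it. -/
theorem result (u : ↥Cfsg.leechLattice) (hu : Cfsg.sqNorm (u : Cfsg.GolayPt → ℤ) = 48) : {x : ↥Cfsg.leechLattice | Cfsg.sqNorm (x : Cfsg.GolayPt → ℤ) = 32 ∧ Cfsg.dotInt (u : Cfsg.GolayPt → ℤ) (x : Cfsg.GolayPt → ℤ) = -16}.ncard = 11178 ∧ ∀ x ∈ {x : ↥Cfsg.leechLattice | Cfsg.sqNorm (x : Cfsg.GolayPt → ℤ) = 32 ∧ Cfsg.dotInt (u : Cfsg.GolayPt → ℤ) (x : Cfsg.GolayPt → ℤ) = -16}, ∀ x' ∈ {x : ↥Cfsg.leechLattice | Cfsg.sqNorm (x : Cfsg.GolayPt → ℤ) = 32 ∧ Cfsg.dotInt (u : Cfsg.GolayPt → ℤ) (x : Cfsg.GolayPt → ℤ) = -16}, ∃ g : ↥Cfsg.Co0, g • u = u ∧ g • x = x' := by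
  have h48 : sqNorm ((-U none : leechLattice) : GolayPt → ℤ) = 48 := by
    rw [AddSubgroup.coe_neg, sqNorm_neg]
    exact sqNorm_uv none
  obtain ⟨g0, hg0⟩ := Cfsg.Agent.S0401.result u (-U none) hu h48
  have hgood : ∀ x : leechLattice, (sqNorm (x : GolayPt → ℤ) = 32 ∧
      dotInt (u : GolayPt → ℤ) (x : GolayPt → ℤ) = -16) ↔ Good none (g0 • x) := by
    intro x
    have h1 : sqNorm ((g0 • x : leechLattice) : GolayPt → ℤ) = sqNorm (x : GolayPt → ℤ) :=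
      sqNorm_smul g0 x
    have h2 : dotInt (uv none) ((g0 • x : leechLattice) : GolayPt → ℤ) =
        - dotInt (u : GolayPt → ℤ) (x : GolayPt → ℤ) := by
      rw [← dotInt_smul g0 u x, hg0, AddSubgroup.coe_neg, dotInt_neg_left, U_coe, neg_neg]
    unfold Good
    rw [h1, h2]
    constructor
    · rintro ⟨h3, h4⟩; exact ⟨h3, by rw [h4]; norm_num⟩
    · rintro ⟨h3, h4⟩; exact ⟨h3, by linarith⟩
  refine ⟨?_, ?_⟩
  · rw [← ncard_16]
    have hinj : Function.Injective fun x : leechLattice => ((g0 • x : leechLattice) : GolayPt → ℤ) :=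
      fun x y h => MulAction.injective g0 (Subtype.ext h)
    rw [← Set.ncard_image_of_injective _ hinj]
    congr 1
    ext y
    constructor
    · rintro ⟨x, hx, rfl⟩
      have := (hgood x).1 hx
      exact ⟨(mem_leech_iff _).1 (g0 • x).2, this.1, this.2⟩
    · rintro ⟨h1, h2, h3⟩
      refine ⟨g0⁻¹ • ⟨y, (mem_leech_iff _).2 h1⟩, (hgood _).2 ?_, ?_⟩
      · rw [smul_inv_smul]
        exact ⟨h2, h3⟩
      · simp only [smul_inv_smul]
  · intro x hx x' hx'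
    obtain ⟨a, ha1, ha2⟩ := rel_std ((hgood x).1 hx)
    obtain ⟨b, hb1, hb2⟩ := rel_std ((hgood x').1 hx')
    refine ⟨g0⁻¹ * b⁻¹ * a * g0, ?_, ?_⟩
    · rw [mul_smul, mul_smul, mul_smul, hg0, smul_neg_co0, ha1, inv_smul_eq_iff, hg0,
        inv_smul_eq_iff, smul_neg_co0, hb1]
    · rw [mul_smul, mul_smul, mul_smul, ha2, inv_smul_eq_iff, inv_smul_eq_iff, hb2]

end Cfsg.Agent.S1640
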