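import Cfsg.Statements.S1585
import Cfsg.Agent.S0401
import Cfsg.Agent.S1640

set_option autoImplicit false
open Cfsg

namespace Cfsg.Agent.S1585

/-- Elements of `Co0` are additive. -/
theorem smul_add' (g : ↥Cfsg.Co0) (x y : ↥Cfsg.leechLattice) :
    g • (x + y) = g • x + g • y := g.2.1 x y

theorem smul_neg' (g : ↥Cfsg.Co0) (x : ↥Cfsg.leechLattice) :
    g • (-x) = -(g • x) := by
  have h0 : g • (0 : ↥Cfsg.leechLattice) = 0 := by
    have h := smul_add' g 0 0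
    rw [add_zero] at h
    exact left_eq_add.mp h
  have h : g • (x + -x) = g • x + g • (-x) := smul_add' g x (-x)
  rw [add_neg_cancel, h0] at h
  exact (neg_eq_of_add_eq_zero_right h.symm).symm

theorem sqNorm_smul' (g : ↥Cfsg.Co0) (x : ↥Cfsg.leechLattice) :
    Cfsg.sqNorm ((g • x : ↥Cfsg.leechLattice) : Cfsg.GolayPt → ℤ) =
      Cfsg.sqNorm (x : Cfsg.GolayPt → ℤ) := g.2.2 x

theorem sqNorm_add' (x y : Cfsg.GolayPt → ℤ) :
    Cfsg.sqNorm (x + y) = Cfsg.sqNorm x + 2 * Cfsg.dotInt x y + Cfsg.sqNorm y := by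
  show ∑ i, (x + y) i ^ 2 = ∑ i, x i ^ 2 + 2 * ∑ i, x i * y i + ∑ i, y i ^ 2
  rw [Finset.mul_sum, ← Finset.sum_add_distrib, ← Finset.sum_add_distrib]
  refine Finset.sum_congr rfl fun i _ => ?_
  rw [Pi.add_apply]; ring

theorem sqNorm_neg' (x : Cfsg.GolayPt → ℤ) : Cfsg.sqNorm (-x) = Cfsg.sqNorm x := by
  show ∑ i, (-x) i ^ 2 = ∑ i, x i ^ 2
  refine Finset.sum_congr rfl fun i _ => ?_
  rw [Pi.neg_apply]; ring

theorem dotInt_smul' (g : ↥Cfsg.Co0) (x y : ↥Cfsg.leechLattice) :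
    Cfsg.dotInt ((g • x : ↥Cfsg.leechLattice) : Cfsg.GolayPt → ℤ)
        ((g • y : ↥Cfsg.leechLattice) : Cfsg.GolayPt → ℤ) =
      Cfsg.dotInt (x : Cfsg.GolayPt → ℤ) (y : Cfsg.GolayPt → ℤ) := by
  have h1 := sqNorm_smul' g (x + y)
  rw [smul_add', AddSubgroup.coe_add, AddSubgroup.coe_add, sqNorm_add', sqNorm_add',
    sqNorm_smul', sqNorm_smul'] at h1
  linarith

theorem dotInt_neg_add (x y : Cfsg.GolayPt → ℤ) :
    Cfsg.dotInt x (-(x + y)) = -(Cfsg.sqNorm x) - Cfsg.dotInt x y := by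
  show ∑ i, x i * (-(x + y)) i = -(∑ i, x i ^ 2) - ∑ i, x i * y i
  rw [← Finset.sum_neg_distrib, ← Finset.sum_sub_distrib]
  refine Finset.sum_congr rfl fun i _ => ?_
  rw [Pi.neg_apply, Pi.add_apply]; ring

theorem dotInt_comm' (x y : Cfsg.GolayPt → ℤ) :
    Cfsg.dotInt x y = Cfsg.dotInt y x := by
  show ∑ i, x i * y i = ∑ i, y i * x i
  exact Finset.sum_congr rfl fun i _ => mul_comm _ _

/-- Two vectors of customary norm 6 with inner product −4 are exchanged by some automorphism of the lattice. -/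
theorem result (v w : ↥Cfsg.leechLattice) (hv : Cfsg.sqNorm (v : Cfsg.GolayPt → ℤ) = 48) (hw : Cfsg.sqNorm (w : Cfsg.GolayPt → ℤ) = 48) (hvw : Cfsg.dotInt (v : Cfsg.GolayPt → ℤ) (w : Cfsg.GolayPt → ℤ) = -32) : ∃ g : ↥Cfsg.Co0, g • v = w ∧ g • w = v := by
  obtain ⟨g, hg⟩ := Cfsg.Agent.S0401.result v w hv hw
  set x : ↥Cfsg.leechLattice := -(v + w) with hx
  have hxn : Cfsg.sqNorm (x : Cfsg.GolayPt → ℤ) = 32 := by
    rw [hx, AddSubgroup.coe_neg, AddSubgroup.coe_add, sqNorm_neg', sqNorm_add', hv, hw, hvw]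
    norm_num
  have hvx : Cfsg.dotInt (v : Cfsg.GolayPt → ℤ) (x : Cfsg.GolayPt → ℤ) = -16 := by
    rw [hx, AddSubgroup.coe_neg, AddSubgroup.coe_add, dotInt_neg_add, hv, hvw]
    norm_num
  have hwx : Cfsg.dotInt (w : Cfsg.GolayPt → ℤ) (x : Cfsg.GolayPt → ℤ) = -16 := by
    rw [hx, AddSubgroup.coe_neg, AddSubgroup.coe_add,
      add_comm (v : Cfsg.GolayPt → ℤ), dotInt_neg_add, hw, dotInt_comm', hvw]
    norm_num
  have hgx : Cfsg.sqNorm ((g • x : ↥Cfsg.leechLattice) : Cfsg.GolayPt → ℤ) = 32 := by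
    rw [sqNorm_smul', hxn]
  have hwgx : Cfsg.dotInt (w : Cfsg.GolayPt → ℤ)
      ((g • x : ↥Cfsg.leechLattice) : Cfsg.GolayPt → ℤ) = -16 := by
    rw [← hg, dotInt_smul', hvx]
  obtain ⟨h, hh1, hh2⟩ := (Cfsg.Agent.S1640.result w hw).2 (g • x) ⟨hgx, hwgx⟩ x ⟨hxn, hwx⟩
  refine ⟨h * g, ?_, ?_⟩
  · rw [mul_smul, hg, hh1]
  · have hw' : w = -(v + x) := by rw [hx]; abel
    have hv' : v = -(w + x) := by rw [hx]; abel
    calc (h * g) • w = (h * g) • (-(v + x)) := by rw [← hw']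
      _ = -((h * g) • v + (h * g) • x) := by rw [smul_neg', smul_add']
      _ = -(w + x) := by rw [mul_smul, mul_smul, hg, hh1, hh2]
      _ = v := hv'.symm

end Cfsg.Agent.S1585
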