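import Cfsg.Statements.S1595
import Cfsg.Agent.SporadicStructure.SteinerCount

set_option autoImplicit false
open Cfsg

namespace Cfsg.Agent.S1595

/-- Leech triangle of S(5, 6, 12): blocks meet in 0, 2, 3 or 4 points, and a block is met exactly in a given 2-, 3- or 4-subset by 3, 2, 3 blocks respectively. -/
theorem result {α : Type*} [Fintype α] [DecidableEq α] (hα : Fintype.card α = 12) {B : Set (Finset α)} (hB : Cfsg.IsSteinerSystem 5 6 B) (b : Finset α) (hb : b ∈ B) : (∀ c ∈ B, c ≠ b → (b ∩ c).card = 0 ∨ (b ∩ c).card = 2 ∨ (b ∩ c).card = 3 ∨ (b ∩ c).card = 4) ∧ ∀ s ⊆ b, (s.card = 2 → {c : Finset α | c ∈ B ∧ b ∩ c = s}.ncard = 3) ∧ (s.card = 3 → {c : Finset α | c ∈ B ∧ b ∩ c = s}.ncard = 2) ∧ (s.card = 4 → {c : Finset α | c ∈ B ∧ b ∩ c = s}.ncard = 3) := by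
  classical
  set 𝓑 : Finset (Finset α) := Finset.univ.filter (· ∈ B) with h𝓑
  have mem𝓑 : ∀ c, c ∈ 𝓑 ↔ c ∈ B := fun c => by simp [h𝓑]
  have hk : ∀ c ∈ 𝓑, c.card = 6 := fun c hc => hB.1 c ((mem𝓑 c).1 hc)
  have h5 : ∀ s : Finset α, s.card = 5 → (𝓑.filter (fun c => s ⊆ c)).card = 1 := by
    intro s hs
    obtain ⟨c, ⟨hc1, hc2⟩, huniq⟩ := hB.2 s hs
    rw [Finset.card_eq_one]
    refine ⟨c, ?_⟩
    ext d
    simp only [Finset.mem_filter, Finset.mem_singleton, mem𝓑]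
    exact ⟨fun h => huniq d h, fun h => h ▸ ⟨hc1, hc2⟩⟩
  have hex := Cfsg.Agent.SporadicStructure.SteinerCount.card_exact hα 𝓑 hk h5 b ((mem𝓑 b).2 hb)
  have hncard : ∀ s : Finset α, {c : Finset α | c ∈ B ∧ b ∩ c = s}.ncard =
      (𝓑.filter (fun c => b ∩ c = s)).card := by
    intro s
    rw [← Set.ncard_coe_finset]
    congr 1
    ext c
    simp [mem𝓑]
  refine ⟨?_, ?_⟩
  · intro c hc hne
    have h := hex (b ∩ c) Finset.inter_subset_left
    have hpos : 0 < (𝓑.filter (fun d => b ∩ d = b ∩ c)).card :=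
      Finset.card_pos.2 ⟨c, by simp [mem𝓑, hc]⟩
    have hle : (b ∩ c).card ≤ 6 := by
      rw [← hB.1 b hb]; exact Finset.card_le_card Finset.inter_subset_left
    have h6 : (b ∩ c).card ≠ 6 := by
      intro h6
      have e1 : b ∩ c = b := Finset.eq_of_subset_of_card_le Finset.inter_subset_left
        (by rw [hB.1 b hb, h6])
      have e2 : b ∩ c = c := Finset.eq_of_subset_of_card_le Finset.inter_subset_right
        (by rw [hB.1 c hc, h6])
      exact hne (e2.symm.trans e1)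
    rw [h] at hpos
    generalize (b ∩ c).card = j at hpos hle h6
    interval_cases j <;> simp_all
  · intro s hs
    rw [hncard s, hex s hs]
    refine ⟨fun h => ?_, fun h => ?_, fun h => ?_⟩ <;> rw [h] <;> rfl

end Cfsg.Agent.S1595
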