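import Cfsg.Statements.S1601
import Cfsg.Agent.Lib.SL2Lift
import Cfsg.Agent.SporadicA.M11Comp
import Cfsg.Agent.SporadicA.GolayPerm
import Cfsg.Agent.S0243
import Cfsg.Agent.S0387
import Cfsg.Agent.S0389

set_option autoImplicit false
open scoped Pointwise
open Cfsg

namespace Cfsg.Agent.S1601

open Cfsg.Agent.SporadicA.M11Comp Cfsg.Agent.Lib.SL2Lift

instance fact_eleven : Fact (Nat.Prime 11) := ⟨by norm_num⟩

/-- doubling, an element of order 11 -/
def u : M24 := ⟨dbl, dbl_mem⟩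

/-- the cube twist, an element of order 5 -/
noncomputable def c : M24 := ⟨cubeTwist, Cfsg.Agent.S0373.result⟩

/-- packed form of the involution `w` -/
def wP : ℕ := 969958826742993894265839954570609728

theorem wP_perm : SporadicA.GolayPerm.isPerm wP = true := by decide +kernel

theorem wP_aut : SporadicA.GolayPerm.isAut wP = true := by decide +kernel

/-- the involution -/
noncomputable def w : M24 :=
  ⟨SporadicA.GolayPerm.permOf wP wP_perm, SporadicA.GolayPerm.permOf_mem_M24 wP_perm wP_aut⟩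

theorem ext_M24 {a b : M24} (h : ∀ p : GolayPt, (a : Equiv.Perm GolayPt) p = (b : Equiv.Perm GolayPt) p) :
    a = b := Subtype.ext (Equiv.ext h)

theorem u_pow : u ^ 11 = 1 := by
  apply ext_M24
  decide +kernel

theorem c_pow : c ^ 5 = 1 := by
  apply ext_M24
  decide +kernel

theorem c_u : c * u = u ^ 3 * c := by
  apply ext_M24
  decide +kernel

theorem w_c : w * c = c ^ 4 * w := by
  apply ext_M24
  decide +kernel

theorem w_w : w * w = 1 := by
  apply ext_M24
  decide +kernel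

/-- exponent of `c` attached to a residue modulo 11 -/
def kk (a : ZMod 11) : ℕ :=
  if a = 2 ∨ a = 9 then 4 else if a = 3 ∨ a = 8 then 2 else if a = 4 ∨ a = 7 then 3
  else if a = 5 ∨ a = 6 then 1 else 0

/-- the root elements -/
def xx (t : ZMod 11) : M24 := u ^ t.val

/-- the torus elements -/
noncomputable def hh (a : ZMod 11) : M24 := c ^ kk a

theorem xx_add (s t : ZMod 11) : xx (s + t) = xx s * xx t := by
  unfold xx
  rw [ZMod.val_add, ← pow_add]
  conv_rhs => rw [pow_eq_pow_mod _ u_pow]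

theorem hh_mul (a b : ZMod 11) (ha : a ≠ 0) (hb : b ≠ 0) : hh (a * b) = hh a * hh b := by
  have h : ∀ a b : ZMod 11, a ≠ 0 → b ≠ 0 → kk (a * b) = (kk a + kk b) % 5 := by decide
  unfold hh
  rw [h a b ha hb, ← pow_add]
  conv_rhs => rw [pow_eq_pow_mod _ c_pow]

theorem c_upow (m : ℕ) : c * u ^ m = u ^ (3 * m) * c := by
  induction m with
  | zero => simp
  | succ m ih => rw [pow_succ, ← mul_assoc, ih, mul_assoc, c_u, ← mul_assoc, ← pow_add]; rfl

theorem cpow_upow (k m : ℕ) : c ^ k * u ^ m = u ^ (3 ^ k * m) * c ^ k := by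
  induction k with
  | zero => simp
  | succ k ih =>
    rw [pow_succ', mul_assoc, ih, ← mul_assoc, c_upow, mul_assoc]
    congr 2
    ring

theorem w_cpow (k : ℕ) : w * c ^ k = c ^ (4 * k) * w := by
  induction k with
  | zero => simp
  | succ k ih => rw [pow_succ, ← mul_assoc, ih, mul_assoc, w_c, ← mul_assoc, ← pow_add]; rfl

theorem conj_xx (a t : ZMod 11) (ha : a ≠ 0) : hh a * xx t = xx (a ^ 2 * t) * hh a := by
  have h : ∀ a t : ZMod 11, a ≠ 0 → (a ^ 2 * t).val = (3 ^ kk a * t.val) % 11 := by decide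
  unfold hh xx
  rw [cpow_upow, h a t ha]
  congr 1
  exact pow_eq_pow_mod _ u_pow

theorem w_hh (a : ZMod 11) (ha : a ≠ 0) : w * hh a = hh a⁻¹ * w := by
  have h : ∀ a : ZMod 11, a ≠ 0 → kk a⁻¹ = (4 * kk a) % 5 := by decide +kernel
  unfold hh
  rw [w_cpow, h a ha]
  congr 1
  exact pow_eq_pow_mod _ c_pow

theorem w_x_w (t : ZMod 11) (ht : t ≠ 0) :
    w * xx t * w = xx (-t⁻¹) * hh (-t⁻¹) * w * xx (-t⁻¹) := by
  apply ext_M24
  revert t
  decide +kernel

theorem rel : Rel xx hh w where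
  add := xx_add
  mul := hh_mul
  conj := conj_xx
  wh := w_hh
  ww := by rw [w_w]; rfl
  wx := w_x_w

theorem ker_cond (t a : ZMod 11) (ha : a ≠ 0) (h : xx t * hh a = 1) : t = 0 ∧ a ^ 2 = 1 := by
  have h1 : ∀ t a : ZMod 11, a ≠ 0 →
      (((xx t * hh a : M24) : Equiv.Perm GolayPt) (some 3) = some 3 ∧
      ((xx t * hh a : M24) : Equiv.Perm GolayPt) (some 1) = some 1) → t = 0 ∧ a ^ 2 = 1 := by
    decide +kernel
  apply h1 t a ha
  rw [h]
  exact ⟨rfl, rfl⟩

theorem w_cond (t a : ZMod 11) (ha : a ≠ 0) : xx t * hh a ≠ w := by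
  have h1 : ∀ t a : ZMod 11, a ≠ 0 →
      ¬ (((xx t * hh a : M24) : Equiv.Perm GolayPt) (some 3) = (w : Equiv.Perm GolayPt) (some 3) ∧
      ((xx t * hh a : M24) : Equiv.Perm GolayPt) (some 1) = (w : Equiv.Perm GolayPt) (some 1) ∧
      ((xx t * hh a : M24) : Equiv.Perm GolayPt) (some 2) = (w : Equiv.Perm GolayPt) (some 2)) := by
    decide +kernel
  intro h
  apply h1 t a ha
  rw [h]
  exact ⟨rfl, rfl, rfl⟩

/-- The standard copy: the stabiliser of the dodecad of squares, of `0` and of `∞`. -/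
def H0 : Subgroup M24 :=
  MulAction.stabilizer M24 sqD ⊓ MulAction.stabilizer M24 (some 0 : GolayPt) ⊓
    MulAction.stabilizer M24 (none : GolayPt)

theorem mem_H0_of {g : Equiv.Perm GolayPt} (hg : g ∈ K) (h : g none = none) :
    (⟨g, hg.1⟩ : M24) ∈ H0 := by
  have hs : (⟨g, hg.1⟩ : M24) ∈ MulAction.stabilizer M24 sqD := by
    rw [MulAction.mem_stabilizer_finset']
    exact fun x hx => hg.2.1 x hx
  exact ⟨⟨hs, hg.2.2⟩, h⟩

theorem w_mem_K : (w : Equiv.Perm GolayPt) ∈ K := by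
  refine ⟨w.2, ?_, by decide +kernel⟩
  simp only [mem_sqD]
  decide +kernel

theorem range_le : (hom rel).range ≤ H0 := by
  rintro _ ⟨g, rfl⟩
  apply hom_mem
  · intro t
    exact H0.pow_mem (mem_H0_of dbl_mem_K (by decide +kernel)) _
  · intro a _
    exact H0.pow_mem (mem_H0_of cub_mem_K (by decide +kernel)) _
  · exact mem_H0_of w_mem_K (by decide +kernel)

theorem card_PSL : Nat.card (Matrix.ProjectiveSpecialLinearGroup (Fin 2) (ZMod 11)) = 660 := by
  have h := Cfsg.Agent.S0243.result (F := ZMod 11) (q := 11) (ZMod.card 11) 2 le_rfl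
  rw [Fin.prod_univ_two] at h
  have h' : 2 * (10 * Nat.card (Matrix.ProjectiveSpecialLinearGroup (Fin 2) (ZMod 11))) = 13200 := h
  omega

theorem card_H0 : Nat.card H0 = 660 := by
  let M11 : Subgroup M24 := MulAction.stabilizer M24 sqD ⊓ MulAction.stabilizer M24 (some 0 : GolayPt)
  have h0 : (some 0 : GolayPt) ∈ sqD := by rw [mem_sqD]; decide
  have hM : Nat.card M11 = 7920 := Cfsg.Agent.S0387.result sqD sqD_mem_dodecads (some 0) h0
  have hnone : (none : GolayPt) ∉ sqD := by rw [mem_sqD]; decide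
  have horb : MulAction.orbit M11 (none : GolayPt) = (↑(sqDᶜ) : Set GolayPt) := by
    ext y
    rw [Finset.coe_compl, Set.mem_compl_iff, Finset.mem_coe]
    constructor
    · rintro ⟨g, rfl⟩ hy
      have hg : (g : M24) • sqD = sqD := g.2.1
      have h1 : (g : M24) • (none : GolayPt) ∈ (g : M24) • sqD := by rw [hg]; exact hy
      rw [Finset.smul_mem_smul_finset_iff] at h1
      exact hnone h1
    · intro hy
      obtain ⟨g, hg, h⟩ := step1 y hy
      refine ⟨⟨⟨g, hg.1⟩, ?_, hg.2.2⟩, h⟩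
      show (⟨g, hg.1⟩ : M24) ∈ MulAction.stabilizer M24 sqD
      rw [MulAction.mem_stabilizer_finset']
      exact fun x hx => hg.2.1 x hx
  have hcard : Nat.card (MulAction.orbit M11 (none : GolayPt)) = 12 := by
    rw [horb, Nat.card_eq_fintype_card]
    simp only [Finset.coe_sort_coe, Fintype.card_coe, Finset.card_compl, sqD_mem_dodecads.2]
    rfl
  have hprod := Nat.card_congr (MulAction.orbitProdStabilizerEquivGroup M11 (none : GolayPt))
  rw [Nat.card_prod, hcard, hM] at hprod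
  have hst : Nat.card (MulAction.stabilizer M11 (none : GolayPt)) = Nat.card H0 := by
    refine Nat.card_congr ⟨fun x => ⟨x.1.1, x.1.2, x.2⟩, fun y => ⟨⟨y.1, y.2.1⟩, y.2.2⟩, ?_, ?_⟩
    · intro x; rfl
    · intro y; rfl
  omega

theorem range_eq : (hom rel).range = H0 := by
  obtain ⟨e⟩ := psl_equiv_range rel rfl ker_cond w_cond
  apply Subgroup.eq_of_le_of_card_ge range_le
  rw [card_H0, ← Nat.card_congr e.toEquiv, card_PSL]

theorem equiv_H0 : Nonempty (H0 ≃* Matrix.ProjectiveSpecialLinearGroup (Fin 2) (ZMod 11)) := by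
  obtain ⟨e⟩ := psl_equiv_range rel rfl ker_cond w_cond
  rw [range_eq] at e
  exact ⟨e.symm⟩

theorem exists_flag (d : Finset Cfsg.GolayPt) (hd : d ∈ Cfsg.dodecads) (p q : Cfsg.GolayPt)
    (hp : p ∈ d) (hq : q ∉ d) : ∃ g : M24, g • sqD = d ∧ g • (some 0 : GolayPt) = p ∧
      g • (none : GolayPt) = q := by
  obtain ⟨g, hg, hgp⟩ := Cfsg.Agent.S0389.exists_flag d hd p hp
  have hq' : g⁻¹ • q ∉ sqD := by
    intro h
    have h1 : g • g⁻¹ • q ∈ g • sqD := Finset.smul_mem_smul_finset h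
    rw [smul_inv_smul, hg] at h1
    exact hq h1
  obtain ⟨k, hk, hkq⟩ := step1 _ hq'
  refine ⟨g * ⟨k, hk.1⟩, ?_, ?_, ?_⟩
  · have hs : (⟨k, hk.1⟩ : M24) ∈ MulAction.stabilizer M24 sqD := by
      rw [MulAction.mem_stabilizer_finset']
      exact fun x hx => hk.2.1 x hx
    have hs' : (⟨k, hk.1⟩ : M24) • sqD = sqD := hs
    rw [mul_smul, hs', hg]
  · have h : (⟨k, hk.1⟩ : M24) • (some 0 : GolayPt) = some 0 := hk.2.2
    rw [mul_smul, h]
    exact hgp
  · have h : (⟨k, hk.1⟩ : M24) • (none : GolayPt) = g⁻¹ • q := hkq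
    rw [mul_smul, h, smul_inv_smul]

/-- In the 3-transitive action of the smallest Mathieu group on the complementary dodecad, a point stabiliser is isomorphic to PSL(2, 11). -/
theorem result (d : Finset Cfsg.GolayPt) (hd : d ∈ Cfsg.dodecads) (p q : Cfsg.GolayPt) (hp : p ∈ d) (hq : q ∉ d) : Nonempty (↥(MulAction.stabilizer Cfsg.M24 d ⊓ MulAction.stabilizer Cfsg.M24 p ⊓ MulAction.stabilizer Cfsg.M24 q) ≃* Matrix.ProjectiveSpecialLinearGroup (Fin 2) (ZMod 11)) := by
  obtain ⟨g, rfl, rfl, rfl⟩ := exists_flag d hd p q hp hq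
  obtain ⟨e⟩ := equiv_H0
  have h : MulAction.stabilizer M24 (g • sqD) ⊓ MulAction.stabilizer M24 (g • (some 0 : GolayPt)) ⊓
      MulAction.stabilizer M24 (g • (none : GolayPt)) = H0.map (MulAut.conj g).toMonoidHom := by
    rw [MulAction.stabilizer_smul_eq_stabilizer_map_conj,
      MulAction.stabilizer_smul_eq_stabilizer_map_conj,
      MulAction.stabilizer_smul_eq_stabilizer_map_conj, H0,
      Subgroup.map_inf _ _ _ (MulAut.conj g).injective,
      Subgroup.map_inf _ _ _ (MulAut.conj g).injective]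
  rw [h]
  exact ⟨(H0.equivMapOfInjective _ (MulAut.conj g).injective).symm.trans e⟩

end Cfsg.Agent.S1601
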