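import Cfsg.Statements.S1605
import Cfsg.Agent.GolayOrbit.Heptads

set_option autoImplicit false
open scoped Pointwise
open Cfsg

namespace Cfsg.Agent.S1605

open Cfsg.Agent.GolayOrbit.Basic Cfsg.Agent.GolayOrbit.Code Cfsg.Agent.GolayOrbit.Walk
  Cfsg.Agent.GolayOrbit.Cover Cfsg.Agent.GolayOrbit.Flags Cfsg.Agent.GolayOrbit

theorem count_eq {g : Equiv.Perm GolayPt} (hg : g ∈ M24) {p q : GolayPt} {o : Finset GolayPt}
    (hp : g p₀ = p) (hq : g q₁ = q) (ho : g • ofMask O₀ = o) (c : ℕ) :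
    {x : Finset GolayPt | (x ∈ octads ∧ p ∈ x ∧ q ∉ x) ∧ (o ∩ x).card = c}.ncard =
      {x : Finset GolayPt | x ∈ octads ∧ (p₀ ∈ x ∧ q₁ ∉ x) ∧ (ofMask O₀ ∩ x).card = c}.ncard := by
  symm
  apply ncard_eq_of_smul g
  intro x
  subst hp hq ho
  have h1 : g p₀ ∈ g • x ↔ p₀ ∈ x := Finset.smul_mem_smul_finset_iff g
  have h2 : g q₁ ∈ g • x ↔ q₁ ∈ x := Finset.smul_mem_smul_finset_iff g
  show _ ∧ (_ ∧ _) ∧ _ ↔ (_ ∧ _ ∧ _) ∧ _
  rw [smul_mem_octads_iff hg, h1, h2, ← Finset.smul_finset_inter, Finset.card_smul_finset]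
  tauto

theorem count0_eq {g : Equiv.Perm GolayPt} (hg : g ∈ M24) {p q : GolayPt}
    (hp : g p₀ = p) (hq : g q₁ = q) :
    {x : Finset GolayPt | x ∈ octads ∧ p ∈ x ∧ q ∉ x}.ncard =
      {x : Finset GolayPt | x ∈ octads ∧ p₀ ∈ x ∧ q₁ ∉ x}.ncard := by
  symm
  apply ncard_eq_of_smul g
  intro x
  subst hp hq
  have h1 : g p₀ ∈ g • x ↔ p₀ ∈ x := Finset.smul_mem_smul_finset_iff g
  have h2 : g q₁ ∈ g • x ↔ q₁ ∈ x := Finset.smul_mem_smul_finset_iff g
  show _ ∧ _ ∧ _ ↔ _ ∧ _ ∧ _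
  rw [smul_mem_octads_iff hg, h1, h2]

theorem exists_octad_in_out {p q : GolayPt} (hpq : p ≠ q) : ∃ o ∈ octads, p ∈ o ∧ q ∉ o := by
  have h : allBelow 24 (fun i => allBelow 24 fun j => cond (Nat.beq i j) true
      (cond (allB (fun m => cond (bitAt m i) (bitAt m j) true) octadList) false true)) = true := by
    decide +kernel
  have h1 := of_allBelow (of_allBelow h (pos_lt p)) (pos_lt q)
  have h3 : Nat.beq (pos p) (pos q) = false := by
    rcases h : Nat.beq (pos p) (pos q) with _ | _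
    · rfl
    · exact absurd (pos_injective (Nat.eq_of_beq_eq_true h)) hpq
  simp only [h3, cond_false] at h1
  by_contra hne
  push Not at hne
  have h4 : allB (fun m => cond (bitAt m (pos p)) (bitAt m (pos q)) true) octadList = true := by
    have key : ∀ L : List ℕ, (∀ m ∈ L, m ∈ octadList) →
        allB (fun m => cond (bitAt m (pos p)) (bitAt m (pos q)) true) L = true := by
      intro L
      induction L with
      | nil => intro _; rfl
      | cons b bs ih =>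
        intro hL
        show cond (cond (bitAt b (pos p)) (bitAt b (pos q)) true) (allB _ bs) false = true
        rw [ih fun m hm => hL m (List.mem_cons_of_mem _ hm)]
        rcases hb : bitAt b (pos p) with _ | _
        · rfl
        · have h5 := hne (ofMask b) (ofMask_mem_octads (hL b List.mem_cons_self))
            (bitAt_iff.mp hb)
          rw [bitAt_iff.mpr h5]
          rfl
    exact key _ fun _ h => h
  rw [h4] at h1
  exact absurd h1 Bool.false_ne_true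

/-- The two-point stabiliser acts on the 176 octads through the first point avoiding the second with rank 3 and subdegrees 1, 70, 105 (intersections 8, 2, 4). -/
theorem result (p q : Cfsg.GolayPt) (hpq : p ≠ q) : {x : Finset Cfsg.GolayPt | (x ∈ Cfsg.octads ∧ p ∈ x ∧ q ∉ x)}.ncard = 176 ∧ (∀ o o' : Finset Cfsg.GolayPt, (o ∈ Cfsg.octads ∧ p ∈ o ∧ q ∉ o) → (o' ∈ Cfsg.octads ∧ p ∈ o' ∧ q ∉ o') → ∃ g : Equiv.Perm Cfsg.GolayPt, g ∈ Cfsg.M24 ∧ g p = p ∧ g q = q ∧ g • o = o') ∧ ∀ o : Finset Cfsg.GolayPt, (o ∈ Cfsg.octads ∧ p ∈ o ∧ q ∉ o) → {x : Finset Cfsg.GolayPt | (x ∈ Cfsg.octads ∧ p ∈ x ∧ q ∉ x) ∧ (o ∩ x).card = 2}.ncard = 70 ∧ {x : Finset Cfsg.GolayPt | (x ∈ Cfsg.octads ∧ p ∈ x ∧ q ∉ x) ∧ (o ∩ x).card = 4}.ncard = 105 ∧ ∀ o' o'' : Finset Cfsg.GolayPt, (o' ∈ Cfsg.octads ∧ p ∈ o' ∧ q ∉ o') → (o'' ∈ Cfsg.octads ∧ p ∈ o'' ∧ q ∉ o'') → (o ∩ o').card = (o ∩ o'').card → ∃ g : Equiv.Perm Cfsg.GolayPt, g ∈ Cfsg.M24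 ∧ g p = p ∧ g q = q ∧ g • o = o ∧ g • o' = o'' := by
  refine ⟨?_, ?_, ?_⟩
  · obtain ⟨o, ho, hpo, hqo⟩ := exists_octad_in_out hpq
    obtain ⟨g, hg, hgo, hgp, hgq⟩ := flagInOut ho hpo hqo
    rw [count0_eq hg hgp hgq]
    exact Heptads.count0 (by decide +kernel)
  · rintro o o' ⟨ho, hpo, hqo⟩ ⟨ho', hpo', hqo'⟩
    obtain ⟨g, hg, hgo, hgp, hgq⟩ := flagInOut ho hpo hqo
    obtain ⟨k, hk, hko, hkp, hkq⟩ := flagInOut ho' hpo' hqo'
    refine ⟨k * g⁻¹, M24.mul_mem hk (M24.inv_mem hg), ?_, ?_, ?_⟩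
    · have h1 : g.symm p = p₀ := by rw [Equiv.symm_apply_eq, hgp]
      show k (g.symm p) = p
      rw [h1, hkp]
    · have h1 : g.symm q = q₁ := by rw [Equiv.symm_apply_eq, hgq]
      show k (g.symm q) = q
      rw [h1, hkq]
    · rw [mul_smul, ← hgo, inv_smul_smul, hko]
  · rintro o ⟨ho, hpo, hqo⟩
    obtain ⟨g, hg, hgo, hgp, hgq⟩ := flagInOut ho hpo hqo
    refine ⟨?_, ?_, ?_⟩
    · rw [count_eq hg hgp hgq hgo]
      exact Heptads.count (by decide +kernel)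
    · rw [count_eq hg hgp hgq hgo]
      exact Heptads.count (by decide +kernel)
    · rintro o' o'' ⟨ho', hpo', hqo'⟩ ⟨ho'', hpo'', hqo''⟩ h
      have hx' : g⁻¹ • o' ∈ octads := (smul_mem_octads_iff (M24.inv_mem hg) o').mpr ho'
      have hx'' : g⁻¹ • o'' ∈ octads := (smul_mem_octads_iff (M24.inv_mem hg) o'').mpr ho''
      obtain ⟨m, hm, hmo⟩ := exists_of_mem_octads hx'
      obtain ⟨n, hn, hno⟩ := exists_of_mem_octads hx''
      have hgo' : g • ofMask m = o' := by rw [← hmo, smul_inv_smul]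
      have hgo'' : g • ofMask n = o'' := by rw [← hno, smul_inv_smul]
      subst hgo' hgo'' hgp hgq hgo
      have e : ∀ (x : GolayPt) (s : Finset GolayPt), g x ∈ g • s ↔ x ∈ s :=
        fun x s => Finset.smul_mem_smul_finset_iff g
      rw [e] at hpo' hqo' hpo'' hqo''
      rw [← Finset.smul_finset_inter, ← Finset.smul_finset_inter, Finset.card_smul_finset,
        Finset.card_smul_finset] at h
      obtain ⟨k, hk, k1, k2, k3, k4⟩ := Heptads.base hm hn hpo' hqo' hpo'' hqo'' h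
      refine ⟨g * k * g⁻¹, M24.mul_mem (M24.mul_mem hg hk) (M24.inv_mem hg), ?_, ?_, ?_, ?_⟩
      · simp [k1]
      · simp [k2]
      · rw [mul_smul, mul_smul, inv_smul_smul, k3]
      · rw [mul_smul, mul_smul, inv_smul_smul, k4]

end Cfsg.Agent.S1605
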