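import Cfsg.Statements.S1606
import Cfsg.Agent.S0378
import Cfsg.Agent.SporadicStructure.M22NoIndex
import Cfsg.Agent.SporadicStructure.M24Frame

set_option autoImplicit false
open scoped Pointwise
open Cfsg

namespace Cfsg.Agent.S1606

/-- The pointwise stabiliser of an octad in `M24` has order 16. -/
theorem card_fixing_octad {o : Finset GolayPt} (ho : o ∈ octads) :
    Nat.card ↥(M24 ⊓ fixingSubgroup (Equiv.Perm GolayPt) (o : Set GolayPt)) = 16 := by
  classical
  have hc8 : o.card = 8 := ho.2
  have hcompl : (oᶜ : Finset GolayPt).card = 16 := by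
    rw [Finset.card_compl, hc8]; rfl
  obtain ⟨p, hp⟩ : (oᶜ : Finset GolayPt).Nonempty := by
    rw [← Finset.card_pos, hcompl]; norm_num
  rw [Finset.mem_compl] at hp
  have hfix : ∀ g : ↥(M24 ⊓ fixingSubgroup (Equiv.Perm GolayPt) (o : Set GolayPt)),
      ∀ x ∈ o, (g : Equiv.Perm GolayPt) x = x := by
    intro g x hx
    exact (mem_fixingSubgroup_iff (Equiv.Perm GolayPt)).mp g.2.2 x hx
  let F : ↥(M24 ⊓ fixingSubgroup (Equiv.Perm GolayPt) (o : Set GolayPt)) →
      ↥(oᶜ : Finset GolayPt) := fun g => ⟨(g : Equiv.Perm GolayPt) p, by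
    rw [Finset.mem_compl]
    intro h
    have h1 := hfix g _ h
    have h2 := (g : Equiv.Perm GolayPt).injective h1
    rw [h2] at h
    exact hp h⟩
  have hF : Function.Bijective F := by
    constructor
    · intro g h hgh
      have h1 : (g : Equiv.Perm GolayPt) p = (h : Equiv.Perm GolayPt) p := congrArg Subtype.val hgh
      have h2 : ((h : Equiv.Perm GolayPt)⁻¹ * g) = 1 := by
        refine Cfsg.Agent.SporadicStructure.M24Frame.eq_one_of_fix_frame
          (M24.mul_mem (M24.inv_mem h.2.1) g.2.1) ho (subset_refl o) (by rw [hc8]; norm_num) ?_ hp ?_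
        · intro z hz
          rw [Equiv.Perm.mul_apply, hfix g z hz, Equiv.Perm.inv_eq_iff_eq, hfix h z hz]
        · rw [Equiv.Perm.mul_apply, h1, Equiv.Perm.inv_eq_iff_eq]
      exact Subtype.ext (inv_mul_eq_one.mp h2).symm
    · rintro ⟨q, hq⟩
      rw [Finset.mem_compl] at hq
      obtain ⟨g, hg, h1, h2⟩ :=
        Cfsg.Agent.SporadicStructure.M24Frame.exists_fix_octad_map ho hp hq
      refine ⟨⟨g, hg, ?_⟩, Subtype.ext h2⟩
      exact (mem_fixingSubgroup_iff (Equiv.Perm GolayPt)).mpr fun x hx => h1 x hx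
  rw [Nat.card_congr (Equiv.ofBijective F hF), Nat.card_eq_fintype_card, Fintype.card_coe, hcompl]

/-- The stabiliser of two points in the group of the length-24 code has no subgroups of index 56 or 210. -/
theorem result (p q : Cfsg.GolayPt) (hpq : p ≠ q) (H : Subgroup ↥(MulAction.stabilizer Cfsg.M24 p ⊓ MulAction.stabilizer Cfsg.M24 q)) : H.index ≠ 56 ∧ H.index ≠ 210 := by
  open Cfsg.Agent.SporadicStructure.M22Syl11 in
  have hcard := Cfsg.Agent.S0378.result p q hpq
  obtain ⟨a, ha, hp, hq⟩ := exists_move hpq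
  have hG0 : Nat.card G0 = 443520 := by
    rw [← range_emb ha hp hq, ← hcard]
    exact (Nat.card_congr (MonoidHom.ofInjective (emb_injective p q a)).toEquiv).symm
  have hK : H.map (emb p q a) ≤ G0 := by
    rw [← range_emb ha hp hq]; exact Subgroup.map_le_range _ _
  have h := Cfsg.Agent.SporadicStructure.M22NoIndex.card_ne hG0
    (card_fixing_octad Cfsg.Agent.SporadicStructure.M22NoIndex.B_mem) _ hK
  rw [Subgroup.card_map_of_injective (emb_injective p q a)] at h
  have hi := H.card_mul_index
  rw [hcard] at hi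
  constructor
  · intro h56
    rw [h56] at hi
    exact h.1 (by omega)
  · intro h210
    rw [h210] at hi
    exact h.2 (by omega)

end Cfsg.Agent.S1606
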