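import Cfsg.Statements.S1608
import Cfsg.Agent.Golay.Flags

set_option autoImplicit false
open scoped Pointwise
open Cfsg

namespace Cfsg.Agent.S1608

open Cfsg.Agent.Golay.Orbit Cfsg.Agent.Golay.Walk Cfsg.Agent.Golay.OctadList
  Cfsg.Agent.Golay.Flags

/-- first generator of the stabiliser of the antiflag -/
def genA : List ℕ := [
  4, 16384, 128, 1, 131072, 1024, 512, 2048, 262144, 1048576, 64, 8, 4096, 8192, 65536, 32768,
  4194304, 256, 2097152, 2, 32, 16, 524288, 8388608]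

/-- second generator of the stabiliser of the antiflag -/
def genB : List ℕ := [
  8, 32768, 131072, 4, 64, 1048576, 256, 2048, 1024, 128, 32, 16, 65536, 4096, 524288,
  4194304, 8192, 2097152, 1, 2, 262144, 512, 16384, 8388608]

/-- walk through the octads disjoint from the base octad -/
def walk0 : List ℕ := [
  0, 0, 0, 0, 1, 0, 0, 0, 0, 1, 0, 0, 0, 0]

/-- walk through the octads meeting the base octad in two points -/
def walk2 : List ℕ := [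
  0, 0, 0, 0, 1, 0, 0, 0, 0, 1, 0, 0, 0, 0, 1, 0, 0, 0, 0, 1, 0, 0, 0, 0, 1, 0, 0, 0, 0, 1, 0,
  0, 0, 0, 0, 1, 0, 0, 0, 0, 1, 0, 0, 0, 0, 1, 0, 0, 0, 0, 1, 0, 0, 0, 0, 1, 0, 0, 0, 0, 0, 1,
  0, 0, 0, 0, 1, 0, 0, 0, 0, 1, 0, 0, 0, 0, 1, 0, 0, 0, 0, 1, 0, 0, 0, 0, 1, 0, 0, 0, 0, 0, 1,
  0, 0, 0, 0, 1, 0, 0, 0, 0, 1, 0, 0, 0, 0, 1, 0, 0, 0, 0, 1, 0, 0, 0, 0, 1, 0, 0, 0, 0, 0, 1,
  0, 0, 0, 0, 1, 0, 0, 0, 0, 1, 0, 0, 0, 0, 1, 0, 0, 0, 0, 1, 0, 0, 0, 0, 1, 0, 0, 0, 0, 1, 1,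
  1, 0, 0, 0, 0, 1, 0, 0, 0, 0, 0, 1, 1, 1, 0, 0, 0, 0, 0, 1, 0, 0, 0, 0, 1, 0, 0, 0, 0, 1, 0,
  0, 0, 0, 1, 1, 0, 0, 0, 0, 1, 1, 0, 0, 0, 0, 0, 1, 0, 0, 0, 0, 1, 0, 0, 0, 0, 0, 1, 1, 0, 0,
  0, 0, 0, 1, 1, 0, 0, 0, 0, 0, 1, 0, 0, 0, 0, 0, 1, 0, 0, 0, 0, 0, 1, 0, 0, 0, 0, 0, 0, 1, 1,
  1, 0, 0, 0, 0, 0, 0, 1, 0, 0, 0, 0, 1, 1, 0, 0, 0, 0, 0, 0, 0, 1, 0, 0, 0, 0, 0, 0, 1, 1, 0,
  0, 0, 0, 1, 0, 0, 0, 0, 0, 1, 1, 0, 0, 0, 0, 1, 1, 0, 0, 0, 0, 0, 1, 1, 1, 1, 0, 0, 0, 0, 0,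
  0, 1, 0, 0, 0, 1, 0, 0, 0, 0, 0, 0, 0, 0, 1, 0, 0, 0, 0]

/-- walk through the octads meeting the base octad in four points -/
def walk4 : List ℕ := [
  0, 0, 0, 0, 1, 0, 0, 0, 0, 1, 0, 0, 0, 0, 1, 0, 0, 0, 0, 1, 0, 0, 0, 0, 1, 0, 0, 0, 0, 1, 0,
  0, 0, 0, 0, 1, 0, 0, 0, 0, 1, 0, 0, 0, 0, 1, 0, 0, 0, 0, 1, 0, 0, 0, 0, 1, 0, 0, 0, 0, 0, 1,
  0, 0, 0, 0, 1, 0, 0, 0, 0, 1, 0, 0, 0, 0, 1, 0, 0, 0, 0, 0, 1, 0, 0, 0, 0, 0, 1, 0, 0, 0, 0,
  1, 0, 0, 0, 0, 1, 0, 0, 0, 0, 1, 0, 0, 0, 0, 1, 0, 0, 0, 0, 0, 1, 0, 0, 0, 0, 1, 0, 1, 1, 0,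
  0, 0, 0, 1, 1, 0, 0, 0, 0, 1, 1, 0, 0, 0, 0, 1, 0, 1, 1, 0, 0, 0, 0, 1, 1, 0, 0, 0, 0, 1, 0,
  0, 0, 0, 1, 0, 0, 0, 0, 0, 0, 0, 1, 0, 0, 0, 0, 1, 0, 0, 0, 0, 0, 1, 0, 0, 0, 0, 1, 1, 0, 0,
  0, 0, 0, 1, 0, 0, 0, 0, 0, 1, 1, 0, 0, 0, 0, 0, 1, 1, 0, 0, 0, 0, 1, 0, 1, 0, 0, 0, 0, 0, 0,
  1, 0, 0, 0, 0, 1, 0, 0, 0, 0, 0, 0, 1, 1, 0, 0, 0, 0, 0, 0, 1, 0, 1, 0, 0, 1, 1, 0, 0, 0, 0]

/-- base point of the walk -/
def b0 : ℕ := 262637

/-- base point of the walk -/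
def b2 : ℕ := 3416079

/-- base point of the walk -/
def b4 : ℕ := 1302533

theorem reps_flag : Reps (stab [8388608, O0]) [genA, genB] := reps_stab _ _ (by decide +kernel)

theorem cover0 : octadMasks.all (fun m =>
    !(!(Nat.testBit m 23) && Nat.beq (pop 24 (O0 &&& m)) 0) || memB (walk [genA, genB] walk0 b0) m)
    = true := by
  decide +kernel

theorem cover2 : octadMasks.all (fun m =>
    !(!(Nat.testBit m 23) && Nat.beq (pop 24 (O0 &&& m)) 2) || memB (walk [genA, genB] walk2 b2) m)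
    = true := by
  decide +kernel

theorem cover4 : octadMasks.all (fun m =>
    !(!(Nat.testBit m 23) && Nat.beq (pop 24 (O0 &&& m)) 4) || memB (walk [genA, genB] walk4 b4) m)
    = true := by
  decide +kernel

theorem cover8 : octadMasks.all (fun m =>
    (Nat.testBit m 23) || Nat.beq (pop 24 (O0 &&& m)) 0 || Nat.beq (pop 24 (O0 &&& m)) 2 ||
      Nat.beq (pop 24 (O0 &&& m)) 4 ||
      (Nat.beq (pop 24 (O0 &&& m)) 8 && Nat.beq m O0)) = true := by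
  decide +kernel

theorem count0 : (octadMasks.filter (fun m =>
    !(Nat.testBit m 23) && Nat.beq (pop 24 (O0 &&& m)) 0)).length = 15 := by
  decide +kernel

theorem count2 : (octadMasks.filter (fun m =>
    !(Nat.testBit m 23) && Nat.beq (pop 24 (O0 &&& m)) 2)).length = 280 := by
  decide +kernel

theorem count4 : (octadMasks.filter (fun m =>
    !(Nat.testBit m 23) && Nat.beq (pop 24 (O0 &&& m)) 4)).length = 210 := by
  decide +kernel

theorem none_not_mem_fin (m : ℕ) : (none : GolayPt) ∉ fin m ↔ m.testBit 23 = false := by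
  rw [none_mem_fin, Bool.not_eq_true]

theorem ncard_std (k : ℕ) :
    {o' : Finset GolayPt | o' ∈ octads ∧ none ∉ o' ∧ (fin O0 ∩ o').card = k}.ncard =
      (octadMasks.filter (fun m => !(Nat.testBit m 23) && Nat.beq (pop 24 (O0 &&& m)) k)).length := by
  apply ncard_of_list
  · exact octadMasks_nodup.filter _
  · intro m hm
    exact octadMasks_lt m (List.mem_filter.mp hm).1
  · intro o
    constructor
    · rintro ⟨h1, h2, h3⟩
      obtain ⟨m, hm, rfl⟩ := (mem_octads o).mp h1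
      refine ⟨m, List.mem_filter.mpr ⟨hm, ?_⟩, rfl⟩
      rw [none_not_mem_fin] at h2
      rw [← fin_land, card_fin] at h3
      rw [h2, h3]
      exact Nat.beq_refl k
    · rintro ⟨m, hm, rfl⟩
      obtain ⟨h1, h2⟩ := List.mem_filter.mp hm
      rw [Bool.and_eq_true, Bool.not_eq_true'] at h2
      refine ⟨(mem_octads _).mpr ⟨m, h1, rfl⟩, (none_not_mem_fin m).mpr h2.1, ?_⟩
      rw [← fin_land, card_fin]
      exact Nat.eq_of_beq_eq_true h2.2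

theorem std_conj (m m' : ℕ) (hm : m ∈ octadMasks) (hm' : m' ∈ octadMasks)
    (h : Nat.testBit m 23 = false) (h' : Nat.testBit m' 23 = false)
    (hh : pop 24 (O0 &&& m) = pop 24 (O0 &&& m')) :
    ∃ g ∈ stab [8388608, O0], g • fin m = fin m' := by
  have a0 := List.all_eq_true.mp cover0
  have a2 := List.all_eq_true.mp cover2
  have a4 := List.all_eq_true.mp cover4
  have a8 := List.all_eq_true.mp cover8
  have b := a8 m hm
  have b' := a8 m' hm'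
  rw [h, Bool.false_or, Bool.or_eq_true, Bool.or_eq_true, Bool.or_eq_true, Bool.and_eq_true] at b
  rw [h', Bool.false_or, Bool.or_eq_true, Bool.or_eq_true, Bool.or_eq_true, Bool.and_eq_true] at b'
  rcases b with ((b | b) | b) | b
  · have c : pop 24 (O0 &&& m) = 0 := Nat.eq_of_beq_eq_true b
    have c1 := a0 m hm
    have c2 := a0 m' hm'
    rw [h, c] at c1
    rw [h', ← hh, c] at c2
    exact exists_of_mem_walk₂ reps_flag walk0 (by decide +kernel) b0 m m'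
      (mem_of_memB _ _ c1) (mem_of_memB _ _ c2)
  · have c : pop 24 (O0 &&& m) = 2 := Nat.eq_of_beq_eq_true b
    have c1 := a2 m hm
    have c2 := a2 m' hm'
    rw [h, c] at c1
    rw [h', ← hh, c] at c2
    exact exists_of_mem_walk₂ reps_flag walk2 (by decide +kernel) b2 m m'
      (mem_of_memB _ _ c1) (mem_of_memB _ _ c2)
  · have c : pop 24 (O0 &&& m) = 4 := Nat.eq_of_beq_eq_true b
    have c1 := a4 m hm
    have c2 := a4 m' hm'
    rw [h, c] at c1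
    rw [h', ← hh, c] at c2
    exact exists_of_mem_walk₂ reps_flag walk4 (by decide +kernel) b4 m m'
      (mem_of_memB _ _ c1) (mem_of_memB _ _ c2)
  · have c : pop 24 (O0 &&& m) = 8 := Nat.eq_of_beq_eq_true b.1
    rw [← hh, c] at b'
    rcases b' with ((b' | b') | b') | b'
    · exact absurd b' (by decide)
    · exact absurd b' (by decide)
    · exact absurd b' (by decide)
    · have e1 := Nat.eq_of_beq_eq_true b.2
      have e2 := Nat.eq_of_beq_eq_true b'.2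
      exact ⟨1, Subgroup.one_mem _, by rw [one_smul, e1, e2]⟩

/-- The point stabiliser acts on the 506 octads avoiding the point with rank 4 and subdegrees 1, 15, 210, 280, the suborbits being given by intersection size with the fixed octad. -/
theorem result (x : Cfsg.GolayPt) (o : Finset Cfsg.GolayPt) (ho : o ∈ Cfsg.octads) (hx : x ∉ o) : {o' : Finset Cfsg.GolayPt | o' ∈ Cfsg.octads ∧ x ∉ o' ∧ (o ∩ o').card = 0}.ncard = 15 ∧ {o' : Finset Cfsg.GolayPt | o' ∈ Cfsg.octads ∧ x ∉ o' ∧ (o ∩ o').card = 4}.ncard = 210 ∧ {o' : Finset Cfsg.GolayPt | o' ∈ Cfsg.octads ∧ x ∉ o' ∧ (o ∩ o').card = 2}.ncard = 280 ∧ ∀ o' o'' : Finset Cfsg.GolayPt, o' ∈ Cfsg.octads → o'' ∈ Cfsg.octads → x ∉ o' → x ∉ o'' → (o ∩ o').card = (o ∩ o'').card → ∃ g : Equiv.Perm Cfsg.GolayPt, g ∈ Cfsg.M24 ∧ g x = x ∧ g • o = o ∧ g • o' = o'' := by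
  obtain ⟨g, hg, rfl, rfl⟩ := exists_antiflag x o ho hx
  refine ⟨?_, ?_, ?_, ?_⟩
  · rw [transport_not_mem hg, ncard_std, count0]
  · rw [transport_not_mem hg, ncard_std, count4]
  · rw [transport_not_mem hg, ncard_std, count2]
  · intro o' o'' ho' ho'' hx' hx'' hh
    apply transport_conj hg
    obtain ⟨m, hm, h1⟩ := (mem_octads _).mp (smul_mem_octads (M24.inv_mem hg) ho')
    obtain ⟨m', hm', h1'⟩ := (mem_octads _).mp (smul_mem_octads (M24.inv_mem hg) ho'')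
    have h2 : (none : GolayPt) ∉ fin m := by
      rw [← h1, Finset.mem_inv_smul_finset_iff]; exact hx'
    have h2' : (none : GolayPt) ∉ fin m' := by
      rw [← h1', Finset.mem_inv_smul_finset_iff]; exact hx''
    have h3 : pop 24 (O0 &&& m) = pop 24 (O0 &&& m') := by
      rw [← card_fin, ← card_fin, fin_land, fin_land, ← h1, ← h1', ← card_smul_inter g,
        ← card_smul_inter g (fin O0) (g⁻¹ • o''), smul_inv_smul, smul_inv_smul]
      exact hh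
    obtain ⟨k, hk, h4⟩ := std_conj m m' hm hm' ((none_not_mem_fin m).mp h2)
      ((none_not_mem_fin m').mp h2') h3
    rw [mem_stab] at hk
    refine ⟨k, hk.1, fix_none (hk.2 _ (by simp)), hk.2 _ (by simp), ?_⟩
    rw [h1, h1', h4]

end Cfsg.Agent.S1608
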