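import Cfsg.Statements.S1609
import Cfsg.Agent.S0352
import Cfsg.Agent.S0363
import Cfsg.Agent.S0364
import Cfsg.Agent.S0366
import Cfsg.Agent.S0381
import Cfsg.Agent.SporadicStructure.M23LocalInput

set_option autoImplicit false
open scoped Pointwise
open Cfsg

namespace Cfsg.Agent.S1609

/-- Subgroups of index 253 in the Mathieu group of degree 23 are exactly the duad stabilisers and the heptad stabilisers. -/
theorem result (x : Cfsg.GolayPt) (H : Subgroup ↥(MulAction.stabilizer Cfsg.M24 x)) (hH : H.index = 253) : (∃ s : Finset Cfsg.GolayPt, s.card = 2 ∧ x ∉ s ∧ H = (MulAction.stabilizer Cfsg.M24 s).subgroupOf (MulAction.stabilizer Cfsg.M24 x)) ∨ ∃ o ∈ Cfsg.octads, x ∈ o ∧ H = (MulAction.stabilizer Cfsg.M24 o).subgroupOf (MulAction.stabilizer Cfsg.M24 x) := by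
  refine SporadicStructure.M23Index253.main S0364.result S0366.result S0363.result x
    (SporadicStructure.M23LocalInput.localInput S0363.result ?_ (fun o ho => (S0381.result o ho).1) x)
    H hH
  intro b hb c hc h3
  by_cases hbc : b = c
  · subst hbc
    rw [Finset.inter_self, hb.2] at h3
    omega
  · have hα : Fintype.card Cfsg.GolayPt = 24 := by simp
    rcases S0352.result hα S0363.result hb hc hbc with h | h | h <;> omega

end Cfsg.Agent.S1609
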