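import Cfsg.Statements.S1617
import Cfsg.Agent.SporadicStructure.RankThreeIsolated
import Cfsg.Agent.SporadicStructure.RankThreeMain
import Cfsg.Agent.S0205

set_option autoImplicit false
open Cfsg

namespace Cfsg.Agent.S1617

open Cfsg.Agent.SporadicStructure

/-- A generating conjugacy class of involutions on which the group (with trivial solvable radical) acts with rank 3 is a class of 3-transpositions. -/
theorem result {G : Type*} [Group G] [Finite G] (hsol : ∀ N : Subgroup G, N.Normal → Group.IsSolvable ↥N → N = ⊥) {D : Set G} (hinv : ∀ d ∈ D, orderOf d = 2) (hconj : ∃ d ∈ D, D = conjugatesOf d) (hgen : Subgroup.closure D = ⊤) (hrank : ∀ x ∈ D, ∃ y ∈ D, ∃ z ∈ D, {w : G | ∃ g : G, Commute g x ∧ g * y * g⁻¹ = w} ≠ {w : G | ∃ g : G, Commute g x ∧ g * x * g⁻¹ = w} ∧ {w : G | ∃ g : G, Commute g x ∧ g * z * g⁻¹ = w} ≠ {w : G | ∃ g : G, Commute g x ∧ g * x * g⁻¹ = w} ∧ {w : G | ∃ g : G, Commute g x ∧ g * y * g⁻¹ = w} ≠ {w : G | ∃ g : G, Commute g x ∧ g * z * g⁻¹ = w} ∧ D = {w : G | ∃ g : G, Commute g x ∧ g * x * g⁻¹ = w} ∪ {w : G | ∃ g : G, Commute g x ∧ g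 * y * g⁻¹ = w} ∪ {w : G | ∃ g : G, Commute g x ∧ g * z * g⁻¹ = w}) : Cfsg.IsThreeTranspositionClass D := by
  have R : RankThreeReduce.Rank D := ⟨hinv, hconj, hgen, hrank⟩
  by_cases hI : ∀ x ∈ D, ∀ y ∈ D, Commute x y → x = y
  · exfalso
    obtain ⟨x, hx, -⟩ := hconj
    obtain ⟨N, hN, hNodd, hNx⟩ := RankThreeIsolated.isolated R hI hx
    have hb : N = ⊥ := hsol N hN (Cfsg.Agent.S0205.result hNodd)
    refine R.not_central hx ?_
    intro g
    have h1 := hNx g
    rw [hb, Subgroup.mem_bot] at h1
    have h2 : x * g = g * x := by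
      calc x * g = (x * g * x⁻¹ * g⁻¹) * g * x := by group
        _ = g * x := by rw [h1, one_mul]
    exact h2.symm
  · push Not at hI
    obtain ⟨x, hx, y, hy, hc, hne⟩ := hI
    obtain ⟨n, hn, hord⟩ := R.order_cases hx hy hne hc
    have no2 : ∀ N : Subgroup G, N.Normal → IsPGroup 2 N → N = ⊥ := by
      intro N hN h2
      have : Fact (Nat.Prime 2) := ⟨Nat.prime_two⟩
      have h3 : Group.IsNilpotent N := h2.isNilpotent
      exact hsol N hN inferInstance
    rcases hn with rfl | ⟨hp, hp2⟩
    · exact (R.not_four no2 hord).elim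
    · by_cases h3 : n = 3
      · refine ⟨⟨hinv, ?_⟩, hconj, hgen⟩
        intro d hd e he
        by_cases hde : Commute d e
        · left
          rw [pow_two]
          exact (RankThreeBase.commute_iff (R.sq hd) (R.sq he)).mp hde
        · right
          rw [← h3, ← hord d hd e he hde]
          exact pow_orderOf_eq_one _
      · exfalso
        have h5 : 5 ≤ n := by
          have h2 := hp.two_le
          by_contra hlt
          push Not at hlt
          interval_cases n
          · exact hp2 rfl
          · exact h3 rfl
          · exact absurd hp (by decide)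
        have RK : RankThreeCaseTwo.Rk3 D n :=
          { prime := hp
            five := h5
            sq := fun x hx => R.sq hx
            ne_one := fun x hx => R.ne_one hx
            conj := fun x hx g => R.mem_conj hx g
            pow := by
              intro a ha b hb hab
              rw [← hord a ha b hb hab]
              exact pow_orderOf_eq_one _
            transN := by
              intro a ha b hb a' ha' b' hb' h h'
              exact R.trans_pairs hx hy hne hc ha hb ha' hb' (fun e => h (e ▸ Commute.refl a))
                (fun e => h' (e ▸ Commute.refl a')) ⟨fun e => absurd e h, fun e => absurd e h'⟩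
            transC := by
              intro a ha b hb a' ha' b' hb' h h' h1 h2
              exact R.trans_pairs hx hy hne hc ha hb ha' hb' h h' ⟨fun _ => h2, fun _ => h1⟩
            no2 := no2 }
        exact R.not_ge_five hx hy hne hc (fun x hx e he d hd hxe hcxe =>
          RankThreeMain.main RK hx he hd hxe hcxe)

end Cfsg.Agent.S1617
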