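import Cfsg.Statements.S1629
-- import your own Cfsg.Agent.* helpers here
import Cfsg.Agent.SporadicStructure.OrthTransTwo

set_option autoImplicit false
open scoped MatrixGroups
open Cfsg

namespace Cfsg.Agent.S1629

open Cfsg.Agent.SporadicStructure.OrthTransTwo

/-- The polar form of the plus-type form. -/
def polarPlus (m : ℕ) (x y : Fin m ⊕ Fin m → ZMod 2) : ZMod 2 :=
  ∑ i : Fin m, (x (.inl i) * y (.inr i) + y (.inl i) * x (.inr i))

theorem isNdForm_plus (m : ℕ) : IsNdForm (quadFormPlus m (ZMod 2)) (polarPlus m) := by
  refine ⟨?_, ?_, ?_⟩
  · intro x y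
    unfold quadFormPlus polarPlus
    rw [← Finset.sum_add_distrib, ← Finset.sum_add_distrib]
    apply Finset.sum_congr rfl
    intro i _
    simp only [Pi.add_apply]
    ring
  · intro x y z
    unfold polarPlus
    rw [← Finset.sum_add_distrib]
    apply Finset.sum_congr rfl
    intro i _
    simp only [Pi.add_apply]
    ring
  · intro x hx
    ext j
    rcases j with i | i
    · have := hx (Pi.single (.inr i) 1)
      unfold polarPlus at this
      rw [Finset.sum_eq_single i] at this
      · simpa using this
      · intro j _ hj
        simp [hj]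
      · simp
    · have := hx (Pi.single (.inl i) 1)
      unfold polarPlus at this
      rw [Finset.sum_eq_single i] at this
      · simpa using this
      · intro j _ hj
        simp [hj]
      · simp

/-- The orthogonal transvections of the plus-type orthogonal group in dimension 2m ≥ 6 over the field with two elements form a generating conjugacy class of 3-transpositions. -/
theorem result (m : ℕ) (hm : 3 ≤ m) : Cfsg.IsThreeTranspositionClass {g : ↥(Cfsg.isometryGroup (ZMod 2) (Cfsg.quadFormPlus m (ZMod 2))) | (((g : GL (Fin m ⊕ Fin m) (ZMod 2)) : Matrix (Fin m ⊕ Fin m) (Fin m ⊕ Fin m) (ZMod 2)) - 1).rank = 1} := by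
  apply isThreeTranspositionClass (isNdForm_plus m)
  rw [Fintype.card_sum, Fintype.card_fin]
  omega

end Cfsg.Agent.S1629
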