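import Cfsg.Statements.S1632
import Cfsg.Agent.SporadicStructure.ThetaModular
import Cfsg.Agent.SporadicStructure.Weight12

set_option autoImplicit false
open Matrix
open Cfsg

namespace Cfsg.Agent.S1632

/-- An even unimodular lattice of rank 24 without roots has 196560, 16773120 and 398034000 vectors of norms 4, 6 and 8. -/
theorem result (B : Matrix (Fin 24) (Fin 24) ℤ) (hsymm : B.IsSymm) (hpos : ∀ x : Fin 24 → ℤ, x ≠ 0 → 0 < x ⬝ᵥ (B *ᵥ x)) (heven : ∀ x : Fin 24 → ℤ, (2 : ℤ) ∣ x ⬝ᵥ (B *ᵥ x)) (hdet : B.det = 1) (h2 : ∀ x : Fin 24 → ℤ, x ⬝ᵥ (B *ᵥ x) ≠ 2) : {x : Fin 24 → ℤ | x ⬝ᵥ (B *ᵥ x) = 4}.ncard = 196560 ∧ {x : Fin 24 → ℤ | x ⬝ᵥ (B *ᵥ x) = 6}.ncard = 16773120 ∧ {x : Fin 24 → ℤ | x ⬝ᵥ (B *ᵥ x) = 8}.ncard = 398034000 := by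
  have hBu : B * B⁻¹ = 1 := Matrix.mul_nonsing_inv B (by rw [hdet]; exact isUnit_one)
  have hU : SporadicStructure.ThetaModular.Unimod B B⁻¹ := ⟨hsymm, hpos, hBu⟩
  have hc := SporadicStructure.ThetaModular.thetaForm_coeff hU heven
  have h0 : SporadicStructure.ThetaModular.count B 0 = 1 :=
    SporadicStructure.ThetaModular.count_zero hU heven
  have h1 : SporadicStructure.ThetaModular.count B 1 = 0 := by
    rw [SporadicStructure.ThetaModular.count_eq hU heven]
    have : {x : Fin 24 → ℤ | x ⬝ᵥ (B *ᵥ x) = 2 * ((1 : ℕ) : ℤ)} = ∅ := by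
      ext x
      simpa using h2 x
    rw [this, Set.ncard_empty]
  obtain ⟨e2, e3, e4⟩ := SporadicStructure.Weight12.coeffs_of_weight_twelve
    (SporadicStructure.ThetaModular.thetaForm hU heven)
    (by rw [hc, h0]; norm_num) (by rw [hc, h1]; norm_num)
  rw [hc] at e2 e3 e4
  refine ⟨?_, ?_, ?_⟩
  · have := SporadicStructure.ThetaModular.count_eq hU heven 2
    norm_num at this
    rw [← this]
    exact_mod_cast e2
  · have := SporadicStructure.ThetaModular.count_eq hU heven 3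
    norm_num at this
    rw [← this]
    exact_mod_cast e3
  · have := SporadicStructure.ThetaModular.count_eq hU heven 4
    norm_num at this
    rw [← this]
    exact_mod_cast e4

end Cfsg.Agent.S1632
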