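import Cfsg.Statements.S1633
import Cfsg.Agent.SporStruct.HS352
import Cfsg.Agent.SporStruct.HSStabIso
import Cfsg.Agent.Leech.FrameTriples
import Cfsg.Agent.Leech.FrameStab
import Cfsg.Agent.S0401
import Cfsg.Agent.S0405

set_option autoImplicit false
open Cfsg

namespace Cfsg.Agent.S1633

open Cfsg.Agent.SporStruct.HS352 Cfsg.Agent.SporStruct.HSStabIso Cfsg.Agent.SporStruct.HSStabData
open Cfsg.Agent.Leech.HSConfig Cfsg.Agent.Leech.HSList Cfsg.Agent.Leech.FrameTriplesOf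
open Cfsg.Agent.SporadicA

/-- the octad of the standard triple -/
def o0 : Finset GolayPt := GolayBase.fin oMask

theorem o0_mem : o0 ∈ octs := by
  refine ⟨(GolayBase.fin_mem_octads_iff (by decide)).2 (by decide +kernel), ?_, ?_⟩
  · decide +kernel
  · decide +kernel

theorem vc_eq : Cfsg.Agent.LeechMat.Elements.vec vc = vec3 5 1 1 := by
  funext p; revert p; decide +kernel
theorem wc_eq : Cfsg.Agent.LeechMat.Elements.vec wc = vec3 (-1) (-5) (-1) := by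
  funext p; revert p; decide +kernel
theorem xc_eq : Cfsg.Agent.LeechMat.Elements.vec xc = vC o0 := by
  funext p; revert p; decide +kernel

theorem trans_all (v w : leechLattice) (hv : sqNorm (v : GolayPt → ℤ) = 48)
    (hw : sqNorm (w : GolayPt → ℤ) = 48)
    (hvw : dotInt (v : GolayPt → ℤ) (w : GolayPt → ℤ) = -32) :
    ∀ x ∈ Z v w, ∀ x' ∈ Z v w, ∃ g : Co0, g • v = v ∧ g • w = w ∧ g • x = x' := by
  obtain ⟨g, hS⟩ := trans_Z Cfsg.Agent.Leech.FrameTriples.trans64 Cfsg.Agent.S0401.result v w hv hw hvw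
  intro x hx x' hx'
  obtain ⟨k, k1, k2, k3⟩ := trans_aux Cfsg.Agent.Leech.FrameTriples.trans64 hS o0_mem (g • x)
    ((smul_mem_Z g).2 hx)
  obtain ⟨l, l1, l2, l3⟩ := trans_aux Cfsg.Agent.Leech.FrameTriples.trans64 hS o0_mem (g • x')
    ((smul_mem_Z g).2 hx')
  refine ⟨g⁻¹ * (l * (k⁻¹ * g)), ?_, ?_, ?_⟩
  · rw [mul_smul, mul_smul, mul_smul, inv_smul_eq_iff.2 k1.symm, l1, inv_smul_smul]
  · rw [mul_smul, mul_smul, mul_smul, inv_smul_eq_iff.2 k2.symm, l2, inv_smul_smul]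
  · rw [mul_smul, mul_smul, mul_smul, ← k3, inv_smul_smul, l3, inv_smul_smul]

theorem ncard_all (v w : leechLattice) (hv : sqNorm (v : GolayPt → ℤ) = 48)
    (hw : sqNorm (w : GolayPt → ℤ) = 48)
    (hvw : dotInt (v : GolayPt → ℤ) (w : GolayPt → ℤ) = -32) : (Z v w).ncard = 352 := by
  obtain ⟨g, hS⟩ := trans_Z Cfsg.Agent.Leech.FrameTriples.trans64 Cfsg.Agent.S0401.result v w hv hw hvw
  rw [← ncard_Z_smul g]
  exact ncard_Z_std hS

theorem stab_card (v w x : leechLattice) (hv : sqNorm (v : GolayPt → ℤ) = 48)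
    (hw : sqNorm (w : GolayPt → ℤ) = 48)
    (hvw : dotInt (v : GolayPt → ℤ) (w : GolayPt → ℤ) = -32) (hx : x ∈ Z v w) :
    Finite (MulAction.stabilizer Co0 v ⊓ MulAction.stabilizer Co0 w ⊓ MulAction.stabilizer Co0 x :
      Subgroup Co0) ∧
    Nat.card (MulAction.stabilizer Co0 v ⊓ MulAction.stabilizer Co0 w ⊓
      MulAction.stabilizer Co0 x : Subgroup Co0) ≤ 126000 := by
  have hH : Nat.card (MulAction.stabilizer Co0 v ⊓ MulAction.stabilizer Co0 w : Subgroup Co0)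
    = 44352000 := (Cfsg.Agent.S0405.result v w hv hw hvw).2
  set H : Subgroup Co0 := MulAction.stabilizer Co0 v ⊓ MulAction.stabilizer Co0 w with hHdef
  have hfin : Finite H := Nat.finite_of_card_ne_zero (by rw [hH]; norm_num)
  have horb : MulAction.orbit H x = Z v w := by
    ext y
    constructor
    · rintro ⟨⟨g, hg⟩, rfl⟩
      have := (smul_mem_Z g).2 hx
      rw [show g • v = v from hg.1, show g • w = w from hg.2] at this
      exact this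
    · intro hy
      obtain ⟨g, g1, g2, g3⟩ := trans_all v w hv hw hvw x hx y hy
      exact ⟨⟨g, g1, g2⟩, g3⟩
  have h2 : Nat.card (MulAction.orbit H x) = 352 := by
    rw [horb]; exact ncard_all v w hv hw hvw
  let f : (H ⊓ MulAction.stabilizer Co0 x : Subgroup Co0) → MulAction.stabilizer H x :=
    fun g => ⟨⟨g.1, g.2.1⟩, g.2.2⟩
  have hf : Function.Injective f := by
    intro a b hab
    have := congrArg (fun t : MulAction.stabilizer H x => (t.1.1 : Co0)) hab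
    exact Subtype.ext this
  have hfin2 : Finite (H ⊓ MulAction.stabilizer Co0 x : Subgroup Co0) := Finite.of_injective f hf
  refine ⟨hfin2, ?_⟩
  have h3 := Nat.card_le_card_of_injective f hf
  have h4 : Nat.card (MulAction.orbit H x) * Nat.card (MulAction.stabilizer H x) = Nat.card H := by
    classical
    have : Finite (MulAction.orbit H x) := Nat.finite_of_card_ne_zero (by rw [h2]; norm_num)
    have : Fintype H := Fintype.ofFinite _
    have : Fintype (MulAction.orbit H x) := Fintype.ofFinite _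
    have : Fintype (MulAction.stabilizer H x) := Fintype.ofFinite _
    rw [Nat.card_eq_fintype_card, Nat.card_eq_fintype_card, Nat.card_eq_fintype_card]
    exact MulAction.card_orbit_mul_card_stabilizer_eq_card_group H x
  rw [h2, hH] at h4
  omega

theorem iso_all (v w x : leechLattice) (hv : sqNorm (v : GolayPt → ℤ) = 48)
    (hw : sqNorm (w : GolayPt → ℤ) = 48)
    (hvw : dotInt (v : GolayPt → ℤ) (w : GolayPt → ℤ) = -32) (hx : x ∈ Z v w)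
    (F : Type) [Field F] [Fintype F] (hF : Fintype.card F = 25) :
    Nonempty ((MulAction.stabilizer Co0 v ⊓ MulAction.stabilizer Co0 w ⊓
      MulAction.stabilizer Co0 x : Subgroup Co0) ≃* Cfsg.PSU 3 F 5) := by
  obtain ⟨g, hS⟩ := trans_Z Cfsg.Agent.Leech.FrameTriples.trans64 Cfsg.Agent.S0401.result v w hv hw hvw
  obtain ⟨k, k1, k2, k3⟩ := trans_aux Cfsg.Agent.Leech.FrameTriples.trans64 hS o0_mem (g • x)
    ((smul_mem_Z g).2 hx)
  have e1 : (k⁻¹ * g) • v = g • v := by rw [mul_smul, inv_smul_eq_iff.2 k1.symm]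
  have e2 : (k⁻¹ * g) • w = g • w := by rw [mul_smul, inv_smul_eq_iff.2 k2.symm]
  have e3 : (k⁻¹ * g) • x = lC o0 := by rw [mul_smul, ← k3, inv_smul_smul]
  obtain ⟨E1⟩ := Cfsg.Agent.Leech.FrameStab.nonempty_equiv_stab (k⁻¹ * g) v w x
  rw [e1, e2, e3] at E1
  have h3 : Std3 (g • v) (g • w) (lC o0) :=
    ⟨by rw [vc_eq]; exact hS.hv, by rw [wc_eq]; exact hS.hw, by rw [xc_eq]; exact coe_lC o0_mem.1⟩
  have hv' : sqNorm ((g • v : leechLattice) : GolayPt → ℤ) = 48 := by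
    rw [Cfsg.Agent.Leech.FrameAux.co0_sqNorm, hv]
  obtain ⟨hfin, hcard⟩ := stab_card (g • v) (g • w) (lC o0) hv' (std_w hS) (std_vw hS) (lC_mem hS o0_mem)
  obtain ⟨E2⟩ := stab_equiv h3 hcard
  obtain ⟨E3⟩ := Cfsg.Agent.SporStruct.U35Iso.psu35_iso F hF
  exact ⟨(E1.trans E2).trans E3.symm⟩

/-- The Higman–Sims group acts transitively on 352 vectors, a set closed under x ↦ −w − x, with vector stabiliser isomorphic to PSU(3, 5). -/
theorem result (v w : ↥Cfsg.leechLattice) (hv : Cfsg.sqNorm (v : Cfsg.GolayPt → ℤ) = 48) (hw : Cfsg.sqNorm (w : Cfsg.GolayPt → ℤ) = 48) (hvw : Cfsg.dotInt (v : Cfsg.GolayPt → ℤ) (w : Cfsg.GolayPt → ℤ) = -32) (F : Type) [Field F] [Fintype F] (hF : Fintype.card F = 25) : {x : ↥Cfsg.leechLattice | Cfsg.sqNorm (x : Cfsg.GolayPt → ℤ) = 32 ∧ Cfsg.dotInt (v : Cfsg.GolayPt → ℤ) (x : Cfsg.GolayPt → ℤ) = 16 ∧ Cfsg.dotInt (w : Cfsg.GolayPt → ℤ) (x : Cfsg.GolayPt → ℤ)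 = -24}.ncard = 352 ∧ (∀ x ∈ {x : ↥Cfsg.leechLattice | Cfsg.sqNorm (x : Cfsg.GolayPt → ℤ) = 32 ∧ Cfsg.dotInt (v : Cfsg.GolayPt → ℤ) (x : Cfsg.GolayPt → ℤ) = 16 ∧ Cfsg.dotInt (w : Cfsg.GolayPt → ℤ) (x : Cfsg.GolayPt → ℤ) = -24}, -w - x ∈ {x : ↥Cfsg.leechLattice | Cfsg.sqNorm (x : Cfsg.GolayPt → ℤ) = 32 ∧ Cfsg.dotInt (v : Cfsg.GolayPt → ℤ) (x : Cfsg.GolayPt → ℤ) = 16 ∧ Cfsg.dotInt (w : Cfsg.GolayPt → ℤ) (x : Cfsg.GolayPt → ℤ) = -24}) ∧ (∀ x ∈ {x : ↥Cfsg.leechLattice | Cfsg.sqNorm (x : Cfsg.GolayPt → ℤ) = 32 ∧ Cfsg.dotInt (v : Cfsg.GolayPt → ℤ) (x : Cfsg.GolayPt → ℤ) = 16 ∧ Cfsg.dotInt (w : Cfsg.GolayPt → ℤ) (x : Cfsg.GolayPt → ℤ) = -24}, ∀ x' ∈ {x : ↥Cfsg.leechLattice | Cfsg.sqNorm (x : Cfsg.GolayPt → ℤ) = 32 ∧ Cfsg.dotInt (v : Cfsg.GolayPt → ℤ) (x : Cfsg.GolayPt → ℤ) = 16 ∧ Cfsg.dotInt (w : Cfsg.GolayPt → ℤ) (x : Cfsg.GolayPt → ℤ) = -24}, ∃ g : ↥Cfsg.Co0, g • v = v ∧ g • w = w ∧ g •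 x = x') ∧ ∀ x ∈ {x : ↥Cfsg.leechLattice | Cfsg.sqNorm (x : Cfsg.GolayPt → ℤ) = 32 ∧ Cfsg.dotInt (v : Cfsg.GolayPt → ℤ) (x : Cfsg.GolayPt → ℤ) = 16 ∧ Cfsg.dotInt (w : Cfsg.GolayPt → ℤ) (x : Cfsg.GolayPt → ℤ) = -24}, Nonempty (↥(MulAction.stabilizer ↥Cfsg.Co0 v ⊓ MulAction.stabilizer ↥Cfsg.Co0 w ⊓ MulAction.stabilizer ↥Cfsg.Co0 x) ≃* Cfsg.PSU 3 F 5) :=
  ⟨ncard_all v w hv hw hvw, fun _ hx => flip_mem hw hvw hx, trans_all v w hv hw hvw,
    fun x hx => iso_all v w x hv hw hvw hx F hF⟩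

end Cfsg.Agent.S1633
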