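import Cfsg.Statements.S1641
import Cfsg.Agent.SporadicStructure.HSPair
import Cfsg.Agent.SporadicStructure.Co3Rank5

set_option autoImplicit false
open Cfsg

namespace Cfsg.Agent.S1641

open Cfsg.Agent.SporadicStructure.HSPair Cfsg.Agent.SporadicStructure.LeechPack
open Cfsg.Agent.SporadicStructure.Co3Rank5

/-- The 11178 vectors. -/
def XX (u : ↥leechLattice) : Set ↥leechLattice :=
  {x : ↥Cfsg.leechLattice | Cfsg.sqNorm (x : Cfsg.GolayPt → ℤ) = 32 ∧ Cfsg.dotInt (u : Cfsg.GolayPt → ℤ) (x : Cfsg.GolayPt → ℤ) = -16}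

/-- The vectors of given dot product with `x`. -/
def Xc (u x : ↥leechLattice) (c : ℤ) : Set ↥leechLattice :=
  {y | y ∈ XX u ∧ dotInt (x : GolayPt → ℤ) (y : GolayPt → ℤ) = c}

theorem smul_mem_XX {g : ↥Co0} {u y : ↥leechLattice} (hy : y ∈ XX u) : g • y ∈ XX (g • u) :=
  ⟨by rw [smul_norm]; exact hy.1, by rw [smul_dot]; exact hy.2⟩

theorem smul_mem_Xc {g : ↥Co0} {u x y : ↥leechLattice} {c : ℤ} (hy : y ∈ Xc u x c) :
    g • y ∈ Xc (g • u) (g • x) c :=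
  ⟨smul_mem_XX hy.1, by rw [smul_dot]; exact hy.2⟩

/-- The finite set of the vectors packed in a list. -/
noncomputable def fs (L : List ℕ) : Finset ↥leechLattice := by
  classical exact L.toFinset.image fun N => if h : dec N ∈ leechLattice then ⟨dec N, h⟩ else 0

theorem reach_mem {y : ↥leechLattice} {N : ℕ} (h : Reach y N) : dec N ∈ leechLattice := by
  obtain ⟨-, g, -, -, h3⟩ := h
  rw [← h3]
  exact (g • y).2

theorem fs_card {y : ↥leechLattice} {L : List ℕ} (hL : ∀ N ∈ L, Reach y N) (hnd : L.Nodup) :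
    (fs L).card = L.length := by
  classical
  unfold fs
  rw [Finset.card_image_of_injOn, List.toFinset_card_of_nodup hnd]
  intro M hM N hN h
  have hM' := hL M (List.mem_toFinset.1 hM)
  have hN' := hL N (List.mem_toFinset.1 hN)
  simp only [reach_mem hM', reach_mem hN', dite_true] at h
  exact dec_inj hM'.1 hN'.1 (congrArg Subtype.val h)

theorem fs_mem {y : ↥leechLattice} {L : List ℕ} (hL : ∀ N ∈ L, Reach y N) {z : ↥leechLattice}
    (hz : z ∈ fs L) : ∃ g : ↥Co0, g • u0 = u0 ∧ g • x0 = x0 ∧ g • y = z := by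
  classical
  unfold fs at hz
  rw [Finset.mem_image] at hz
  obtain ⟨N, hN, rfl⟩ := hz
  have hN' := hL N (List.mem_toFinset.1 hN)
  obtain ⟨-, g, h1, h2, h3⟩ := hN'
  refine ⟨g, h1, h2, ?_⟩
  rw [dif_pos (reach_mem (hL N (List.mem_toFinset.1 hN)))]
  exact Subtype.ext h3

theorem u0_norm : sqNorm (u0 : GolayPt → ℤ) = 48 := by decide +kernel

theorem x0_norm : sqNorm (x0 : GolayPt → ℤ) = 32 := by decide +kernel

theorem u0_dot_x0 : dotInt (u0 : GolayPt → ℤ) (x0 : GolayPt → ℤ) = -16 := by decide +kernel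

theorem x0_dot_x0 : dotInt (x0 : GolayPt → ℤ) (x0 : GolayPt → ℤ) = 32 := by decide +kernel

theorem yA_mem : yA ∈ Xc u0 x0 (-8) :=
  ⟨⟨by decide +kernel, by decide +kernel⟩, by decide +kernel⟩

theorem yB_mem : yB ∈ Xc u0 x0 16 :=
  ⟨⟨by decide +kernel, by decide +kernel⟩, by decide +kernel⟩

theorem yC_mem : yC ∈ Xc u0 x0 0 :=
  ⟨⟨by decide +kernel, by decide +kernel⟩, by decide +kernel⟩

theorem yD_mem : yD ∈ Xc u0 x0 8 :=
  ⟨⟨by decide +kernel, by decide +kernel⟩, by decide +kernel⟩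

theorem fs_sub {y : ↥leechLattice} {L : List ℕ} (hL : ∀ N ∈ L, Reach y N) {c : ℤ}
    (hy : y ∈ Xc u0 x0 c) {z : ↥leechLattice} (hz : z ∈ fs L) : z ∈ Xc u0 x0 c := by
  obtain ⟨g, h1, h2, rfl⟩ := fs_mem hL hz
  have := smul_mem_Xc (g := g) hy
  rwa [h1, h2] at this

theorem nodup_A : LA.Nodup := nodup_of_nodupB LA_nodupB

theorem nodup_B : LB.Nodup := nodup_of_nodupB LB_nodupB

theorem nodup_C : LC.Nodup := nodup_of_nodupB LC_nodupB

theorem nodup_D : LD.Nodup := nodup_of_nodupB LD_nodupB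

theorem card_A : (fs LA).card = 352 := by rw [fs_card LA_reach nodup_A, ← len_eq, LA_length]

theorem card_B : (fs LB).card = 1100 := by rw [fs_card LB_reach nodup_B, ← len_eq, LB_length]

theorem card_C : (fs LC).card = 4125 := by rw [fs_card LC_reach nodup_C, ← len_eq, LC_length]

theorem card_D : (fs LD).card = 5600 := by rw [fs_card LD_reach nodup_D, ← len_eq, LD_length]

theorem disj {F G : Finset ↥leechLattice} {c d : ℤ} (hF : ∀ z ∈ F, z ∈ Xc u0 x0 c)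
    (hG : ∀ z ∈ G, z ∈ Xc u0 x0 d) (hcd : c ≠ d) : Disjoint F G := by
  rw [Finset.disjoint_left]
  intro z hz hz'
  exact hcd ((hF z hz).2.symm.trans (hG z hz').2)

/-- The 11178 vectors for the standard pair. -/
theorem std_cover {z : ↥leechLattice} (hz : z ∈ XX u0) :
    z = x0 ∨ z ∈ fs LA ∨ z ∈ fs LB ∨ z ∈ fs LC ∨ z ∈ fs LD := by
  classical
  have hcard : (XX u0).ncard = 11178 := (Cfsg.Agent.S1640.result u0 u0_norm).1
  have hfin : (XX u0).Finite := Set.finite_of_ncard_pos (by rw [hcard]; norm_num)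
  have hA : ∀ z ∈ fs LA, z ∈ Xc u0 x0 (-8) := fun z hz => fs_sub LA_reach yA_mem hz
  have hB : ∀ z ∈ fs LB, z ∈ Xc u0 x0 16 := fun z hz => fs_sub LB_reach yB_mem hz
  have hC : ∀ z ∈ fs LC, z ∈ Xc u0 x0 0 := fun z hz => fs_sub LC_reach yC_mem hz
  have hD : ∀ z ∈ fs LD, z ∈ Xc u0 x0 8 := fun z hz => fs_sub LD_reach yD_mem hz
  have hX : ∀ z ∈ ({x0} : Finset ↥leechLattice), z ∈ Xc u0 x0 32 := by
    intro z hz
    rw [Finset.mem_singleton] at hz
    subst hz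
    exact ⟨⟨x0_norm, u0_dot_x0⟩, x0_dot_x0⟩
  have h1 : (fs LA ∪ fs LB).card = 1452 := by
    rw [Finset.card_union_of_disjoint (disj hA hB (by norm_num)), card_A, card_B]
  have h2 : (fs LA ∪ fs LB ∪ fs LC).card = 5577 := by
    rw [Finset.card_union_of_disjoint (Finset.disjoint_union_left.2
      ⟨disj hA hC (by norm_num), disj hB hC (by norm_num)⟩), h1, card_C]
  have h3 : (fs LA ∪ fs LB ∪ fs LC ∪ fs LD).card = 11177 := by
    rw [Finset.card_union_of_disjoint (Finset.disjoint_union_left.2 ⟨Finset.disjoint_union_left.2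
      ⟨disj hA hD (by norm_num), disj hB hD (by norm_num)⟩, disj hC hD (by norm_num)⟩), h2, card_D]
  have h4 : (fs LA ∪ fs LB ∪ fs LC ∪ fs LD ∪ {x0}).card = 11178 := by
    rw [Finset.card_union_of_disjoint (Finset.disjoint_union_left.2 ⟨Finset.disjoint_union_left.2
      ⟨Finset.disjoint_union_left.2
      ⟨disj hA hX (by norm_num), disj hB hX (by norm_num)⟩, disj hC hX (by norm_num)⟩,
      disj hD hX (by norm_num)⟩), h3, Finset.card_singleton]
  have hsub : ((fs LA ∪ fs LB ∪ fs LC ∪ fs LD ∪ {x0} : Finset ↥leechLattice) : Set ↥leechLattice) ⊆ XX u0 := by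
    intro z hz
    rw [Finset.mem_coe, Finset.mem_union, Finset.mem_union, Finset.mem_union, Finset.mem_union] at hz
    rcases hz with (((hz | hz) | hz) | hz) | hz
    · exact (hA z hz).1
    · exact (hB z hz).1
    · exact (hC z hz).1
    · exact (hD z hz).1
    · exact (hX z hz).1
  have heq := Set.eq_of_subset_of_ncard_le hsub (by rw [hcard, Set.ncard_coe_finset, h4]) hfin
  rw [← heq, Finset.mem_coe, Finset.mem_union, Finset.mem_union, Finset.mem_union, Finset.mem_union,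
    Finset.mem_singleton] at hz
  rcases hz with (((hz | hz) | hz) | hz) | hz
  · exact Or.inr (Or.inl hz)
  · exact Or.inr (Or.inr (Or.inl hz))
  · exact Or.inr (Or.inr (Or.inr (Or.inl hz)))
  · exact Or.inr (Or.inr (Or.inr (Or.inr hz)))
  · exact Or.inl hz

/-- The facts about one orbit for the standard pair. -/
theorem std_orbit {y : ↥leechLattice} {L : List ℕ} (hL : ∀ N ∈ L, Reach y N) {c : ℤ}
    (hy : y ∈ Xc u0 x0 c) (hc : ∀ z ∈ Xc u0 x0 c, z ∈ fs L) :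
    (Xc u0 x0 c = ↑(fs L)) ∧
      ∀ z ∈ Xc u0 x0 c, ∃ g : ↥Co0, g • u0 = u0 ∧ g • x0 = x0 ∧ g • y = z :=
  ⟨Set.Subset.antisymm (fun z hz => Finset.mem_coe.2 (hc z hz))
    (fun _ hz => fs_sub hL hy (Finset.mem_coe.1 hz)), fun z hz => fs_mem hL (hc z hz)⟩

theorem cover_c {z : ↥leechLattice} {c : ℤ} (hz : z ∈ Xc u0 x0 c) :
    (c = 32 ∧ z = x0) ∨ (c = -8 ∧ z ∈ fs LA) ∨ (c = 16 ∧ z ∈ fs LB) ∨ (c = 0 ∧ z ∈ fs LC) ∨
      (c = 8 ∧ z ∈ fs LD) := by
  rcases std_cover hz.1 with h | h | h | h | h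
  · left
    refine ⟨?_, h⟩
    rw [← hz.2, h]; exact x0_dot_x0
  · right; left
    exact ⟨hz.2.symm.trans (fs_sub LA_reach yA_mem h).2, h⟩
  · right; right; left
    exact ⟨hz.2.symm.trans (fs_sub LB_reach yB_mem h).2, h⟩
  · right; right; right; left
    exact ⟨hz.2.symm.trans (fs_sub LC_reach yC_mem h).2, h⟩
  · right; right; right; right
    exact ⟨hz.2.symm.trans (fs_sub LD_reach yD_mem h).2, h⟩

/-- Transport to an arbitrary pair. -/
theorem orbit_eq {u x y : ↥leechLattice} {c : ℤ} {n : ℕ} (h : ↥Co0) (hu : h • u = u0) (hx : h • x = x0)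
    (hy : y ∈ Xc u0 x0 c) (hn : (Xc u0 x0 c).ncard = n)
    (ht : ∀ z ∈ Xc u0 x0 c, ∃ g : ↥Co0, g • u0 = u0 ∧ g • x0 = x0 ∧ g • y = z) :
    (h⁻¹ • y) ∈ XX u ∧
    MulAction.orbit ↥(MulAction.stabilizer ↥Co0 u ⊓ MulAction.stabilizer ↥Co0 x) (h⁻¹ • y) = Xc u x c ∧
    (Xc u x c).ncard = n := by
  have hu' : h⁻¹ • u0 = u := by rw [inv_smul_eq_iff, hu]
  have hx' : h⁻¹ • x0 = x := by rw [inv_smul_eq_iff, hx]
  have hy' : h⁻¹ • y ∈ Xc u x c := by
    have := smul_mem_Xc (g := h⁻¹) hy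
    rwa [hu', hx'] at this
  refine ⟨hy'.1, ?_, ?_⟩
  · ext z
    constructor
    · rintro ⟨⟨g, hg⟩, rfl⟩
      rw [Subgroup.mem_inf, MulAction.mem_stabilizer_iff, MulAction.mem_stabilizer_iff] at hg
      have := smul_mem_Xc (g := g) hy'
      rw [hg.1, hg.2] at this
      exact this
    · intro hz
      have hz' : h • z ∈ Xc u0 x0 c := by
        have := smul_mem_Xc (g := h) hz
        rwa [hu, hx] at this
      obtain ⟨g, h1, h2, h3⟩ := ht _ hz'
      refine ⟨⟨h⁻¹ * g * h, ?_⟩, ?_⟩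
      · rw [Subgroup.mem_inf, MulAction.mem_stabilizer_iff, MulAction.mem_stabilizer_iff]
        constructor
        · rw [mul_smul, mul_smul, hu, h1, hu']
        · rw [mul_smul, mul_smul, hx, h2, hx']
      · show (h⁻¹ * g * h) • (h⁻¹ • y) = z
        rw [mul_smul, mul_smul, smul_inv_smul, h3, inv_smul_smul]
  · rw [← hn, ← Set.ncard_image_of_injective (Xc u x c) (MulAction.injective h)]
    congr 1
    ext z
    constructor
    · rintro ⟨w, hw, rfl⟩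
      have := smul_mem_Xc (g := h) hw
      rwa [hu, hx] at this
    · intro hz
      refine ⟨h⁻¹ • z, ?_, smul_inv_smul _ _⟩
      have := smul_mem_Xc (g := h⁻¹) hz
      rwa [hu', hx'] at this

/-- The third Conway group acts on the 11178 cosets of the Higman–Sims group with rank 5 and subdegrees 1, 352, 1100, 4125, 5600. -/
theorem result (u x : ↥Cfsg.leechLattice) (hu : Cfsg.sqNorm (u : Cfsg.GolayPt → ℤ) = 48) (hx : x ∈ {x : ↥Cfsg.leechLattice | Cfsg.sqNorm (x : Cfsg.GolayPt → ℤ) = 32 ∧ Cfsg.dotInt (u : Cfsg.GolayPt → ℤ) (x : Cfsg.GolayPt → ℤ) = -16}) : ∃ y₁ ∈ {x : ↥Cfsg.leechLattice | Cfsg.sqNorm (x : Cfsg.GolayPt → ℤ) = 32 ∧ Cfsg.dotInt (u : Cfsg.GolayPt → ℤ) (x : Cfsg.GolayPt → ℤ) = -16}, ∃ y₂ ∈ {x : ↥Cfsg.leechLattice | Cfsg.sqNorm (x : Cfsg.GolayPt → ℤ) = 32 ∧ Cfsg.dotInt (u : Cfsg.GolayPt → ℤ) (x : Cfsg.GolayPt → ℤ) = -16}, ∃ y₃ ∈ {x : ↥Cfsg.leechLattice | Cfsg.sqNorm (x : Cfsg.GolayPt → ℤ)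 = 32 ∧ Cfsg.dotInt (u : Cfsg.GolayPt → ℤ) (x : Cfsg.GolayPt → ℤ) = -16}, ∃ y₄ ∈ {x : ↥Cfsg.leechLattice | Cfsg.sqNorm (x : Cfsg.GolayPt → ℤ) = 32 ∧ Cfsg.dotInt (u : Cfsg.GolayPt → ℤ) (x : Cfsg.GolayPt → ℤ) = -16}, (MulAction.orbit ↥(MulAction.stabilizer ↥Cfsg.Co0 u ⊓ MulAction.stabilizer ↥Cfsg.Co0 x) y₁).ncard = 352 ∧ (MulAction.orbit ↥(MulAction.stabilizer ↥Cfsg.Co0 u ⊓ MulAction.stabilizer ↥Cfsg.Co0 x) y₂).ncard = 1100 ∧ (MulAction.orbit ↥(MulAction.stabilizer ↥Cfsg.Co0 u ⊓ MulAction.stabilizer ↥Cfsg.Co0 x) y₃).ncard = 4125 ∧ (MulAction.orbit ↥(MulAction.stabilizer ↥Cfsg.Co0 u ⊓ MulAction.stabilizer ↥Cfsg.Co0 x) y₄).ncard = 5600 ∧ {x : ↥Cfsg.leechLattice | Cfsg.sqNorm (x : Cfsg.GolayPt → ℤ) = 32 ∧ Cfsg.dotInt (u : Cfsg.GolayPt → ℤ) (x : Cfsg.GolayPt → ℤ) = -16} = {x} ∪ MulAction.orbit ↥(MulAction.stabilizer ↥Cfsg.Co0 u ⊓ MulAction.stabilizer ↥Cfsg.Co0 x) y₁ ∪ MulAction.orbit ↥(MulAction.stabilizer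 ↥Cfsg.Co0 u ⊓ MulAction.stabilizer ↥Cfsg.Co0 x) y₂ ∪ MulAction.orbit ↥(MulAction.stabilizer ↥Cfsg.Co0 u ⊓ MulAction.stabilizer ↥Cfsg.Co0 x) y₃ ∪ MulAction.orbit ↥(MulAction.stabilizer ↥Cfsg.Co0 u ⊓ MulAction.stabilizer ↥Cfsg.Co0 x) y₄ := by
  obtain ⟨h, h1, h2⟩ := exists_smul_eq_of_pair u x u0 x0 hu hx.1 hx.2 u0_norm x0_norm u0_dot_x0
  obtain ⟨eA, tA⟩ := std_orbit LA_reach yA_mem (fun z hz => by
    have := cover_c hz
    simpa using this)
  obtain ⟨eB, tB⟩ := std_orbit LB_reach yB_mem (fun z hz => by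
    have := cover_c hz
    simpa using this)
  obtain ⟨eC, tC⟩ := std_orbit LC_reach yC_mem (fun z hz => by
    have := cover_c hz
    simpa using this)
  obtain ⟨eD, tD⟩ := std_orbit LD_reach yD_mem (fun z hz => by
    have := cover_c hz
    simpa using this)
  obtain ⟨mA, oA, nA⟩ := orbit_eq h h1 h2 yA_mem (n := 352)
    (by rw [eA, Set.ncard_coe_finset, card_A]) tA
  obtain ⟨mB, oB, nB⟩ := orbit_eq h h1 h2 yB_mem (n := 1100)
    (by rw [eB, Set.ncard_coe_finset, card_B]) tB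
  obtain ⟨mC, oC, nC⟩ := orbit_eq h h1 h2 yC_mem (n := 4125)
    (by rw [eC, Set.ncard_coe_finset, card_C]) tC
  obtain ⟨mD, oD, nD⟩ := orbit_eq h h1 h2 yD_mem (n := 5600)
    (by rw [eD, Set.ncard_coe_finset, card_D]) tD
  refine ⟨h⁻¹ • yA, mA, h⁻¹ • yB, mB, h⁻¹ • yC, mC, h⁻¹ • yD, mD, by rw [oA, nA], by rw [oB, nB],
    by rw [oC, nC], by rw [oD, nD], ?_⟩
  rw [oA, oB, oC, oD]
  show XX u = _
  ext z
  constructor
  · intro hz
    have hz' : h • z ∈ XX u0 := by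
      have := smul_mem_XX (g := h) hz
      rwa [h1] at this
    have hd : dotInt (x0 : GolayPt → ℤ) ((h • z : ↥leechLattice) : GolayPt → ℤ) =
        dotInt (x : GolayPt → ℤ) (z : GolayPt → ℤ) := by rw [← h2, smul_dot]
    rcases std_cover hz' with h' | h' | h' | h' | h'
    · left; left; left; left
      rw [Set.mem_singleton_iff]
      exact MulAction.injective h (h'.trans h2.symm)
    · left; left; left; right
      exact ⟨hz, hd.symm.trans (fs_sub LA_reach yA_mem h').2⟩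
    · left; left; right
      exact ⟨hz, hd.symm.trans (fs_sub LB_reach yB_mem h').2⟩
    · left; right
      exact ⟨hz, hd.symm.trans (fs_sub LC_reach yC_mem h').2⟩
    · right
      exact ⟨hz, hd.symm.trans (fs_sub LD_reach yD_mem h').2⟩
  · rintro ((((hz | hz) | hz) | hz) | hz)
    · rw [Set.mem_singleton_iff] at hz
      subst hz
      exact hx
    · exact hz.1
    · exact hz.1
    · exact hz.1
    · exact hz.1

end Cfsg.Agent.S1641
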