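import Cfsg.Statements.S1643
-- import your own Cfsg.Agent.* helpers here
import Cfsg.Agent.SporadicStructure.Psl223
import Cfsg.Agent.SporadicStructure.SylowCount
import Cfsg.Agent.S0364
import Cfsg.Agent.S0370
import Cfsg.Agent.S0371
import Cfsg.Agent.S0372
import Cfsg.Agent.S0376

set_option autoImplicit false
open scoped Pointwise
open Cfsg

namespace Cfsg.Agent.S1643

open Cfsg.Agent.SporadicStructure.Affine23
open Cfsg.Agent.SporadicStructure.QRNormalizer
open Cfsg.Agent.SporadicStructure.Psl223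
open Cfsg.Agent.SporadicStructure.SylowCount

/-- the point stabiliser as a subgroup of the symmetric group -/
abbrev stab0 : Subgroup (Equiv.Perm GolayPt) :=
  MulAction.stabilizer (Equiv.Perm GolayPt) (none : GolayPt)

theorem L_le_M24 : L ≤ M24 := by
  show Subgroup.closure gens ≤ M24
  rw [Subgroup.closure_le]
  rintro g ((hg | hg) | ⟨u, hu, rfl⟩)
  · rw [hg]; exact Cfsg.Agent.S0370.result
  · rw [Set.mem_singleton_iff] at hg
    rw [hg]; exact Cfsg.Agent.S0372.result
  · exact Cfsg.Agent.S0371.result u hu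

theorem K_le_M24 : K ≤ M24 := K_le_L.trans L_le_M24

theorem K_le_M23 : K ≤ M24 ⊓ stab0 := le_inf K_le_M24 K_le_stab

theorem card_M23 : Nat.card ↥(M24 ⊓ stab0) = 10200960 := by
  have h := Cfsg.Agent.S0376.result none
  have h4 : MulAction.stabilizer M24 (none : GolayPt) = stab0.subgroupOf M24 := by
    ext x
    rfl
  rw [h4, ← Subgroup.inf_subgroupOf_left] at h
  rw [← h]
  exact (Nat.card_congr (Subgroup.subgroupOfEquivOfLe inf_le_left).toEquiv).symm

theorem mem_stab0 {g : Equiv.Perm GolayPt} : g ∈ stab0 ↔ g none = none := Iff.rfl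

theorem between {H : Subgroup (Equiv.Perm GolayPt)} (hKH : K ≤ H) (hHM : H ≤ M24 ⊓ stab0) :
    H = K ∨ H = M24 ⊓ stab0 := by
  apply eq_or_eq_of_between (M24 ⊓ stab0) K (Subgroup.zpowers (aff 1 1))
    (Subgroup.zpowers (aff u2 0)) card_M23 card_K K_le_M23
  · rw [Nat.card_zpowers, orderOf_aff_one_one]
  · rw [Subgroup.zpowers_le]
    exact ⟨1, 1, ⟨1, by simp⟩, rfl⟩
  · rw [Nat.card_zpowers, orderOf_aff_u2]
  · rw [Subgroup.zpowers_le]
    exact ⟨u2, 0, isSquare_u2, rfl⟩
  · -- K normalises the translations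
    have key : ∀ g ∈ K, ∀ h ∈ Subgroup.zpowers (aff 1 1), g * h * g⁻¹ ∈ Subgroup.zpowers (aff 1 1) := by
      rintro g ⟨u, b, hu, rfl⟩ h hh
      obtain ⟨n, rfl⟩ := Subgroup.mem_zpowers_iff.1 hh
      have h1 : aff u b * aff 1 1 * (aff u b)⁻¹ = aff 1 1 ^ ((u : ZMod 23).val) := by
        rw [mul_inv_eq_iff_eq_mul, aff_one_pow, aff_mul, aff_mul, mul_one, mul_one, mul_one,
          ZMod.natCast_zmod_val, one_mul, Units.val_one, one_mul]
        congr 1
        ring
      have h2 : aff u b * aff 1 1 ^ n * (aff u b)⁻¹ = (aff u b * aff 1 1 * (aff u b)⁻¹) ^ n :=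
        (conj_zpow).symm
      rw [h2, h1]
      exact Subgroup.zpow_mem _ (Subgroup.pow_mem _ (Subgroup.mem_zpowers _) _) _
    exact Subgroup.le_normalizer_iff.2 key
  · rintro g ⟨hg1, hg2, hg3⟩
    have h1 : g * aff 1 1 * g⁻¹ ∈ Subgroup.zpowers (aff 1 1) :=
      (Subgroup.mem_normalizer_iff.1 hg1 _).1 (Subgroup.mem_zpowers _)
    rw [← mem_powers_iff_mem_zpowers] at h1
    obtain ⟨n, hn⟩ := Submonoid.mem_powers_iff _ _ |>.1 h1
    exact mem_K_of_normalize hg2 hg3 K_le_M24 n (by rw [hn]; group)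
  · have h1 : Subgroup.centralizer ((Subgroup.zpowers (aff u2 0) : Subgroup _) :
        Set (Equiv.Perm GolayPt)) ⊓ (M24 ⊓ stab0) = Subgroup.zpowers (aff u2 0) := by
      apply le_antisymm
      · rintro g ⟨hg1, hg2, hg3⟩
        have h2 : g * aff u2 0 = aff u2 0 * g :=
          (Subgroup.mem_centralizer_iff.1 hg1 _ (Subgroup.mem_zpowers _)).symm
        obtain ⟨a, ha, rfl⟩ := eq_aff_of_commute hg2 hg3 h2
        obtain ⟨n, hn⟩ := exists_pow_u2 a ha
        rw [hn, ← aff_zero_pow]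
        exact Subgroup.pow_mem _ (Subgroup.mem_zpowers _) _
      · apply le_inf
        · intro g hg
          rw [Subgroup.mem_centralizer_iff]
          intro h hh
          obtain ⟨m, rfl⟩ := Subgroup.mem_zpowers_iff.1 hg
          obtain ⟨n, rfl⟩ := Subgroup.mem_zpowers_iff.1 hh
          rw [← zpow_add, ← zpow_add, add_comm]
        · rw [Subgroup.zpowers_le]
          exact K_le_M23 ⟨u2, 0, isSquare_u2, rfl⟩
    rw [h1, Nat.card_zpowers, orderOf_aff_u2]
  · exact hKH
  · exact hHM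

theorem between_L {H : Subgroup (Equiv.Perm GolayPt)} (hLH : L ≤ H) (hHM : H ≤ M24) :
    H = L ∨ H = M24 := by
  have h1 := card_eq_of_L_le hLH
  have h2 := card_eq_of_L_le L_le_M24
  rcases between (le_inf (K_le_L.trans hLH) K_le_stab) (inf_le_inf_right stab0 hHM) with h | h
  · left
    rw [h, card_K] at h1
    exact (Subgroup.eq_of_le_of_card_ge hLH (by rw [h1, card_L])).symm
  · right
    rw [h] at h1
    exact Subgroup.eq_of_le_of_card_ge hHM (by rw [h1, h2])

/-- maximality of a subgroup inside a subgroup -/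
theorem isCoatom_subgroupOf {G : Type*} [Group G] {A M : Subgroup G} (hne : A ≠ M)
    (hAM : A ≤ M) (h : ∀ H : Subgroup G, A ≤ H → H ≤ M → H = A ∨ H = M) :
    IsCoatom (A.subgroupOf M) := by
  constructor
  · intro htop
    rw [Subgroup.subgroupOf_eq_top] at htop
    exact hne (le_antisymm hAM htop)
  · intro B hB
    have h1 : A ≤ B.map M.subtype := by
      intro a ha
      exact ⟨⟨a, hAM ha⟩, hB.le ha, rfl⟩
    rcases h _ h1 (Subgroup.map_subtype_le B) with h2 | h2
    · exfalso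
      apply hB.ne
      rw [← h2]
      show (B.map M.subtype).comap M.subtype = B
      exact Subgroup.comap_map_eq_self_of_injective M.subtype_injective B
    · rw [eq_top_iff]
      rintro ⟨x, hx⟩ _
      rw [← h2] at hx
      obtain ⟨y, hy, hyx⟩ := hx
      have : y = ⟨x, by assumption⟩ := Subtype.ext hyx
      rwa [this] at hy

theorem L_ne_M24 : L ≠ M24 := by
  intro h
  have h1 := card_L
  rw [h, Cfsg.Agent.S0364.result] at h1
  norm_num at h1

theorem K_ne_M23 : K ≠ M24 ⊓ stab0 := by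
  intro h
  have h1 := card_K
  rw [h, card_M23] at h1
  norm_num at h1

theorem isCoatom_K : IsCoatom ((K.subgroupOf M24).subgroupOf
    (MulAction.stabilizer M24 (none : GolayPt))) := by
  have h4 : MulAction.stabilizer M24 (none : GolayPt) = stab0.subgroupOf M24 := by
    ext x
    rfl
  rw [h4]
  apply isCoatom_subgroupOf
  · intro h
    apply K_ne_M23
    apply le_antisymm K_le_M23
    intro g hg
    have h5 : (⟨g, hg.1⟩ : M24) ∈ stab0.subgroupOf M24 := hg.2
    rw [← h] at h5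
    exact h5
  · intro g hg
    exact K_le_stab hg
  · intro H h1 h2
    have h3 : K ≤ H.map M24.subtype := by
      intro g hg
      exact ⟨⟨g, K_le_M24 hg⟩, h1 hg, rfl⟩
    have h5 : H.map M24.subtype ≤ M24 ⊓ stab0 := by
      rintro g ⟨x, hx, rfl⟩
      exact ⟨x.2, h2 hx⟩
    have h6 : (H.map M24.subtype).subgroupOf M24 = H :=
      Subgroup.comap_map_eq_self_of_injective M24.subtype_injective H
    rcases between h3 h5 with h | h
    · left
      rw [← h6, h]
    · right
      rw [← h6, h, Subgroup.inf_subgroupOf_left]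

/-- PSL(2, 23) = ⟨t ↦ t+1, t ↦ u t (u square), t ↦ −1/t⟩ is maximal of order 6072 in the group of the length-24 code, and its point stabiliser 23:11 (order 253) is maximal in the Mathieu group of degree 23. -/
theorem result : (Subgroup.closure ({Equiv.optionCongr (Equiv.addRight (1 : ZMod 23)), Cfsg.projInv} ∪ {g : Equiv.Perm Cfsg.GolayPt | ∃ u : (ZMod 23)ˣ, IsSquare u ∧ g = Equiv.optionCongr (Units.mulLeft u)}) ≤ Cfsg.M24 ∧ Nat.card ↥(Subgroup.closure ({Equiv.optionCongr (Equiv.addRight (1 : ZMod 23)), Cfsg.projInv} ∪ {g : Equiv.Perm Cfsg.GolayPt | ∃ u : (ZMod 23)ˣ, IsSquare u ∧ g = Equiv.optionCongr (Units.mulLeft u)})) = 6072 ∧ IsCoatom ((Subgroup.closure ({Equiv.optionCongr (Equiv.addRight (1 : ZMod 23)), Cfsg.projInv} ∪ {g : Equiv.Perm Cfsg.GolayPt | ∃ u : (ZMod 23)ˣ, IsSquare u ∧ g = Equiv.optionCongr (Units.mulLeft u)})).subgroupOf Cfsg.M24)) ∧ (Subgroup.closure ({Equiv.optionCongr (Equiv.addRight (1 : ZMod 23))} ∪ {g : Equiv.Perm Cfsg.GolayPt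 | ∃ u : (ZMod 23)ˣ, IsSquare u ∧ g = Equiv.optionCongr (Units.mulLeft u)}) ≤ Cfsg.M24 ⊓ MulAction.stabilizer (Equiv.Perm Cfsg.GolayPt) (none : Cfsg.GolayPt) ∧ Nat.card ↥(Subgroup.closure ({Equiv.optionCongr (Equiv.addRight (1 : ZMod 23))} ∪ {g : Equiv.Perm Cfsg.GolayPt | ∃ u : (ZMod 23)ˣ, IsSquare u ∧ g = Equiv.optionCongr (Units.mulLeft u)})) = 253 ∧ IsCoatom (((Subgroup.closure ({Equiv.optionCongr (Equiv.addRight (1 : ZMod 23))} ∪ {g : Equiv.Perm Cfsg.GolayPt | ∃ u : (ZMod 23)ˣ, IsSquare u ∧ g = Equiv.optionCongr (Units.mulLeft u)})).subgroupOf Cfsg.M24).subgroupOf (MulAction.stabilizer Cfsg.M24 (none : Cfsg.GolayPt)))) := by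
  refine ⟨⟨L_le_M24, card_L, ?_⟩, ?_⟩
  · exact isCoatom_subgroupOf L_ne_M24 L_le_M24 fun H h1 h2 => between_L h1 h2
  · rw [closure_eq_K]
    exact ⟨K_le_M23, card_K, isCoatom_K⟩

end Cfsg.Agent.S1643
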