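import Cfsg.Statements.S1645
import Cfsg.Agent.SporRec.LyDegree
import Cfsg.Agent.SporRec.TwoNine.Main

set_option autoImplicit false
open Cfsg

namespace Cfsg.Agent.S1645

/-- If some involution of a finite simple group has centraliser a non-split double cover of the alternating group of degree n ≥ 5, then n is 8 or 11 (the McLaughlin and Lyons cases). -/
theorem result {G : Type*} [Group G] [Finite G] [IsSimpleGroup G] (n : ℕ) (hn : 5 ≤ n) (z : G) (hz : orderOf z = 2) (hcov : Cfsg.IsNonsplitDoubleCover (Subgroup.centralizer ({z} : Set G)) (alternatingGroup (Fin n))) : n = 8 ∨ n = 11 := by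
  obtain ⟨h8, π, h, u, huu, hu1, huz, hc, g, hgz, hgu⟩ :=
    Cfsg.Agent.SporRec.LyReduce.reduce n hn z hz hcov
  have h12 := Cfsg.Agent.SporRec.LyDegree.degree_lt h huu hu1 huz hc hgz hgu
  by_contra hno
  have hn9 : n = 9 ∨ n = 10 := by omega
  exact Cfsg.Agent.SporRec.TwoNine.Main.nine_ten hn9 h huu hu1 huz hc ⟨g, hgz⟩

end Cfsg.Agent.S1645
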