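import Cfsg.Statements.S1652
import Cfsg.Agent.J3Type.Assembly

set_option autoImplicit false
open Cfsg

namespace Cfsg.Agent.S1652

open Cfsg.Agent.J2Type.Model Cfsg.Agent.J2Type.SPFacts Cfsg.Agent.J2Type.CStruct
open Cfsg.Agent.J3Type.OneClass Cfsg.Agent.J3Type.FarPairs

theorem allSplit {G : Type*} [Group G] [Finite G] (t : G) (ht : orderOf t = 2)
    (Q : Subgroup (Subgroup.centralizer ({t} : Set G))) [Q.Normal] (hQ : Cfsg.IsExtraspecial 2 Q)
    (hcard : Nat.card Q = 32)
    (h2c : Subgroup.centralizer (Q : Set (Subgroup.centralizer ({t} : Set G))) ≤ Q)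
    (h60 : Nat.card ((Subgroup.centralizer ({t} : Set G)) ⧸ Q) = 60)
    (hone : ∀ x y : G, orderOf x = 2 → orderOf y = 2 → IsConj x y) : AllSplit G := by
  obtain ⟨z', v, ρ, M⟩ := Cfsg.Agent.J2Type.ModelExists.exists_model Q hQ hcard h2c h60
  have h1920 : Nat.card (Subgroup.centralizer ({t} : Set G)) = 1920 := by
    have := Subgroup.card_eq_card_quotient_mul_card_subgroup Q
    rw [h60, hcard] at this
    omega
  have hz' : z' = zc t := by
    rcases Cfsg.Agent.J2Type.Fusion.eq_of_comm_v M (c := zc t)
      (fun i => Subtype.ext (Subgroup.mem_centralizer_singleton_iff.1 (v i).2).symm) with h | h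
    · exfalso
      exact ne_one_of_orderOf ht (congrArg Subtype.val h)
    · exact h.symm
  subst hz'
  have hv2 : orderOf (v 0 : G) = 2 := by
    apply orderOf_eq_two
    · exact congrArg Subtype.val (M.v_sq 0)
    · intro h
      apply v_ne_one M 0 0
      rw [zp_zero, one_mul]
      exact Subtype.ext h
  obtain ⟨u, hu, huQ⟩ := exists_outer M 0 (isConj_iff.1 (hone t (v 0) ht hv2))
  intro s hs
  obtain ⟨g, hg⟩ := isConj_iff.1 (hone t s ht hs)
  set e := conjEquiv g t s hg with he
  have M' := transport e M
  have hz : e (zc t) = zc s := Subtype.ext hg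
  rw [hz] at M'
  refine ⟨?_, _, _, _, M', e u, ?_, ?_⟩
  · rw [← h1920]
    exact (Nat.card_congr e.toEquiv).symm
  · rw [← map_mul, hu, map_one]
  · rintro ⟨q, hq, hqe⟩
    have : q = u := e.injective hqe
    rw [this] at hq
    exact huQ hq

/-- A group of J₃ type contains SL(2,16):2: let a finite simple group have a single conjugacy class of involutions and an involution t whose centraliser C has a normal extraspecial subgroup Q of order 32 with no elementary abelian subgroup of order 8, whose centraliser in C lies in Q, with C / Q isomorphic to the alternating group of degree 5. Then some subgroup H has a normal subgroup of index 2 isomorphic to the special linear group of dimension 2 over a field with 16 elements. -/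
theorem result {G : Type*} [Group G] [Finite G] [IsSimpleGroup G] (t : G) (ht : orderOf t = 2) (Q : Subgroup (Subgroup.centralizer ({t} : Set G))) [Q.Normal] (hQ : Cfsg.IsExtraspecial 2 Q) (hcard : Nat.card Q = 32) (hminus : ∀ E : Subgroup Q, Cfsg.IsElementaryAbelian 2 E → Nat.card E ≤ 2 ^ 2) (h2c : Subgroup.centralizer (Q : Set (Subgroup.centralizer ({t} : Set G))) ≤ Q) (e : (Subgroup.centralizer ({t} : Set G)) ⧸ Q ≃* alternatingGroup (Fin 5)) (hone : ∀ x y : G, orderOf x = 2 → orderOf y = 2 → IsConj x y) : ∃ (H : Subgroup G) (N : Subgroup H) (K : Type) (_ : Field K) (_ : Fintype K), N.Normal ∧ N.index = 2 ∧ Fintype.card K = 16 ∧ Nonempty (N ≃* Matrix.SpecialLinearGroup (Fin 2) K) := by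
  have h60 : Nat.card ((Subgroup.centralizer ({t} : Set G)) ⧸ Q) = 60 := by
    rw [Nat.card_congr e.toEquiv, Nat.card_eq_fintype_card]
    rfl
  exact Cfsg.Agent.J3Type.Assembly.main hone (allSplit t ht Q hQ hcard h2c h60 hone) t ht

end Cfsg.Agent.S1652
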