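import Cfsg.Statements.S1668
import Cfsg.Agent.SporRec.R3.SuzFinal
import Cfsg.Agent.SporRec.R3.SuzLink

set_option autoImplicit false
set_option linter.unusedSectionVars false
open Cfsg

namespace Cfsg.Agent.S1668

open Cfsg.Agent.SporRec.R3 Cfsg.Agent.SporRec.R3.Config

section
variable {Ω : Type*} [Fintype Ω] [DecidableEq Ω] {G : Subgroup (Equiv.Perm Ω)}
  {a : Ω} {H : Type*} [Group H]

/-- the orbit as a finset -/
noncomputable def orbF (G : Subgroup (Equiv.Perm Ω)) (a b : Ω) : Finset Ω :=
  (Set.toFinite (MulAction.orbit (MulAction.stabilizer G a) b)).toFinset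

theorem mem_orbF (b x : Ω) : x ∈ orbF G a b ↔ x ∈ MulAction.orbit (MulAction.stabilizer G a) b := by
  simp [orbF]

theorem card_orbF (b : Ω) : (orbF G a b).card = (MulAction.orbit (MulAction.stabilizer G a) b).ncard := by
  rw [Set.ncard_eq_toFinset_card _ (Set.toFinite _)]; rfl

/-- the homomorphism of the stabiliser -/
def actHom (G : Subgroup (Equiv.Perm Ω)) (a : Ω) (e : H ≃* MulAction.stabilizer G a) : H →* Equiv.Perm Ω :=
  (G.subtype.comp (MulAction.stabilizer G a).subtype).comp e.toMonoidHom

theorem actHom_apply (e : H ≃* MulAction.stabilizer G a) (h : H) (x : Ω) :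
    actHom G a e h x = (e h) • x := rfl

theorem actHom_inj (e : H ≃* MulAction.stabilizer G a) : Function.Injective (actHom G a e) := by
  intro x y h
  apply e.injective
  exact Subtype.ext (Subtype.ext h)

theorem orb_a_self (x : Ω) (hx : x ∈ MulAction.orbit (MulAction.stabilizer G a) a) : x = a := by
  obtain ⟨s, rfl⟩ := hx
  exact s.2

theorem notMem_orbF (b : Ω) (hb : (MulAction.orbit (MulAction.stabilizer G a) b).ncard ≠ 1) :
    a ∉ orbF G a b := by
  rw [mem_orbF]
  intro h
  apply hb
  rw [← MulAction.orbit_eq_iff] at h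
  rw [← h]
  have : MulAction.orbit (MulAction.stabilizer G a) a = {a} := by
    ext x
    exact ⟨fun hx => orb_a_self x hx, fun hx => by
      rw [Set.mem_singleton_iff] at hx
      rw [hx]; exact MulAction.mem_orbit_self a⟩
  rw [this, Set.ncard_singleton]

theorem disj_orbF (b c : Ω) (h : (MulAction.orbit (MulAction.stabilizer G a) b).ncard ≠
    (MulAction.orbit (MulAction.stabilizer G a) c).ncard) : Disjoint (orbF G a b) (orbF G a c) := by
  rw [Finset.disjoint_left]
  intro x hx hx'
  rw [mem_orbF, ← MulAction.orbit_eq_iff] at hx hx'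
  apply h
  rw [← hx, ← hx']

theorem cover_orbF (hΩ : Fintype.card Ω = 1782) (b c : Ω)
    (hb : (MulAction.orbit (MulAction.stabilizer G a) b).ncard = 416)
    (hc : (MulAction.orbit (MulAction.stabilizer G a) c).ncard = 1365) (x : Ω) :
    x = a ∨ x ∈ orbF G a b ∨ x ∈ orbF G a c := by
  have h1 : a ∉ orbF G a b ∪ orbF G a c := by
    rw [Finset.mem_union, not_or]
    exact ⟨notMem_orbF b (by rw [hb]; norm_num), notMem_orbF c (by rw [hc]; norm_num)⟩
  have h2 : (insert a (orbF G a b ∪ orbF G a c)).card = 1782 := by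
    rw [Finset.card_insert_of_notMem h1, Finset.card_union_of_disjoint
      (disj_orbF b c (by rw [hb, hc]; norm_num)), card_orbF, card_orbF, hb, hc]
  have h3 : insert a (orbF G a b ∪ orbF G a c) = Finset.univ := by
    apply Finset.eq_univ_of_card
    rw [h2]; exact hΩ.symm
  have h4 : x ∈ insert a (orbF G a b ∪ orbF G a c) := by rw [h3]; exact Finset.mem_univ _
  rw [Finset.mem_insert, Finset.mem_union] at h4
  exact h4

/-- the configuration -/
noncomputable def conf (hΩ : Fintype.card Ω = 1782) [MulAction.IsPretransitive G Ω]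
    (e : H ≃* MulAction.stabilizer G a) (b c : Ω)
    (hb : (MulAction.orbit (MulAction.stabilizer G a) b).ncard = 416)
    (hc : (MulAction.orbit (MulAction.stabilizer G a) c).ncard = 1365) : Conf Ω H where
  G := G
  α := a
  act := actHom G a e
  Δ := orbF G a b
  Λ := orbF G a c
  trans x y := by
    obtain ⟨g, hg⟩ := MulAction.exists_smul_eq G x y
    exact ⟨g, g.2, hg⟩
  act_mem h := (e h : G).2
  act_fix h := (e h).2
  act_surj g hg hga := by
    refine ⟨e.symm ⟨⟨g, hg⟩, hga⟩, ?_⟩
    unfold actHom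
    simp
  hΔ h x hx := by
    rw [mem_orbF] at hx ⊢
    rw [actHom_apply]
    exact MulAction.mem_orbit_of_mem_orbit _ hx
  hΛ h x hx := by
    rw [mem_orbF] at hx ⊢
    rw [actHom_apply]
    exact MulAction.mem_orbit_of_mem_orbit _ hx
  tΔ x hx y hy := by
    rw [mem_orbF] at hx hy
    rw [← MulAction.orbit_eq_iff] at hx
    rw [← hx] at hy
    obtain ⟨s, hs⟩ := hy
    exact ⟨e.symm s, by rw [actHom_apply, MulEquiv.apply_symm_apply]; exact hs⟩
  tΛ x hx y hy := by
    rw [mem_orbF] at hx hy
    rw [← MulAction.orbit_eq_iff] at hx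
    rw [← hx] at hy
    obtain ⟨s, hs⟩ := hy
    exact ⟨e.symm s, by rw [actHom_apply, MulEquiv.apply_symm_apply]; exact hs⟩
  cover := cover_orbF hΩ b c hb hc
  αΔ := notMem_orbF b (by rw [hb]; norm_num)
  αΛ := notMem_orbF c (by rw [hc]; norm_num)
  disj := disj_orbF b c (by rw [hb, hc]; norm_num)
  neΔ := ⟨b, by rw [mem_orbF]; exact MulAction.mem_orbit_self b⟩
  neΛ := ⟨c, by rw [mem_orbF]; exact MulAction.mem_orbit_self c⟩
  card_ne := by rw [card_orbF, card_orbF, hb, hc]; norm_num

end

/-- Recognition of the sporadic Suzuki group as a rank 3 permutation group: a transitive permutation group on 1782 points in which the stabiliser of a point is isomorphic to the Chevalley group G₂(4) and has two further orbits, of sizes 416 and 1365, is isomorphic to the sporadic Suzuki group. -/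
theorem result {Ω : Type*} [Fintype Ω] [DecidableEq Ω] (hΩ : Fintype.card Ω = 1782) (G : Subgroup (Equiv.Perm Ω)) [MulAction.IsPretransitive G Ω] (a : Ω) (K : Type) [Field K] [Fintype K] (hK : Fintype.card K = 4) (e : MulAction.stabilizer G a ≃* Cfsg.Lie.chevG2.group K) (b c : Ω) (hb : (MulAction.orbit (MulAction.stabilizer G a) b).ncard = 416) (hc : (MulAction.orbit (MulAction.stabilizer G a) c).ncard = 1365) : Cfsg.Spor.IsoSuz G := by
  obtain ⟨f⟩ := SuzLink.link_H K hK
  let e' : SuzAct.Hs ≃* MulAction.stabilizer G a := f.symm.trans e.symm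
  obtain ⟨u⟩ := SuzFinal.final SuzLink.Sp_trans SuzLink.Sp_stab SuzLink.card_Hs SuzLink.card_Sp
    SuzLink.simple_Sp (conf hΩ e' b c hb hc) hΩ ((card_orbF b).trans hb) ((card_orbF c).trans hc)
    (actHom_inj e')
  obtain ⟨v⟩ := SuzLink.link_Sp
  exact ⟨MulEquiv.trans (show G ≃* SuzAct.Sp from u) v.symm⟩

end Cfsg.Agent.S1668
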