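import Cfsg.Statements.S1677
import Cfsg.Agent.S1718
import Cfsg.Agent.CoOneNWC.Shell
import Cfsg.Agent.CoOneNWC.Main

set_option autoImplicit false
open Cfsg

namespace Cfsg.Agent.S1677

/-- The first Conway group from an involution centraliser: let G be a finite group with no non-trivial normal subgroup of odd order and trivial centre, and let t be an involution whose centraliser C is 2-constrained with O₂(C) extraspecial of order 2 ^ 9 and C / O₂(C) isomorphic to Ω⁺(8, 2), the commutator subgroup of the isometry group of the hyperbolic quadratic form in dimension 8 over the field with 2 elements. Then G is isomorphic to the first Conway group (the Leech lattice automorphism group modulo its centre). -/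
theorem result {G : Type*} [Group G] [Finite G] (hO : Cfsg.oddCore G = ⊥) (hZ : Subgroup.center G = ⊥) (t : G) (ht : orderOf t = 2) (hcon : Cfsg.IsPConstrained 2 (Subgroup.centralizer ({t} : Set G))) (hQ : Cfsg.IsExtraspecial 2 (Cfsg.pCore 2 (Subgroup.centralizer ({t} : Set G)))) (hcard : Nat.card (Cfsg.pCore 2 (Subgroup.centralizer ({t} : Set G))) = 2 ^ 9) (e : (Subgroup.centralizer ({t} : Set G)) ⧸ Cfsg.pCore 2 (Subgroup.centralizer ({t} : Set G)) ≃* Cfsg.Omega (ZMod 2) (Cfsg.quadFormPlus 4 (ZMod 2))) : Cfsg.Spor.IsoCo1 G := by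
  obtain ⟨g, hne, hc⟩ := Cfsg.Agent.CoOneNWC.Shell.exists_conj hO hZ t ht
  obtain ⟨g', hq, hne'⟩ := Cfsg.Agent.CoOneNWC.nwc
    (Cfsg.Agent.CoOneNWC.Shell.hyp t ht hcon hQ hcard e) g hne hc
  have hF := Cfsg.Agent.CoOneNWC.Shell.genFitting_eq t hcon e
  obtain ⟨c, hcQ, hce⟩ := hq
  have hce' : (c : G) = g' * t * g'⁻¹ := hce
  refine Cfsg.Agent.S1718.result t ht _ hF hQ hcard e ⟨g', ⟨?_, ?_⟩, hne'⟩
  · rw [← hce']; exact c.2
  · have : (⟨g' * t * g'⁻¹, by rw [← hce']; exact c.2⟩ : Subgroup.centralizer ({t} : Set G)) = c :=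
      Subtype.ext hce'.symm
    rw [this]; exact hcQ

end Cfsg.Agent.S1677
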