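import Cfsg.Statements.S1681
import Cfsg.Agent.SporadicRecognition.CosetCertHyp
import Cfsg.Agent.SporadicRecognition.SuzU43All
import Cfsg.Agent.SporadicRecognition.SuzU43Rel

set_option autoImplicit false
open Cfsg

namespace Cfsg.Agent.S1681

open Cfsg.Spor Cfsg.Agent.Lib.PermNet Cfsg.Agent.Lib.PermNetOrbit
open Cfsg.Agent.SporadicRecognition.CosetCert Cfsg.Agent.SporadicRecognition.CosetCertHyp
open Cfsg.Agent.SporadicRecognition.SuzU43Data Cfsg.Agent.SporadicRecognition.SuzU43All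
open Cfsg.Agent.SporadicRecognition.SuzU43Rel

/-- The subgroup of the statement. -/
abbrev HH : Subgroup Suz := ((Subgroup.closure ({Cfsg.Spor.Suz.a, Cfsg.Spor.Suz.b, Cfsg.Spor.Suz.c, Cfsg.Spor.Suz.d, Cfsg.Spor.Suz.f, Cfsg.Spor.Suz.g} : Set (FreeGroup Cfsg.Spor.Suz.Gen))).map (PresentedGroup.mk (Cfsg.Spor.coxRelators Cfsg.Spor.Suz.edges ∪ {r | r ∈ Cfsg.Spor.Suz.extra})))

/-- The relators. -/
abbrev RR : Set (FreeGroup Suz.Gen) := coxRelators Suz.edges ∪ {r | r ∈ Suz.extra}

/-- The generators in the presented group. -/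
def γ (x : Suz.Gen) : Suz := PresentedGroup.mk RR (FreeGroup.of x)

theorem rel_one {r : FreeGroup Suz.Gen} (h : r ∈ Suz.extra) : PresentedGroup.mk RR r = 1 :=
  PresentedGroup.one_of_mem (Or.inr h)

theorem cox_one (x y : Suz.Gen) : (γ x * γ y) ^ coxLabel Suz.edges x y = 1 := by
  have hx : ∀ z : Suz.Gen, z ∈ coxNodes Suz.edges := by
    intro z
    cases z <;> decide
  have h : PresentedGroup.mk RR ((FreeGroup.of x * FreeGroup.of y) ^ coxLabel Suz.edges x y) = 1 :=
    PresentedGroup.one_of_mem (Or.inl ⟨x, hx x, y, hx y, rfl⟩)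
  rw [map_pow, map_mul] at h
  exact h

theorem sq (x : Suz.Gen) : γ x * γ x = 1 := by
  have h := cox_one x x
  have h1 : coxLabel Suz.edges x x = 1 := by cases x <;> decide
  rw [h1, pow_one] at h
  exact h

theorem inv_eq (x : Suz.Gen) : (γ x)⁻¹ = γ x := by
  rw [inv_eq_iff_mul_eq_one]
  exact sq x

/-- Generators by number. -/
def gg (n : ℕ) : Suz :=
  match n with
  | 0 => γ .a
  | 1 => γ .b
  | 2 => γ .c
  | 3 => γ .d
  | 4 => γ .e
  | 5 => γ .f
  | 6 => γ .g
  | _ => 1

theorem e1 : γ .a = (γ .c * γ .d) ^ 4 := by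
  have h := rel_one (r := Suz.a * ((Suz.c * Suz.d) ^ 4)⁻¹) (by simp [Suz.extra])
  simp only [map_mul, map_inv, map_pow] at h
  exact mul_inv_eq_one.1 h

theorem e2 : γ .a = (γ .f * γ .g) ^ 2 := by
  have h := rel_one (r := Suz.a * ((Suz.f * Suz.g) ^ 2)⁻¹) (by simp [Suz.extra])
  simp only [map_mul, map_inv, map_pow] at h
  exact mul_inv_eq_one.1 h

theorem e3 : (γ .a * γ .b * γ .c * γ .f) ^ 5 = 1 := by
  have h := rel_one (r := (Suz.a * Suz.b * Suz.c * Suz.f) ^ 5) (by simp [Suz.extra])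
  simp only [map_mul, map_pow] at h
  exact h

theorem e4 : (γ .b * γ .f * γ .g) ^ 5 = 1 := by
  have h := rel_one (r := (Suz.b * Suz.f * Suz.g) ^ 5) (by simp [Suz.extra])
  simp only [map_mul, map_pow] at h
  exact h

theorem e5 : ((γ .b * γ .c * γ .d * γ .c * γ .d) ^ 5 * γ .e) ^ 3 = 1 := by
  have h := rel_one (r := ((Suz.b * Suz.c * Suz.d * Suz.c * Suz.d) ^ 5 * Suz.e) ^ 3) (by simp [Suz.extra])
  simp only [map_mul, map_pow] at h
  exact h

theorem ev_pair (x y m : ℕ) : ev gg ((List.replicate m [x, y]).flatten) = (gg x * gg y) ^ m := by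
  induction m with
  | zero => simp [ev_nil]
  | succ m ih =>
    rw [List.replicate_succ, List.flatten_cons, ev_append, ih, pow_succ', ev_cons, ev_cons, ev_nil, mul_one]

theorem ev_pow (l : List ℕ) (m : ℕ) : ev gg ((List.replicate m l).flatten) = (ev gg l) ^ m := by
  induction m with
  | zero => simp [ev_nil]
  | succ m ih =>
    rw [List.replicate_succ, List.flatten_cons, ev_append, ih, pow_succ']

set_option maxRecDepth 10000 in
theorem rels_ev : ∀ r ∈ rels, ev gg r = 1 := by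
  intro r hr
  unfold rels at hr
  simp only [List.mem_cons, List.not_mem_nil, or_false] at hr
  rcases hr with rfl | rfl | rfl | rfl | rfl | rfl | rfl | rfl | rfl | rfl | rfl | rfl | rfl | rfl | rfl | rfl | rfl | rfl | rfl | rfl | rfl | rfl | rfl | rfl | rfl | rfl
  · exact (ev_pair 0 2 2).trans (cox_one .a .c)
  · exact (ev_pair 0 3 2).trans (cox_one .a .d)
  · exact (ev_pair 0 4 2).trans (cox_one .a .e)
  · exact (ev_pair 0 5 2).trans (cox_one .a .f)
  · exact (ev_pair 0 6 2).trans (cox_one .a .g)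
  · exact (ev_pair 1 3 2).trans (cox_one .b .d)
  · exact (ev_pair 1 4 2).trans (cox_one .b .e)
  · exact (ev_pair 2 4 2).trans (cox_one .c .e)
  · exact (ev_pair 2 5 2).trans (cox_one .c .f)
  · exact (ev_pair 2 6 2).trans (cox_one .c .g)
  · exact (ev_pair 3 5 2).trans (cox_one .d .f)
  · exact (ev_pair 3 6 2).trans (cox_one .d .g)
  · exact (ev_pair 4 5 2).trans (cox_one .e .f)
  · exact (ev_pair 4 6 2).trans (cox_one .e .g)
  · have h : (γ .g * γ .f) ^ 2 = γ .a := by
      have h1 : γ .g * γ .f = (γ .f * γ .g)⁻¹ := by rw [mul_inv_rev, inv_eq, inv_eq]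
      rw [h1, inv_pow, ← e2, inv_eq]
    rw [ev_cons, show ([6, 5, 6, 5] : List ℕ) = (List.replicate 2 [6, 5]).flatten from rfl, ev_pair]
    change γ .a * (γ .g * γ .f) ^ 2 = 1
    rw [h, sq]
  · exact (ev_pair 1 2 3).trans (cox_one .b .c)
  · exact (ev_pair 3 4 3).trans (cox_one .d .e)
  · exact (ev_pair 1 5 3).trans (cox_one .b .f)
  · exact (ev_pair 6 1 3).trans (cox_one .g .b)
  · exact (ev_pair 5 6 4).trans (cox_one .f .g)
  · have h : (γ .d * γ .c) ^ 4 = γ .a := by
      have h1 : γ .d * γ .c = (γ .c * γ .d)⁻¹ := by rw [mul_inv_rev, inv_eq, inv_eq]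
      rw [h1, inv_pow, ← e1, inv_eq]
    rw [ev_cons, show ([3, 2, 3, 2, 3, 2, 3, 2] : List ℕ) = (List.replicate 4 [3, 2]).flatten from rfl, ev_pair]
    change γ .a * (γ .d * γ .c) ^ 4 = 1
    rw [h, sq]
  · exact (ev_pair 0 1 5).trans (cox_one .a .b)
  · refine (ev_pow [1, 5, 6] 5).trans ?_
    rw [ev_cons, ev_cons, ev_cons, ev_nil, mul_one, ← mul_assoc]
    exact e4
  · exact (ev_pair 2 3 8).trans (cox_one .c .d)
  · refine (ev_pow [0, 1, 2, 5] 5).trans ?_
    rw [ev_cons, ev_cons, ev_cons, ev_cons, ev_nil, mul_one, ← mul_assoc, ← mul_assoc]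
    exact e3
  · refine (ev_pow ((List.replicate 5 [1, 2, 3, 2, 3]).flatten ++ [4]) 3).trans ?_
    rw [ev_append, ev_pow, ev_cons, ev_cons, ev_cons, ev_cons, ev_cons, ev_nil, ev_cons, ev_nil, mul_one, mul_one,
      ← mul_assoc, ← mul_assoc, ← mul_assoc]
    exact e5

theorem subw_ev : ∀ s ∈ subw, ev gg s ∈ HH := by
  intro s hs
  unfold subw at hs
  simp only [List.mem_cons, List.not_mem_nil, or_false] at hs
  rcases hs with rfl | rfl | rfl | rfl | rfl | rfl <;> rw [ev_cons, ev_nil, mul_one]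
  · exact Subgroup.mem_map_of_mem _ (Subgroup.subset_closure (by simp))
  · exact Subgroup.mem_map_of_mem _ (Subgroup.subset_closure (by simp))
  · exact Subgroup.mem_map_of_mem _ (Subgroup.subset_closure (by simp))
  · exact Subgroup.mem_map_of_mem _ (Subgroup.subset_closure (by simp))
  · exact Subgroup.mem_map_of_mem _ (Subgroup.subset_closure (by simp))
  · exact Subgroup.mem_map_of_mem _ (Subgroup.subset_closure (by simp))

theorem check_ok : checkHyp C rels subw = true := by decide +kernel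

theorem hyp : Hyp C HH gg := by
  apply hyp_of_checks HH gg C rels subw
  · rfl
  · intro x hx
    have hx' : x < 7 := hx
    refine ⟨hx', ?_⟩
    change gg x * gg x = 1
    interval_cases x
    · exact sq .a
    · exact sq .b
    · exact sq .c
    · exact sq .d
    · exact sq .e
    · exact sq .f
    · exact sq .g
  · exact rels_ev
  · exact subw_ev
  · exact check_ok

theorem closure_top : Subgroup.closure (gg '' {x | x < C.k}) = ⊤ := by
  rw [eq_top_iff, ← PresentedGroup.closure_range_of RR, Subgroup.closure_le]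
  rintro _ ⟨x, rfl⟩
  apply Subgroup.subset_closure
  have h7 : C.k = 7 := rfl
  cases x
  · exact ⟨0, by rw [Set.mem_ofPred_eq, h7]; norm_num, rfl⟩
  · exact ⟨1, by rw [Set.mem_ofPred_eq, h7]; norm_num, rfl⟩
  · exact ⟨2, by rw [Set.mem_ofPred_eq, h7]; norm_num, rfl⟩
  · exact ⟨3, by rw [Set.mem_ofPred_eq, h7]; norm_num, rfl⟩
  · exact ⟨4, by rw [Set.mem_ofPred_eq, h7]; norm_num, rfl⟩
  · exact ⟨5, by rw [Set.mem_ofPred_eq, h7]; norm_num, rfl⟩
  · exact ⟨6, by rw [Set.mem_ofPred_eq, h7]; norm_num, rfl⟩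

theorem fix (h : Suz) (hh : h ∈ HH) : φ h 0 = 0 := by
  have key : HH ≤ (MulAction.stabilizer (Equiv.Perm ℕ) (0 : ℕ)).comap φ := by
    rw [Subgroup.map_le_iff_le_comap, Subgroup.closure_le]
    intro x hx
    simp only [Set.mem_insert_iff, Set.mem_singleton_iff] at hx
    rcases hx with rfl | rfl | rfl | rfl | rfl | rfl
    · change φ (PresentedGroup.mk RR (FreeGroup.of .a)) 0 = 0
      rw [φ_of, ← Net.pt_eq (net_ok .a)]; exact fix_a
    · change φ (PresentedGroup.mk RR (FreeGroup.of .b)) 0 = 0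
      rw [φ_of, ← Net.pt_eq (net_ok .b)]; exact fix_b
    · change φ (PresentedGroup.mk RR (FreeGroup.of .c)) 0 = 0
      rw [φ_of, ← Net.pt_eq (net_ok .c)]; exact fix_c
    · change φ (PresentedGroup.mk RR (FreeGroup.of .d)) 0 = 0
      rw [φ_of, ← Net.pt_eq (net_ok .d)]; exact fix_d
    · change φ (PresentedGroup.mk RR (FreeGroup.of .f)) 0 = 0
      rw [φ_of, ← Net.pt_eq (net_ok .f)]; exact fix_f
    · change φ (PresentedGroup.mk RR (FreeGroup.of .g)) 0 = 0
      rw [φ_of, ← Net.pt_eq (net_ok .g)]; exact fix_g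
  exact key hh


/-- In the presented sporadic Suzuki group (generators a, …, g), the subgroup generated by the images of a, b, c, d, f, g has index 22880. -/
theorem result : (((Subgroup.closure ({Cfsg.Spor.Suz.a, Cfsg.Spor.Suz.b, Cfsg.Spor.Suz.c, Cfsg.Spor.Suz.d, Cfsg.Spor.Suz.f, Cfsg.Spor.Suz.g} : Set (FreeGroup Cfsg.Spor.Suz.Gen))).map (PresentedGroup.mk (Cfsg.Spor.coxRelators Cfsg.Spor.Suz.edges ∪ {r | r ∈ Cfsg.Spor.Suz.extra})))).index = 22880 := by

  have h1 := index_le C HH gg hyp part closure_top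
  exact (index_eq_of_action HH φ 22880 fix transitive h1.2 h1.1).1

end Cfsg.Agent.S1681
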