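import Cfsg.Statements.S1691

set_option autoImplicit false
open Cfsg

namespace Cfsg.Agent.S1691

open Cfsg.Spor

/-- every generator is sent to `-1`. -/
def sgnGen : Fi24.Gen → ℤˣ := fun _ => -1

theorem sgn_rel : ∀ r ∈ coxRelators Fi24.edges ∪ {r | r ∈ Fi24.extra}, FreeGroup.lift sgnGen r = 1 := by
  intro r hr
  rcases hr with hr | hr
  · obtain ⟨x, _, y, _, rfl⟩ := hr
    rw [map_pow, map_mul, FreeGroup.lift_apply_of, FreeGroup.lift_apply_of]
    simp [sgnGen]
  · have hr' : r ∈ Fi24.extra := hr
    rw [Fi24.extra] at hr'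
    simp only [List.mem_cons, List.mem_nil_iff, or_false] at hr'
    rcases hr' with rfl | rfl
    · simp only [map_mul, map_inv, map_pow, FreeGroup.lift_apply_of, sgnGen]
      decide
    · simp only [map_mul, map_pow, FreeGroup.lift_apply_of, sgnGen]
      decide

/-- the sign homomorphism -/
def sgn : Fi24 →* ℤˣ := PresentedGroup.toGroup sgn_rel

theorem sgn_of (x : Fi24.Gen) : sgn (PresentedGroup.of x) = -1 :=
  PresentedGroup.toGroup.of sgn_rel

theorem rel_pow (x y : Fi24.Gen) (hx : x ∈ coxNodes Fi24.edges) (hy : y ∈ coxNodes Fi24.edges) :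
    ((PresentedGroup.of x * PresentedGroup.of y : Fi24)) ^ coxLabel Fi24.edges x y = 1 := by
  have : ((FreeGroup.of x * FreeGroup.of y) ^ coxLabel Fi24.edges x y) ∈
      coxRelators Fi24.edges ∪ {r | r ∈ Fi24.extra} := Or.inl ⟨x, hx, y, hy, rfl⟩
  have h := PresentedGroup.one_of_mem this
  rw [map_pow, map_mul] at h
  exact h

theorem mem_nodes : ∀ x : Fi24.Gen, x ∈ coxNodes Fi24.edges := by
  intro x
  cases x <;> decide

theorem sq (x : Fi24.Gen) : (PresentedGroup.of x * PresentedGroup.of x : Fi24) = 1 := by
  have h := rel_pow x x (mem_nodes x) (mem_nodes x)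
  have h1 : coxLabel Fi24.edges x x = 1 := by simp [coxLabel]
  rwa [h1, pow_one] at h

/-- image in the abelianization -/
def im (x : Fi24.Gen) : Abelianization Fi24 := Abelianization.of (PresentedGroup.of x)

theorem im_sq (x : Fi24.Gen) : im x * im x = 1 := by
  unfold im
  rw [← map_mul, sq, map_one]

theorem im_eq (x y : Fi24.Gen) (h3 : coxLabel Fi24.edges x y = 3) : im x = im y := by
  have h := rel_pow x y (mem_nodes x) (mem_nodes y)
  rw [h3] at h
  have h' : (im x * im y) ^ 3 = 1 := by
    unfold im
    rw [← map_mul, ← map_pow, h, map_one]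
  have hxy : im x * im y = 1 := by
    have : (im x * im y) ^ 3 = (im x * im x) * (im y * im y) * (im x * im y) := by
      rw [pow_succ, pow_two, mul_mul_mul_comm (im x) (im y) (im x) (im y)]
    rw [this, im_sq, im_sq, one_mul, one_mul] at h'
    exact h'
  calc im x = im x * (im y * im y) := by rw [im_sq, mul_one]
    _ = (im x * im y) * im y := by rw [mul_assoc]
    _ = im y := by rw [hxy, one_mul]

theorem im_all (x : Fi24.Gen) : im x = im .d := by
  have hlk := im_eq .l .k (by decide)
  have hka := im_eq .k .a (by decide)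
  have hab := im_eq .a .b (by decide)
  have hbc := im_eq .b .c (by decide)
  have hcd := im_eq .c .d (by decide)
  have hde := im_eq .d .e (by decide)
  have hef := im_eq .e .f (by decide)
  have hfg := im_eq .f .g (by decide)
  have hgj := im_eq .g .j (by decide)
  have hdh := im_eq .d .h (by decide)
  have hhi := im_eq .h .i (by decide)
  cases x
  · rw [hlk, hka, hab, hbc, hcd]
  · rw [hka, hab, hbc, hcd]
  · rw [hab, hbc, hcd]
  · rw [hbc, hcd]
  · rw [hcd]
  · rfl
  · rw [hde]
  · rw [hde, hef]
  · rw [hde, hef, hfg]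
  · rw [hde, hef, hfg, hgj]
  · rw [hdh]
  · rw [hdh, hhi]

theorem mem_pair (g : Fi24) : Abelianization.of g = 1 ∨ Abelianization.of g = im .d := by
  have hg : g ∈ Subgroup.closure (Set.range (PresentedGroup.of (rels := coxRelators Fi24.edges ∪ {r | r ∈ Fi24.extra}))) := by
    rw [PresentedGroup.closure_range_of]; trivial
  induction hg using Subgroup.closure_induction with
  | mem x hx =>
    obtain ⟨s, rfl⟩ := hx
    exact Or.inr (im_all s)
  | one => exact Or.inl (map_one _)
  | mul x y _ _ hx hy =>
    rw [map_mul]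
    rcases hx with hx | hx <;> rcases hy with hy | hy <;> rw [hx, hy]
    · exact Or.inl (one_mul 1)
    · exact Or.inr (one_mul _)
    · exact Or.inr (mul_one _)
    · exact Or.inl (im_sq _)
  | inv x _ hx =>
    rw [map_inv]
    rcases hx with hx | hx <;> rw [hx]
    · exact Or.inl inv_one
    · exact Or.inr (inv_eq_of_mul_eq_one_left (im_sq _))

theorem ker_eq : sgn.ker = commutator Fi24 := by
  apply le_antisymm
  · intro g hg
    rw [MonoidHom.mem_ker] at hg
    rcases mem_pair g with h | h
    · rw [← Abelianization.ker_of, MonoidHom.mem_ker]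
      exact h
    · exfalso
      have h2 : Abelianization.lift sgn (Abelianization.of g) = Abelianization.lift sgn (im .d) := by rw [h]
      rw [Abelianization.lift_apply_of, hg] at h2
      unfold im at h2
      rw [Abelianization.lift_apply_of, sgn_of] at h2
      exact absurd h2 (by decide)
  · exact Abelianization.commutator_subset_ker sgn

/-- The commutator subgroup of the presented group Fi₂₄ has index 2 (the presented group is Fi₂₄′:2 with Fi₂₄′ its derived subgroup). -/
theorem result : (commutator Cfsg.Spor.Fi24).index = 2 := by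
  rw [← ker_eq, Subgroup.index_ker]
  have hsurj : sgn.range = ⊤ := by
    rw [MonoidHom.range_eq_top]
    intro u
    rcases Int.units_eq_one_or u with rfl | rfl
    · exact ⟨1, map_one _⟩
    · exact ⟨PresentedGroup.of .d, sgn_of .d⟩
  rw [hsurj]
  have : Nat.card (⊤ : Subgroup ℤˣ) = Nat.card ℤˣ := Nat.card_congr Subgroup.topEquiv.toEquiv
  rw [this, Nat.card_eq_fintype_card]
  rfl

end Cfsg.Agent.S1691
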