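import Cfsg.Statements.S1712
import Cfsg.Agent.J4.IndexOf
import Cfsg.Agent.J4.Upper

set_option autoImplicit false
open Cfsg

namespace Cfsg.Agent.S1712

open Cfsg.Agent.J4.Rep112 in
/-- the image of the subgroup in the presented group -/
theorem map_eq : (Subgroup.closure ({Cfsg.Spor.J4.x, Cfsg.Spor.J4.y, (Cfsg.Spor.J4.y * ((Cfsg.Spor.J4.y * Cfsg.Spor.J4.x) ^ 4 * Cfsg.Spor.J4.y⁻¹ * Cfsg.Spor.J4.x)⁻¹ * Cfsg.Spor.J4.t * ((Cfsg.Spor.J4.y * Cfsg.Spor.J4.x) ^ 4 * Cfsg.Spor.J4.y⁻¹ * Cfsg.Spor.J4.x)) ^ 3} : Set (FreeGroup Cfsg.Spor.J4.Gen))).map (PresentedGroup.mk (Cfsg.Spor.coxRelators Cfsg.Spor.J4.edges ∪ {r | r ∈ Cfsg.Spor.J4.extra})) =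
    Subgroup.closure {x, y, (y * ((y * x) ^ 4 * y⁻¹ * x)⁻¹ * t * ((y * x) ^ 4 * y⁻¹ * x)) ^ 3} := by
  rw [MonoidHom.map_closure, Set.image_insert_eq, Set.image_insert_eq, Set.image_singleton]
  simp only [map_pow, map_mul, map_inv]
  rfl

open Cfsg.Agent.J4.Rep112 Cfsg.Agent.J4.Pres Cfsg.Agent.J4.M24Hom Cfsg.Agent.J4.Rel
  Cfsg.Agent.J4.Upper Cfsg.Agent.J4.Upper1 in
/-- the subgroup is `HH` -/
theorem closure_eq : Subgroup.closure {x, y, (y * ((y * x) ^ 4 * y⁻¹ * x)⁻¹ * t *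
    ((y * x) ^ 4 * y⁻¹ * x)) ^ 3} = HH phi t := by
  have hs : sE phi t = (y * ((y * x) ^ 4 * y⁻¹ * x)⁻¹ * t * ((y * x) ^ 4 * y⁻¹ * x)) ^ 3 := by
    unfold sE ws
    simp only [map_mul, map_pow, map_inv, phi_X, phi_Y, mul_assoc]
  apply le_antisymm
  · rw [Subgroup.closure_le]
    rintro z (rfl | rfl | rfl)
    · exact range_le ⟨XM, phi_X⟩
    · exact range_le ⟨YM, phi_Y⟩
    · rw [SetLike.mem_coe, ← hs]; exact s_mem
  · unfold HH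
    rw [Subgroup.closure_le]
    rintro z (rfl | ⟨g, rfl⟩)
    · rw [hs]; exact Subgroup.subset_closure (by simp)
    · have h : phi g ∈ Subgroup.closure ({x, y} : Set Cfsg.Spor.J4) := by
        rw [← phi_range]; exact ⟨g, rfl⟩
      refine Subgroup.closure_mono ?_ h
      rintro z (rfl | rfl)
      · simp
      · simp

/-- In the presented fourth Janko group (generators x, y, t), the subgroup generated by the images of x, y and (y * w⁻¹ * t * w) ^ 3 with w = (y * x) ^ 4 * y⁻¹ * x has index 173067389. -/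
theorem result : (((Subgroup.closure ({Cfsg.Spor.J4.x, Cfsg.Spor.J4.y, (Cfsg.Spor.J4.y * ((Cfsg.Spor.J4.y * Cfsg.Spor.J4.x) ^ 4 * Cfsg.Spor.J4.y⁻¹ * Cfsg.Spor.J4.x)⁻¹ * Cfsg.Spor.J4.t * ((Cfsg.Spor.J4.y * Cfsg.Spor.J4.x) ^ 4 * Cfsg.Spor.J4.y⁻¹ * Cfsg.Spor.J4.x)) ^ 3} : Set (FreeGroup Cfsg.Spor.J4.Gen))).map (PresentedGroup.mk (Cfsg.Spor.coxRelators Cfsg.Spor.J4.edges ∪ {r | r ∈ Cfsg.Spor.J4.extra})))).index = 173067389 := by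
  rw [map_eq, closure_eq]
  obtain ⟨h1, h2⟩ := Cfsg.Agent.J4.Upper.index_HH_le Cfsg.Agent.J4.Upper.trel
    Cfsg.Agent.J4.Upper.gen_top
  obtain ⟨h3, h4⟩ := Cfsg.Agent.J4.Upper.card_HH_le Cfsg.Agent.J4.Upper.trel
  exact (Cfsg.Agent.J4.IndexOf.exact_of_bounds _ h2 h1 (Nat.finite_of_card_ne_zero h4) h3).2.2.1

end Cfsg.Agent.S1712
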