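import Cfsg.Statements.S1745
import Cfsg.Agent.StandardComponent.AltFinal
import Cfsg.Agent.S1221
import Cfsg.Agent.McLType.Final

set_option autoImplicit false
open Cfsg

namespace Cfsg.Agent.S1745

/-- Let G be a non-abelian finite simple group with the strong B-property (every section of G has the B-property) possessing a standard subgroup L which is a non-split double cover of the alternating group of degree 8. Then G is a group of Lie type in characteristic 3, or an alternating group of degree at least 9, or G is isomorphic to the McLaughlin group. -/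
theorem result {G : Type*} [Group G] [Finite G] [IsSimpleGroup G] (hG : ¬ IsMulCommutative G)
    (hB : Cfsg.HasStrongBProperty G) (L : Subgroup G) (hL : Cfsg.IsStandardSubgroup L)
    (hLX : Cfsg.IsNonsplitDoubleCover ↥L ↥(alternatingGroup (Fin 8))) :
    Cfsg.IsLieTypeChar 3 G ∨ (∃ n : ℕ, 9 ≤ n ∧ Nonempty (G ≃* ↥(alternatingGroup (Fin n)))) ∨ Cfsg.Spor.IsoMcL G := by
  obtain ⟨z, hz, hzL⟩ := StandardComponent.AltFinal.exists_centralizer_eq hG
    (fun H hH => Cfsg.Agent.S1221.result H hH) L hL (by norm_num) (by norm_num) hLX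
  have hz1 : z ≠ 1 := by
    rintro rfl
    rw [orderOf_one] at hz
    exact absurd hz (by decide)
  have hC : Cfsg.IsNonsplitDoubleCover ↥(Subgroup.centralizer ({z} : Set G)) ↥(alternatingGroup (Fin 8)) := by
    rw [hzL]; exact hLX
  obtain ⟨π, w, hπ, hw⟩ := Cfsg.Agent.SporadicRecognition.AltCover.exists_isCover hC
  have hzc : (⟨z, Cfsg.Agent.McLType.Local.mem_cent.2 rfl⟩ : Subgroup.centralizer ({z} : Set G)) ∈
      Subgroup.center (Subgroup.centralizer ({z} : Set G)) := by
    rw [Subgroup.mem_center_iff]
    intro x
    exact Subtype.ext (Subgroup.mem_centralizer_singleton_iff.1 x.2)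
  have hzw : (⟨z, Cfsg.Agent.McLType.Local.mem_cent.2 rfl⟩ : Subgroup.centralizer ({z} : Set G)) = w := by
    rcases (hw _).1 hzc with h | h
    · exact absurd (congrArg Subtype.val h) hz1
    · exact h
  refine Or.inr (Or.inr (Cfsg.Agent.McLType.Final.isoMcL (t := z) (π := π) ?_
    (StandardComponent.AltFinal.exists_conj hG hz)))
  rw [hzw]; exact hπ

end Cfsg.Agent.S1745
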