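import Cfsg.Statements.S1777
import Cfsg.Agent.S0205
import Cfsg.Agent.S0217
import Cfsg.Agent.HSType.Assemble
import Cfsg.Agent.HSType.Final

set_option autoImplicit false
open Cfsg

namespace Cfsg.Agent.S1777

/-- Let G be a finite simple group whose Sylow 2-subgroups are isomorphic to a Sylow 2-subgroup of the Higman–Sims group. Then G is isomorphic to the Higman–Sims group. -/
theorem result {G : Type*} [Group G] [Finite G] [IsSimpleGroup G]
    (S : Sylow 2 G) (P : Sylow 2 ↥Cfsg.Spor.HS) (hS : Nonempty (↥(S : Subgroup G) ≃* ↥(P : Subgroup ↥Cfsg.Spor.HS))) :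
    Cfsg.Spor.IsoHS G := by
  haveI : Fact (Nat.Prime 2) := ⟨Nat.prime_two⟩
  exact HSType.Assemble.main
    (fun X _ _ A θ h1 h2 h3 h4 h5 h6 h7 h8 =>
      (S0217.result (p := 2) A h1 h2 h3 θ h4 h5 h6 h7 h8).1)
    (fun X _ _ h => S0205.result h)
    (fun G _ _ z φ h hx => HSType.Final.isoHS_of_ctx h hx) S P hS

end Cfsg.Agent.S1777
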