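import Cfsg.Statements.S1779
import Cfsg.Agent.TIAbelian.Reduce
import Cfsg.Agent.TIAbelian.CaseBMain
import Cfsg.Agent.TIAbelian.EndMain
import Cfsg.Agent.TIAbelian.FStarInst

set_option autoImplicit false
open Cfsg

namespace Cfsg.Agent.S1779

/-- Let G be a finite group with no nontrivial normal 2-subgroup, M a maximal 2-local subgroup of G such that C_M(O₂(M)) ≤ O₂(M), and B an abelian normal subgroup of M such that every G-conjugate of B equals B or meets B trivially. Then B is cyclic, or B is isomorphic to the direct product of two cyclic groups of order 4 and the generalized Fitting subgroup of G is isomorphic to the projective special linear group of dimension 3 over the field with 4 elements, or B is an elementary abelian 2-group. -/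
theorem result {G : Type*} [Group G] [Finite G] (hO : Cfsg.pCore 2 G = ⊥)
    (M : Subgroup G) (hM : Cfsg.IsMaximalTwoLocal M) (hMc : Cfsg.IsOfCharacteristicTwo ↥M)
    (B : Subgroup G) (hBM : B ≤ M) (hBn : ∀ m ∈ M, ∀ b ∈ B, m * b * m⁻¹ ∈ B) (hBa : IsMulCommutative ↥B)
    (hti : ∀ g : G, B.map (MulAut.conj g).toMonoidHom = B ∨ B.map (MulAut.conj g).toMonoidHom ⊓ B = ⊥) :
    IsCyclic ↥B ∨
      (Nonempty (↥B ≃* Multiplicative (ZMod 4) × Multiplicative (ZMod 4)) ∧
        ∃ (F : Type) (_ : Field F) (_ : Fintype F), Fintype.card F = 4 ∧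
          Nonempty (↥(Cfsg.generalizedFittingSubgroup G) ≃* Matrix.ProjectiveSpecialLinearGroup (Fin 3) F)) ∨
      Cfsg.IsElementaryAbelian 2 B := by
  by_cases hcyc : IsCyclic ↥B
  · exact Or.inl hcyc
  by_cases hel : Cfsg.IsElementaryAbelian 2 B
  · exact Or.inr (Or.inr hel)
  refine Or.inr (Or.inl ?_)
  obtain ⟨hN, htf, hex, -, -, -, -, hB⟩ :=
    Cfsg.Agent.TIAbelian.Reduce.reduce hO M hM hMc B hBM hBn hBa hti hcyc hel
      (fun P h hloc A hA C hC hne => Cfsg.Agent.TIAbelian.CaseBMain.no_comm h hloc hA hC hne)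
  refine ⟨hB, ?_⟩
  have hBP := Cfsg.Agent.TIAbelian.PairInst.self_mem_Cls B
  rw [← hN] at hM hMc
  obtain ⟨h1, h2, h3⟩ := Cfsg.Agent.TIAbelian.FStarInst.fstar hO htf hex hBP hM hMc
  exact Cfsg.Agent.TIAbelian.End.endgame htf hex hBP hM hMc (Cfsg.generalizedFittingSubgroup G) h3

end Cfsg.Agent.S1779
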