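import Cfsg.Statements.S1786
import Cfsg.Agent.ClassificationK.TIPairFinal
import Cfsg.Agent.ClassificationK.TIPairSLTwo
import Cfsg.Agent.SignalizersComponents.CharP

set_option autoImplicit false
open Cfsg

namespace Cfsg.Agent.S1786

open Cfsg.Agent.ClassificationK.TIPair in
theorem exists_data {G : Type*} [Group G] [Finite G] (V : Subgroup G)
    (hV : Cfsg.IsElementaryAbelian 2 V)
    (h1 : (Cfsg.generalizedFittingSubgroup ↥(Subgroup.normalizer (V : Set G))).map (Subgroup.normalizer (V : Set G)).subtype =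
      (Cfsg.pCore 2 ↥(Subgroup.normalizer (V : Set G))).map (Subgroup.normalizer (V : Set G)).subtype)
    (h2 : ∀ A : Subgroup G, V ≤ A → A ≤ Subgroup.normalizer (V : Set G) → IsMulCommutative ↥A →
      (∀ m ∈ Subgroup.normalizer (V : Set G), ∀ a ∈ A, m * a * m⁻¹ ∈ A) → A = V)
    (hti : ∀ x : G, V.map (MulAut.conj x).toMonoidHom = V ∨ V.map (MulAut.conj x).toMonoidHom ⊓ V = ⊥) :
    TIData V ((Cfsg.pCore 2 ↥(Subgroup.normalizer (V : Set G))).map (Subgroup.normalizer (V : Set G)).subtype) := by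
  have hVN : V ≤ Subgroup.normalizer (V : Set G) := Subgroup.le_normalizer
  have h1' : Cfsg.generalizedFittingSubgroup ↥(Subgroup.normalizer (V : Set G)) =
      Cfsg.pCore 2 ↥(Subgroup.normalizer (V : Set G)) :=
    Subgroup.map_injective (Subgroup.subtype_injective _) h1
  have hc := Cfsg.Agent.SignalizersComponents.CharP.centralizer_pCore_le_of_genFitting_eq h1'
  have hVa : ∀ a ∈ V, ∀ b ∈ V, a * b = b * a := by
    intro a ha b hb
    exact congrArg Subtype.val (hV.1.is_comm.comm (⟨a, ha⟩ : V) ⟨b, hb⟩)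
  have hV2 : ∀ a ∈ V, a * a = 1 := fun a ha => by
    rw [← pow_two]
    exact hV.2 a ha
  have hmax : ∀ K : Subgroup G, K ≤ Subgroup.normalizer (V : Set G) → IsPGroup 2 K →
      (∀ m ∈ Subgroup.normalizer (V : Set G), ∀ x ∈ K, m * x * m⁻¹ ∈ K) →
      K ≤ (Cfsg.pCore 2 ↥(Subgroup.normalizer (V : Set G))).map (Subgroup.normalizer (V : Set G)).subtype := by
    intro K hK hK2 hKn
    have h3 : K.subgroupOf (Subgroup.normalizer (V : Set G)) ≤
        Cfsg.pCore 2 ↥(Subgroup.normalizer (V : Set G)) := by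
      apply Cfsg.Agent.Lib.Cores.le_pCore
      · constructor
        intro n hn g
        rw [Subgroup.mem_subgroupOf] at hn ⊢
        exact hKn g g.2 n hn
      · exact hK2.comap_subtype
    intro x hx
    exact ⟨⟨x, hK hx⟩, h3 (Subgroup.mem_subgroupOf.mpr hx), rfl⟩
  refine ⟨hV2, hVa, ?_, Subgroup.map_subtype_le _, ?_, ?_, ?_, hmax, ?_, ?_⟩
  · refine hmax V hVN ?_ fun m hm x hx => (Subgroup.mem_normalizer_iff.mp hm x).mp hx
    rintro ⟨v, hv⟩
    refine ⟨1, Subtype.ext ?_⟩
    change v ^ 2 ^ 1 = 1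
    rw [pow_one, pow_two]
    exact hV2 v hv
  · rintro m hm _ ⟨x, hx, rfl⟩
    exact ⟨⟨m, hm⟩ * x * ⟨m, hm⟩⁻¹,
      (Cfsg.Agent.Lib.Cores.pCore_normal 2).conj_mem x hx ⟨m, hm⟩, rfl⟩
  · exact (Cfsg.Agent.Lib.Cores.pCore_isPGroup 2).map _
  · intro x hx hxc
    refine ⟨⟨x, hx⟩, hc ?_, rfl⟩
    rw [Subgroup.mem_centralizer_iff]
    intro y hy
    exact Subtype.ext (hxc y ⟨y, hy, rfl⟩).symm
  · intro A hVA hAN hAc hAn
    exact h2 A hVA hAN ⟨⟨fun a b => Subtype.ext (hAc a a.2 b b.2)⟩⟩ hAn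
  · intro x v hv hv1 hx
    rcases hti x with h3 | h3
    · exact normalizer_of_cj_eq h3
    · exfalso
      have h4 : x * v * x⁻¹ ∈ V.map (MulAut.conj x).toMonoidHom ⊓ V :=
        Subgroup.mem_inf.mpr ⟨⟨v, hv, rfl⟩, hx⟩
      rw [h3, Subgroup.mem_bot] at h4
      apply hv1
      calc v = x⁻¹ * (x * v * x⁻¹) * x := by group
        _ = 1 := by rw [h4]; group

/-- Let G be a finite group, V an elementary abelian 2-subgroup of G and M the normalizer of V; write Q for the largest normal 2-subgroup of M. Suppose (1) the generalized Fitting subgroup of M equals Q; (2) V is a maximal abelian normal subgroup of M; (3) every conjugate of V equals V or meets V trivially, and for some g ∈ G the conjugate V' = g V g⁻¹ is different from V and contained in Q. Let P be the centralizer of V in Q, W the subgroup generated by V and V', and H the subgroup generated by P and g P g⁻¹. Then: (a) V is contained in g Q g⁻¹; (b) every non-identity element of W lies in exactly one conjugate of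 V contained in W, H normalizes W, and H modulo the centralizer of W in H is isomorphic to the special linear group of dimension 2 over the field with |V| elements; (c) P = Q, and V equals the Frattini subgroup, the centre and the commutator subgroup of Q. -/
theorem result {G : Type*} [Group G] [Finite G] (V : Subgroup G)
    (hV : Cfsg.IsElementaryAbelian 2 V)
    (h1 : (Cfsg.generalizedFittingSubgroup ↥(Subgroup.normalizer (V : Set G))).map (Subgroup.normalizer (V : Set G)).subtype =
      (Cfsg.pCore 2 ↥(Subgroup.normalizer (V : Set G))).map (Subgroup.normalizer (V : Set G)).subtype)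
    (h2 : ∀ A : Subgroup G, V ≤ A → A ≤ Subgroup.normalizer (V : Set G) → IsMulCommutative ↥A →
      (∀ m ∈ Subgroup.normalizer (V : Set G), ∀ a ∈ A, m * a * m⁻¹ ∈ A) → A = V)
    (hti : ∀ x : G, V.map (MulAut.conj x).toMonoidHom = V ∨ V.map (MulAut.conj x).toMonoidHom ⊓ V = ⊥)
    (g : G) (hg : V.map (MulAut.conj g).toMonoidHom ≠ V)
    (hgQ : V.map (MulAut.conj g).toMonoidHom ≤ (Cfsg.pCore 2 ↥(Subgroup.normalizer (V : Set G))).map (Subgroup.normalizer (V : Set G)).subtype) :
    let Q : Subgroup G := (Cfsg.pCore 2 ↥(Subgroup.normalizer (V : Set G))).map (Subgroup.normalizer (V : Set G)).subtype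
    let P : Subgroup G := Q ⊓ Subgroup.centralizer (V : Set G)
    let W : Subgroup G := V ⊔ V.map (MulAut.conj g).toMonoidHom
    let H : Subgroup G := P ⊔ P.map (MulAut.conj g).toMonoidHom
    V ≤ Q.map (MulAut.conj g).toMonoidHom ∧
      (∀ w ∈ W, w ≠ 1 → ∃! U : Subgroup G, (∃ x : G, U = V.map (MulAut.conj x).toMonoidHom) ∧ U ≤ W ∧ w ∈ U) ∧
      H ≤ Subgroup.normalizer (W : Set G) ∧
      (∀ hN : ((Subgroup.centralizer (W : Set G)).subgroupOf H).Normal, ∃ (F : Type) (_ : Field F) (_ : Fintype F), Fintype.card F = Nat.card ↥V ∧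
        Nonempty (↥H ⧸ (Subgroup.centralizer (W : Set G)).subgroupOf H ≃* Matrix.SpecialLinearGroup (Fin 2) F)) ∧
      P = Q ∧ (frattini ↥Q).map Q.subtype = V ∧ (Subgroup.center ↥Q).map Q.subtype = V ∧ (commutator ↥Q).map Q.subtype = V := by
  open Cfsg.Agent.ClassificationK.TIPair in
  intro Q P W H
  have h : TIData V Q := exists_data V hV h1 h2 hti
  have h' : TIData (cj g V) (cj g Q) := h.cjD g
  -- `V'` commutes with `V`
  have hVp : ∀ x : G, IsPGroup 2 (cj x V) := fun x => (h.Q2.to_le h.le).map _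
  have hcomm : ⁅V, cj g V⁆ = ⊥ := by
    refine Cfsg.Agent.S1757.result 2 V (cj g V) (h.Q2.to_le h.le) (hVp g) hti ?_ (card_cj g V).ge ?_ ?_
    · intro x
      by_cases hx : cj x (cj g V) = cj g V
      · exact Or.inl hx
      · right
        rw [eq_bot_iff]
        intro w hw
        rw [Subgroup.mem_bot]
        by_contra hw1
        apply hx
        change cj x (cj g V) = cj g V
        have hw2 : w ∈ cj (x * g) V := by
          rw [← cj_cj]
          exact hw.1
        rw [cj_cj]
        exact h.cj_eq hw1 hw2 hw.2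
    · rw [inf_comm]
      exact (hti g).resolve_left hg
    · exact hgQ.trans h.Qle
  have hcomm' : ∀ v ∈ V, ∀ w ∈ cj g V, v * w = w * v := by
    intro v hv w hw
    rw [Subgroup.commutator_eq_bot_iff_le_centralizer] at hcomm
    exact (Subgroup.mem_centralizer_iff.mp (hcomm hv) w hw).symm
  have hO : Other V Q (cj g V) :=
    ⟨⟨g, rfl⟩, hg, fun w hw => mem_PP.mpr ⟨hgQ hw, fun v hv => hcomm' v hv w hw⟩⟩
  obtain ⟨m₀, hm₀, hnc⟩ := hO.exists_noncomm h
  have hn : NPair V Q (cj g V) (cj m₀ (cj g V)) := ⟨hO, hO.conj h hm₀, hnc⟩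
  obtain ⟨k, hkW, hkV, hkU⟩ := exists_swap h hm₀ hn
  have hkQ : cj k Q = cj g Q := h.cj_Q_eq hkV
  have hn' : NPair (cj g V) (cj g Q) V (cj k (cj m₀ (cj g V))) := hn.swap hkV hkU hkQ
  have hPPeq : P = PP V Q := rfl
  have hPP' : P.map (MulAut.conj g).toMonoidHom = PP (cj g V) (cj g Q) := by
    ext x
    change x ∈ cj g (PP V Q) ↔ _
    rw [mem_PP_cj, Cfsg.Agent.ClassificationK.TIFamily.mem_cj]
  have hQP : Q ≤ PP V Q := hn.Q_le h hkV hkU
  have hWk : cj k (V ⊔ cj g V) = V ⊔ cj g V := cj_eq_of_mem_normalizer hkW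
  refine ⟨?_, ?_, ?_, ?_, ?_, map_frattini_eq h hn hQP, map_center_eq h hQP,
    map_commutator_eq h hn hQP⟩
  · -- (a)
    change V ≤ cj g Q
    rw [← hkQ]
    conv_lhs => rw [← hkU]
    exact cj_mono k hgQ
  · -- partition
    intro w hw hw1
    by_cases hwV : w ∈ V
    · refine ⟨V, ⟨⟨1, (Cfsg.Agent.ClassificationK.TIFamily.cj_one V).symm⟩, le_sup_left, hwV⟩, ?_⟩
      rintro U' ⟨⟨x, rfl⟩, -, hwx⟩
      have := h.cj_eq hw1 hwx (b := 1) (by
        rw [Cfsg.Agent.ClassificationK.TIFamily.mem_cj]; simpa using hwV)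
      change cj x V = V
      rw [this]
      exact Cfsg.Agent.ClassificationK.TIFamily.cj_one V
    · obtain ⟨y, hy, hwy⟩ := hn.cover h hw hwV
      have hyP := hn.o₂.le hy
      refine ⟨cj y (cj g V), ⟨⟨y * g, cj_cj y g V⟩, ?_, hwy⟩, ?_⟩
      · change _ ≤ V ⊔ cj g V
        rw [← hn.o.cj_W h hyP]
        exact cj_mono y le_sup_right
      · rintro U' ⟨⟨x, rfl⟩, -, hwx⟩
        change cj x V = cj y (cj g V)
        rw [cj_cj] at hwy ⊢
        exact h.cj_eq hw1 hwx hwy
  · -- `H ≤ N(W)`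
    apply sup_le
    · intro y hy
      exact normalizer_of_cj_eq (hn.o.cj_W h hy)
    · rw [hPP']
      intro y hy
      have h3 := hn'.o.cj_W h' hy
      rw [sup_comm] at h3
      exact normalizer_of_cj_eq h3
  · intro hN
    have key := Cfsg.Agent.ClassificationK.TIPairSLTwo.exists_SL2 h h' hn hn'
    have hH : H = PP V Q ⊔ PP (cj g V) (cj g Q) := by
      change P ⊔ P.map (MulAut.conj g).toMonoidHom = _
      rw [hPP']
    revert hN
    rw [hH]
    exact key
  · exact le_antisymm inf_le_left hQP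

end Cfsg.Agent.S1786
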